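import Mathlib
import Cfsg.Agent.H37.Card

/-! Involutions of `PSL₂(F)`, `F` finite of odd order (helper89). -/

set_option autoImplicit false

namespace H89

open Matrix

variable {F : Type*} [Field F]

local notation "SL2" => Matrix.SpecialLinearGroup (Fin 2) F
local notation "PG" => Matrix.ProjectiveSpecialLinearGroup (Fin 2) F

/-- The matrix `!![0,1;-1,0]`. -/
def wEl : Matrix.SpecialLinearGroup (Fin 2) F := ⟨!![0, 1; -1, 0], by simp [Matrix.det_fin_two]⟩

theorem wEl_coe : ((wEl : SL2) : Matrix (Fin 2) (Fin 2) F) = !![0, 1; -1, 0] := rfl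

/-- The involution of `PSL₂` given by `wEl`. -/
def zEl : Matrix.ProjectiveSpecialLinearGroup (Fin 2) F := QuotientGroup.mk (wEl (F := F))

/-- The image of the centralizer of `wEl`. -/
def rotSub : Subgroup (Matrix.ProjectiveSpecialLinearGroup (Fin 2) F) :=
  (Subgroup.centralizer ({wEl (F := F)} : Set (Matrix.SpecialLinearGroup (Fin 2) F))).map
    (QuotientGroup.mk' (Subgroup.center (Matrix.SpecialLinearGroup (Fin 2) F)))

theorem psl2_eq_iff (A B : SL2) :
    (QuotientGroup.mk A : PG) = QuotientGroup.mk B ↔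
      (A : Matrix (Fin 2) (Fin 2) F) = B ∨ (A : Matrix (Fin 2) (Fin 2) F) = -B := by
  rw [QuotientGroup.eq, Matrix.SpecialLinearGroup.mem_center_iff]
  constructor
  · rintro ⟨r, hr, hrA⟩
    have hB : (B : Matrix (Fin 2) (Fin 2) F) =
        (A : Matrix (Fin 2) (Fin 2) F) * Matrix.scalar (Fin 2) r := by
      rw [hrA, ← Matrix.SpecialLinearGroup.coe_mul, mul_inv_cancel_left]
    have hr' : r ^ 2 = 1 := by simpa using hr
    rcases sq_eq_one_iff.1 hr' with rfl | rfl
    · left; rw [hB, map_one, mul_one]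
    · right; rw [hB, map_neg, map_one, mul_neg, mul_one, neg_neg]
  · rintro (h | h)
    · refine ⟨1, one_pow _, ?_⟩
      rw [Subtype.ext h, inv_mul_cancel]
      simp
    · refine ⟨-1, by simp, ?_⟩
      have hB : (B : Matrix (Fin 2) (Fin 2) F) = -(A : Matrix (Fin 2) (Fin 2) F) := by rw [h, neg_neg]
      rw [Matrix.SpecialLinearGroup.coe_mul, hB, mul_neg, ← Matrix.SpecialLinearGroup.coe_mul,
        inv_mul_cancel, Matrix.SpecialLinearGroup.coe_one, map_neg, map_one]

theorem mem_centralizer_zEl (A : SL2) :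
    (QuotientGroup.mk A : PG) ∈ Subgroup.centralizer ({zEl} : Set PG) ↔
      (A 0 1 = -A 1 0 ∧ A 0 0 = A 1 1) ∨ (A 0 1 = A 1 0 ∧ A 0 0 = -A 1 1) := by
  rw [Subgroup.mem_centralizer_singleton_iff, zEl, ← QuotientGroup.mk_mul, ← QuotientGroup.mk_mul,
    psl2_eq_iff]
  refine or_congr ?_ ?_
  · constructor
    · intro h
      have h00 := congrFun (congrFun h 0) 0
      have h01 := congrFun (congrFun h 0) 1
      simp [wEl_coe, Matrix.mul_apply, Matrix.vecMul, dotProduct, Fin.sum_univ_two] at h00 h01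
      constructor <;> grind
    · rintro ⟨h1, h2⟩
      ext i j
      fin_cases i <;> fin_cases j <;> simp [wEl_coe, Matrix.mul_apply, Matrix.vecMul, dotProduct, Fin.sum_univ_two] <;> grind
  · constructor
    · intro h
      have h00 := congrFun (congrFun h 0) 0
      have h01 := congrFun (congrFun h 0) 1
      simp [wEl_coe, Matrix.mul_apply, Matrix.vecMul, dotProduct, Fin.sum_univ_two] at h00 h01
      constructor <;> grind
    · rintro ⟨h1, h2⟩
      ext i j
      fin_cases i <;> fin_cases j <;> simp [wEl_coe, Matrix.mul_apply, Matrix.vecMul, dotProduct, Fin.sum_univ_two] <;> grind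

theorem mem_rotSub (h2 : (2 : F) ≠ 0) (A : SL2) :
    (QuotientGroup.mk A : PG) ∈ rotSub ↔ A 0 1 = -A 1 0 ∧ A 0 0 = A 1 1 := by
  constructor
  · rintro ⟨B, hB, hBA⟩
    have hB' := Subgroup.mem_centralizer_singleton_iff.1 hB
    have h00 := congrArg (fun x : SL2 => x 0 0) hB'
    have h01 := congrArg (fun x : SL2 => x 0 1) hB'
    simp [wEl_coe, Matrix.mul_apply, Matrix.vecMul, dotProduct, Fin.sum_univ_two] at h00 h01
    rcases (psl2_eq_iff B A).1 hBA with h | h
    · have e : ∀ i j, B i j = A i j := fun i j => congrFun (congrFun h i) j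
      rw [e, e] at h00 h01
      constructor <;> grind
    · have e : ∀ i j, B i j = -A i j := fun i j => by
        have := congrFun (congrFun h i) j
        simpa using this
      rw [e, e] at h00 h01
      constructor <;> grind
  · rintro ⟨h01, h00⟩
    refine ⟨A, Subgroup.mem_centralizer_singleton_iff.2 ?_, rfl⟩
    refine Subtype.ext (Matrix.ext fun i j => ?_)
    fin_cases i <;> fin_cases j <;> simp [wEl_coe, Matrix.mul_apply, Matrix.vecMul, dotProduct, Fin.sum_univ_two] <;> grind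

theorem rotSub_le : rotSub ≤ Subgroup.centralizer ({zEl (F := F)} : Set PG) := by
  rintro _ ⟨B, hB, rfl⟩
  have hB' := Subgroup.mem_centralizer_singleton_iff.1 hB
  rw [Subgroup.mem_centralizer_singleton_iff]
  show (QuotientGroup.mk B : PG) * QuotientGroup.mk wEl = QuotientGroup.mk wEl * QuotientGroup.mk B
  rw [← QuotientGroup.mk_mul, ← QuotientGroup.mk_mul, hB']

theorem rotSub_comm (h2 : (2 : F) ≠ 0) {x y : PG} (hx : x ∈ rotSub) (hy : y ∈ rotSub) :
    x * y = y * x := by
  obtain ⟨A, rfl⟩ := QuotientGroup.mk_surjective x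
  obtain ⟨B, rfl⟩ := QuotientGroup.mk_surjective y
  obtain ⟨a1, a2⟩ := (mem_rotSub h2 A).1 hx
  obtain ⟨b1, b2⟩ := (mem_rotSub h2 B).1 hy
  rw [← QuotientGroup.mk_mul, ← QuotientGroup.mk_mul, psl2_eq_iff]
  left
  ext i j
  fin_cases i <;> fin_cases j <;> simp [Matrix.mul_apply, Matrix.vecMul, dotProduct, Fin.sum_univ_two] <;> grind

theorem outer_entries (h2 : (2 : F) ≠ 0) {x : SL2}
    (hx : (QuotientGroup.mk x : PG) ∈ Subgroup.centralizer ({zEl} : Set PG))
    (hxT : (QuotientGroup.mk x : PG) ∉ rotSub) : x 0 1 = x 1 0 ∧ x 0 0 = -x 1 1 :=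
  ((mem_centralizer_zEl x).1 hx).resolve_left fun h => hxT ((mem_rotSub h2 x).2 h)

theorem outer_sq (h2 : (2 : F) ≠ 0) {x : PG} (hx : x ∈ Subgroup.centralizer ({zEl} : Set PG))
    (hxT : x ∉ rotSub) : x * x = 1 := by
  obtain ⟨A, rfl⟩ := QuotientGroup.mk_surjective x
  obtain ⟨a1, a2⟩ := outer_entries h2 hx hxT
  have hd := A.det_coe
  rw [Matrix.det_fin_two] at hd
  rw [← QuotientGroup.mk_mul, ← QuotientGroup.mk_one, psl2_eq_iff]
  right
  ext i j
  fin_cases i <;> fin_cases j <;> simp [Matrix.mul_apply, Matrix.vecMul, dotProduct, Fin.sum_univ_two] <;> grind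

theorem outer_mul (h2 : (2 : F) ≠ 0) {x y : PG} (hx : x ∈ Subgroup.centralizer ({zEl} : Set PG))
    (hxT : x ∉ rotSub) (hy : y ∈ Subgroup.centralizer ({zEl} : Set PG)) (hyT : y ∉ rotSub) :
    x * y ∈ rotSub := by
  obtain ⟨A, rfl⟩ := QuotientGroup.mk_surjective x
  obtain ⟨B, rfl⟩ := QuotientGroup.mk_surjective y
  obtain ⟨a1, a2⟩ := outer_entries h2 hx hxT
  obtain ⟨b1, b2⟩ := outer_entries h2 hy hyT
  rw [← QuotientGroup.mk_mul, mem_rotSub h2]
  constructor <;> simp [Matrix.mul_apply, Matrix.vecMul, dotProduct, Fin.sum_univ_two] <;> grind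

theorem zEl_ne_one : (zEl : PG) ≠ 1 := by
  intro h
  rw [zEl, ← QuotientGroup.mk_one, psl2_eq_iff] at h
  rcases h with h | h <;>
  · have := congrFun (congrFun h 0) 1
    simp [wEl_coe] at this

theorem zEl_sq : (zEl : PG) * zEl = 1 := by
  rw [zEl, ← QuotientGroup.mk_mul, ← QuotientGroup.mk_one, psl2_eq_iff]
  right
  ext i j
  fin_cases i <;> fin_cases j <;> simp [wEl_coe, Matrix.mul_apply, Matrix.vecMul, dotProduct, Fin.sum_univ_two]

theorem rotSub_involution (h2 : (2 : F) ≠ 0) {x : PG} (hx : x ∈ rotSub) (hx2 : x * x = 1) :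
    x = 1 ∨ x = zEl := by
  obtain ⟨A, rfl⟩ := QuotientGroup.mk_surjective x
  obtain ⟨a1, a2⟩ := (mem_rotSub h2 A).1 hx
  have hd := A.det_coe
  rw [Matrix.det_fin_two] at hd
  rw [← QuotientGroup.mk_mul, ← QuotientGroup.mk_one, psl2_eq_iff] at hx2
  have h01 : A 0 0 * A 0 1 = 0 := by
    rcases hx2 with h | h <;>
    · have := congrFun (congrFun h 0) 1
      simp [Matrix.mul_apply, Matrix.vecMul, dotProduct, Fin.sum_univ_two] at this
      have e : A 0 0 * A 0 1 * 2 = 0 := by grind
      exact (mul_eq_zero.1 e).resolve_right h2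
  rcases mul_eq_zero.1 h01 with h | h
  · right
    rw [zEl, psl2_eq_iff]
    have hb : A 0 1 * A 0 1 = 1 := by grind
    rcases mul_self_eq_one_iff.1 hb with hb | hb
    · left
      ext i j
      fin_cases i <;> fin_cases j <;> simp [wEl_coe] <;> grind
    · right
      ext i j
      fin_cases i <;> fin_cases j <;> simp [wEl_coe] <;> grind
  · left
    rw [← QuotientGroup.mk_one, psl2_eq_iff]
    have ha : A 0 0 * A 0 0 = 1 := by grind
    rcases mul_self_eq_one_iff.1 ha with ha | ha
    · left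
      ext i j
      fin_cases i <;> fin_cases j <;> simp <;> grind
    · right
      ext i j
      fin_cases i <;> fin_cases j <;> simp <;> grind

variable [Fintype F]

/-- Every element of a finite field is a sum of two squares. -/
theorem exists_sq_add_sq (r : F) : ∃ u v : F, u * u + v * v = r := by
  classical
  rcases Nat.even_or_odd (Fintype.card F) with h | h
  · have h2 : ringChar F = 2 := FiniteField.even_card_iff_char_two.2 (Nat.even_iff.1 h)
    obtain ⟨u, hu⟩ := FiniteField.isSquare_of_char_two h2 r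
    exact ⟨u, 0, by rw [hu]; ring⟩
  · obtain ⟨a, b, hab⟩ := FiniteField.exists_root_sum_quadratic (R := F)
      (f := (Polynomial.X : Polynomial F) ^ 2) (g := Polynomial.X ^ 2 - Polynomial.C r)
      (Polynomial.degree_X_pow 2) (Polynomial.degree_X_pow_sub_C two_pos r) (Nat.odd_iff.1 h)
    refine ⟨a, b, ?_⟩
    simp at hab
    linear_combination hab

theorem exists_outer (h2 : (2 : F) ≠ 0) :
    ∃ x : PG, x ∈ Subgroup.centralizer ({zEl} : Set PG) ∧ x ∉ rotSub := by
  obtain ⟨u, v, huv⟩ := exists_sq_add_sq (F := F) (-1)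
  refine ⟨QuotientGroup.mk ⟨!![u, v; v, -u], by rw [Matrix.det_fin_two_of]; grind⟩,
    (mem_centralizer_zEl _).2 (Or.inr ?_), fun h => ?_⟩
  · simp
  · obtain ⟨e1, e2⟩ := (mem_rotSub h2 _).1 h
    simp at e1 e2
    have hu : u = 0 := by
      have : u * 2 = 0 := by grind
      exact (mul_eq_zero.1 this).resolve_right h2
    have hv : v = 0 := by
      have : v * 2 = 0 := by grind
      exact (mul_eq_zero.1 this).resolve_right h2
    subst hu hv
    simp at huv

/-- All involutions of `PSL₂(F)` are conjugate to `zEl`. -/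
theorem exists_conj_zEl (h2 : (2 : F) ≠ 0) {x : PG} (hx : x ≠ 1) (hx2 : x * x = 1) :
    ∃ g : PG, g * zEl * g⁻¹ = x := by
  obtain ⟨A, rfl⟩ := QuotientGroup.mk_surjective x
  have hd := A.det_coe
  rw [Matrix.det_fin_two] at hd
  rw [← QuotientGroup.mk_mul, ← QuotientGroup.mk_one, psl2_eq_iff] at hx2
  have hn : ¬ ((A : Matrix (Fin 2) (Fin 2) F) = 1 ∨ (A : Matrix (Fin 2) (Fin 2) F) = -1) := by
    intro h
    apply hx
    rw [← QuotientGroup.mk_one, psl2_eq_iff]
    exact h
  have htr : A 1 1 = -A 0 0 := by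
    rcases hx2 with h | h
    · exfalso
      have h00 := congrFun (congrFun h 0) 0
      have h01 := congrFun (congrFun h 0) 1
      have h10 := congrFun (congrFun h 1) 0
      simp [Matrix.mul_apply, Matrix.vecMul, dotProduct, Fin.sum_univ_two] at h00 h01 h10
      have ht : A 0 0 * (A 0 0 + A 1 1) = 2 := by grind
      have htne : A 0 0 + A 1 1 ≠ 0 := fun h => h2 (by rw [← ht, h, mul_zero])
      have b0 : A 0 1 = 0 := (mul_eq_zero.1 (show A 0 1 * (A 0 0 + A 1 1) = 0 by grind)).resolve_right htne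
      have c0 : A 1 0 = 0 := (mul_eq_zero.1 (show A 1 0 * (A 0 0 + A 1 1) = 0 by grind)).resolve_right htne
      have ha : A 0 0 * A 0 0 = 1 := by grind
      apply hn
      rcases mul_self_eq_one_iff.1 ha with ha | ha
      · left
        ext i j
        fin_cases i <;> fin_cases j <;> simp <;> grind
      · right
        ext i j
        fin_cases i <;> fin_cases j <;> simp <;> grind
    · have h00 := congrFun (congrFun h 0) 0
      have h01 := congrFun (congrFun h 0) 1
      simp [Matrix.mul_apply, Matrix.vecMul, dotProduct, Fin.sum_univ_two] at h00 h01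
      have ha : A 0 0 * (A 0 0 + A 1 1) = 0 := by grind
      by_contra hne
      have htne : A 0 0 + A 1 1 ≠ 0 := fun h => hne (by grind)
      have b0 : A 0 1 = 0 := (mul_eq_zero.1 (show A 0 1 * (A 0 0 + A 1 1) = 0 by grind)).resolve_right htne
      have a0 : A 0 0 = 0 := (mul_eq_zero.1 ha).resolve_right htne
      grind
  -- find `v` with `det[v, -Av] = 1`
  obtain ⟨p, q, hpq⟩ : ∃ p q : F,
      -(A 1 0) * p * p + 2 * A 0 0 * p * q + A 0 1 * q * q = 1 := by
    by_cases hc : A 1 0 = 0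
    · have ha : A 0 0 ≠ 0 := fun ha => by rw [ha, hc] at hd; simp at hd
      refine ⟨(1 - A 0 1) / (2 * A 0 0), 1, ?_⟩
      rw [hc]
      field_simp
      ring
    · obtain ⟨u, v, huv⟩ := exists_sq_add_sq (F := F) (-(A 1 0))
      refine ⟨(u + A 0 0 * v) / A 1 0, v, ?_⟩
      field_simp
      grind
  refine ⟨QuotientGroup.mk ⟨!![p, -(A 0 0 * p + A 0 1 * q); q, -(A 1 0 * p + A 1 1 * q)],
    by rw [Matrix.det_fin_two_of]; grind⟩, ?_⟩
  rw [mul_inv_eq_iff_eq_mul, zEl]
  refine (psl2_eq_iff (_ * _) (_ * _)).2 ?_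
  left
  show !![p, -(A 0 0 * p + A 0 1 * q); q, -(A 1 0 * p + A 1 1 * q)] * !![0, 1; -1, 0] =
    (A : Matrix (Fin 2) (Fin 2) F) * !![p, -(A 0 0 * p + A 0 1 * q); q, -(A 1 0 * p + A 1 1 * q)]
  ext i j
  fin_cases i <;> fin_cases j <;> simp [Matrix.mul_apply, Matrix.vecMul, dotProduct, Fin.sum_univ_two] <;> grind

end H89
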