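import Mathlib
import Cfsg.Agent.H27.Base2.Lin

/-!
Base of size two for coprime solvable groups preserving a tensor decomposition (helper89).
-/

set_option autoImplicit false
set_option linter.unusedSectionVars false
set_option linter.style.haveILetI false

namespace H89.BaseTensor

open H27.Base2 Module
open scoped Matrix

variable {K : Type} [Field K]

theorem pow_strictUpper {n : ℕ} (N : Matrix (Fin n) (Fin n) K)
    (hN : ∀ i j : Fin n, (j : ℕ) ≤ i → N i j = 0) :
    ∀ (t : ℕ) (i j : Fin n), (j : ℕ) < (i : ℕ) + t → (N ^ t) i j = 0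
  | 0, i, j, h => by
    rw [pow_zero, Matrix.one_apply_ne]
    exact fun e => by rw [e] at h; omega
  | t + 1, i, j, h => by
    rw [pow_succ', Matrix.mul_apply]
    refine Finset.sum_eq_zero fun k _ => ?_
    rcases le_or_gt (k : ℕ) (i : ℕ) with hk | hk
    · rw [hN i k hk, zero_mul]
    · rw [pow_strictUpper N hN t k j (by omega), mul_zero]

/-- The nilpotent shift. -/
def shift (n : ℕ) : Matrix (Fin n) (Fin n) K :=
  Matrix.of fun i j => if (i : ℕ) + 1 = (j : ℕ) then 1 else 0

theorem shift_comm_entries {n : ℕ} (A : Matrix (Fin n) (Fin n) K) (h : A * shift n = shift n * A)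
    (i : Fin n) (j : Fin n) (hi : (i : ℕ) + 1 < n) :
    (j.val = 0 → A ⟨i + 1, hi⟩ j = 0) ∧
      ∀ hj : 0 < j.val, A ⟨i + 1, hi⟩ j = A i ⟨j - 1, by omega⟩ := by
  have h2 := congrFun (congrFun h i) j
  rw [Matrix.mul_apply, Matrix.mul_apply] at h2
  have hR : ∑ k, (shift n : Matrix _ _ K) i k * A k j = A ⟨i + 1, hi⟩ j := by
    rw [Finset.sum_eq_single ⟨(i : ℕ) + 1, hi⟩]
    · simp [shift]
    · intro k _ hk
      have : (i : ℕ) + 1 ≠ k := fun e => hk (Fin.ext e.symm)
      simp [shift, this]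
    · simp
  rw [hR] at h2
  refine ⟨fun hj => ?_, fun hj => ?_⟩
  · rw [← h2]
    refine Finset.sum_eq_zero fun k _ => ?_
    have : (k : ℕ) + 1 ≠ j := by omega
    simp [shift, this]
  · rw [← h2, Finset.sum_eq_single ⟨(j : ℕ) - 1, by omega⟩]
    · have : (j : ℕ) - 1 + 1 = j := by omega
      simp [shift, this]
    · intro k _ hk
      have : (k : ℕ) + 1 ≠ j := fun e => hk (Fin.ext (by simp only []; omega))
      simp [shift, this]
    · simp

theorem shift_comm_shape {n : ℕ} (A : Matrix (Fin n) (Fin n) K) (h : A * shift n = shift n * A)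
    (hn : 0 < n) : ∀ i j : Fin n, (j : ℕ) ≤ i →
      A i j = if (j : ℕ) = i then A ⟨0, hn⟩ ⟨0, hn⟩ else 0 := by
  rintro ⟨i, hi⟩
  induction i with
  | zero =>
    intro j hj
    have : j = ⟨0, hn⟩ := Fin.ext (Nat.le_zero.1 hj)
    subst this
    simp
  | succ i ih =>
    intro j hj
    obtain ⟨h0, h1⟩ := shift_comm_entries A h ⟨i, by omega⟩ j hi
    rcases Nat.eq_zero_or_pos j.val with hj0 | hj0
    · rw [h0 hj0, if_neg]
      simp only []; omega
    · rw [h1 hj0, ih (by omega) ⟨j - 1, by omega⟩ (by simp only [] at hj ⊢; omega)]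
      simp only []
      congr 1
      exact propext (by omega)

variable {V : Type} [Finite K] [AddCommGroup V] [Module K V] [Finite V]
  {G : Subgroup (Module.End K V)ˣ}

theorem pair_square (hG : LinSetup G) {n : ℕ} (hn : 0 < n)
    (Φ : V ≃ₗ[K] Matrix (Fin n) (Fin n) K)
    (hdec : ∀ g ∈ G, ∃ (A : GL (Fin n) K) (B : GL (Fin n) K), ∀ v,
      Φ ((g : Module.End K V) v) = A.1 * Φ v * B.1) : PairFor G := by
  refine ⟨Φ.symm 1, Φ.symm (shift n), fun g hg h1 h2 => ?_⟩
  obtain ⟨A, B, hAB⟩ := hdec g hg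
  have e1 : A.1 * B.1 = 1 := by
    have := hAB (Φ.symm 1)
    rw [h1, Φ.apply_symm_apply, mul_one] at this
    exact this.symm
  have e2 : A.1 * shift n * B.1 = shift n := by
    have := hAB (Φ.symm (shift n))
    rw [h2, Φ.apply_symm_apply] at this
    exact this.symm
  have e3 : B.1 * A.1 = 1 := mul_eq_one_comm.1 e1
  have hcomm : A.1 * shift n = shift n * A.1 := by
    conv_rhs => rw [← e2]
    rw [mul_assoc (A.1 * shift n), e3, mul_one]
  set c := A.1 ⟨0, hn⟩ ⟨0, hn⟩ with hc
  obtain ⟨p, hp⟩ := CharP.exists K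
  haveI := hp
  have hpp : p.Prime := CharP.char_is_prime K p
  haveI := Fact.mk hpp
  haveI : Nonempty (Fin n) := ⟨⟨0, hn⟩⟩
  haveI : CharP (Matrix (Fin n) (Fin n) K) p := Matrix.charP p
  obtain ⟨s, hps⟩ : ∃ s, n ≤ p ^ s := ⟨n, (Nat.lt_pow_self hpp.one_lt).le⟩
  have hN : (A.1 - Matrix.scalar (Fin n) c) ^ (p ^ s) = 0 := by
    ext i j
    refine pow_strictUpper _ (fun i j hij => ?_) (p ^ s) i j (by omega)
    rw [Matrix.sub_apply, shift_comm_shape A.1 hcomm hn i j hij]
    by_cases hij' : (j : ℕ) = i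
    · have : j = i := Fin.ext hij'
      subst this
      simp [c]
    · rw [if_neg hij', Matrix.scalar_apply, Matrix.diagonal_apply_ne _ (fun e => hij' (by rw [e])),
        sub_zero]
  have hApow : A.1 ^ (p ^ s) = Matrix.scalar (Fin n) (c ^ (p ^ s)) := by
    rw [sub_pow_char_pow_of_commute (p := p) (h := (Matrix.scalar_commute c (Commute.all c) A.1).symm),
      sub_eq_zero] at hN
    rw [hN, map_pow]
  have hiter : ∀ (t : ℕ) (v : V),
      Φ (((g ^ t : (Module.End K V)ˣ) : Module.End K V) v) = A.1 ^ t * Φ v * B.1 ^ t := by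
    intro t
    induction t with
    | zero => intro v; simp
    | succ t ih =>
      intro v
      rw [pow_succ', Units.val_mul, Module.End.mul_apply, hAB, ih, pow_succ' A.1, pow_succ B.1]
      simp only [mul_assoc]
  refine hG.eq_one_of_pow_char hpp hg (s := s) (Units.ext (LinearMap.ext fun v => Φ.injective ?_))
  rw [hiter, hApow, mul_assoc, Units.val_one, Module.End.one_apply]
  rw [Matrix.scalar_apply, ← Matrix.smul_eq_diagonal_mul, ← Matrix.mul_smul, Matrix.smul_eq_diagonal_mul,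
    ← Matrix.scalar_apply, ← hApow, ← (Commute.mul_pow (show Commute A.1 B.1 from e1.trans e3.symm)),
    e1, one_pow, mul_one]

/-- Pairs `(B, g)` such that `g` acts as `X ↦ A X B` for some `A`. -/
def rel {m n : ℕ} (Φ : V ≃ₗ[K] Matrix (Fin m) (Fin n) K) (G : Subgroup (Module.End K V)ˣ) :
    Subgroup ((GL (Fin n) K)ᵐᵒᵖ × ↥G) where
  carrier := {x | ∃ A : GL (Fin m) K, ∀ v,
    Φ (((x.2 : (Module.End K V)ˣ) : Module.End K V) v) = A.1 * Φ v * x.1.unop.1}
  one_mem' := ⟨1, fun v => by simp⟩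
  mul_mem' := by
    rintro x y ⟨A, hA⟩ ⟨A', hA'⟩
    refine ⟨A * A', fun v => ?_⟩
    simp only [Prod.snd_mul, Prod.fst_mul, Subgroup.coe_mul, Units.val_mul, Module.End.mul_apply,
      MulOpposite.unop_mul, hA, hA', Matrix.mul_assoc]
  inv_mem' := by
    rintro x ⟨A, hA⟩
    refine ⟨A⁻¹, fun v => ?_⟩
    simp only [Prod.snd_inv, Prod.fst_inv, MulOpposite.unop_inv, InvMemClass.coe_inv]
    have h := hA (((x.2 : (Module.End K V)ˣ)⁻¹ : (Module.End K V)ˣ).val v)
    rw [← Module.End.mul_apply, Units.mul_inv, Module.End.one_apply] at h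
    rw [h]
    have e1 : (A⁻¹ : GL (Fin m) K).1 * A.1 = 1 := Units.inv_mul A
    have e2 : x.1.unop.1 * (x.1.unop⁻¹ : GL (Fin n) K).1 = 1 := Units.mul_inv _
    simp only [← Matrix.mul_assoc, e1, Matrix.one_mul]
    rw [Matrix.mul_assoc, e2, Matrix.mul_one]

theorem eq_scalar_of_sandwich {m n : ℕ} (hm : 0 < m) (A : Matrix (Fin m) (Fin m) K)
    (B : Matrix (Fin n) (Fin n) K) (h : ∀ X : Matrix (Fin m) (Fin n) K, A * X * B = X) :
    ∃ c : K, B = Matrix.scalar (Fin n) c := by
  classical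
  rcases Nat.eq_zero_or_pos n with rfl | hn
  · exact ⟨0, by ext i; exact i.elim0⟩
  have hent : ∀ (a b : Fin m) (i j : Fin n), A a b * B i j = if a = b ∧ i = j then 1 else 0 := by
    intro a b i j
    have h2 := congrFun (congrFun (h (Matrix.single b i 1)) a) j
    rw [Matrix.mul_assoc, Matrix.mul_apply, Finset.sum_eq_single b] at h2
    · rw [Matrix.single_mul_apply_same, one_mul] at h2
      rw [h2, Matrix.single_apply]
      simp only [eq_comm]
    · intro x _ hx
      rw [Matrix.single_mul_apply_of_ne _ _ _ _ _ hx, mul_zero]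
    · simp
  have hA0 : A ⟨0, hm⟩ ⟨0, hm⟩ ≠ 0 := fun e => by
    have := hent ⟨0, hm⟩ ⟨0, hm⟩ ⟨0, hn⟩ ⟨0, hn⟩
    rw [e, zero_mul, if_pos ⟨rfl, rfl⟩] at this
    exact zero_ne_one this
  refine ⟨(A ⟨0, hm⟩ ⟨0, hm⟩)⁻¹, ?_⟩
  ext i j
  have := hent ⟨0, hm⟩ ⟨0, hm⟩ i j
  rw [Matrix.scalar_apply, Matrix.diagonal_apply]
  by_cases hij : i = j
  · rw [if_pos ⟨rfl, hij⟩] at this
    rw [if_pos hij]
    exact eq_inv_of_mul_eq_one_right this
  · rw [if_neg (fun e => hij e.2)] at this
    rw [if_neg hij]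
    exact (mul_eq_zero.1 this).resolve_left hA0

theorem exists_ge_finrank {W : Type} [AddCommGroup W] [Module K W] [FiniteDimensional K W]
    (U : Submodule K W) (d : ℕ) (hU : finrank K U ≤ d) (hd : d ≤ finrank K W) :
    ∃ W' : Submodule K W, U ≤ W' ∧ finrank K W' = d := by
  induction d, hU using Nat.le_induction with
  | base => exact ⟨U, le_rfl, rfl⟩
  | succ d hd' ih =>
    obtain ⟨W', hUW, hW⟩ := ih (by omega)
    obtain ⟨x, hx⟩ : ∃ x, x ∉ W' := by
      by_contra h
      push Not at h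
      rw [Submodule.eq_top_iff'.2 h, finrank_top] at hW
      omega
    have hlt : W' < W' ⊔ Submodule.span K {x} := lt_of_le_of_ne le_sup_left fun e =>
      hx (e ▸ Submodule.mem_sup_right (Submodule.mem_span_singleton_self x))
    refine ⟨W' ⊔ Submodule.span K {x}, hUW.trans le_sup_left, le_antisymm ?_ ?_⟩
    · refine (Submodule.finrank_add_le_finrank_add_finrank _ _).trans ?_
      have hx0 : x ≠ 0 := fun e => hx (e ▸ W'.zero_mem)
      rw [hW, finrank_span_singleton hx0]
    · have := Submodule.finrank_lt_finrank_of_lt hlt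
      omega

theorem pair_rect (hG : LinSetup G) (hIH : SmallerPairs V) {m n : ℕ} (hm : 2 ≤ m) (hmn : m < n)
    (Φ : V ≃ₗ[K] Matrix (Fin m) (Fin n) K)
    (hdec : ∀ g ∈ G, ∃ (A : GL (Fin m) K) (B : GL (Fin n) K), ∀ v,
      Φ ((g : Module.End K V) v) = A.1 * Φ v * B.1) : PairFor G := by
  classical
  haveI : Finite (Module.End K V) := Finite.of_injective (fun f => (f : V → V)) DFunLike.coe_injective
  haveI : Finite (Module.End K V)ˣ := Finite.of_injective (fun u => (u : Module.End K V)) (fun _ _ h => Units.ext h)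
  haveI : Finite ↥G := inferInstance
  haveI : Finite (GL (Fin n) K)ᵐᵒᵖ := Finite.of_equiv _ MulOpposite.opEquiv
  haveI := hG.solvable
  set R := rel Φ G with hR
  let π : R →* ↥G := (MonoidHom.snd _ _).comp R.subtype
  let β : R →* (GL (Fin n) K)ᵐᵒᵖ := (MonoidHom.fst _ _).comp R.subtype
  let sc : Kˣ →* GL (Fin n) K := Units.map (Matrix.scalar (Fin n) : K →+* _).toMonoidHom
  have hker : ∀ x ∈ π.ker, ∃ c : Kˣ, (β x).unop = sc c := by
    rintro ⟨x, A, hA⟩ hx
    have hx' : x.2 = 1 := hx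
    obtain ⟨c, hc⟩ := eq_scalar_of_sandwich (by omega) A.1 x.1.unop.1 fun X => by
      have := hA (Φ.symm X)
      rw [hx', OneMemClass.coe_one, Units.val_one, Module.End.one_apply, Φ.apply_symm_apply] at this
      exact this.symm
    haveI : Nonempty (Fin n) := ⟨⟨0, by omega⟩⟩
    have hc0 : c ≠ 0 := fun e => Units.ne_zero x.1.unop (by rw [hc, e, map_zero])
    exact ⟨Units.mk0 c hc0, Units.ext hc⟩
  let f : π.ker →* (GL (Fin n) K)ᵐᵒᵖ := β.comp π.ker.subtype
  have hf : Function.Injective f := fun x y e => by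
    apply Subtype.ext; apply Subtype.ext
    exact Prod.ext e ((MonoidHom.mem_ker.1 x.2 : π (x : R) = 1).trans
      (MonoidHom.mem_ker.1 y.2 : π (y : R) = 1).symm)
  have hrange : f.range ≤ (sc.range).op := by
    rintro _ ⟨x, rfl⟩
    obtain ⟨c, hc⟩ := hker x x.2
    exact ⟨c, hc.symm⟩
  have hfcomm : ∀ x y : π.ker, x * y = y * x := fun x y => hf (by
    obtain ⟨a, ha⟩ := hker x x.2
    obtain ⟨b, hb⟩ := hker y y.2
    apply MulOpposite.unop_injective
    rw [map_mul, map_mul, MulOpposite.unop_mul, MulOpposite.unop_mul]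
    show (β y).unop * (β x).unop = (β x).unop * (β y).unop
    rw [ha, hb, ← map_mul, ← map_mul, mul_comm])
  haveI : Group.IsSolvable π.ker := Group.isSolvable_of_comm hfcomm
  haveI hRs : Group.IsSolvable R :=
    Group.isSolvable_of_ker_le_range π.ker.subtype π (by rw [Subgroup.range_subtype])
  set G₂ := β.range with hG₂
  haveI : Group.IsSolvable G₂ := Group.isSolvable_of_surjective β.rangeRestrict_surjective
  -- coprimality
  have hkercard : Nat.card π.ker ∣ Nat.card Kˣ := by
    rw [Nat.card_congr (MonoidHom.ofInjective hf).toEquiv]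
    refine (Subgroup.card_dvd_of_le hrange).trans ?_
    rw [Nat.card_congr sc.range.equivOp.symm]
    exact Subgroup.card_range_dvd sc
  have hRcard : Nat.card R ∣ Nat.card Kˣ * Nat.card ↥G := by
    rw [← Subgroup.card_mul_index π.ker, Subgroup.index_ker]
    exact Nat.mul_dvd_mul hkercard (Subgroup.card_subgroup_dvd_card _)
  haveI := Fintype.ofFinite K
  have hKu : (Nat.card Kˣ : K) ≠ 0 := by
    rw [Nat.card_units, Nat.cast_sub Nat.card_pos, Nat.card_eq_fintype_card,
      Nat.cast_card_eq_zero, Nat.cast_one, zero_sub]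
    exact neg_ne_zero.2 one_ne_zero
  have hG₂c : (Nat.card G₂ : K) ≠ 0 := fun e => by
    obtain ⟨d, hd⟩ := (Subgroup.card_range_dvd β).trans hRcard
    have h0 : ((Nat.card Kˣ * Nat.card ↥G : ℕ) : K) = 0 := by
      rw [hd, Nat.cast_mul, show (Nat.card G₂ : K) = 0 from e, zero_mul]
    rw [Nat.cast_mul, mul_eq_zero] at h0
    exact h0.elim hKu hG.coprime
  -- the action on rows
  let act : DistribMulAction G₂ (Fin n → K) :=
    { smul := fun b x => x ᵥ* (b : (GL (Fin n) K)ᵐᵒᵖ).unop.1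
      one_smul := fun x => show x ᵥ* (1 : Matrix (Fin n) (Fin n) K) = x from Matrix.vecMul_one x
      mul_smul := fun a b x => show x ᵥ* (_ : Matrix (Fin n) (Fin n) K) = _ from
        (by rw [Subgroup.coe_mul, MulOpposite.unop_mul, Units.val_mul, ← Matrix.vecMul_vecMul]; rfl)
      smul_zero := fun b => Matrix.zero_vecMul _
      smul_add := fun b x y => Matrix.add_vecMul _ x y }
  haveI : Finite (Fin n → K) := inferInstance
  obtain ⟨p, hp⟩ := CharP.exists K
  haveI := hp
  have hpp : p.Prime := CharP.char_is_prime K p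
  obtain ⟨k, -, hk⟩ := FiniteField.card K p
  have hcardW : Nat.card (Fin n → K) = p ^ ((k : ℕ) * n) := by
    rw [Nat.card_fun, Nat.card_eq_fintype_card, hk, Nat.card_fin, pow_mul]
  have hcardV : Nat.card V = p ^ ((k : ℕ) * n * m) := by
    rw [Nat.card_congr Φ.toEquiv, show Nat.card (Matrix (Fin m) (Fin n) K) = Nat.card (Fin m → Fin n → K)
      from rfl, Nat.card_fun, hcardW, Nat.card_fin, ← pow_mul]
  have hcop : (Nat.card G₂).Coprime (Nat.card (Fin n → K)) := by
    rw [hcardW]
    refine Nat.Coprime.pow_right _ ((hpp.coprime_iff_not_dvd.2 fun h => hG₂c ?_).symm)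
    exact (CharP.cast_eq_zero_iff K p _).2 h
  have hlt : Nat.card (Fin n → K) < Nat.card V := by
    rw [hcardW, hcardV]
    refine Nat.pow_lt_pow_right hpp.one_lt ?_
    have hkn : 0 < (k : ℕ) * n := Nat.mul_pos k.pos (by omega)
    calc (k : ℕ) * n = (k : ℕ) * n * 1 := (mul_one _).symm
      _ < (k : ℕ) * n * m := Nat.mul_lt_mul_of_pos_left (by omega) hkn
  obtain ⟨y, z, hyz⟩ := @hIH G₂ (Fin n → K) _ _ _ _ act inferInstance hcop hlt
  -- an independent family containing a plane through `y` and `z`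
  obtain ⟨x, hx, hy, hz⟩ : ∃ x : Fin (m + 1) → Fin n → K, LinearIndependent K x ∧
      y ∈ Submodule.span K (Set.range x) ∧ z ∈ Submodule.span K (Set.range x) := by
    set U := Submodule.span K ({y, z} : Set (Fin n → K))
    have hU : finrank K U ≤ m + 1 := by
      refine le_trans ((finrank_span_le_card _).trans ?_) (by omega : 2 ≤ m + 1)
      rw [Set.toFinset_insert, Set.toFinset_singleton]
      exact (Finset.card_insert_le _ _).trans (by simp)
    obtain ⟨W, hUW, hW⟩ : ∃ W : Submodule K (Fin n → K), U ≤ W ∧ finrank K W = m + 1 :=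
      exists_ge_finrank U (m + 1) hU (by rw [finrank_fin_fun]; omega)
    let b := finBasisOfFinrankEq K W hW
    have hspan : Submodule.span K (Set.range fun i => (b i : Fin n → K)) = W := by
      rw [show Set.range (fun i => (b i : Fin n → K)) = W.subtype '' Set.range b from
        (Set.range_comp W.subtype b), Submodule.span_image, b.span_eq, Submodule.map_top,
        Submodule.range_subtype]
    exact ⟨fun i => (b i : Fin n → K), b.linearIndependent.map' W.subtype W.ker_subtype,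
      hspan.symm ▸ hUW (Submodule.subset_span (by simp)),
      hspan.symm ▸ hUW (Submodule.subset_span (by simp))⟩
  refine ⟨Φ.symm (Matrix.of fun i j => x i.castSucc j), Φ.symm (Matrix.of fun i j => x i.succ j),
    fun g hg h1 h2 => ?_⟩
  obtain ⟨A, B, hAB⟩ := hdec g hg
  set C := (A⁻¹ : GL (Fin m) K).1 with hC
  have hrow : ∀ (X : Matrix (Fin m) (Fin n) K), A.1 * X * B.1 = X →
      ∀ i, X i ᵥ* B.1 = ∑ j, C i j • X j := by
    intro X hX i
    have e : X * B.1 = C * X := by
      conv_rhs => rw [← hX]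
      rw [← Matrix.mul_assoc, ← Matrix.mul_assoc, hC, Units.inv_mul, Matrix.one_mul]
    have h3 := congrFun e i
    funext l
    have h4 := congrFun h3 l
    rw [Matrix.mul_apply, Matrix.mul_apply] at h4
    simp only [Matrix.vecMul, dotProduct, Finset.sum_apply, Pi.smul_apply, smul_eq_mul]
    exact h4
  have r1 : ∀ i : Fin m, x i.castSucc ᵥ* B.1 = ∑ j, C i j • x j.castSucc := by
    refine hrow (Matrix.of fun i j => x i.castSucc j) ?_
    have := hAB (Φ.symm (Matrix.of fun i j => x i.castSucc j))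
    rw [h1, Φ.apply_symm_apply] at this
    exact this.symm
  have r2 : ∀ i : Fin m, x i.succ ᵥ* B.1 = ∑ j, C i j • x j.succ := by
    refine hrow (Matrix.of fun i j => x i.succ j) ?_
    have := hAB (Φ.symm (Matrix.of fun i j => x i.succ j))
    rw [h2, Φ.apply_symm_apply] at this
    exact this.symm
  have key : ∀ (i : Fin m) (hi : (i : ℕ) + 1 < m),
      (∀ l : Fin (m + 1), (Fin.snoc (C ⟨i + 1, hi⟩) 0 : Fin (m + 1) → K) l =
        (Fin.cons 0 (C i) : Fin (m + 1) → K) l) := by
    intro i hi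
    have e1 : ∑ l, (Fin.snoc (C ⟨i + 1, hi⟩) 0 : Fin (m + 1) → K) l • x l =
        ∑ j, C ⟨i + 1, hi⟩ j • x j.castSucc := by
      rw [Fin.sum_univ_castSucc]; simp
    have e2 : ∑ l, (Fin.cons 0 (C i) : Fin (m + 1) → K) l • x l = ∑ j, C i j • x j.succ := by
      rw [Fin.sum_univ_succ]; simp
    have e3 : (⟨i + 1, hi⟩ : Fin m).castSucc = i.succ := Fin.ext rfl
    have e4 : ∑ j, C ⟨i + 1, hi⟩ j • x j.castSucc = ∑ j, C i j • x j.succ := by
      rw [← r1, ← r2, e3]
    intro l
    have e5 : ∑ l, ((Fin.snoc (C ⟨i + 1, hi⟩) 0 : Fin (m + 1) → K) l -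
        (Fin.cons 0 (C i) : Fin (m + 1) → K) l) • x l = 0 := by
      simp only [sub_smul, Finset.sum_sub_distrib, e1, e2, e4, sub_self]
    exact sub_eq_zero.1 (Fintype.linearIndependent_iff.1 hx _ e5 l)
  set c := C ⟨0, by omega⟩ ⟨0, by omega⟩ with hc
  have klast : ∀ (i : Fin m), (i : ℕ) + 1 < m → C i ⟨m - 1, by omega⟩ = 0 := by
    intro i hi
    have h := key i hi (Fin.last m)
    rw [Fin.snoc_last, show Fin.last m = Fin.succ ⟨m - 1, by omega⟩ from
      Fin.ext (by simp; omega), Fin.cons_succ] at h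
    exact h.symm
  have kzero : ∀ (i : Fin m) (hi : (i : ℕ) + 1 < m), C ⟨i + 1, hi⟩ ⟨0, by omega⟩ = 0 := by
    intro i hi
    have h := key i hi (Fin.castSucc ⟨0, by omega⟩)
    rw [Fin.snoc_castSucc] at h
    rw [h]; rfl
  have kdiag : ∀ (i : Fin m) (hi : (i : ℕ) + 1 < m) (j : Fin m) (hj : (j : ℕ) + 1 < m),
      C ⟨i + 1, hi⟩ ⟨j + 1, hj⟩ = C i j := by
    intro i hi j hj
    have h := key i hi (Fin.castSucc ⟨j + 1, hj⟩)
    rw [Fin.snoc_castSucc, show (Fin.castSucc (⟨j + 1, hj⟩ : Fin m)) = j.succ from Fin.ext rfl,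
      Fin.cons_succ] at h
    exact h
  have hrow0 : ∀ (d : ℕ) (hd : d < m) (a : ℕ) (had : a + d < m),
      C ⟨a, by omega⟩ ⟨a + d, had⟩ = C ⟨0, by omega⟩ ⟨d, hd⟩ := by
    intro d hd a
    induction a with
    | zero => intro had; simp
    | succ a ih =>
      intro had
      have h := kdiag ⟨a, by omega⟩ (show a + 1 < m by omega) ⟨a + d, by omega⟩ (by simp only []; omega)
      rw [ih (by omega)] at h
      rw [← h]
      congr 1
      exact Fin.ext (by simp only []; omega)
  have hrow1 : ∀ (d : ℕ), 0 < d → ∀ (a : ℕ) (had : a + d < m),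
      C ⟨a + d, had⟩ ⟨a, by omega⟩ = 0 := by
    intro d hd a
    induction a with
    | zero =>
      intro had
      have h := kzero ⟨d - 1, by omega⟩ (by simp only []; omega)
      rw [← h]
      congr 1
      exact Fin.ext (by simp only []; omega)
    | succ a ih =>
      intro had
      have h := kdiag ⟨a + d, by omega⟩ (by simp only []; omega) ⟨a, by omega⟩ (by simp only []; omega)
      rw [ih (by omega)] at h
      rw [← h]
      congr 1
      exact Fin.ext (by simp only []; omega)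
  have hCc : C = Matrix.scalar (Fin m) c := by
    ext ⟨i, hi⟩ ⟨j, hj⟩
    rw [Matrix.scalar_apply, Matrix.diagonal_apply]
    rcases lt_trichotomy i j with h | h | h
    · rw [if_neg (by simp [Fin.ext_iff]; omega)]
      obtain ⟨d, rfl⟩ : ∃ d, j = i + d := ⟨j - i, by omega⟩
      rw [hrow0 d (by omega) i hj]
      have h5 := klast ⟨m - 1 - d, by omega⟩ (by simp only []; omega)
      rw [show (⟨m - 1, by omega⟩ : Fin m) = ⟨m - 1 - d + d, by omega⟩ from
        Fin.ext (by simp only []; omega), hrow0 d (by omega) (m - 1 - d)] at h5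
      exact h5
    · subst h
      rw [if_pos rfl]
      exact hrow0 0 (by omega) i hj
    · rw [if_neg (by simp [Fin.ext_iff]; omega)]
      obtain ⟨d, rfl⟩ : ∃ d, i = j + d := ⟨i - j, by omega⟩
      exact hrow1 d (by omega) j hi
  have hfix : ∀ l : Fin (m + 1), x l ᵥ* B.1 = c • x l := by
    intro l
    induction l using Fin.lastCases with
    | last =>
      have h := r2 ⟨m - 1, by omega⟩
      rw [show Fin.succ (⟨m - 1, by omega⟩ : Fin m) = Fin.last m from
        Fin.ext (by simp; omega), hCc] at h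
      rw [h, Finset.sum_eq_single ⟨m - 1, by omega⟩]
      · rw [Matrix.scalar_apply, Matrix.diagonal_apply_eq]
        congr 1
        exact congrArg x (Fin.ext (by simp; omega))
      · intro j _ hj
        rw [Matrix.scalar_apply, Matrix.diagonal_apply_ne _ (Ne.symm hj), zero_smul]
      · simp
    | cast i =>
      rw [r1 i, hCc, Finset.sum_eq_single i]
      · rw [Matrix.scalar_apply, Matrix.diagonal_apply_eq]
      · intro j _ hj
        rw [Matrix.scalar_apply, Matrix.diagonal_apply_ne _ (Ne.symm hj), zero_smul]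
      · simp
  haveI : Nonempty (Fin m) := ⟨⟨0, by omega⟩⟩
  have hc0 : c ≠ 0 := fun e => Units.ne_zero (A⁻¹ : GL (Fin m) K)
    (show C = 0 by rw [hCc, e, map_zero])
  -- the right factor
  set B₁ : GL (Fin n) K := sc (Units.mk0 c hc0)⁻¹ * B
  have hB₁v : B₁.1 = c⁻¹ • B.1 := by
    rw [Units.val_mul, Matrix.smul_eq_diagonal_mul]
    congr 1
  have hA : A.1 = c⁻¹ • (1 : Matrix (Fin m) (Fin m) K) := by
    have e : C * A.1 = 1 := Units.inv_mul A
    rw [hCc, Matrix.scalar_apply, ← Matrix.smul_eq_diagonal_mul] at e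
    rw [← e, inv_smul_smul₀ hc0]
  have hact : ∀ v, Φ ((g : Module.End K V) v) = Φ v * B₁.1 := by
    intro v
    rw [hAB, hA, hB₁v, Matrix.smul_mul, Matrix.one_mul, Matrix.smul_mul, Matrix.mul_smul]
  have hmem : (MulOpposite.op B₁) ∈ G₂ :=
    ⟨⟨(MulOpposite.op B₁, ⟨g, hg⟩), 1, fun v => by simpa using hact v⟩, rfl⟩
  have hspanfix : ∀ u ∈ Submodule.span K (Set.range x), u ᵥ* B₁.1 = u := by
    intro u hu
    induction hu using Submodule.span_induction with
    | mem u hu =>
      obtain ⟨l, rfl⟩ := hu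
      rw [hB₁v, Matrix.vecMul_smul, hfix, inv_smul_smul₀ hc0]
    | zero => exact Matrix.zero_vecMul _
    | add u v _ _ hu hv => rw [Matrix.add_vecMul, hu, hv]
    | smul a u _ hu => rw [Matrix.smul_vecMul, hu]
  have hone := hyz ⟨_, hmem⟩ (hspanfix y hy) (hspanfix z hz)
  refine Units.ext (LinearMap.ext fun v => Φ.injective ?_)
  rw [hact, Units.val_one, Module.End.one_apply]
  ext i j
  exact congrFun (hone (Φ v i)) j

/-- Groups preserving a tensor decomposition have bases of size two. -/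
theorem pairFor_tensor {K V : Type} [Field K] [Finite K] [AddCommGroup V] [Module K V] [Finite V]
    {G : Subgroup (Module.End K V)ˣ} (hG : H27.Base2.LinSetup G) (hIH : H27.Base2.SmallerPairs V)
    {m n : ℕ} (hm : 2 ≤ m) (hn : 2 ≤ n) (Φ : V ≃ₗ[K] Matrix (Fin m) (Fin n) K)
    (hdec : ∀ g ∈ G, ∃ (A : GL (Fin m) K) (B : GL (Fin n) K), ∀ v,
      Φ ((g : Module.End K V) v) = A.1 * Φ v * B.1) : H27.Base2.PairFor G := by
  rcases lt_trichotomy m n with h | h | h
  · exact pair_rect hG hIH hm h Φ hdec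
  · subst h
    exact pair_square hG (by omega) Φ hdec
  · refine pair_rect hG hIH hn h (Φ.trans (Matrix.transposeLinearEquiv (Fin m) (Fin n) K K))
      fun g hg => ?_
    obtain ⟨A, B, hAB⟩ := hdec g hg
    refine ⟨⟨B.1ᵀ, (B⁻¹ : GL (Fin n) K).1ᵀ, ?_, ?_⟩, ⟨A.1ᵀ, (A⁻¹ : GL (Fin m) K).1ᵀ, ?_, ?_⟩,
      fun v => ?_⟩
    · rw [← Matrix.transpose_mul, Units.inv_mul, Matrix.transpose_one]
    · rw [← Matrix.transpose_mul, Units.mul_inv, Matrix.transpose_one]
    · rw [← Matrix.transpose_mul, Units.inv_mul, Matrix.transpose_one]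
    · rw [← Matrix.transpose_mul, Units.mul_inv, Matrix.transpose_one]
    · show (Φ ((g : Module.End K V) v))ᵀ = B.1ᵀ * (Φ v)ᵀ * A.1ᵀ
      rw [hAB, Matrix.transpose_mul, Matrix.transpose_mul, Matrix.mul_assoc]

end H89.BaseTensor
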