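import Cfsg.Agent.H89.BaseSmall.Model

/-!
The small models over the field of three elements: two of them do not occur, the third one has a
base of size two given a certificate for its normaliser.
-/

set_option autoImplicit false
set_option linter.unusedSectionVars false
set_option linter.style.haveILetI false

namespace H89.BaseSmall

open H27.Base2 MulAction

variable {K : Type} [Field K] {tw : Bool} {k : ℕ} (h2 : (2 : K) ≠ 0)

/-- The group of invertible maps of the model space. -/
abbrev Un (K : Type) [Field K] (k : ℕ) : Type := (Module.End K (Fin (2 ^ k) → K))ˣ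

/-- Two classes with commuting representatives. -/
def Com (a b : ↥(Cls K tw k)) : Prop :=
  ∀ u v : (Un K k), cls u = (a : (Un K k) ⧸ scal K k) → cls v = (b : (Un K k) ⧸ scal K k) → u * v = v * u

include h2 in
theorem cls_comm (a b : ↥(Cls K tw k)) : a * b = b * a := by
  obtain ⟨m, rfl⟩ := idx_surjective h2 a
  obtain ⟨n, rfl⟩ := idx_surjective h2 b
  refine Subtype.ext ?_
  show cls (wordU h2 tw k m) * cls (wordU h2 tw k n) = cls (wordU h2 tw k n) * cls (wordU h2 tw k m)
  rw [← cls_wordU_xor, ← cls_wordU_xor, Nat.xor_comm]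

include h2 in
theorem cls_sq (a : ↥(Cls K tw k)) : a * a = 1 := by
  obtain ⟨m, rfl⟩ := idx_surjective h2 a
  refine Subtype.ext ?_
  show cls (wordU h2 tw k m) * cls (wordU h2 tw k m) = 1
  rw [← cls_wordU_xor, Nat.xor_self]
  simp [wordU, cls]

theorem scalarU_inj : Function.Injective (scalarU K (Fin (2 ^ k) → K)) := fun c d h => by
  have e := congrArg (fun g : (Un K k) => (g : Module.End K (Fin (2 ^ k) → K)) (fun _ => 1) 0) h
  refine Units.ext ?_
  simpa using e

include h2 in
theorem commute_or_neg (a b : ↥(Cls K tw k)) {u v : (Un K k)} (hu : cls u = (a : (Un K k) ⧸ scal K k))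
    (hv : cls v = (b : (Un K k) ⧸ scal K k)) :
    u * v = v * u ∨ u * v = scalarU K (Fin (2 ^ k) → K) (-1) * (v * u) := by
  have h : cls (v * u) = cls (u * v) := by
    show QuotientGroup.mk' _ _ = QuotientGroup.mk' _ _
    rw [map_mul, map_mul]
    show cls v * cls u = cls u * cls v
    rw [hu, hv]
    exact congrArg Subtype.val (cls_comm h2 b a)
  obtain ⟨c, hc⟩ := cls_eq_iff.1 h
  have hsq : cls (1 : (Un K k)) = cls (u * u) := by
    show QuotientGroup.mk' _ _ = QuotientGroup.mk' _ _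
    rw [map_mul, map_one]
    show 1 = cls u * cls u
    rw [hu]
    exact (congrArg Subtype.val (cls_sq h2 a)).symm
  obtain ⟨d, hd⟩ := cls_eq_iff.1 hsq
  rw [mul_one] at hd
  have h4 : scalarU K (Fin (2 ^ k) → K) (c * c) * (v * (u * u)) = u * u * v := by
    calc scalarU K (Fin (2 ^ k) → K) (c * c) * (v * (u * u))
        = scalarU K (Fin (2 ^ k) → K) c * (scalarU K (Fin (2 ^ k) → K) c * (v * u)) * u := by
          rw [map_mul]; simp only [mul_assoc]
      _ = u * (scalarU K (Fin (2 ^ k) → K) c * (v * u)) := by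
          rw [← hc, ← mul_assoc, scalarU_comm, mul_assoc, mul_assoc, hc]
      _ = u * u * v := by rw [← hc, mul_assoc]
  have hcc : scalarU K (Fin (2 ^ k) → K) (c * c) = 1 := by
    rw [hd, ← scalarU_comm d v] at h4
    exact mul_eq_right.1 h4
  have hc2 : c = 1 ∨ c = -1 := by
    have h5 : c * c = 1 := scalarU_inj (hcc.trans (map_one _).symm)
    rcases mul_self_eq_one_iff.1 (by rw [← Units.val_mul, h5, Units.val_one] : (c : K) * c = 1)
      with e | e
    · exact Or.inl (Units.ext e)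
    · exact Or.inr (Units.ext (e.trans (by simp)))
  rcases hc2 with rfl | rfl
  · exact Or.inl (by rw [hc, map_one, one_mul])
  · exact Or.inr hc

include h2 in
theorem neg_ne_one (u : (Un K k)) : scalarU K (Fin (2 ^ k) → K) (-1) * u ≠ u := fun h => by
  have := congrArg Units.val (scalarU_inj ((mul_eq_right.1 h).trans (map_one _).symm))
  simp at this
  exact h2 (by linear_combination -this)

include h2 in
theorem com_iff (a b : ↥(Cls K tw k)) {u v : (Un K k)} (hu : cls u = (a : (Un K k) ⧸ scal K k))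
    (hv : cls v = (b : (Un K k) ⧸ scal K k)) : Com a b ↔ u * v = v * u := by
  refine ⟨fun h => h u v hu hv, fun h u' v' hu' hv' => ?_⟩
  obtain ⟨c, rfl⟩ := cls_eq_iff.1 (hu.trans hu'.symm)
  obtain ⟨d, rfl⟩ := cls_eq_iff.1 (hv.trans hv'.symm)
  rw [Commute.mul_mul_mul_comm (show Commute u (scalarU K (Fin (2 ^ k) → K) d) from (scalarU_comm d u).symm),
    Commute.mul_mul_mul_comm (show Commute v (scalarU K (Fin (2 ^ k) → K) c) from (scalarU_comm c v).symm),
    h, ← map_mul, ← map_mul, mul_comm c d]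

theorem com_symm {a b : ↥(Cls K tw k)} (h : Com a b) : Com b a := fun u v hu hv => (h v u hv hu).symm

include h2 in
theorem com_self (a : ↥(Cls K tw k)) : Com a a := by
  obtain ⟨u, -, hu⟩ := a.2
  exact (com_iff h2 a a hu hu).2 rfl

include h2 in
theorem com_mul (a b c : ↥(Cls K tw k)) : Com a (b * c) ↔ (Com a b ↔ Com a c) := by
  obtain ⟨u, -, hu⟩ := a.2
  obtain ⟨v, -, hv⟩ := b.2
  obtain ⟨w, -, hw⟩ := c.2
  have hvw : cls (v * w) = ((b * c : ↥(Cls K tw k)) : (Un K k) ⧸ scal K k) := by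
    rw [Subgroup.coe_mul, ← hv, ← hw]; exact map_mul _ _ _
  rw [com_iff h2 a b hu hv, com_iff h2 a c hu hw, com_iff h2 a _ hu hvw]
  have hsg : scalarU K (Fin (2 ^ k) → K) (-1) * scalarU K (Fin (2 ^ k) → K) (-1) = 1 := by
    rw [← map_mul]; simp
  rcases commute_or_neg h2 a b hu hv with e | e <;> rcases commute_or_neg h2 a c hu hw with e' | e'
  · have : u * (v * w) = v * w * u := by rw [← mul_assoc, e, mul_assoc, e', mul_assoc]
    simp [e, e', this]
  · have : u * (v * w) = scalarU K (Fin (2 ^ k) → K) (-1) * (v * w * u) := by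
      rw [← mul_assoc, e, mul_assoc, e', ← mul_assoc v, ← scalarU_comm, mul_assoc, mul_assoc]
    rw [this, e']
    simp [e, neg_ne_one h2]
  · have : u * (v * w) = scalarU K (Fin (2 ^ k) → K) (-1) * (v * w * u) := by
      rw [← mul_assoc, e, mul_assoc, mul_assoc, e', mul_assoc]
    rw [this, e]
    simp [e', neg_ne_one h2]
  · have : u * (v * w) = v * w * u := by
      rw [← mul_assoc, e, mul_assoc, mul_assoc, e', ← mul_assoc v, ← scalarU_comm, mul_assoc,
        ← mul_assoc, hsg, one_mul, mul_assoc]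
    simp [e, e', this, neg_ne_one h2]

include h2 in
theorem com_radical {a : ↥(Cls K tw k)} (h : ∀ b, Com a b) : a = 1 := by
  obtain ⟨m, rfl⟩ := idx_surjective h2 a
  suffices hm : (m : ℕ) = 0 by
    refine Subtype.ext ?_
    show cls (wordU h2 tw k m) = 1
    rw [hm]; simp [wordU, cls]
  refine Nat.eq_of_testBit_eq fun i => ?_
  rw [Nat.zero_testBit]
  rcases Nat.lt_or_ge i (2 * k) with hi | hi
  · by_contra hb
    have e := genU_word (tw := tw) h2 (partner ⟨i, hi⟩) m
    rw [partner_partner, show Nat.testBit m ((⟨i, hi⟩ : Fin (2 * k)) : ℕ) = true by simpa using hb,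
      show (sg true : Kˣ) = -1 from rfl] at e
    have hg : cls (genU h2 tw (partner (⟨i, hi⟩ : Fin (2 * k)))) ∈ Cls K tw k :=
      ⟨_, Subgroup.subset_closure (Or.inr ⟨_, rfl⟩), rfl⟩
    exact neg_ne_one h2 _ (e.symm.trans (h ⟨_, hg⟩ _ _ rfl rfl).symm)
  · exact Nat.testBit_lt_two_pow (m.2.trans_le (Nat.pow_le_pow_right (by norm_num) hi))

include h2 in
theorem card_cls : Nat.card ↥(Cls K tw k) = 2 ^ (2 * k) := by
  rw [← Nat.card_eq_of_bijective _ ⟨idx_injective (tw := tw) h2, idx_surjective h2⟩, Nat.card_fin]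

variable {Γ : Subgroup (Un K k)} (hΓ : ModelSetup (twisted := tw) Γ)

/-- Conjugation on classes. -/
def conjCls (hΓ : ModelSetup (twisted := tw) Γ) : ↥Γ →* MulAut ↥(Cls K tw k) where
  toFun g :=
    { toFun := fun q => ⟨cls (g : (Un K k)) * q * (cls (g : (Un K k)))⁻¹, by
        obtain ⟨a, ha, e⟩ := q.2
        refine ⟨(g : (Un K k)) * a * (g : (Un K k))⁻¹, hΓ.norm g g.2 a ha, ?_⟩
        rw [map_mul, map_mul, map_inv, e]⟩
      invFun := fun q => ⟨(cls (g : (Un K k)))⁻¹ * q * cls (g : (Un K k)), by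
        obtain ⟨a, ha, e⟩ := q.2
        refine ⟨(g : (Un K k))⁻¹ * a * (g : (Un K k)), ?_, ?_⟩
        · simpa using hΓ.norm (g : (Un K k))⁻¹ (Γ.inv_mem g.2) a ha
        · rw [map_mul, map_mul, map_inv, e]⟩
      left_inv := fun q => Subtype.ext (by show _ * (_ * _ * _) * _ = _; group)
      right_inv := fun q => Subtype.ext (by show _ * (_ * _ * _) * _ = _; group)
      map_mul' := fun p q => Subtype.ext (by show _ * (_ * _) * _ = (_ * _ * _) * (_ * _ * _); group) }
  map_one' := MulEquiv.ext fun q => Subtype.ext (by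
    show cls (1 : (Un K k)) * (q : (Un K k) ⧸ scal K k) * (cls (1 : (Un K k)))⁻¹ = q
    simp [cls])
  map_mul' g h := MulEquiv.ext fun q => Subtype.ext (by
    show cls ((g : (Un K k)) * (h : (Un K k))) * (q : (Un K k) ⧸ scal K k) * (cls ((g : (Un K k)) * (h : (Un K k))))⁻¹ =
      cls (g : (Un K k)) * (cls (h : (Un K k)) * (q : (Un K k) ⧸ scal K k) * (cls (h : (Un K k)))⁻¹) * (cls (g : (Un K k)))⁻¹
    simp only [cls, map_mul]
    group)

theorem coe_conjCls (g : ↥Γ) (q : ↥(Cls K tw k)) {u : (Un K k)} (hu : cls u = (q : (Un K k) ⧸ scal K k)) :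
    cls ((g : (Un K k)) * u * (g : (Un K k))⁻¹) = ((conjCls hΓ g q : ↥(Cls K tw k)) : (Un K k) ⧸ scal K k) := by
  show _ = cls (g : (Un K k)) * (q : (Un K k) ⧸ scal K k) * (cls (g : (Un K k)))⁻¹
  rw [← hu]
  simp [cls]

include h2 in
theorem com_conj (g : ↥Γ) (a b : ↥(Cls K tw k)) :
    Com (conjCls hΓ g a) (conjCls hΓ g b) ↔ Com a b := by
  obtain ⟨u, -, hu⟩ := a.2
  obtain ⟨v, -, hv⟩ := b.2
  rw [com_iff h2 a b hu hv, com_iff h2 _ _ (coe_conjCls hΓ g a hu) (coe_conjCls hΓ g b hv),
    conj_mul, conj_mul, mul_left_inj, mul_right_inj]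

include h2 hΓ in
theorem irr_cls (W : Subgroup ↥(Cls K tw k)) (hW : ∀ g : ↥Γ, ∀ a ∈ W, conjCls hΓ g a ∈ W) :
    W = ⊥ ∨ W = ⊤ := by
  let W' : Subgroup (Un K k) := (W.map (Cls K tw k).subtype).comap (QuotientGroup.mk' (scal K k))
  have hs : Set.range (scalarU K (Fin (2 ^ k) → K)) ⊆ (W' : Set (Un K k)) := by
    rintro _ ⟨c, rfl⟩
    show QuotientGroup.mk' _ _ ∈ W.map _
    rw [cls_scalar]
    exact one_mem _
  have hle : W' ≤ pauli K tw k := by
    intro u hu
    obtain ⟨q, -, hq⟩ := hu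
    obtain ⟨a, ha, e⟩ := q.2
    obtain ⟨c, rfl⟩ := cls_eq_iff.1 (e.trans hq : cls a = cls u)
    exact mul_mem (scalar_mem_pauli c) ha
  have hinv : ∀ g ∈ Γ, ∀ a ∈ W', g * a * g⁻¹ ∈ W' := by
    intro g hg a ha
    obtain ⟨q, hq, e⟩ := ha
    exact ⟨conjCls hΓ ⟨g, hg⟩ q, hW _ q hq, (coe_conjCls hΓ ⟨g, hg⟩ q e.symm).symm⟩
  rcases hΓ.minimal W' hs hle hinv with h | h
  · left
    refine (Subgroup.eq_bot_iff_forall W).2 fun q hq => Subtype.ext ?_
    obtain ⟨u, -, hu⟩ := q.2
    obtain ⟨c, hc⟩ := h u ⟨q, hq, hu.symm⟩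
    rw [← hu, ← hc]
    exact cls_scalar c
  · right
    refine (Subgroup.eq_top_iff' W).2 fun q => ?_
    obtain ⟨u, hu, e⟩ := q.2
    obtain ⟨q', hq', e'⟩ := (h.symm ▸ hu : u ∈ W')
    exact (Subtype.ext (e'.trans e) : q' = q) ▸ hq'

include hΓ in
theorem finite_setup : Finite ↥Γ := Nat.finite_of_card_ne_zero fun h => hΓ.coprime (by rw [h, Nat.cast_zero])

theorem isPGroup_of_pow {G : Type*} [Group G] {l : ℕ} (R : Subgroup G) (hR : ∀ r ∈ R, r ^ l = 1) :
    IsPGroup l ↥R :=
  fun r => ⟨1, Subtype.ext (by rw [pow_one]; exact hR r r.2)⟩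

theorem exists_torsion {G : Type*} [Group G] [Finite G] (A : Subgroup G) (hA : A.Normal)
    (hA0 : A ≠ ⊥) (hAc : IsMulCommutative ↥A) :
    ∃ (l : ℕ) (T : Subgroup G) (m : G), l.Prime ∧ l ∣ Nat.card G ∧ T.Normal ∧
      (∀ r ∈ T, r ^ l = 1) ∧ m ∈ T ∧ m ≠ 1 := by
  haveI := hAc
  obtain ⟨l, hl, hlA⟩ :=
    Nat.exists_prime_and_dvd (fun h : Nat.card ↥A = 1 => hA0 ((Subgroup.card_eq_one).1 h))
  haveI : Fact l.Prime := ⟨hl⟩
  let T : Subgroup G :=
    { carrier := {a | a ∈ A ∧ a ^ l = 1}
      one_mem' := ⟨A.one_mem, one_pow l⟩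
      mul_mem' := fun {x y} hx hy => ⟨A.mul_mem hx.1 hy.1, by
        have hc : Commute x y := congrArg Subtype.val (mul_comm' (⟨x, hx.1⟩ : ↥A) ⟨y, hy.1⟩)
        rw [hc.mul_pow, hx.2, hy.2, one_mul]⟩
      inv_mem' := fun {x} hx => ⟨A.inv_mem hx.1, by rw [inv_pow, hx.2, inv_one]⟩ }
  have hTn : T.Normal :=
    ⟨fun x hx g => ⟨hA.conj_mem x hx.1 g, by rw [conj_pow, hx.2, mul_one, mul_inv_cancel]⟩⟩
  obtain ⟨m₀, hm₀⟩ := exists_prime_orderOf_dvd_card' l hlA
  rw [← Subgroup.orderOf_coe] at hm₀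
  exact ⟨l, T, m₀, hl, hlA.trans (Subgroup.card_subgroup_dvd_card A), hTn, fun r hr => hr.2,
    ⟨m₀.2, hm₀ ▸ pow_orderOf_eq_one _⟩, fun h => hl.ne_one (hm₀.symm.trans (by rw [h, orderOf_one]))⟩

include h2 hΓ in
/-- An odd elementary abelian normal subgroup of the induced group, without fixed classes. -/
theorem exists_odd_normal (hk : 1 ≤ k) (h3 : (3 : K) = 0) :
    ∃ (l : ℕ) (R : Subgroup ↥(conjCls hΓ).range), l.Prime ∧ 5 ≤ l ∧ R.Normal ∧ R ≠ ⊥ ∧
      (∀ r ∈ R, r ^ l = 1) ∧
      ∀ q : ↥(Cls K tw k), (∀ r ∈ R, (r : MulAut ↥(Cls K tw k)) q = q) → q = 1 := by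
  classical
  haveI := finite_setup hΓ
  haveI : Group.IsSolvable ↥Γ := hΓ.solvable
  have hcard := card_cls (tw := tw) (k := k) h2
  haveI : Finite ↥(Cls K tw k) := Nat.finite_of_card_ne_zero (by rw [hcard]; exact (Nat.two_pow_pos _).ne')
  have h3H : ¬ 3 ∣ Nat.card ↥(conjCls hΓ).range := fun hd => hΓ.coprime (by
    obtain ⟨e, he⟩ := hd.trans (Subgroup.card_range_dvd _)
    rw [he, Nat.cast_mul]
    exact mul_eq_zero_of_left (by exact_mod_cast h3) _)
  haveI : Nontrivial ↥(conjCls hΓ).range := by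
    by_contra hH
    rw [not_nontrivial_iff_subsingleton] at hH
    haveI : Nontrivial ↥(Cls K tw k) := Finite.one_lt_card_iff_nontrivial.1 (by
      rw [hcard]; exact Nat.one_lt_two_pow (by omega))
    obtain ⟨q, hq⟩ := exists_ne (1 : ↥(Cls K tw k))
    have hfix : ∀ g : ↥Γ, ∀ a, conjCls hΓ g a = a := fun g a => by
      have : (⟨conjCls hΓ g, g, rfl⟩ : ↥(conjCls hΓ).range) = 1 := Subsingleton.elim _ _
      rw [show conjCls hΓ g = 1 from congrArg Subtype.val this]; rfl
    rcases irr_cls h2 hΓ (Subgroup.zpowers q) (fun g a ha => by rwa [hfix]) with h | h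
    · exact hq (Subgroup.mem_bot.1 (h ▸ Subgroup.mem_zpowers q))
    · have h5 : Nat.card ↥(Subgroup.zpowers q) = 2 ^ (2 * k) := by rw [h, Subgroup.card_top, hcard]
      rw [Nat.card_zpowers, orderOf_eq_prime (p := 2) (by rw [pow_two]; exact cls_sq h2 q) hq] at h5
      have : 2 ^ 2 ≤ 2 ^ (2 * k) := Nat.pow_le_pow_right (by norm_num) (by omega)
      omega
  have hsolv : Group.IsSolvable ↥(conjCls hΓ).range :=
    Group.isSolvable_of_surjective (conjCls hΓ).rangeRestrict_surjective
  obtain ⟨A, hA, hA0, hAc⟩ : ∃ A : Subgroup ↥(conjCls hΓ).range,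
      A.Normal ∧ A ≠ ⊥ ∧ IsMulCommutative ↥A := by
    obtain ⟨n, hn⟩ := (Group.isSolvable_def ↥(conjCls hΓ).range).1 hsolv
    have hex : ∃ n, derivedSeries ↥(conjCls hΓ).range n = ⊥ := ⟨n, hn⟩
    have h0 : Nat.find hex ≠ 0 := fun h => by
      have := Nat.find_spec hex
      rw [h, derivedSeries_zero] at this
      exact top_ne_bot this
    obtain ⟨m, hm⟩ := Nat.exists_eq_succ_of_ne_zero h0
    refine ⟨derivedSeries _ m, derivedSeries_normal _ m, Nat.find_min hex (by omega), ?_⟩
    have h1 := Nat.find_spec hex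
    rw [hm, Nat.succ_eq_add_one, derivedSeries_succ] at h1
    exact ⟨⟨fun a b => Subtype.ext (commutatorElement_eq_one_iff_mul_comm.1
      (Subgroup.mem_bot.1 (h1 ▸ Subgroup.commutator_mem_commutator a.2 b.2)))⟩⟩
  obtain ⟨l, T, m₁, hl, hlH, hTn, hTl, hmT, hm⟩ := exists_torsion A hA hA0 hAc
  haveI : Fact l.Prime := ⟨hl⟩
  let W : Subgroup ↥(Cls K tw k) :=
    { carrier := {q | ∀ r ∈ T, (r : MulAut ↥(Cls K tw k)) q = q}
      one_mem' := fun r _ => map_one (r : MulAut ↥(Cls K tw k))
      mul_mem' := fun {x y} hx hy r hr => by rw [map_mul, hx r hr, hy r hr]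
      inv_mem' := fun {x} hx r hr => by rw [map_inv, hx r hr] }
  have hW : W = ⊥ := (irr_cls h2 hΓ W fun g a ha r hr => by
    let g' : ↥(conjCls hΓ).range := ⟨conjCls hΓ g, g, rfl⟩
    have h1 := ha (g'⁻¹ * r * g') (by simpa using hTn.conj_mem r hr g'⁻¹)
    have h2' := congrArg (conjCls hΓ g) h1
    simpa [g', MulAut.mul_apply] using h2').resolve_right fun htop => hm (Subtype.ext
      (MulEquiv.ext fun q => (show q ∈ W from htop ▸ Subgroup.mem_top q) _ hmT))
  have hl3 : l ≠ 3 := fun h => h3H (h ▸ hlH)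
  have hl2 : l ≠ 2 := by
    rintro rfl
    have hpT : IsPGroup 2 ↥T := isPGroup_of_pow T hTl
    obtain ⟨a, ha, ha1⟩ := hpT.exists_fixed_point_of_prime_dvd_card_of_fixed_point
      ↥(Cls K tw k) (by rw [hcard]; exact dvd_pow_self 2 (by omega))
      (a := 1) (fun t => map_one ((t : ↥(conjCls hΓ).range) : MulAut ↥(Cls K tw k)))
    exact ha1 (Subgroup.mem_bot.1 (hW ▸ (show a ∈ W from fun r hr => ha ⟨r, hr⟩))).symm
  refine ⟨l, T, hl, ?_, hTn, fun h => hm (Subgroup.mem_bot.1 (h ▸ hmT)), hTl,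
    fun q hq => Subgroup.mem_bot.1 (hW ▸ (show q ∈ W from hq))⟩
  have := hl.two_le
  have h4 : l ≠ 4 := fun h => absurd (h ▸ hl) (by norm_num)
  omega

/-- A prime order group without fixed classes divides the size of every invariant set. -/
theorem dvd_card_invariant {l : ℕ} [Fact l.Prime] {R : Subgroup ↥(conjCls hΓ).range}
    [Finite ↥(Cls K tw k)]
    (hR : ∀ r ∈ R, r ^ l = 1)
    (hfix : ∀ q : ↥(Cls K tw k), (∀ r ∈ R, (r : MulAut ↥(Cls K tw k)) q = q) → q = 1)
    (S : Set ↥(Cls K tw k)) (h1 : (1 : ↥(Cls K tw k)) ∉ S)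
    (hS : ∀ r ∈ R, ∀ q ∈ S, (r : MulAut ↥(Cls K tw k)) q ∈ S) : l ∣ Nat.card ↥S := by
  have hp : IsPGroup l ↥R := isPGroup_of_pow R hR
  let B : SubMulAction ↥R ↥(Cls K tw k) := ⟨S, fun r q hq => hS r r.2 q hq⟩
  by_contra hnd
  obtain ⟨⟨q, hq⟩, hqf⟩ := hp.nonempty_fixed_point_of_prime_not_dvd_card ↥B hnd
  refine h1 (hfix q (fun r hr => congrArg Subtype.val (hqf ⟨r, hr⟩)) ▸ hq)

/-- The parity of the partners of `j` selected by `n` in a list. -/
def negAux (tw : Bool) (k n : ℕ) : List (Fin (2 * k)) → Bool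
  | [] => false
  | j :: l =>
    if Nat.testBit n (j : ℕ) then
      xor (xor (tw && (j : ℕ) / 2 == 0)
        (l.foldr (fun (i : Fin (2 * k)) acc => xor (Nat.testBit n (i : ℕ) && decide (i = partner j)) acc) false))
        (negAux tw k n l)
    else negAux tw k n l

/-- The word squares to minus one. -/
def sqNeg (tw : Bool) (k n : ℕ) : Bool := negAux tw k n (List.finRange (2 * k))

theorem sg_mul_self (b : Bool) : (sg b * sg b : Kˣ) = 1 := by cases b <;> simp [sg]

theorem prod_sq (h3 : (3 : K) = 0) (n : ℕ) (l : List (Fin (2 * k))) :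
    (l.map fun (i : Fin (2 * k)) => if Nat.testBit n (i : ℕ) then genU h2 tw i else 1).prod *
        (l.map fun (i : Fin (2 * k)) => if Nat.testBit n (i : ℕ) then genU h2 tw i else 1).prod =
      scalarU K (Fin (2 ^ k) → K) (sg (negAux tw k n l)) := by
  induction l with
  | nil => simp [negAux, sg]
  | cons j l ih =>
    rw [List.map_cons, List.prod_cons, negAux]
    by_cases hb : Nat.testBit n (j : ℕ)
    · rw [if_pos hb, if_pos hb]
      set P := (l.map fun (i : Fin (2 * k)) => if Nat.testBit n (i : ℕ) then genU h2 tw i else 1).prod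
        with hP
      set s : Bool := l.foldr
        (fun (i : Fin (2 * k)) acc => xor (Nat.testBit n (i : ℕ) && decide (i = partner j)) acc) false
      have hswap : P * genU h2 tw j =
          scalarU K (Fin (2 ^ k) → K) (sg s) * (genU h2 tw j * P) := by
        rw [hP, genU_list, ← mul_assoc, ← map_mul, sg_mul_self, map_one, one_mul]
      have hsq : genU h2 tw j * genU h2 tw j =
          scalarU K (Fin (2 ^ k) → K) (sg (tw && (j : ℕ) / 2 == 0)) := by
        refine Units.ext ?_
        rw [coe_scalarU, Units.val_mul, coe_genU, gen_mul_self]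
        congr 1
        simp only [genSq, sg]
        split_ifs <;> simp
        linear_combination h3
      calc genU h2 tw j * P * (genU h2 tw j * P)
          = genU h2 tw j * (P * genU h2 tw j) * P := by simp only [mul_assoc]
        _ = scalarU K (Fin (2 ^ k) → K) (sg s) * ((genU h2 tw j * genU h2 tw j) * (P * P)) := by
            rw [hswap, ← mul_assoc (genU h2 tw j), ← scalarU_comm]
            simp only [mul_assoc]
        _ = scalarU K (Fin (2 ^ k) → K) (sg (xor (xor (tw && (j : ℕ) / 2 == 0) s) (negAux tw k n l))) := by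
            rw [hsq, ih, ← map_mul, ← map_mul, sg_xor, sg_xor, mul_left_comm, mul_assoc]
    · rw [if_neg hb, if_neg hb, one_mul, ih]

include hΓ h2 in
/-- The prime divides the number of classes and the number of singular ones. -/
theorem exists_dvd (hK : Nat.card K = 3) (hk : 1 ≤ k) :
    ∃ (l : ℕ) (R : Subgroup ↥(conjCls hΓ).range), l.Prime ∧ 5 ≤ l ∧ R.Normal ∧ R ≠ ⊥ ∧
      (∀ r ∈ R, r ^ l = 1) ∧
      (∀ q : ↥(Cls K tw k), (∀ r ∈ R, (r : MulAut ↥(Cls K tw k)) q = q) → q = 1) ∧
      l ∣ 2 ^ (2 * k) - 1 ∧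
      l ∣ ((Finset.univ : Finset (Fin (2 ^ (2 * k)))).filter
        fun (n : Fin (2 ^ (2 * k))) => (n : ℕ) ≠ 0 ∧ sqNeg tw k n = false).card := by
  classical
  haveI : Finite K := Nat.finite_of_card_ne_zero (by omega)
  haveI : Fintype K := Fintype.ofFinite K
  have h3 : (3 : K) = 0 := by
    have := Nat.cast_card_eq_zero K
    rw [← Nat.card_eq_fintype_card, hK] at this
    exact_mod_cast this
  obtain ⟨l, R, hl, hl5, hRn, hR0, hR, hfix⟩ := exists_odd_normal h2 hΓ hk h3
  haveI : Fact l.Prime := ⟨hl⟩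
  have hcard := card_cls (tw := tw) (k := k) h2
  haveI : Finite ↥(Cls K tw k) :=
    Nat.finite_of_card_ne_zero (by rw [hcard]; exact (Nat.two_pow_pos _).ne')
  refine ⟨l, R, hl, hl5, hRn, hR0, hR, hfix, ?_, ?_⟩
  · have hd1 := dvd_card_invariant hΓ hR hfix {q | q ≠ 1} (fun h => h rfl) fun r _ q hq e =>
      hq ((r : MulAut ↥(Cls K tw k)).injective (e.trans (map_one _).symm))
    haveI := Fintype.ofFinite ↥(Cls K tw k)
    rw [Nat.card_eq_fintype_card] at hcard hd1
    rwa [Set.card_ne_eq, hcard] at hd1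
  let S : Set ↥(Cls K tw k) := {q | q ≠ 1 ∧ ∃ u : (Un K k), cls u = (q : (Un K k) ⧸ scal K k) ∧ u * u = 1}
  have hd := dvd_card_invariant hΓ hR hfix S (fun h => h.1 rfl) fun r _ q hq => by
    obtain ⟨g, hg⟩ := (r : ↥(conjCls hΓ).range).2
    rw [← hg]
    obtain ⟨hq1, u, hu, hu2⟩ := hq
    refine ⟨fun e => hq1 ((conjCls hΓ g).injective (e.trans (map_one _).symm)),
      (g : (Un K k)) * u * (g : (Un K k))⁻¹, coe_conjCls hΓ g q hu, ?_⟩
    rw [conj_mul, hu2, mul_one, mul_inv_cancel]
  have hsq1 : ∀ c : Kˣ, c * c = 1 := fun c => by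
    refine Units.ext ?_
    have := FiniteField.pow_card_sub_one_eq_one (c : K) c.ne_zero
    rw [← Nat.card_eq_fintype_card, hK] at this
    simpa [pow_two] using this
  have hiff : ∀ n : Fin (2 ^ (2 * k)), ((n : ℕ) ≠ 0 ∧ sqNeg tw k n = false) ↔ idx h2 tw k n ∈ S := by
    intro n
    have hzero : idx h2 tw k n = 1 ↔ (n : ℕ) = 0 := by
      refine ⟨fun e => eq_zero_of_cls h2 n.2 (congrArg Subtype.val e), fun e => Subtype.ext ?_⟩
      show cls (wordU h2 tw k n) = 1
      rw [e]; simp [wordU, cls]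
    have hw : ∀ c : Kˣ, (scalarU K (Fin (2 ^ k) → K) c * wordU h2 tw k n) *
        (scalarU K (Fin (2 ^ k) → K) c * wordU h2 tw k n) =
        scalarU K (Fin (2 ^ k) → K) (sg (sqNeg tw k n)) := fun c => by
      rw [scalarU_comm c (wordU h2 tw k n), mul_assoc, ← mul_assoc (scalarU K _ c), scalarU_comm c,
        mul_assoc, ← map_mul, hsq1, map_one, mul_one]
      exact prod_sq h2 h3 n _
    refine and_congr (not_congr hzero).symm ⟨fun hn => ?_, ?_⟩
    · refine ⟨scalarU K (Fin (2 ^ k) → K) 1 * wordU h2 tw k n, ?_, ?_⟩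
      · rw [map_one, one_mul]; rfl
      · rw [hw, hn]; exact map_one _
    · rintro ⟨u, hu, hu2⟩
      obtain ⟨c, rfl⟩ := cls_eq_iff.1 hu.symm
      rw [hw] at hu2
      by_contra hn
      rw [Bool.eq_true_of_not_eq_false hn] at hu2
      have h5 := congrArg Units.val (scalarU_inj (hu2.trans (map_one _).symm))
      simp [sg] at h5
      exact h2 (by linear_combination -h5)
  convert hd using 1
  rw [← Nat.card_eq_finsetCard]
  refine (Nat.card_congr (Equiv.subtypeEquiv (Equiv.ofBijective _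
    ⟨idx_injective (tw := tw) h2, idx_surjective h2⟩) fun n => ?_))
  exact Iff.trans (by simp) (hiff n)

theorem two_ne_zero_of_card {K : Type} [Field K] (hK : Nat.card K = 3) : (2 : K) ≠ 0 := by
  haveI : Finite K := Nat.finite_of_card_ne_zero (by omega)
  haveI : Fintype K := Fintype.ofFinite K
  intro h
  have := Nat.cast_card_eq_zero K
  rw [← Nat.card_eq_fintype_card, hK] at this
  refine one_ne_zero (α := K) ?_
  push_cast at this
  linear_combination this - h

theorem eq_absurd_of_dvd {l : ℕ} (hl : l.Prime) (hl5 : 5 ≤ l) {a b : ℕ} (ha : l ∣ a) (hb : l ∣ b)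
    {e : ℕ} (hab : Nat.gcd a b = 3 ^ e) : False := by
  have := hl.dvd_of_dvd_pow (hab ▸ Nat.dvd_gcd ha hb)
  have := Nat.le_of_dvd (by norm_num) this
  omega

/-- The untwisted model of degree four does not occur over three elements. -/
theorem false_two {K : Type} [Field K] (hK : Nat.card K = 3)
    {Γ : Subgroup (Module.End K (Fin (2 ^ 2) → K))ˣ} (hΓ : ModelSetup (twisted := false) (k := 2) Γ) :
    False := by
  obtain ⟨l, -, hl, hl5, -, -, -, -, h1, h2'⟩ :=
    exists_dvd (two_ne_zero_of_card hK) hΓ hK (by norm_num)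
  exact eq_absurd_of_dvd hl hl5 h1 h2' (e := 1) (by decide +kernel)

/-- The twisted model of degree eight does not occur over three elements. -/
theorem false_three_twisted {K : Type} [Field K] (hK : Nat.card K = 3)
    {Γ : Subgroup (Module.End K (Fin (2 ^ 3) → K))ˣ} (hΓ : ModelSetup (twisted := true) (k := 3) Γ) :
    False := by
  obtain ⟨l, -, hl, hl5, -, -, -, -, h1, h2'⟩ :=
    exists_dvd (two_ne_zero_of_card hK) hΓ hK (by norm_num)
  exact eq_absurd_of_dvd hl hl5 h1 h2' (e := 2) (by decide +kernel)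

/-- The untwisted model of degree eight: no element of the group is an involution fixing sixteen
classes, so a certificate for the normaliser gives a base. -/
theorem pair_three {K : Type} [Field K] (hK : Nat.card K = 3)
    {Γ : Subgroup (Module.End K (Fin (2 ^ 3) → K))ˣ} (hΓ : ModelSetup (twisted := false) (k := 3) Γ)
    (cert : ∃ x y : Fin (2 ^ 3) → K, ∀ g, NormModel K false 3 g →
      (g : Module.End K (Fin (2 ^ 3) → K)) x = x → (g : Module.End K (Fin (2 ^ 3) → K)) y = y →
      g = 1 ∨ (g * g = 1 ∧ Nat.card {n : Fin (2 ^ (2 * 3)) // ∃ c : K,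
        (g : Module.End K (Fin (2 ^ 3) → K)) * word K false 3 n =
          c • (word K false 3 n * (g : Module.End K (Fin (2 ^ 3) → K)))} = 16)) :
    ∃ x y : Fin (2 ^ 3) → K, ∀ g ∈ Γ, (g : Module.End K (Fin (2 ^ 3) → K)) x = x →
      (g : Module.End K (Fin (2 ^ 3) → K)) y = y → g = 1 := by
  classical
  have h2 := two_ne_zero_of_card hK
  obtain ⟨x, y, hxy⟩ := cert
  refine ⟨x, y, fun g hg hgx hgy => (hxy g (hΓ.normModel g hg) hgx hgy).resolve_right ?_⟩
  rintro ⟨hgg, h16⟩
  obtain ⟨l, R, hl, hl5, hRn, hR0, hR, hfix, h63, h35⟩ := exists_dvd h2 hΓ hK (by norm_num)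
  obtain rfl : l = 7 := by
    have h7 : l ∣ 7 := by
      have := Nat.dvd_gcd h63 h35
      rwa [show Nat.gcd _ _ = 7 by decide +kernel] at this
    exact (Nat.prime_dvd_prime_iff_eq hl (by norm_num)).1 h7
  haveI : Fact (Nat.Prime 7) := ⟨by norm_num⟩
  have hcard := card_cls (tw := false) (k := 3) h2
  haveI : Finite ↥(Cls K false 3) := Nat.finite_of_card_ne_zero (by rw [hcard]; norm_num)
  let s : ↥(conjCls hΓ).range := ⟨conjCls hΓ ⟨g, hg⟩, ⟨g, hg⟩, rfl⟩
  have hss : s * s = 1 := Subtype.ext (by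
    show conjCls hΓ ⟨g, hg⟩ * conjCls hΓ ⟨g, hg⟩ = 1
    rw [← map_mul, show (⟨g, hg⟩ * ⟨g, hg⟩ : ↥Γ) = 1 from Subtype.ext hgg, map_one])
  let F : Subgroup ↥(Cls K false 3) :=
    (s : MulAut ↥(Cls K false 3)).toMonoidHom.eqLocus (MonoidHom.id _)
  have hmemF : ∀ q, q ∈ F ↔ (s : MulAut ↥(Cls K false 3)) q = q := fun q => Iff.rfl
  have hF : Nat.card ↥F = 16 := by
    rw [← h16]
    refine (Nat.card_congr (Equiv.subtypeEquiv (Equiv.ofBijective _
      ⟨idx_injective (tw := false) h2, idx_surjective h2⟩) fun n => ?_)).symm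
    show _ ↔ conjCls hΓ ⟨g, hg⟩ (idx h2 false 3 n) = idx h2 false 3 n
    rw [Subtype.ext_iff, ← coe_conjCls hΓ ⟨g, hg⟩ (idx h2 false 3 n) (u := wordU h2 false 3 n) rfl]
    show _ ↔ cls (g * wordU h2 false 3 n * g⁻¹) = cls (wordU h2 false 3 n)
    rw [eq_comm (a := cls _), cls_eq_iff]
    constructor
    · rintro ⟨c, hc⟩
      have hc0 : c ≠ 0 := fun h0 => by
        rw [h0, zero_smul, ← coe_wordU h2, ← Units.val_mul] at hc
        exact Units.ne_zero _ hc
      refine ⟨Units.mk0 c hc0, ?_⟩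
      rw [mul_inv_eq_iff_eq_mul]
      refine Units.ext ?_
      rw [Units.val_mul, Units.val_mul, Units.val_mul, coe_wordU, coe_scalarU, Units.val_mk0,
        smul_mul_assoc, one_mul, smul_mul_assoc]
      exact hc
    · rintro ⟨c, hc⟩
      refine ⟨(c : K), ?_⟩
      rw [mul_inv_eq_iff_eq_mul] at hc
      have := congrArg Units.val hc
      rwa [Units.val_mul, Units.val_mul, Units.val_mul, coe_wordU, coe_scalarU, smul_mul_assoc,
        one_mul, smul_mul_assoc] at this
  -- an element of `R` inverted by the involution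
  obtain ⟨r, hrR, hr1, hsr⟩ : ∃ r ∈ R, r ≠ 1 ∧ s * r * s = r⁻¹ := by
    by_cases hcom : ∀ r ∈ R, s * r = r * s
    · exfalso
      have h7 := dvd_card_invariant hΓ hR hfix ((F : Set _) \ {1}) (fun h => h.2 rfl)
        fun r hr q hq => ⟨by
          rw [SetLike.mem_coe, hmemF]
          calc (s : MulAut ↥(Cls K false 3)) ((r : MulAut ↥(Cls K false 3)) q)
              = ((s * r : ↥(conjCls hΓ).range) : MulAut ↥(Cls K false 3)) q := rfl
            _ = (r : MulAut ↥(Cls K false 3)) ((s : MulAut ↥(Cls K false 3)) q) := by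
                rw [hcom r hr]; rfl
            _ = _ := by rw [(hmemF q).1 hq.1],
          fun e => hq.2 (by
            simpa using (r : MulAut ↥(Cls K false 3)).injective (e.trans (map_one _).symm))⟩
      haveI := Fintype.ofFinite ↥(Cls K false 3)
      rw [Nat.card_coe_set_eq, Set.ncard_sdiff_singleton_of_mem (one_mem F),
        ← Nat.card_coe_set_eq, SetLike.coe_sort_coe, hF] at h7
      norm_num at h7
    push Not at hcom
    obtain ⟨r, hr, hne⟩ := hcom
    have hsinv : s⁻¹ = s := inv_eq_of_mul_eq_one_right hss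
    refine ⟨r⁻¹ * (s * r * s), R.mul_mem (R.inv_mem hr) ?_, fun e => hne ?_, ?_⟩
    · have := hRn.conj_mem r hr s
      rwa [hsinv] at this
    · have e' : s * r * s = r := (inv_mul_eq_one.1 e).symm
      calc s * r = s * r * (s * s) := by rw [hss, mul_one]
        _ = r * s := by rw [← mul_assoc, e']
    · rw [mul_inv_rev, mul_inv_rev, mul_inv_rev, hsinv, inv_inv]
      calc s * (r⁻¹ * (s * r * s)) * s = s * r⁻¹ * s * r * (s * s) := by simp only [mul_assoc]
        _ = _ := by rw [hss, mul_one]; simp only [mul_assoc]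
  let C : Subgroup ↥(Cls K false 3) :=
    (r : MulAut ↥(Cls K false 3)).toMonoidHom.eqLocus (MonoidHom.id _)
  have hmemC : ∀ q, q ∈ C ↔ (r : MulAut ↥(Cls K false 3)) q = q := fun q => Iff.rfl
  have hrpow : r ^ 7 = 1 := hR r hrR
  let F' : Subgroup ↥(Cls K false 3) := F.map (r : MulAut ↥(Cls K false 3)).toMonoidHom
  have hsub : F ⊓ F' ≤ C := by
    rintro q ⟨hq, q', hq', rfl⟩
    rw [hmemC]
    set a := (r : MulAut ↥(Cls K false 3)) q' with ha
    have e1 : ((r * s * r⁻¹ * s : ↥(conjCls hΓ).range) : MulAut ↥(Cls K false 3)) a = a := by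
      show (r : MulAut ↥(Cls K false 3)) ((s : MulAut ↥(Cls K false 3))
        ((r : MulAut ↥(Cls K false 3))⁻¹ ((s : MulAut ↥(Cls K false 3)) a))) = a
      rw [show (s : MulAut ↥(Cls K false 3)) a = a from (hmemF _).1 hq, ha,
        MulAut.inv_apply_self, (hmemF q').1 hq']
    have e2 : r * s * r⁻¹ * s = r * r := by
      calc r * s * r⁻¹ * s = r * (s * r⁻¹ * s) := by simp only [mul_assoc]
        _ = r * r := by
          rw [← hsr]
          simp only [← mul_assoc, hss, one_mul]
          rw [mul_assoc r r, mul_assoc r, mul_assoc, hss, mul_one]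
    rw [e2] at e1
    have hmem : r * r ∈ (stabilizer (MulAut ↥(Cls K false 3)) a).comap (Subgroup.subtype _) := e1
    have h8 := pow_mem hmem 4
    rw [show (r * r) ^ 4 = r by
      rw [← pow_two, ← pow_mul, show 2 * 4 = 7 + 1 from rfl, pow_add, hrpow, one_mul, pow_one]] at h8
    exact h8
  have hC4 : 4 ≤ Nat.card ↥C := by
    have hinter : 4 ≤ Nat.card ↥(F ⊓ F' : Subgroup ↥(Cls K false 3)) := by
      have hF' : Nat.card ↥F' = 16 := by
        rw [← hF]; exact (Nat.card_congr (F.equivMapOfInjective _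
          (r : MulAut ↥(Cls K false 3)).injective).toEquiv).symm
      have h := Subgroup.card_mul_index (F ⊓ F')
      have h4 : (F ⊓ F').index ≤ F.index * F'.index := Subgroup.index_inf_le
      have hFi := Subgroup.card_mul_index F
      have hFi' := Subgroup.card_mul_index F'
      rw [hF, hcard] at hFi
      rw [hF', hcard] at hFi'
      rw [hcard] at h
      have e1 : F.index = 4 := by omega
      have e2 : F'.index = 4 := by omega
      rw [e1, e2] at h4
      by_contra hlt
      have h5 := Nat.mul_le_mul (Nat.le_of_lt_succ (Nat.lt_of_not_le hlt)) h4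
      rw [h] at h5
      norm_num at h5
    exact hinter.trans (Nat.card_le_card_of_injective _ (Subgroup.inclusion_injective hsub))
  have hC8 : Nat.card ↥C = 8 := by
    have hp : IsPGroup 7 ↥(Subgroup.zpowers r) := fun t => ⟨1, by
      obtain ⟨i, hi⟩ := Subgroup.mem_zpowers_iff.1 t.2
      refine Subtype.ext ?_
      show (t : ↥(conjCls hΓ).range) ^ (7 ^ 1) = 1
      rw [← hi, pow_one, ← zpow_natCast, zpow_comm, zpow_natCast, hrpow, one_zpow]⟩
    have hm := hp.card_modEq_card_fixedPoints (α := ↥(Cls K false 3))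
    have he : fixedPoints ↥(Subgroup.zpowers r) ↥(Cls K false 3) = (C : Set _) := by
      ext a
      refine ⟨fun ha => ha ⟨r, Subgroup.mem_zpowers r⟩, fun ha t => ?_⟩
      exact (Subgroup.zpowers_le (H := (stabilizer (MulAut ↥(Cls K false 3)) a).comap
        (Subgroup.subtype _))).2 ha t.2
    rw [he, hcard] at hm
    change _ ≡ Nat.card ↥C [MOD 7] at hm
    obtain ⟨c, hc6, hc⟩ := (Nat.dvd_prime_pow Nat.prime_two).1 (hcard ▸ C.card_subgroup_dvd_card)
    have hne : c ≠ 6 := fun e => hr1 (Subtype.ext (MulEquiv.ext fun q =>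
      (hmemC q).1 (Subgroup.eq_top_of_card_eq C (by rw [hc, hcard, e]) ▸ Subgroup.mem_top q)))
    rw [hc] at hm hC4 ⊢
    change c ≤ 6 at hc6
    interval_cases c <;> first
      | rfl
      | exact (hne rfl).elim
      | (exfalso; norm_num at hC4; done)
      | exact absurd hm (by simp [Nat.ModEq])
      | exact absurd rfl hne
  -- the commutation form is non-degenerate on `C`
  obtain ⟨g', hg'⟩ := (r : ↥(conjCls hΓ).range).2
  have hnd : ∀ n ∈ C, (∀ c ∈ C, Com n c) → n = 1 := by
    intro n hn hnc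
    refine com_radical h2 fun z => ?_
    have hz : ∀ i : ℕ, Com n (((r : MulAut ↥(Cls K false 3)) ^ i) z) ↔ Com n z := by
      intro i
      induction i with
      | zero => rfl
      | succ i ih =>
        rw [pow_succ' (r : MulAut ↥(Cls K false 3)) i, MulAut.mul_apply, ← ih]
        conv_lhs => rw [← (hmemC n).1 hn, ← hg']
        rw [← hg']
        exact com_conj h2 hΓ g' _ _
    let Pr : ℕ → ↥(Cls K false 3) := fun j =>
      ((List.range j).map fun i => ((r : MulAut ↥(Cls K false 3)) ^ i) z).prod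
    have hpar : ∀ j, Com n (Pr j) ↔ (Com n z ∨ Even j) := by
      intro j
      induction j with
      | zero =>
        simp only [Pr, List.range_zero, List.map_nil, List.prod_nil]
        exact iff_of_true (by
          have := com_self h2 n
          have h' := (com_mul h2 n n n).2 Iff.rfl
          rwa [cls_sq h2] at h') (Or.inr ⟨0, rfl⟩)
      | succ j ih =>
        simp only [Pr, List.range_succ, List.map_append, List.prod_append, List.map_cons,
          List.map_nil, List.prod_singleton]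
        rw [com_mul h2, hz, Nat.even_add_one]
        change (Com n (Pr j) ↔ _) ↔ _
        rw [ih]
        tauto
    have hPr : Pr 7 ∈ C := by
      rw [hmemC]
      have h7 : ((r : MulAut ↥(Cls K false 3)) ^ 7) z = z := by
        rw [← SubmonoidClass.coe_pow, hrpow]; rfl
      simp only [Pr, map_list_prod, List.map_map]
      simp only [List.range_succ, List.range_zero, List.nil_append, List.map_append, List.map_cons,
        List.map_nil, List.prod_append, List.prod_cons, List.prod_nil, Function.comp_apply,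
        mul_one]
      have hs : ∀ i, (r : MulAut ↥(Cls K false 3)) (((r : MulAut ↥(Cls K false 3)) ^ i) z) =
          ((r : MulAut ↥(Cls K false 3)) ^ (i + 1)) z := fun i => by
        rw [pow_succ' (r : MulAut ↥(Cls K false 3)) i, MulAut.mul_apply]
      rw [hs 0, hs 1, hs 2, hs 3, hs 4, hs 5, hs 6, h7, cls_comm h2 _ z]
      simp [mul_assoc]
    exact ((hpar 7).1 (hnc _ hPr)).resolve_right (by decide)
  -- an alternating form on eight points is degenerate
  obtain ⟨a, haC, ha1⟩ : ∃ a ∈ C, a ≠ 1 := by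
    refine C.bot_or_exists_ne_one.resolve_left fun e => ?_
    rw [e, Subgroup.card_bot] at hC8
    norm_num at hC8
  obtain ⟨b, hbC, hab⟩ : ∃ b ∈ C, ¬ Com a b := by
    by_contra hall
    push Not at hall
    exact ha1 (hnd a haC hall)
  haveI := Fintype.ofFinite ↥C
  obtain ⟨p, q, hpq, he⟩ := Fintype.exists_ne_map_eq_of_card_lt
    (fun c : ↥C => (decide (Com a (c : ↥(Cls K false 3))), decide (Com b (c : ↥(Cls K false 3)))))
    (by rw [← Nat.card_eq_fintype_card (α := ↥C), hC8]; simp)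
  simp only [Prod.mk.injEq, decide_eq_decide] at he
  set z : ↥(Cls K false 3) := (p : ↥(Cls K false 3)) * q with hz
  have hza : Com a z := (com_mul h2 _ _ _).2 he.1
  have hzb : Com b z := (com_mul h2 _ _ _).2 he.2
  have hz1 : z ≠ 1 := fun e => hpq (Subtype.ext (by
    have := congrArg (· * (q : ↥(Cls K false 3))) e
    simpa [hz, mul_assoc, cls_sq h2] using this))
  let Z : Subgroup ↥(Cls K false 3) :=
    { carrier := {c | c ∈ C ∧ Com z c}
      one_mem' := ⟨C.one_mem, by
        have h' := (com_mul h2 z z z).2 Iff.rfl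
        rwa [cls_sq h2] at h'⟩
      mul_mem' := fun {u v} hu hv => ⟨C.mul_mem hu.1 hv.1, (com_mul h2 _ _ _).2 (iff_of_true hu.2 hv.2)⟩
      inv_mem' := fun {u} hu => by
        rw [show u⁻¹ = u from inv_eq_of_mul_eq_one_right (cls_sq h2 u)]; exact hu }
  have hzC : z ∈ C := C.mul_mem p.2 q.2
  have hZle : Z ≤ C := fun c hc => hc.1
  have hb1 : b ≠ 1 := fun e => hab (by
    have h' := (com_mul h2 a a a).2 Iff.rfl
    rwa [cls_sq h2, ← e] at h')
  have hfive : 5 ≤ Nat.card ↥Z := by
    have hnab : ¬ Com a (a * b) := fun e => hab (((com_mul h2 a a b).1 e).1 (com_self h2 a))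
    let em : Fin 5 → ↥Z := ![1, ⟨a, haC, com_symm hza⟩, ⟨b, hbC, com_symm hzb⟩,
      ⟨a * b, C.mul_mem haC hbC, (com_mul h2 _ _ _).2 (iff_of_true (com_symm hza) (com_symm hzb))⟩,
      ⟨z, hzC, com_self h2 z⟩]
    have hem : Function.Injective em := by
      have hab' : a ≠ b := fun e => hab (e ▸ com_self h2 a)
      have n1 : a * b ≠ 1 := fun e => hab' (mul_eq_one_iff_eq_inv.1 e ▸
        inv_eq_of_mul_eq_one_right (cls_sq h2 b))
      have n2 : a * b ≠ a := fun e => hb1 (mul_eq_left.1 e)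
      have n3 : a * b ≠ b := fun e => ha1 (mul_eq_right.1 e)
      have n4 : z ≠ a := fun e => hab (com_symm (e ▸ hzb))
      have n5 : z ≠ b := fun e => hab (e ▸ hza)
      have n6 : z ≠ a * b := fun e => hnab (e ▸ hza)
      intro i j hij
      have := congrArg Subtype.val hij
      fin_cases i <;> fin_cases j
      all_goals first
        | rfl
        | (exfalso; simp [em] at this <;>
            first
              | exact ha1 this | exact ha1 this.symm | exact hb1 this | exact hb1 this.symm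
              | exact n1 this | exact n1 this.symm | exact hz1 this | exact hz1 this.symm
              | exact hab' this | exact hab' this.symm | exact n2 this | exact n2 this.symm
              | exact n3 this | exact n3 this.symm | exact n4 this | exact n4 this.symm
              | exact n5 this | exact n5 this.symm | exact n6 this | exact n6 this.symm)
    simpa using Nat.card_le_card_of_injective em hem
  have hZ : Z = C := by
    refine Subgroup.eq_of_le_of_card_ge hZle ?_
    have hd := Subgroup.card_dvd_of_le hZle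
    rw [hC8] at hd ⊢
    have := Nat.le_of_dvd (by norm_num) hd
    interval_cases hn : Nat.card ↥Z <;> first | (norm_num; done) | (norm_num at hd)
  exact hz1 (hnd z hzC fun c hc => (hZ.symm ▸ hc : c ∈ Z).2)

end H89.BaseSmall
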