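import Mathlib
import Cfsg.Agent.H6.AutPGroup
import Cfsg.Agent.H80.Detect

/-!
Automorphisms of order prime to `p` of a finite `p`-group are detected on elements of order `p`
(of order dividing 4 for `p = 2`), and on a characteristic subgroup all of whose elements are of
this form (helper89).
-/

set_option autoImplicit false

namespace H89

open scoped commutatorElement

variable {G : Type*} [Group G]

/-- `x` has order dividing `p`, or dividing 4 when `p = 2`. -/
def IsSmall (p : ℕ) (x : G) : Prop := x ^ p = 1 ∨ (p = 2 ∧ x ^ 4 = 1)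

theorem IsSmall.map {H : Type*} [Group H] {p : ℕ} {x : G} (h : IsSmall p x) (f : G →* H) :
    IsSmall p (f x) := by
  rcases h with h | ⟨h2, h⟩
  · left; rw [← map_pow, h, map_one]
  · right; exact ⟨h2, by rw [← map_pow, h, map_one]⟩

theorem IsSmall.of_injective {H : Type*} [Group H] {p : ℕ} {x : G} {f : G →* H}
    (hf : Function.Injective f) (h : IsSmall p (f x)) : IsSmall p x := by
  rcases h with h | ⟨h2, h⟩
  · left; apply hf; rw [map_pow, h, map_one]
  · right; exact ⟨h2, hf (by rw [map_pow, h, map_one])⟩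

/-- A `p'`-automorphism fixing all small elements is trivial. -/
theorem eq_one_of_fixes_small [Finite G] {p : ℕ} [hp : Fact p.Prime] (hG : IsPGroup p G)
    (a : MulAut G) (ha : Nat.Coprime (orderOf a) p) (h : ∀ x : G, IsSmall p x → a x = x) : a = 1 := by
  have key : ∀ K : Subgroup G, K.Characteristic → ∀ x ∈ K, a x = x := by
    intro K
    induction K using WellFoundedLT.induction with
    | ind K ih =>
      intro hKc x hx
      haveI := hKc
      by_cases hbot : K = ⊥
      · subst hbot
        rw [Subgroup.mem_bot] at hx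
        simp [hx]
      have hax : a x ∈ K := H6.apply_mem_of_characteristic hKc a hx
      set c := x⁻¹ * a x with hc
      have hcK : c ∈ K := K.mul_mem (K.inv_mem hx) hax
      by_cases hex : ∃ L : Subgroup G, L.Characteristic ∧ L < K ∧ ¬ K ≤ Subgroup.centralizer (L : Set G)
      · obtain ⟨L, hLc, hLK, hnc⟩ := hex
        haveI := hLc
        apply H6.apply_eq_self_of_displacement_fixed hG a ha
        have hcC : c ∈ Subgroup.centralizer (L : Set G) :=
          H6.displacement_mem_centralizer a (ih L hLK hLc) x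
        exact ih (K ⊓ Subgroup.centralizer (L : Set G)) (inf_lt_left.mpr hnc)
          (H6.characteristic_inf hKc (H6.characteristic_centralizer hLc)) c ⟨hcK, hcC⟩
      push Not at hex
      have hQc : (Subgroup.closure ((fun x => x ^ p) '' (K : Set G))).Characteristic := by
        apply H6.characteristic_closure_of_forall
        rintro φ _ ⟨y, hy, rfl⟩
        exact ⟨φ y, H6.apply_mem_of_characteristic hKc φ hy, by simp⟩
      have hcomm : ∀ u ∈ K, ∀ v ∈ K, ∀ w ∈ K, Commute ⁅u, v⁆ w := by
        intro u hu v hv w hw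
        exact Subgroup.mem_centralizer_iff.mp (hex _ inferInstance (H6.commutator_self_lt hG hbot) hw) _
          (Subgroup.commutator_mem_commutator hu hv)
      have hpc : ∀ u ∈ K, ∀ w ∈ K, Commute (u ^ p) w := by
        intro u hu w hw
        exact Subgroup.mem_centralizer_iff.mp (hex _ hQc (H6.closure_pow_lt hG hbot) hw) _
          (Subgroup.subset_closure ⟨u, hu, rfl⟩)
      have hfix : a (x ^ p) = x ^ p :=
        ih _ (H6.closure_pow_lt hG hbot) hQc _ (Subgroup.subset_closure ⟨x, hx, rfl⟩)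
      have hcx : ⁅c, x⁆ ^ p = 1 := by
        rw [← H6.commutator_pow_left (hcomm c hcK x hx c hcK).symm,
          commutatorElement_eq_one_iff_commute]
        exact hpc c hcK x hx
      have h2 := H6.mul_pow_of_commute_commutator (x := x) (y := c)
        (hcomm c hcK x hx x hx) (hcomm c hcK x hx c hcK) p
      have h3 : x * c = a x := by rw [hc]; group
      rw [h3, ← map_pow, hfix, mul_assoc] at h2
      have h4 : c ^ p * ⁅c, x⁆ ^ (p.choose 2) = 1 :=
        mul_left_cancel (a := x ^ p) (h2.symm.trans (mul_one _).symm)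
      refine H6.apply_eq_self_of_displacement_fixed hG a ha (h c ?_)
      by_cases hp2 : p = 2
      · right
        subst hp2
        refine ⟨rfl, ?_⟩
        rw [show (2 : ℕ).choose 2 = 1 from rfl, pow_one] at h4
        rw [show c ^ 4 = (c ^ 2) ^ 2 by rw [← pow_mul], eq_inv_of_mul_eq_one_left h4, inv_pow, hcx,
          inv_one]
      · left
        obtain ⟨k, hk⟩ := hp.out.dvd_choose_self (k := 2) (by norm_num)
          (lt_of_le_of_ne hp.out.two_le (Ne.symm hp2))
        rwa [hk, pow_mul, hcx, one_pow, mul_one] at h4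
  ext x
  exact key ⊤ inferInstance x (Subgroup.mem_top x)

/-- A critical subgroup: characteristic, self-centralizing, of class two with `Φ` central. -/
theorem exists_critical {R : Type*} [Group R] [Finite R] {p : ℕ} [hp : Fact p.Prime]
    (hR : IsPGroup p R) :
    ∃ K : Subgroup R, K.Characteristic ∧ Subgroup.centralizer (K : Set R) ≤ K ∧
      (∀ x ∈ K, ∀ r : R, ⁅x, r⁆ ∈ K ⊓ Subgroup.centralizer (K : Set R)) ∧
      ∀ x ∈ K, x ^ p ∈ K ⊓ Subgroup.centralizer (K : Set R) := by
  obtain ⟨H, -, hmax⟩ := Finite.exists_le_maximal (α := Subgroup R)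
    (p := fun H => H.Characteristic ∧ H ≤ Subgroup.centralizer (H : Set R)) (a := ⊥)
    ⟨inferInstance, bot_le⟩
  obtain ⟨hH, hHab⟩ := hmax.prop
  have hHn : H.Normal := inferInstance
  let O : Subgroup (R ⧸ H) :=
    { carrier := {z | z ∈ Subgroup.center (R ⧸ H) ∧ z ^ p = 1}
      one_mem' := ⟨one_mem _, one_pow p⟩
      mul_mem' := fun {a b} ha hb => ⟨mul_mem ha.1 hb.1, by
        rw [(show Commute a b from Subgroup.mem_center_iff.1 hb.1 a).mul_pow, ha.2, hb.2, one_mul]⟩
      inv_mem' := fun {a} ha => ⟨inv_mem ha.1, by rw [inv_pow, ha.2, inv_one]⟩ }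
  set C := Subgroup.centralizer (H : Set R) with hCdef
  set K := C ⊓ O.comap (QuotientGroup.mk' H) with hKdef
  have memK : ∀ x : R, x ∈ K ↔ x ∈ C ∧ (∀ r : R, ⁅x, r⁆ ∈ H) ∧ x ^ p ∈ H := by
    intro x
    show (x ∈ C ∧ (QuotientGroup.mk' H x ∈ Subgroup.center (R ⧸ H) ∧ _)) ↔ _
    refine and_congr_right fun _ => and_congr ?_ ?_
    · rw [Subgroup.mem_center_iff]
      constructor
      · intro h r
        rw [← QuotientGroup.eq_one_iff, ← QuotientGroup.mk'_apply, map_commutatorElement,
          commutatorElement_eq_one_iff_mul_comm]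
        exact (h _).symm
      · intro h q
        obtain ⟨r, rfl⟩ := QuotientGroup.mk'_surjective H q
        have := (QuotientGroup.eq_one_iff _).2 (h r)
        rw [← QuotientGroup.mk'_apply, map_commutatorElement,
          commutatorElement_eq_one_iff_mul_comm] at this
        exact this.symm
    · rw [← map_pow, QuotientGroup.mk'_apply, QuotientGroup.eq_one_iff]
  have hHK : H ≤ K := fun x hx => (memK x).2 ⟨hHab hx, fun r => by
    rw [commutatorElement_def, show x * r * x⁻¹ * r⁻¹ = x * (r * x⁻¹ * r⁻¹) by group]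
    exact H.mul_mem hx (hHn.conj_mem _ (H.inv_mem hx) r), H.pow_mem hx p⟩
  have hKC : K ≤ C := inf_le_left
  have hHcK : H ≤ Subgroup.centralizer (K : Set R) := Subgroup.le_centralizer_iff.1 hKC
  have hKchar : K.Characteristic := by
    rw [Subgroup.characteristic_iff_le_comap]
    intro φ x hx
    obtain ⟨hxC, hxr, hxp⟩ := (memK x).1 hx
    rw [Subgroup.mem_comap, memK]
    have hCchar : C.Characteristic := inferInstance
    refine ⟨Subgroup.characteristic_iff_le_comap.1 hCchar φ hxC, fun r => ?_, ?_⟩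
    · have := Subgroup.characteristic_iff_le_comap.1 hH φ (hxr (φ.symm r))
      simpa [Subgroup.mem_comap, map_commutatorElement] using this
    · have := Subgroup.characteristic_iff_le_comap.1 hH φ hxp
      simpa [Subgroup.mem_comap] using this
  have hZ : K ⊓ Subgroup.centralizer (K : Set R) = H := by
    have hchar : (K ⊓ Subgroup.centralizer (K : Set R)).Characteristic := by
      rw [Subgroup.characteristic_iff_le_comap]
      intro φ
      rw [Subgroup.comap_inf]
      exact inf_le_inf (Subgroup.characteristic_iff_le_comap.1 hKchar φ)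
        (Subgroup.characteristic_iff_le_comap.1 inferInstance φ)
    have hab : K ⊓ Subgroup.centralizer (K : Set R) ≤ Subgroup.centralizer
        ((K ⊓ Subgroup.centralizer (K : Set R) : Subgroup R) : Set R) :=
      inf_le_right.trans (Subgroup.centralizer_le (SetLike.coe_subset_coe.2 inf_le_left))
    exact le_antisymm (hmax.le_of_ge ⟨hchar, hab⟩ (le_inf hHK hHcK)) (le_inf hHK hHcK)
  refine ⟨K, hKchar, ?_, fun x hx r => hZ ▸ ((memK x).1 hx).2.1 r, fun x hx => hZ ▸ ((memK x).1 hx).2.2⟩
  by_contra hnot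
  have hQn : (Subgroup.centralizer (K : Set R)).Normal := inferInstance
  set Qb := (Subgroup.centralizer (K : Set R)).map (QuotientGroup.mk' H) with hQb
  have hQbn : Qb.Normal := hQn.map _ (QuotientGroup.mk'_surjective H)
  have hne : Qb ≠ ⊥ := by
    rw [hQb, Ne, Subgroup.map_eq_bot_iff, QuotientGroup.ker_mk']
    exact fun h => hnot (h.trans hHK)
  have hne2 := H80.pgroup_normal_inf_center_ne_bot (hR.to_quotient H) Qb hne
  haveI : Nontrivial ↥(Qb ⊓ Subgroup.center (R ⧸ H) : Subgroup (R ⧸ H)) :=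
    (Subgroup.nontrivial_iff_ne_bot _).2 hne2
  obtain ⟨n, hn, hcard⟩ := ((hR.to_quotient H).to_subgroup
    (Qb ⊓ Subgroup.center (R ⧸ H))).nontrivial_iff_card.1 inferInstance
  obtain ⟨z, hz⟩ := exists_prime_orderOf_dvd_card' p (hcard ▸ dvd_pow_self p hn.ne')
  obtain ⟨x, hx, hxz⟩ := z.2.1
  have hzp : (z : R ⧸ H) ^ p = 1 := by
    rw [← Subgroup.coe_pow, ← hz, pow_orderOf_eq_one]; rfl
  have hxC : x ∈ C := Subgroup.centralizer_le (SetLike.coe_subset_coe.2 hHK) hx
  have hxO : QuotientGroup.mk' H x ∈ O := hxz.symm ▸ (⟨z.2.2, hzp⟩ : (z : R ⧸ H) ∈ O)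
  have hxK : x ∈ K := ⟨hxC, hxO⟩
  have h1 : (z : R ⧸ H) = 1 := by
    rw [← hxz]; exact (QuotientGroup.eq_one_iff x).2 (hZ ▸ ⟨hxK, hx⟩)
  rw [OneMemClass.coe_eq_one] at h1
  rw [h1, orderOf_one] at hz
  exact hp.out.one_lt.ne hz

/-- A characteristic subgroup of small elements detecting `p'`-automorphisms. -/
theorem exists_small_detecting {R : Type*} [Group R] [Finite R] {p : ℕ} [hp : Fact p.Prime]
    (hR : IsPGroup p R) :
    ∃ C : Subgroup R, C.Characteristic ∧ (∀ x ∈ C, IsSmall p x) ∧
      ∀ a : MulAut R, Nat.Coprime (orderOf a) p → (∀ x ∈ C, a x = x) → a = 1 := by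
  obtain ⟨K, hKc, hKC, hcl, hfr⟩ := exists_critical hR
  have hcomm : ∀ u ∈ K, ∀ v ∈ K, ∀ w ∈ K, Commute ⁅u, v⁆ w := fun u hu v _ w hw =>
    (Subgroup.mem_centralizer_iff.1 (hcl u hu v).2 w hw).symm
  have hcp : ∀ u ∈ K, ∀ v ∈ K, ⁅u, v⁆ ^ p = 1 := by
    intro u hu v hv
    rw [← H6.commutator_pow_left (hcomm u hu v hv u hu).symm,
      commutatorElement_eq_one_iff_commute]
    exact (Subgroup.mem_centralizer_iff.1 (hfr u hu).2 v hv).symm
  have hmul : ∀ x ∈ K, ∀ y ∈ K, IsSmall p x → IsSmall p y → IsSmall p (x * y) := by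
    intro x hx y hy hxs hys
    have hd := hcp y hy x hx
    have hm := H6.mul_pow_of_commute_commutator (x := x) (y := y)
      (hcomm y hy x hx x hx) (hcomm y hy x hx y hy)
    by_cases hp2 : p = 2
    · subst hp2
      have h4 : ∀ z : R, IsSmall 2 z → z ^ 4 = 1 := by
        rintro z (h | ⟨-, h⟩)
        · rw [show (4 : ℕ) = 2 * 2 from rfl, pow_mul, h, one_pow]
        · exact h
      refine Or.inr ⟨rfl, ?_⟩
      rw [hm, h4 x hxs, h4 y hys, show (4 : ℕ).choose 2 = 2 * 3 from rfl, pow_mul, hd, one_pow,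
        one_mul, one_mul]
    · left
      have h1 : x ^ p = 1 := hxs.resolve_right fun h => hp2 h.1
      have h2 : y ^ p = 1 := hys.resolve_right fun h => hp2 h.1
      obtain ⟨k, hk⟩ := hp.out.dvd_choose_self (k := 2) (by norm_num)
        (lt_of_le_of_ne hp.out.two_le (Ne.symm hp2))
      rw [hm, h1, h2, hk, pow_mul, hd, one_pow, one_mul, one_mul]
  let C : Subgroup R :=
    { carrier := {x | x ∈ K ∧ IsSmall p x}
      one_mem' := ⟨one_mem _, Or.inl (one_pow p)⟩
      mul_mem' := fun {a b} ha hb => ⟨mul_mem ha.1 hb.1, hmul a ha.1 b hb.1 ha.2 hb.2⟩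
      inv_mem' := fun {a} ha => ⟨inv_mem ha.1, by
        rcases ha.2 with h | ⟨h2, h⟩
        · left; rw [inv_pow, h, inv_one]
        · right; exact ⟨h2, by rw [inv_pow, h, inv_one]⟩⟩ }
  refine ⟨C, ?_, fun x hx => hx.2, fun a ha hfix => ?_⟩
  · rw [Subgroup.characteristic_iff_le_comap]
    intro φ x hx
    exact ⟨Subgroup.characteristic_iff_le_comap.1 hKc φ hx.1, hx.2.map φ.toMonoidHom⟩
  · haveI := hKc
    have hmaps : ∀ x ∈ K, a x ∈ K := fun x hx => H6.apply_mem_of_characteristic hKc a hx
    let aK : MulAut K :=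
      { toFun := fun x => ⟨a x, hmaps x x.2⟩
        invFun := fun x => ⟨a⁻¹ x, H6.apply_mem_of_characteristic hKc a⁻¹ x.2⟩
        left_inv := fun x => Subtype.ext (MulAut.inv_apply_self _ a x)
        right_inv := fun x => Subtype.ext (MulAut.apply_inv_self _ a x)
        map_mul' := fun x y => Subtype.ext (map_mul a _ _) }
    have hpow : ∀ (n : ℕ) (x : K), (((aK ^ n) x : K) : R) = (a ^ n) x := by
      intro n
      induction n with
      | zero => intro x; rfl
      | succ n ih => intro x; rw [pow_succ', pow_succ', MulAut.mul_apply, MulAut.mul_apply, ← ih]; rfl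
    have hord : orderOf aK ∣ orderOf a := orderOf_dvd_of_pow_eq_one
      (MulEquiv.ext fun x => Subtype.ext (by rw [hpow, pow_orderOf_eq_one]; rfl))
    have h1 : aK = 1 := eq_one_of_fixes_small (hR.to_subgroup K) aK (ha.coprime_dvd_left hord)
      fun x hx => Subtype.ext (hfix x ⟨x.2, hx.map K.subtype⟩)
    exact H6.eq_one_of_fixes_self_centralizing hR hKC a ha fun x hx =>
      congrArg Subtype.val (DFunLike.congr_fun h1 ⟨x, hx⟩)

end H89
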