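import Cfsg.Agent.H89.CentralEltApps
import Cfsg.Agent.H74.ThompsonA
import Cfsg.Agent.H65.BaerSuzuki
import Cfsg.Agent.H73.NormalSylow
import Cfsg.Prelude.Def_FusionReduction

/-!
The central element theorem for the Thompson subgroup at `p = 2` in groups without `S₄` section.
-/

set_option autoImplicit false

namespace H89

/-- Two transvections generate a group of exponent dividing `12` on the product. -/
theorem transvection_pair {A : Type*} [CommGroup A] [Finite A] (α β : MulAut A) {τ σ : A}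
    (hτ : τ * τ = 1) (hσ : σ * σ = 1) (hα : ∀ v, α v = v ∨ α v = τ * v)
    (hβ : ∀ v, β v = v ∨ β v = σ * v) {n : ℕ} (hn : n = 12) (v : A) :
    ((α * β) ^ n) v = v := by
  classical
  subst hn
  set W : Subgroup A := Subgroup.zpowers τ ⊔ Subgroup.zpowers σ with hW
  have hτW : τ ∈ W := Subgroup.mem_sup_left (Subgroup.mem_zpowers τ)
  have hσW : σ ∈ W := Subgroup.mem_sup_right (Subgroup.mem_zpowers σ)
  have hW2 : ∀ w ∈ W, w * w = 1 := by
    intro w hw
    have hle : W ≤ (powMonoidHom 2 : A →* A).ker := by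
      refine sup_le ?_ ?_ <;> rw [Subgroup.zpowers_le, MonoidHom.mem_ker, powMonoidHom_apply, pow_two]
      · exact hτ
      · exact hσ
    simpa [pow_two] using hle hw
  set e := α * β with he
  have hW4 : Nat.card W ≤ 4 := by
    have h := H10.card_mul_card_inf (H := Subgroup.zpowers τ) (K := Subgroup.zpowers σ)
      (by rw [Subgroup.normalizer_eq_top]; exact le_top)
    have h1 : Nat.card (Subgroup.zpowers τ) ≤ 2 := by
      rw [Nat.card_zpowers]
      exact orderOf_le_of_pow_eq_one (by norm_num) (by rw [pow_two, hτ])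
    have h2 : Nat.card (Subgroup.zpowers σ) ≤ 2 := by
      rw [Nat.card_zpowers]
      exact orderOf_le_of_pow_eq_one (by norm_num) (by rw [pow_two, hσ])
    have h3 : 0 < Nat.card ↥(Subgroup.zpowers τ ⊓ Subgroup.zpowers σ) := Nat.card_pos
    calc Nat.card W ≤ Nat.card W * Nat.card ↥(Subgroup.zpowers τ ⊓ Subgroup.zpowers σ) :=
          Nat.le_mul_of_pos_right _ h3
      _ = _ := h
      _ ≤ 2 * 2 := Nat.mul_le_mul h1 h2
  have hmod : ∀ u : A, e u * u⁻¹ ∈ W := by
    intro u
    rw [he, MulAut.mul_apply]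
    rcases hβ u with h | h <;> rw [h]
    · rcases hα u with h' | h' <;> rw [h'] <;> simp [hτW, W.one_mem]
    · rcases hα (σ * u) with h' | h' <;> rw [h'] <;> simp [hσW, W.mul_mem hτW hσW, ← mul_assoc]
  have hinv : ∀ w ∈ W, e w ∈ W := fun w hw => by
    simpa using W.mul_mem (hmod w) hw
  have hper : ∀ w ∈ W, (e ^ 6) w = w := by
    let eW : W → W := fun w => ⟨e w, hinv w w.2⟩
    have hinj : Function.Injective eW := fun a b h =>
      Subtype.ext (e.injective (congrArg Subtype.val h))
    let π : Equiv.Perm {w : W // w ≠ 1} := Equiv.ofBijective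
      (fun w => ⟨eW w.1, fun h => w.2 (hinj (h.trans (Subtype.ext (map_one e).symm)))⟩)
      (Finite.injective_iff_bijective.mp fun a b h =>
        Subtype.ext (hinj (congrArg Subtype.val h)))
    haveI : Fintype W := Fintype.ofFinite W
    have hcard : Fintype.card {w : W // w ≠ 1} ≤ 3 := by
      rw [Fintype.card_subtype_compl, Fintype.card_subtype_eq, ← Nat.card_eq_fintype_card]
      omega
    have hπ : π ^ 6 = 1 := by
      refine orderOf_dvd_iff_pow_eq_one.mp (dvd_trans (orderOf_dvd_card) ?_)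
      rw [Fintype.card_perm]
      exact dvd_trans (Nat.factorial_dvd_factorial hcard) dvd_rfl
    have hk : ∀ (k : ℕ) (w : {w : W // w ≠ 1}), ((e ^ k) (w.1 : A)) = (((π ^ k) w).1 : A) := by
      intro k
      induction k with
      | zero => intro w; rfl
      | succ k ih =>
        intro w
        rw [pow_succ', pow_succ', MulAut.mul_apply, Equiv.Perm.mul_apply, ih]
        rfl
    intro w hw
    by_cases h1 : w = 1
    · rw [h1, map_one]
    · have := hk 6 ⟨⟨w, hw⟩, fun h => h1 (congrArg Subtype.val h)⟩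
      rw [hπ] at this
      exact this
  have hmodk : ∀ (k : ℕ) (u : A), (e ^ k) u * u⁻¹ ∈ W := by
    intro k
    induction k with
    | zero => intro u; simp [W.one_mem]
    | succ k ih =>
      intro u
      rw [pow_succ', MulAut.mul_apply]
      have := W.mul_mem (hmod ((e ^ k) u)) (ih u)
      simpa using this
  set w := (e ^ 6) v * v⁻¹ with hw
  have h6 : (e ^ 6) v = w * v := by rw [hw, inv_mul_cancel_right]
  rw [show (12 : ℕ) = 6 + 6 from rfl, pow_add, MulAut.mul_apply, h6, map_mul,
    hper w (hmodk 6 v), h6, ← mul_assoc, hW2 w (hmodk 6 v), one_mul]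

open Subgroup in
/-- A transvection on an abelian normal `2`-subgroup outside the `2`-core of the automizer gives
an `S₄` section. -/
theorem symm_four_of_transvection {G : Type*} [Group G] [Finite G] {V : Subgroup G} [V.Normal]
    (hV2 : IsPGroup 2 V) (hVc : IsMulCommutative V) {a : G}
    (ha2 : a * a ∈ centralizer (V : Set G)) (ha : a ∉ centralizer (V : Set G))
    (hidx : ∀ v ∈ V, ∀ w ∈ V, ¬ Commute a v → ¬ Commute a w → Commute a (v⁻¹ * w))
    (hO : ∀ K : Subgroup G, K.Normal → centralizer (V : Set G) ≤ K →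
      IsPGroup 2 (K.map (QuotientGroup.mk' (centralizer (V : Set G)))) → a ∉ K) :
    Cfsg.Involves (Equiv.Perm (Fin 4)) G := by
  classical
  set U := centralizer (V : Set G) with hU
  set θ := QuotientGroup.mk' U with hθ
  set t := θ a with ht
  have hker : ∀ g, θ g = 1 ↔ g ∈ U := fun g => QuotientGroup.eq_one_iff g
  have ht1 : t ≠ 1 := fun h => ha ((hker a).mp h)
  have ht2 : t ^ 2 = 1 := by rw [pow_two, ht, ← map_mul]; exact (hker _).mpr ha2
  have hto : orderOf t = 2 := orderOf_eq_prime ht2 ht1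
  have htO : t ∉ Cfsg.pCore 2 (G ⧸ U) := by
    intro h
    refine hO ((Cfsg.pCore 2 (G ⧸ U)).comap θ) ?_ (fun x hx => ?_) ?_ h
    · haveI : (Cfsg.pCore 2 (G ⧸ U)).Normal := H10.pCore_normal
      infer_instance
    · show θ x ∈ Cfsg.pCore 2 (G ⧸ U)
      rw [(hker x).mpr hx]
      exact Subgroup.one_mem _
    · rw [Subgroup.map_comap_eq_self_of_surjective (QuotientGroup.mk'_surjective U)]
      exact H1.isPGroup_pCore 2 _
  obtain ⟨y, hy1, hyo, hinv⟩ := H65.exists_odd_inverted hto htO
  -- `y` is a product of two conjugates of `t`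
  obtain ⟨k, hk⟩ := hyo
  set w := y ^ (k + 1) with hw
  have hww : w * w = y := by
    rw [hw, ← pow_add, show k + 1 + (k + 1) = orderOf y + 1 by omega, pow_succ, pow_orderOf_eq_one,
      one_mul]
  have htw : t * w = w⁻¹ * t := by
    rw [hw, ← inv_pow, ← hinv, conj_pow, inv_mul_cancel_right]
  have hy : y = t * (w⁻¹ * t * w) := by
    rw [← mul_assoc, ← mul_assoc]
    calc y = w * w := hww.symm
      _ = t * (t * w) * w := by rw [← mul_assoc, show t * t = 1 by rw [← pow_two, ht2], one_mul]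
      _ = t * w⁻¹ * t * w := by rw [htw]; group
  obtain ⟨g, hg⟩ := QuotientGroup.mk'_surjective U w
  set b := g⁻¹ * a * g with hb
  have hyab : θ (a * b) = y := by
    rw [hy, hb, map_mul, map_mul, map_mul, map_inv, hg]
  letI : CommGroup V :=
    { (inferInstance : Group V) with mul_comm := fun x z => hVc.is_comm.comm x z }
  let act : G →* MulAut V := MulAut.conjNormal
  obtain ⟨v0, hv0, hv0a⟩ : ∃ v ∈ V, ¬ Commute a v := by
    by_contra! hcon
    exact ha (mem_centralizer_iff.mpr fun v hv => (hcon v hv).eq.symm)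
  set τ : V := act a ⟨v0, hv0⟩ * ⟨v0, hv0⟩⁻¹ with hτ
  have hα : ∀ v : V, act a v = v ∨ act a v = τ * v := by
    intro v
    by_cases hva : Commute a v
    · refine Or.inl (Subtype.ext ?_)
      show a * (v : G) * a⁻¹ = v
      rw [hva.eq, mul_inv_cancel_right]
    · refine Or.inr ?_
      have hc := hidx v0 hv0 v v.2 hv0a hva
      have h1 : act a (⟨v0, hv0⟩⁻¹ * v) = ⟨v0, hv0⟩⁻¹ * v := by
        refine Subtype.ext ?_
        show a * (v0⁻¹ * (v : G)) * a⁻¹ = v0⁻¹ * v
        rw [hc.eq, mul_inv_cancel_right]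
      rw [map_mul, map_inv, inv_mul_eq_iff_eq_mul] at h1
      rw [hτ, h1, mul_assoc]
  have hτa : act a τ = τ⁻¹ := by
    have h2 : act a (act a ⟨v0, hv0⟩) = ⟨v0, hv0⟩ := by
      refine Subtype.ext ?_
      show a * (a * v0 * a⁻¹) * a⁻¹ = v0
      have := mem_centralizer_iff.mp ha2 v0 hv0
      calc a * (a * v0 * a⁻¹) * a⁻¹ = (a * a) * v0 * (a * a)⁻¹ := by group
        _ = v0 := by rw [← this, mul_inv_cancel_right]
    rw [hτ, map_mul, map_inv, h2, mul_inv_rev, inv_inv]
  have hττ : τ * τ = 1 := by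
    have hτfix : act a τ = τ := by
      rcases hα τ with h | h
      · exact h
      · rw [hτa] at h
        -- `τ⁻¹ = τ²` gives `τ³ = 1`, so `τ = 1`
        have h3 : τ ^ 3 = 1 := by
          rw [pow_succ, pow_two, ← h, inv_mul_cancel]
        obtain ⟨j, hj⟩ := IsPGroup.iff_orderOf.mp hV2 τ
        have h4 : orderOf τ ∣ 1 := by
          have hco : Nat.Coprime (2 ^ j) 3 := Nat.Coprime.pow_left j (by norm_num)
          rw [← hco.gcd_eq_one, hj]
          exact Nat.dvd_gcd dvd_rfl (hj ▸ orderOf_dvd_of_pow_eq_one h3)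
        rw [orderOf_eq_one_iff.mp (Nat.dvd_one.mp h4)]
        exact map_one _
    rw [hτa] at hτfix
    nth_rewrite 1 [← hτfix]
    exact inv_mul_cancel τ
  set σ : V := act g⁻¹ τ with hσ
  have hβ : ∀ v : V, act b v = v ∨ act b v = σ * v := by
    intro v
    have h : act b v = act g⁻¹ (act a (act g v)) := by
      rw [hb, map_mul, map_mul]
      rfl
    rcases hα (act g v) with h' | h' <;> rw [h, h'] <;> [left; right]
    · rw [map_inv, MulAut.inv_apply_self]
    · rw [map_mul, hσ, map_inv, MulAut.inv_apply_self]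
  have hσσ : σ * σ = 1 := by rw [hσ, ← map_mul, hττ, map_one]
  have h12 : (a * b) ^ 12 ∈ U := by
    obtain ⟨n, hn⟩ : ∃ n : ℕ, n = 12 := ⟨_, rfl⟩
    rw [← hn, hU, mem_centralizer_iff]
    intro v hv
    have := transvection_pair (act a) (act b) hττ hσσ hα hβ hn ⟨v, hv⟩
    have hpw : ∀ n : ℕ, act ((a * b) ^ n) = (act a * act b) ^ n := fun n => by
      rw [map_pow, map_mul]
    rw [← hpw] at this
    have h' : (a * b) ^ n * v * ((a * b) ^ n)⁻¹ = v := by
      have h2 := congrArg Subtype.val this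
      rw [MulAut.conjNormal_apply] at h2
      exact h2
    exact (mul_inv_eq_iff_eq_mul.mp h').symm
  have hy3 : orderOf y = 3 ^ (0 + 1) := by
    have hdvd : orderOf y ∣ 12 := by
      apply orderOf_dvd_of_pow_eq_one
      rw [← hyab, ← map_pow]
      exact (hker _).mpr h12
    have hco : Nat.Coprime (orderOf y) (2 ^ 2) :=
      Nat.Coprime.pow_right 2 (Nat.coprime_two_right.mpr ⟨k, hk⟩)
    have h3 : orderOf y ∣ 3 := hco.dvd_of_dvd_mul_left (by norm_num; exact hdvd)
    rcases (Nat.dvd_prime Nat.prime_three).mp h3 with h | h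
    · exact absurd (orderOf_eq_one_iff.mp h) hy1
    · rw [h]; rfl
  have hS3 : Cfsg.Involves (Equiv.Perm (Fin 3)) (G ⧸ U) :=
    H74.S4Section.involves_symm_three (x := t) (y := y) (k := 1) (by rw [pow_one]; exact hto)
      hy3 hinv
  refine H74.S4Section.symm_four_of_automizer hV2 ?_
  let f : ↥(normalizer (V : Set G)) →* G ⧸ U := θ.comp (normalizer (V : Set G)).subtype
  have hf : Function.Surjective f := fun x => by
    obtain ⟨g, rfl⟩ := QuotientGroup.mk'_surjective U x
    exact ⟨⟨g, by rw [Subgroup.normalizer_eq_top]; exact Subgroup.mem_top g⟩, rfl⟩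
  have hk' : f.ker = U.subgroupOf (normalizer (V : Set G)) := by
    ext x
    rw [MonoidHom.mem_ker, Subgroup.mem_subgroupOf]
    exact hker _
  exact H74.JA.involves_of_equiv ((QuotientGroup.quotientMulEquivOfEq hk'.symm).trans
    (QuotientGroup.quotientKerEquivOfSurjective f hf)).symm hS3

open Subgroup in
/-- **The central element theorem at `p = 2`** for the Thompson subgroup. -/
theorem central_two {G : Type*} [Group G] [Finite G]
    (hfree : ¬ Cfsg.Involves (Equiv.Perm (Fin 4)) G) {R L : Subgroup G}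
    (hsyl : H73.SylIn 2 R L) (hch : H76.CharPIn 2 L) {z : G} (hzR : z ∈ R)
    (hzC : ∀ r ∈ R, Commute r z)
    (hfix : ∀ g ∈ L, g ∈ normalizer (Cfsg.thompsonSubgroupAOf R : Set G) → Commute g z) :
    ∀ g ∈ L, Commute g z := by
  classical
  induction hn : Nat.card L using Nat.strong_induction_on generalizing L with
  | _ n ih =>
  have hsub : ∀ L' : Subgroup G, L' < L → R ≤ L' → H76.CharPIn 2 L' → ∀ g ∈ L', Commute g z :=
    fun L' hlt hR hc => ih _ (hn ▸ Set.ncard_lt_ncard hlt) (hsyl.of_le hR hlt.le) hc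
      (fun g hg => hfix g (hlt.le hg)) rfl
  have hpow : ∀ g ∈ L, Commute g (z ^ 2) := by
    refine central_elt (p := 2) (e := 2) (by norm_num) (J := Cfsg.thompsonSubgroupAOf R)
      (fun L' hL' _ hn => exists_quad_thompson hL' hn) hsyl hch hzR hzC
      fun g hg hgN => (hfix g hg hgN).pow_right 2
  set O := Cfsg.pCoreOf 2 L with hO
  set V := coreCenter 2 L with hV
  have hOR : O ≤ R := pCoreOf_le_sylIn hsyl
  have hVR : V ≤ R := inf_le_left.trans hOR
  have hVL : V ≤ L := hVR.trans hsyl.le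
  have hzV : z ∈ V := by
    have hc : z ∈ centralizer (O : Set G) :=
      mem_centralizer_iff.mpr fun y hy => (hzC y (hOR hy)).eq
    exact ⟨hch ⟨hsyl.le hzR, hc⟩, hc⟩
  have hCVconj : ∀ g ∈ L, ∀ x ∈ centralizer (V : Set G), g * x * g⁻¹ ∈ centralizer (V : Set G) := by
    intro g hg x hx
    rw [mem_centralizer_iff] at hx ⊢
    intro v hv
    have := hx _ (conj_mem_coreCenter (L.inv_mem hg) hv)
    calc v * (g * x * g⁻¹) = g * ((g⁻¹ * v * g⁻¹⁻¹) * x) * g⁻¹ := by group
      _ = g * (x * (g⁻¹ * v * g⁻¹⁻¹)) * g⁻¹ := by rw [this]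
      _ = g * x * g⁻¹ * v := by group
  set U := L ⊓ centralizer (V : Set G) with hU
  have hUz : ∀ g ∈ U, Commute g z := fun g hg => (mem_centralizer_iff.mp hg.2 z hzV).symm
  -- Frattini argument for a normal subgroup between `U` and `L`
  have hfrat : ∀ K : Subgroup G, K ≤ L → (∀ g ∈ L, ∀ x ∈ K, g * x * g⁻¹ ∈ K) →
      (∀ k ∈ K, Commute k z) → (∀ n ∈ L, n ∈ normalizer ((R ⊓ K : Subgroup G) : Set G) → Commute n z) →
      ∀ g ∈ L, Commute g z := by
    intro K hKL hKn hKz hNz g hg
    obtain ⟨P, hP⟩ := hsyl.exists_sylow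
    haveI : (K.subgroupOf L).Normal := ⟨fun x hx y => hKn y y.2 x hx⟩
    have h1 := H73.sylIn_inf_normal P (K.subgroupOf L)
    obtain ⟨T, hT⟩ := h1.exists_sylow
    have h2 := Sylow.normalizer_sup_eq_top T
    rw [hT] at h2
    have hgm : (⟨g, hg⟩ : L) ∈ Subgroup.normalizer
        (((P : Subgroup L) ⊓ K.subgroupOf L : Subgroup L) : Set L) ⊔ K.subgroupOf L :=
      h2 ▸ Subgroup.mem_top _
    obtain ⟨m, hm, k, hk, hmk⟩ := Subgroup.mem_sup_of_normal_right.mp hgm
    have hmap : ((P : Subgroup L) ⊓ K.subgroupOf L).map L.subtype = R ⊓ K := by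
      rw [Subgroup.map_inf _ _ _ L.subtype_injective, hP, Subgroup.map_subgroupOf_eq_of_le hKL]
    have hmN : (m : G) ∈ normalizer ((R ⊓ K : Subgroup G) : Set G) := by
      rw [← hmap]
      exact Subgroup.le_normalizer_map L.subtype ⟨m, hm, rfl⟩
    have := (hNz m m.2 hmN).mul_left (hKz k hk)
    rwa [show (m : G) * k = g from congrArg Subtype.val hmk] at this
  set 𝒜 := H11.maxFam (fun A : Subgroup G => IsMulCommutative A) R with h𝒜
  by_cases hall : ∀ A ∈ 𝒜, A ≤ centralizer (V : Set G)
  · refine hfrat U inf_le_left (fun g hg x hx => ⟨L.mul_mem (L.mul_mem hg hx.1) (L.inv_mem hg),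
      hCVconj g hg x hx.2⟩) hUz fun m hm hmN => hfix m hm ?_
    rw [JA_eq_of_forall_le (U := R ⊓ U) inf_le_left fun A hA =>
      le_inf hA.1 (le_inf (hA.1.trans hsyl.le) (hall A hA))]
    exact H74.JA.normalizer_le_normalizer_JA _ hmN
  push Not at hall
  obtain ⟨A₁, hA₁, hmax⟩ := Set.exists_max_image
    {A | A ∈ 𝒜 ∧ ¬ A ≤ centralizer (V : Set G)}
    (fun A => Nat.card (A ⊓ centralizer (V : Set G) : Subgroup G)) (Set.toFinite _) hall
  set μ := Nat.card (A₁ ⊓ centralizer (V : Set G) : Subgroup G) with hμ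
  set 𝒬 := {A | (A ∈ 𝒜 ∧ ¬ A ≤ centralizer (V : Set G)) ∧
    Nat.card (A ⊓ centralizer (V : Set G) : Subgroup G) = μ} with h𝒬
  set Qs : Set G := {x | ∃ A ∈ 𝒬, x ∈ A} with hQs
  have hRp := hsyl.isPGroup
  -- the half-sized fixed subgroup yields a transvection
  have htrans : ∀ A ∈ 𝒬, ∀ a ∈ A, a ∉ centralizer (V : Set G) →
      (∀ y ∈ A, y ∈ centralizer (V : Set G) ∨ a⁻¹ * y ∈ centralizer (V : Set G)) →
      ∀ g ∈ L, Commute g z := by
    rintro A ⟨⟨hA, -⟩, -⟩ a haA haC hhalf
    set A0 := A ⊓ centralizer (V : Set G) with hA0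
    have hA2 : Nat.card A ≤ 2 * Nat.card A0 := by
      let f : A → Bool × A0 := fun y =>
        if hy : (y : G) ∈ centralizer (V : Set G) then (true, ⟨y, y.2, hy⟩)
        else (false, ⟨a⁻¹ * y, A.mul_mem (A.inv_mem haA) y.2, (hhalf y y.2).resolve_left hy⟩)
      have hf : Function.Injective f := by
        intro y y' h
        simp only [f] at h
        split_ifs at h with h1 h2 h2
        · exact Subtype.ext (congrArg (fun q : Bool × A0 => (q.2 : G)) h)
        · exact absurd (congrArg Prod.fst h) (by simp)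
        · exact absurd (congrArg Prod.fst h) (by simp)
        · exact Subtype.ext (mul_left_cancel (congrArg (fun q : Bool × A0 => (q.2 : G)) h))
      have := Nat.card_le_card_of_injective f hf
      rwa [Nat.card_prod, Nat.card_eq_fintype_card (α := Bool), Fintype.card_bool] at this
    have hB : Nat.card ↥(A0 ⊔ V) ≤ Nat.card A := hA.2.2 _
      (sup_le (inf_le_left.trans hA.1) hVR)
      (H11.isMulCommutative_sup (H11.isMulCommutative_of_le hA.2.1 inf_le_left)
        (isMulCommutative_coreCenter L) fun x hx y hy => (mem_centralizer_iff.mp hx.2 y hy).symm)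
    have hcount := H10.card_mul_card_inf (H := A0) (K := V)
      ((inf_le_right : A0 ≤ _).trans (centralizer_le_normalizer _))
    set C := A0 ⊓ V with hC
    have hCidx : Nat.card V ≤ 2 * Nat.card C := by
      have h1 : Nat.card A0 * Nat.card V ≤ Nat.card A0 * (2 * Nat.card C) :=
        calc Nat.card A0 * Nat.card V = Nat.card ↥(A0 ⊔ V) * Nat.card C := hcount.symm
          _ ≤ (2 * Nat.card A0) * Nat.card C := Nat.mul_le_mul (hB.trans hA2) le_rfl
          _ = Nat.card A0 * (2 * Nat.card C) := by ring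
      exact Nat.le_of_mul_le_mul_left h1 Nat.card_pos
    have hCa : ∀ c ∈ C, Commute a c := fun c hc =>
      H11.comm_of_mulCommutative hA.2.1 haA hc.1.1
    have hidx : ∀ v ∈ V, ∀ w ∈ V, ¬ Commute a v → ¬ Commute a w → Commute a (v⁻¹ * w) := by
      intro v hv w hw hva hwa
      refine hCa _ ?_
      have hCV : C ≤ V := inf_le_right
      have hi : (C.subgroupOf V).index ≤ 2 := by
        have h := (C.subgroupOf V).card_mul_index
        rw [Nat.card_congr (subgroupOfEquivOfLe hCV).toEquiv] at h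
        refine Nat.le_of_mul_le_mul_left ?_ (Nat.card_pos (α := C))
        rw [h, mul_comm]
        exact hCidx
      have hvn : (⟨v, hv⟩ : V) ∉ C.subgroupOf V := fun h => hva (hCa v h)
      have hwn : (⟨w, hw⟩ : V) ∉ C.subgroupOf V := fun h => hwa (hCa w h)
      have hne1 : (C.subgroupOf V).index ≠ 1 := fun h =>
        hvn (Subgroup.index_eq_one.mp h ▸ Subgroup.mem_top _)
      have h2 : (C.subgroupOf V).index = 2 := by
        have := Subgroup.index_ne_zero_of_finite (H := C.subgroupOf V)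
        omega
      have hvn' : (⟨v, hv⟩⁻¹ : V) ∉ C.subgroupOf V := fun h => hvn (inv_mem_iff.mp h)
      exact ((Subgroup.mul_mem_iff_of_index_two h2).mpr
        ⟨fun h => absurd h hvn', fun h => absurd h hwn⟩ : ((⟨v, hv⟩⁻¹ * ⟨w, hw⟩ : V)) ∈ _)
    by_contra hcentral
    apply hfree
    refine H74.JA.involves_subgroup (S := L) ?_
    haveI : (V.subgroupOf L).Normal :=
      ⟨fun x hx y => conj_mem_coreCenter y.2 hx⟩
    have hcent : ∀ x : L, x ∈ centralizer ((V.subgroupOf L : Subgroup L) : Set L) ↔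
        (x : G) ∈ centralizer (V : Set G) := by
      intro x
      rw [mem_centralizer_iff, mem_centralizer_iff]
      exact ⟨fun h v hv => congrArg Subtype.val (h ⟨v, hVL hv⟩ hv),
        fun h v hv => Subtype.ext (h v hv)⟩
    refine symm_four_of_transvection (V := V.subgroupOf L) (a := ⟨a, hsyl.le (hA.1 haA)⟩)
      ((hRp.to_le hVR).comap_subtype) ?_ ((hcent _).mpr ?_) (fun h => haC ((hcent _).mp h))
      (fun v hv w hw hva hwa => Subtype.ext (hidx v hv w hw
        (fun h => hva (Subtype.ext h)) (fun h => hwa (Subtype.ext h))).eq) ?_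
    · exact H11.isMulCommutative_of_commute fun x hx y hy => Subtype.ext
        (H11.comm_of_mulCommutative (isMulCommutative_coreCenter L) hx hy).eq
    · refine (hhalf _ (A.mul_mem haA haA)).resolve_right fun h => haC ?_
      rwa [inv_mul_cancel_left] at h
    · intro K hKn hUK hK2 haK
      apply hcentral
      set K' := K.map L.subtype with hK'
      have hK'L : K' ≤ L := Subgroup.map_subtype_le _
      have hK'n : ∀ g ∈ L, ∀ x ∈ K', g * x * g⁻¹ ∈ K' := by
        rintro g hg _ ⟨x, hx, rfl⟩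
        exact ⟨_, hKn.conj_mem x hx ⟨g, hg⟩, rfl⟩
      have haR : a ∈ R ⊓ K' := ⟨hA.1 haA, ⟨_, haK, rfl⟩⟩
      have hN : ∀ m ∈ L, m ∈ normalizer ((R ⊓ K' : Subgroup G) : Set G) → Commute m z := by
        intro m hm hmN
        refine hsub (L ⊓ normalizer ((R ⊓ K' : Subgroup G) : Set G)) ?_ ?_ ?_ m ⟨hm, hmN⟩
        · refine lt_of_le_of_ne inf_le_left fun h => haC ?_
          have hle : R ⊓ K' ≤ O := H76.le_pCoreOf (inf_le_left.trans hsyl.le)
            (h.ge.trans inf_le_right) (hRp.to_le inf_le_left)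
          exact mem_centralizer_iff.mpr fun v hv =>
            (mem_centralizer_iff.mp hv.2 a (hle haR)).symm
        · refine le_inf hsyl.le fun r hr => ?_
          refine H85.mem_normalizer_of_conj fun x hx => ⟨R.mul_mem (R.mul_mem hr hx.1) (R.inv_mem hr),
            hK'n r (hsyl.le hr) x hx.2⟩
        · exact hch.normalizer (inf_le_left.trans hsyl.le) (hRp.to_le inf_le_left)
      refine hfrat K' hK'L hK'n ?_ hN
      -- `K'` fixes `z`
      obtain ⟨P, hP⟩ := hsyl.exists_sylow
      haveI := hKn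
      have hsK := H73.sylIn_inf_normal P K
      set Kz : Subgroup L := K ⊓ centralizer {(⟨z, hsyl.le hzR⟩ : L)} with hKz
      have hPKz : (P : Subgroup L) ⊓ K ≤ Kz := by
        refine le_inf inf_le_right fun x hx => mem_centralizer_singleton_iff.mpr (Subtype.ext ?_)
        exact (hzC x (hP.le ⟨x, hx.1, rfl⟩)).eq
      have hUKz : centralizer ((V.subgroupOf L : Subgroup L) : Set L) ≤ Kz := by
        refine le_inf hUK fun x hx => mem_centralizer_singleton_iff.mpr (Subtype.ext ?_)
        exact (hUz x ⟨x.2, (hcent x).mp hx⟩).eq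
      have hd1 : Kz.relIndex K ∣ ((P : Subgroup L) ⊓ K).relIndex K :=
        Subgroup.relIndex_dvd_of_le_left _ hPKz
      have hd2 : Kz.relIndex K ∣
          (centralizer ((V.subgroupOf L : Subgroup L) : Set L)).relIndex K :=
        Subgroup.relIndex_dvd_of_le_left _ hUKz
      obtain ⟨j, hj⟩ := IsPGroup.iff_card.mp hK2
      have h3 : (centralizer ((V.subgroupOf L : Subgroup L) : Set L)).relIndex K = 2 ^ j := by
        rw [← hj]
        rw [← Subgroup.relIndex_ker, QuotientGroup.ker_mk']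
      have hco : Nat.Coprime (((P : Subgroup L) ⊓ K).relIndex K) (2 ^ j) :=
        ((Nat.prime_two.coprime_iff_not_dvd.mpr hsK.not_dvd).symm).pow_right j
      have h1 : Kz.relIndex K = 1 := Nat.eq_one_of_dvd_coprimes hco hd1 (h3 ▸ hd2)
      rintro _ ⟨x, hx, rfl⟩
      exact congrArg Subtype.val (mem_centralizer_singleton_iff.mp
        ((Subgroup.relIndex_eq_one.mp h1 hx).2))
  have key : ∀ A ∈ 𝒬, ∀ a ∈ A, ∀ M : Subgroup G, a ∉ M →
      (∀ y ∈ A, y ∈ M ∨ a⁻¹ * y ∈ M) → ∀ v ∈ V, (∀ m ∈ M, Commute m v) →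
      Commute a v ∨ ∀ g ∈ L, Commute g z := by
    intro A hA𝒬 a haA M haM hhalf v hv hMv
    obtain ⟨⟨hA, hAC⟩, hAμ⟩ := hA𝒬
    by_cases hav : Commute a v
    · exact Or.inl hav
    refine Or.inr ?_
    set A0 := A ⊓ M with hA0
    have hACA0 : A ⊓ centralizer (V : Set G) ≤ A0 := by
      rintro y ⟨hyA, hyC⟩
      refine ⟨hyA, (hhalf y hyA).resolve_right fun h => hav ?_⟩
      have h1 := (hMv _ h).inv_left
      rw [mul_inv_rev, inv_inv] at h1
      have h2 : Commute y v := (mem_centralizer_iff.mp hyC v hv).symm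
      have := h2.mul_left h1
      simpa [← mul_assoc, mul_inv_cancel_left] using
        (show Commute (y * (y⁻¹ * a)) v from this)
    set C := V ⊓ centralizer (A0 : Set G) with hC
    set B := A0 ⊔ C with hB
    have hBR : B ≤ R := sup_le (inf_le_left.trans hA.1) (inf_le_left.trans hVR)
    have hBc : IsMulCommutative B := H11.isMulCommutative_sup
      (H11.isMulCommutative_of_le hA.2.1 inf_le_left)
      (H11.isMulCommutative_of_le (isMulCommutative_coreCenter L) inf_le_left)
      fun x hx y hy => mem_centralizer_iff.mp hy.2 x hx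
    have hvC : v ∈ C := ⟨hv, mem_centralizer_iff.mpr fun x hx => (hMv x hx.2).eq⟩
    have hvA : v ∉ A := fun h => hav (H11.comm_of_mulCommutative hA.2.1 haA h)
    have hlt : A0 < B := lt_of_le_of_ne le_sup_left fun h => by
      have hvB : v ∈ B := Subgroup.mem_sup_right hvC
      rw [← h] at hvB
      exact hvA hvB.1
    have hA2 : Nat.card A ≤ 2 * Nat.card A0 := by
      let f : A → Bool × A0 := fun y =>
        if hy : (y : G) ∈ M then (true, ⟨y, y.2, hy⟩)
        else (false, ⟨a⁻¹ * y, A.mul_mem (A.inv_mem haA) y.2, (hhalf y y.2).resolve_left hy⟩)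
      have hf : Function.Injective f := by
        intro y y' h
        simp only [f] at h
        split_ifs at h with h1 h2 h2
        · exact Subtype.ext (congrArg (fun q : Bool × A0 => (q.2 : G)) h)
        · exact absurd (congrArg Prod.fst h) (by simp)
        · exact absurd (congrArg Prod.fst h) (by simp)
        · exact Subtype.ext (mul_left_cancel (congrArg (fun q : Bool × A0 => (q.2 : G)) h))
      have := Nat.card_le_card_of_injective f hf
      rwa [Nat.card_prod, Nat.card_eq_fintype_card (α := Bool), Fintype.card_bool] at this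
    have hB2 : 2 * Nat.card A0 ≤ Nat.card B := by
      obtain ⟨c, hc⟩ := Subgroup.card_dvd_of_le hlt.le
      have h1 : Nat.card A0 < Nat.card B := Set.ncard_lt_ncard hlt
      rw [hc] at h1 ⊢
      have : 2 ≤ c := by
        by_contra hh
        have hc1 : c ≤ 1 := by omega
        have := Nat.mul_le_mul_left (Nat.card A0) hc1
        omega
      rw [mul_comm]
      exact Nat.mul_le_mul le_rfl this
    have hBmem : B ∈ 𝒜 := ⟨hBR, hBc, fun X hX hX' =>
      (hA.2.2 X hX hX').trans (hA2.trans hB2)⟩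
    have hBC : B ≤ centralizer (V : Set G) := by
      by_contra hcon
      have hlt' : A ⊓ centralizer (V : Set G) < B ⊓ centralizer (V : Set G) := by
        refine lt_of_le_of_ne (le_inf (hACA0.trans hlt.le) inf_le_right) fun h => hvA ?_
        have hvU : v ∈ B ⊓ centralizer (V : Set G) :=
          ⟨Subgroup.mem_sup_right hvC, mem_centralizer_iff.mpr fun w hw =>
            (H11.comm_of_mulCommutative (isMulCommutative_coreCenter L) hw hv).eq⟩
        exact (h ▸ hvU).1
      have h1 := hmax B ⟨hBmem, hcon⟩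
      have h2 : Nat.card ↥(A ⊓ centralizer (V : Set G)) <
          Nat.card ↥(B ⊓ centralizer (V : Set G)) := Set.ncard_lt_ncard hlt'
      rw [hAμ] at h2
      exact absurd h1 (not_le.mpr h2)
    refine htrans A ⟨⟨hA, hAC⟩, hAμ⟩ a haA (fun h => haM (hACA0 ⟨haA, h⟩).2) fun y hy => ?_
    rcases hhalf y hy with h | h
    · exact Or.inl (hBC (Subgroup.mem_sup_left ⟨hy, h⟩))
    · exact Or.inr (hBC (Subgroup.mem_sup_left ⟨A.mul_mem (A.inv_mem haA) hy, h⟩))
  by_contra hcentral
  obtain ⟨a₁, ha₁A, ha₁C⟩ := SetLike.not_le_iff_exists.mp hA₁.2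
  have h1 : ∀ g ∈ L, Commute g (z ^ 1) := by
    refine central_step (p := 2) (e := 1) hsyl hch Qs (fun x ⟨A, hA, hx⟩ => hA.1.1.1 hx) ?_
      (a := a₁) ⟨A₁, ⟨hA₁, rfl⟩, ha₁A⟩ (fun h => ha₁C (mem_centralizer_iff.mpr fun v hv =>
        (mem_centralizer_iff.mp hv.2 a₁ h).symm)) ?_ hzR hzC
      (fun L' hlt hR hc g hg => by rw [pow_one]; exact hsub L' hlt hR hc g hg)
      (fun g hg => by rw [pow_one]; exact hpow g hg)
    · rintro g hg hR x ⟨A, ⟨⟨hA, hAC⟩, hAμ⟩, hx⟩
      have hAR : A.map (MulAut.conj g⁻¹).toMonoidHom ≤ R := by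
        rintro _ ⟨y, hy, rfl⟩
        simpa using hR y ⟨A, ⟨⟨hA, hAC⟩, hAμ⟩, hy⟩
      have hcard : Nat.card ↥(A.map (MulAut.conj g⁻¹).toMonoidHom) = Nat.card A :=
        Subgroup.card_map_of_injective (MulAut.conj g⁻¹).injective
      have hinf : A.map (MulAut.conj g⁻¹).toMonoidHom ⊓ centralizer (V : Set G) =
          (A ⊓ centralizer (V : Set G)).map (MulAut.conj g⁻¹).toMonoidHom := by
        ext y
        constructor
        · rintro ⟨⟨u, hu, rfl⟩, hy⟩
          refine ⟨u, ⟨hu, ?_⟩, rfl⟩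
          have := hCVconj g hg _ hy
          simpa [mul_assoc] using this
        · rintro ⟨u, ⟨hu, huC⟩, rfl⟩
          refine ⟨⟨u, hu, rfl⟩, ?_⟩
          have := hCVconj g⁻¹ (L.inv_mem hg) u huC
          simpa using this
      refine ⟨A.map (MulAut.conj g⁻¹).toMonoidHom, ⟨⟨⟨hAR, H11.isMulCommutative_map hA.2.1 _,
        fun X hX hX' => hcard.symm ▸ hA.2.2 X hX hX'⟩, fun h => hAC fun y hy => ?_⟩, ?_⟩,
        ⟨x, hx, by simp⟩⟩
      · have := hCVconj g hg _ (h ⟨y, hy, rfl⟩)
        simpa [mul_assoc] using this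
      · rw [hinf, Subgroup.card_map_of_injective (MulAut.conj g⁻¹).injective]
        exact hAμ
    · rintro a ⟨A, hA, haA⟩ M - haM - hdec v hv hMv
      have hav : Commute a v := (key A hA a haA M haM (fun y hy => by
        obtain ⟨i, hi, hm⟩ := hdec y (Subgroup.subset_closure ⟨A, hA, hy⟩)
        interval_cases i
        · exact Or.inl (by simpa using hm)
        · exact Or.inr (by simpa using hm)) v hv hMv).resolve_right hcentral
      have hc : a * v * a⁻¹ * v⁻¹ = 1 := by rw [hav.eq]; group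
      rw [hc]
      exact ⟨Commute.one_right a, one_pow _⟩
  exact hcentral fun g hg => by simpa using h1 g hg

section

open Cfsg Cfsg.FusionSystem

universe u

variable {Ω : Type u} [Group Ω] {S : Subgroup Ω} [Finite S]

/-- At `p = 2` an `S₄`-free system has `Z(F) ⊇ Z(S) ∩ Z(N_F(J(S)))`. -/
theorem mem_center_of_thompson_two (hS : IsPGroup 2 S) {F : FusionSystem S}
    (hF : F.IsSaturated 2) (hfree : F.IsSectionFree 2 (Equiv.Perm (Fin 4)))
    {N : FusionSystem (normalizerIn S (thompsonSubgroupAOf S))}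
    (hN : F.IsNormalizerSystem (thompsonSubgroupAOf S) N) {z : Ω}
    (hz : z ∈ (S ⊓ Subgroup.centralizer (S : Set Ω) : Subgroup Ω)) (hzN : z ∈ N.center) :
    z ∈ F.center := by
  have hzC : ∀ g ∈ S, g * z = z * g := fun g hg => Subgroup.mem_centralizer_iff.1 hz.2 g hg
  refine mem_center_of_local hS hF hz.1 hzC
    (fun T => Cfsg.thompsonSubgroupA T) (fun T _ α => H74.JA.map_thompsonSubgroupA α)
    (fun T hT => ?_) (fun φ hφ hφX hx => fix_of_normalizer_center hN (Subgroup.map_subtype_le _)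
      hzN φ hφ hφX hx) ?_
  · haveI := H85.finite_of_le hT
    exact center_le_thompsonA T
  · intro Q hQn hQc _ M hM L _ _ ι hmodel hι hsyl hch hxT hfix g
    have hJ : (Cfsg.thompsonSubgroupA ↥(normalizerIn S Q)).map ι =
        Cfsg.thompsonSubgroupAOf ι.range := by
      rw [Cfsg.thompsonSubgroupAOf, ← H74.JA.map_thompsonSubgroupA (MonoidHom.ofInjective hι),
        Subgroup.map_map]
      rfl
    rw [hJ] at hfix
    refine central_two (hfree Q hQn hQc M hM L ι hmodel) hsyl hch ⟨_, rfl⟩ ?_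
      (fun a _ ha => hfix a ha) g trivial
    rintro _ ⟨t, rfl⟩
    refine Commute.map ?_ ι
    exact Subtype.ext (hzC t t.2.1)

end

end H89
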