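import Cfsg.Agent.H89.LiftGen
import Cfsg.Agent.H85.HSaturated2
import Cfsg.Agent.H86.Level

/-!
The lifted system is saturated and weakly normal: a normal subsystem of a central quotient of a
saturated fusion system lifts to a weakly normal subsystem.
-/

set_option autoImplicit false
set_option linter.style.haveILetI false
set_option linter.unusedSectionVars false

open Cfsg Cfsg.FusionSystem

namespace H89.Lift

universe u v

variable {Ω : Type u} [Group Ω] {S : Subgroup Ω} {Ω' : Type v} [Group Ω'] {S' Tb : Subgroup Ω'}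
variable [Finite S] {p : ℕ} [Fact p.Prime] {F : FusionSystem S} {F' : FusionSystem S'}
  {θ : S →* Ω'} {Q : Subgroup Ω} {D : FusionSystem Tb}
variable (h : LiftCtx p F F' θ Q D)
include h

theorem LiftCtx.genSys_isConj_move {M P : Subgroup Ω} {g : normalizerIn (preimageAlong θ Tb) P →* Ω}
    (hP : P ≤ preimageAlong θ Tb) (hg : Move p F θ Q D M P g) : h.genSys.IsConj P M := by
  obtain ⟨hg1, -, rfl⟩ := hg
  exact H85.isConj_img (F := h.genSys) hg1 (H85.le_normalizerIn hP)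

theorem LiftCtx.genSys_fullyAutomized {M : Subgroup Ω} (hM : Cen θ Q D M)
    (hMn : D.IsFullyNormalized (imageAlong θ M)) :
    h.genSys.IsFullyAutomized p M := by
  haveI := h.finite_S'
  haveI := h.finite_Tb
  haveI : Finite (preimageAlong θ Tb) := H85.finite_of_le (pre_le Tb)
  have hTp : IsPGroup p (preimageAlong θ Tb) := h.hS.to_le (pre_le Tb)
  have hMS : M ≤ S := hM.2.1.trans (pre_le Tb)
  rw [H85.isFullyAutomized_iff hTp]
  refine ⟨hM.2.1, fun K hKA hKp hle => le_antisymm (fun g hg => ?_) hle⟩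
  have hKB : K ≤ autB p F θ D M := fun a ha =>
    h.gen_aut_mem_B hM ((H85.mem_autGroup hM.2.1).1 (hKA ha))
  obtain ⟨K', hK'D, -, hK2, hK'p⟩ := h.exists_imgGroup hMS (hKB.trans (h.autB_le hM.2.1))
  have hTK : autInducedBy Tb (imageAlong θ M) ≤ K' := by
    intro d hd
    obtain ⟨u, hu, hui⟩ := h.lift_induced hM hd
    obtain ⟨d', hd', hdi⟩ := hK2 u (hle hu)
    exact Ind.unique θ hdi hui ▸ hd'
  have heq := ((H85.isFullyAutomized_iff h.hTb).1
    (H85.fullyAutomized_of_fullyNormalized h.hTb h.hD.1.1 hMn)).2 K' hK'D (hK'p p hKp) hTK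
  obtain ⟨g', hg', hgi⟩ := hK2 g hg
  rw [heq] at hg'
  obtain ⟨u, hu, hui⟩ := h.lift_induced hM hg'
  have hk := h.inv_mul_ker hMS (h.autA_le (h.autInducedBy_le_autA hM.2.1 hu))
    (h.autA_le (h.autB_le hM.2.1 (hKB hg))) hui hgi
  have hi := h.ker_inf_B hM hk (mul_mem (inv_mem (h.induced_le_autB hM.2.1 hu)) (hKB hg))
  have := mul_mem hu (h.inn_le_induced hM.2.1 hi)
  rwa [mul_inv_cancel_left] at this

theorem LiftCtx.genSys_receptive {M : Subgroup Ω} (hM : Cen θ Q D M)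
    (hMn : D.IsFullyNormalized (imageAlong θ M)) :
    h.genSys.IsReceptive M := by
  haveI := h.finite_S'
  haveI := h.finite_Tb
  set T := preimageAlong θ Tb with hTdef
  have hTS : T ≤ S := pre_le Tb
  have hMS : M ≤ S := hM.2.1.trans hTS
  refine ⟨hM.2.1, fun R φ hφ hr => ?_⟩
  have hφF := h.gen_mem hφ
  have hRT : R ≤ T := h.gen_source_le hφ
  have hRS : R ≤ S := hRT.trans hTS
  haveI : Finite R := H85.finite_of_le hRS
  haveI : Finite M := H85.finite_of_le hMS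
  have hQR : Q ≤ R := by
    intro z hz
    obtain ⟨x, hx⟩ := hr.ge (hM.1 hz)
    obtain ⟨ψ, -, hψe⟩ := F.inv_mem hφF
    have hφQ : φ.range ≤ S := H85.range_le hφF
    obtain ⟨ψ', hψ', hψe'⟩ := F.inv_mem hφF
    have h1 := h.fix_Q hψ' ⟨φ x, x, rfl⟩ (hx.symm ▸ hz)
    rw [hψe'] at h1
    change (x : Ω) = φ x at h1
    rw [hx] at h1
    exact h1 ▸ x.2
  obtain ⟨φ', hφ', hφe⟩ := h.gen_ind hφ
  have hφ'r : φ'.range = imageAlong θ M := by
    refine le_antisymm ?_ ?_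
    · rintro _ ⟨y, rfl⟩
      obtain ⟨x, -, hy⟩ := exists_img θ y
      rw [show y = ⟨_, th_mem_img θ hRS x⟩ from Subtype.ext hy.symm, hφe]
      exact th_mem_img θ hMS ⟨_, hr.le ⟨x, rfl⟩⟩
    · intro y hy
      obtain ⟨z, hz, -, rfl⟩ := (mem_img θ).1 hy
      obtain ⟨x, rfl⟩ := hr.ge hz
      exact ⟨_, hφe x (th_mem_img θ hRS x)⟩
  obtain ⟨ψ', hψ', hext⟩ :=
    (H85.receptive_of_fullyNormalized h.hTb h.hD.1.1 hMn).2 _ φ' hφ' hφ'r
  obtain ⟨ψ, hψ, hψe⟩ := h.lift_gen hψ'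
  set N := extender T R φ with hNdef
  haveI : Finite (imageAlong θ R) := H85.finite_of_le (h.img_le R)
  have hle : N ≤ preimageAlong θ (extender Tb (imageAlong θ R) φ') := by
    intro g hg
    obtain ⟨hgT, hgN, s, hs, hse⟩ := H85.mem_extender.1 hg
    have hgS := hTS hgT
    refine mem_pre.2 ⟨hgS, H85.mem_extender.2 ⟨(mem_T.1 hgT).2,
      H85.mem_normalizer_of_conj fun y hy => ?_, th θ s, (mem_T.1 hs).2, fun y hy => ?_⟩⟩
    · obtain ⟨x, hx, hxS, rfl⟩ := (mem_img θ).1 hy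
      rw [← th_conj θ hgS hxS]
      exact th_mem_img θ hRS ⟨_, H85.conj_mem_of_mem_normalizer hgN hx⟩
    · obtain ⟨x, hxS, hxy⟩ := exists_img θ y
      have hgx : g * (x : Ω) * g⁻¹ ∈ R := H85.conj_mem_of_mem_normalizer hgN x.2
      have e1 : (⟨th θ g * (y : Ω') * (th θ g)⁻¹, hy⟩ : imageAlong θ R) =
          ⟨th θ ((⟨_, hgx⟩ : R) : Ω), th_mem_img θ hRS _⟩ := Subtype.ext (by
        show th θ g * (y : Ω') * (th θ g)⁻¹ = th θ (g * (x : Ω) * g⁻¹)
        rw [th_conj θ hgS hxS, hxy])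
      rw [e1, hφe, hse x hgx, th_conj θ (mem_T.1 hs).1 (H85.map_mem hφF x),
        show y = ⟨_, th_mem_img θ hRS x⟩ from Subtype.ext hxy.symm, hφe]
  set ψ₁ := ψ.comp (Subgroup.inclusion hle) with hψ₁def
  have hψ₁ : Gen p F θ Q D N ψ₁ := h.gen_restrict hψ hle
  have hRN : R ≤ N := H85.le_extender hRT (h.gen_map_mem hφ)
  have hth : ∀ x : R, th θ (ψ₁ (Subgroup.inclusion hRN x)) = th θ (φ x) := by
    intro x
    rw [← hφe x (th_mem_img θ hRS x)]
    refine ((hψe _).symm.trans ?_)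
    exact hext _ (th_mem_img θ hRS x) _
  have hψ₁M : ∀ x : R, ψ₁ (Subgroup.inclusion hRN x) ∈ M := fun x => by
    refine h.mem_of_th_mem hM.1 (mem_T.1 (h.gen_map_mem hψ₁ _)).1 ?_
    rw [hth]
    exact th_mem_img θ hMS ⟨_, hr.le ⟨x, rfl⟩⟩
  -- the difference is inner
  obtain ⟨f, hf, hfe⟩ := h.gen_inv hφ
  have hfR : ∀ y : M, (f.comp (Subgroup.inclusion hr.ge)) y ∈ R := by
    intro y
    obtain ⟨x, hx⟩ := hr.ge y.2
    rw [show f.comp (Subgroup.inclusion hr.ge) y = f ⟨φ x, x, rfl⟩ from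
      congrArg f (Subtype.ext hx.symm), hfe]
    exact x.2
  let l : M →* Ω := (ψ₁.comp (Subgroup.inclusion hRN)).comp
    ((f.comp (Subgroup.inclusion hr.ge)).codRestrict R hfR)
  have hl : Gen p F θ Q D M l :=
    Gen.comp (h.gen_restrict hf hr.ge) (h.gen_restrict hψ₁ hRN) hfR fun _ => rfl
  have hlr : l.range = M := H86.range_eq_self_of_le F (h.gen_mem hl) (by
    rintro _ ⟨y, rfl⟩
    exact hψ₁M _)
  let a : MulAut M := H85.isoOf l (h.gen_mem hl) hlr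
  have haB : a ∈ autB p F θ D M := h.gen_aut_mem_B hM (h.gen_congr hl fun _ => rfl)
  have hval : ∀ (x : R) (hx : φ x ∈ M), (a ⟨φ x, hx⟩ : Ω) = ψ₁ (Subgroup.inclusion hRN x) := by
    intro x hx
    show ψ₁ _ = ψ₁ _
    refine congrArg ψ₁ (Subtype.ext ?_)
    show f (Subgroup.inclusion hr.ge ⟨φ x, hx⟩) = x
    exact hfe x
  have hak : a ∈ kerA F θ M := by
    refine ⟨h.autA_le (h.autB_le hM.2.1 haB), fun y => ?_⟩
    obtain ⟨x, hx⟩ := hr.ge y.2
    rw [show y = ⟨φ x, hr.le ⟨x, rfl⟩⟩ from Subtype.ext hx.symm, hval, hth]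
  obtain ⟨q, hq⟩ := h.ker_inf_B hM hak haB
  have hqT : ((q : Ω))⁻¹ ∈ T := T.inv_mem (hM.2.1 q.2)
  refine ⟨(Cfsg.conjHom T (q : Ω)⁻¹).comp (ψ₁.codRestrict T (h.gen_map_mem hψ₁)),
    h.genSys.comp_mem hψ₁ (h.genSys.conj_mem le_rfl hqT) (h.gen_map_mem hψ₁), fun x hx hN => ?_⟩
  show (q : Ω)⁻¹ * ψ₁ (Subgroup.inclusion hRN ⟨x, hx⟩) * (q : Ω)⁻¹⁻¹ = φ ⟨x, hx⟩
  rw [← hval ⟨x, hx⟩ (hr.le ⟨_, rfl⟩), ← hq]
  show (q : Ω)⁻¹ * ((q : Ω) * φ ⟨x, hx⟩ * (q : Ω)⁻¹) * (q : Ω)⁻¹⁻¹ = _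
  group

/-- The lifted system is saturated. -/
theorem LiftCtx.genSys_saturated : h.genSys.IsSaturated p := by
  haveI := h.finite_S'
  haveI := h.finite_Tb
  set T := preimageAlong θ Tb with hTdef
  have hTS : T ≤ S := pre_le Tb
  haveI : Finite T := H85.finite_of_le hTS
  refine H85.isSaturated_of_generated (h.hS.to_le hTS) h.genSys {P | Cen θ Q D P} ?_ ?_ ?_ ?_
  · intro P hP R hPR
    obtain ⟨φ, hφ, hr⟩ := hPR
    exact h.cen_conj (e := H85.isoOf φ (h.gen_mem hφ) hr) hP (H85.isFIso_isoOf φ (h.gen_mem hφ) hr)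
  · intro P hP
    obtain ⟨Mb, hPM, hMn⟩ := H85.exists_fullyNormalized D hP.2.2.1
    have hMbS : Mb ≤ S' := hMn.1.trans h.hD.1.2.2.2.1.1
    have himgM := h.img_pre hMbS
    have hM : Cen θ Q D (preimageAlong θ Mb) := ⟨h.Q_le_pre Mb, pre_mono hMn.1, by
      rw [himgM]; exact ⟨hMn.1, fun R hR => hP.2.2.2 R (H85.isConj_trans hPM hR)⟩⟩
    have hMn' : D.IsFullyNormalized (imageAlong θ (preimageAlong θ Mb)) := himgM.symm ▸ hMn
    obtain ⟨g, hg⟩ := h.exists_move hM hMn' hP (himgM.symm ▸ hPM)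
    exact ⟨_, h.genSys_isConj_move hP.2.1 hg, h.genSys_fullyAutomized hM hMn',
      h.genSys_receptive hM hMn'⟩
  · intro E hE P φ hφ
    change Gen p F θ Q D P φ at hφ
    induction hφ with
    | @step P R hR hPR b hb φ he =>
      exact H85.hom_congr (H85.restrict (hE R hR (show _ ∈ h.genSys.Hom R from h.gen_of_B hR hb))
        hPR) fun x => (he x).symm
    | comp _ _ hm he ih1 ih2 => exact H85.hom_congr (E.comp_mem ih1 ih2 hm) fun x => (he x).symm
  · intro P hP hnP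
    have hPT : P ≤ T := hP.1
    have hPS : P ≤ S := hPT.trans hTS
    have hQP : Q ≤ P := fun z hz => H85.centric_self hP (H85.mem_centralizerIn.2
      ⟨h.Q_le_pre Tb hz, fun x hx => h.comm_Q hz (hPS hx)⟩)
    have hnc : ¬ D.IsCentric (imageAlong θ P) := fun hc => hnP ⟨hQP, hPT, hc⟩
    have hPbT : imageAlong θ P ≤ Tb := img_le_of_le hPT
    obtain ⟨Rb, hRb, hnle⟩ : ∃ Rb, D.IsConj (imageAlong θ P) Rb ∧ ¬ centralizerIn Tb Rb ≤ Rb := by
      by_contra hcon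
      push Not at hcon
      exact hnc ⟨hPbT, hcon⟩
    obtain ⟨φ', hφ', rfl⟩ := hRb
    obtain ⟨φ, hφ, hφe⟩ := h.lift_gen hφ'
    have hle : P ≤ preimageAlong θ (imageAlong θ P) := (h.pre_img hQP hPS).ge
    set φ₀ := φ.comp (Subgroup.inclusion hle) with hφ₀def
    have hφ₀ : Gen p F θ Q D P φ₀ := h.gen_restrict hφ hle
    have hRT : φ₀.range ≤ T := by
      rintro _ ⟨x, rfl⟩
      exact h.gen_map_mem hφ₀ x
    have hRS : φ₀.range ≤ S := hRT.trans hTS
    haveI : Finite φ₀.range := H85.finite_of_le hRS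
    have hconj : h.genSys.IsConj P φ₀.range := ⟨φ₀, hφ₀, rfl⟩
    have hQR : Q ≤ φ₀.range := fun z hz =>
      ⟨⟨z, hQP hz⟩, h.fix_Q (h.gen_mem hφ₀) ⟨z, hQP hz⟩ hz⟩
    have himg : imageAlong θ φ₀.range = φ'.range := by
      refine le_antisymm ?_ ?_
      · intro y hy
        obtain ⟨_, ⟨x, rfl⟩, -, rfl⟩ := (mem_img θ).1 hy
        exact ⟨_, hφe (Subgroup.inclusion hle x)⟩
      · rintro _ ⟨y, rfl⟩
        obtain ⟨x, -, hy⟩ := exists_img θ y
        rw [show y = ⟨th θ (x : Ω), th_mem_img θ hPS x⟩ from Subtype.ext hy.symm]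
        exact (hφe (Subgroup.inclusion hle x)) ▸ th_mem_img θ hRS ⟨_, x, rfl⟩
    obtain ⟨y', hy', hy'n⟩ := SetLike.not_le_iff_exists.1 hnle
    obtain ⟨y, hyS, rfl⟩ := h.exists_th (h.hD.1.2.2.2.1.1 hy'.1)
    have hyT : y ∈ T := mem_T.2 ⟨hyS, hy'.1⟩
    have hyc : ∀ x ∈ φ₀.range, th θ (y * x * y⁻¹) = th θ x := by
      intro x hx
      rw [th_conj θ hyS (hRS hx), ← (H85.mem_centralizerIn.1 hy').2 (th θ x)
        (himg ▸ th_mem_img θ hRS ⟨x, hx⟩), mul_inv_cancel_right]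
    have hyN : y ∈ Subgroup.normalizer (φ₀.range : Set Ω) := by
      refine H85.mem_normalizer_of_conj fun x hx =>
        h.mem_of_th_mem hQR (S.mul_mem (S.mul_mem hyS (hRS hx)) (S.inv_mem hyS)) ?_
      rw [hyc x hx]
      exact th_mem_img θ hRS ⟨x, hx⟩
    refine ⟨φ₀.range, hconj, fun hcon => ?_⟩
    set cy := H85.conjAut T φ₀.range ⟨y, hyT, hyN⟩ with hcy
    have hcyT : cy ∈ autInducedBy T φ₀.range := H85.conjAut_range T φ₀.range ▸ ⟨_, rfl⟩
    have hcyG : cy ∈ h.genSys.autGroup φ₀.range := H85.autInducedBy_le_autGroup h.genSys hRT hcyT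
    have hcyk : cy ∈ kerA F θ φ₀.range :=
      ⟨(H85.mem_autGroup hRS).2 (h.gen_mem ((H85.mem_autGroup hRT).1 hcyG)),
        fun x => hyc x x.2⟩
    have hcore : (⟨cy, hcyG⟩ : h.genSys.autGroup φ₀.range) ∈
        Cfsg.pCore p (h.genSys.autGroup φ₀.range) := by
      let N : Subgroup (h.genSys.autGroup φ₀.range) :=
        (kerA F θ φ₀.range).subgroupOf (h.genSys.autGroup φ₀.range)
      have hNn : N.Normal := ⟨fun n hn g => Subgroup.mem_subgroupOf.2
        (h.kerA_congr (h.gen_mem ((H85.mem_autGroup hRT).1 g.2)) (Subgroup.mem_subgroupOf.1 hn))⟩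
      have hNp : IsPGroup p N :=
        (h.kerA_isPGroup hRS).comap_of_injective _ (Subgroup.subtype_injective _)
      have hle : N ≤ Cfsg.pCore p (h.genSys.autGroup φ₀.range) := le_sSup ⟨hNn, hNp⟩
      exact hle (Subgroup.mem_subgroupOf.2 hcyk)
    obtain ⟨r, hr⟩ := hcon ⟨hcyT, ⟨⟨cy, hcyG⟩, hcore, rfl⟩⟩
    have hcent : (r : Ω)⁻¹ * y ∈ centralizerIn T φ₀.range := by
      refine H85.mem_centralizerIn.2 ⟨T.mul_mem (T.inv_mem (hRT r.2)) hyT, fun x hx => ?_⟩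
      have h1 : ((r : Ω) * x * (r : Ω)⁻¹) = y * x * y⁻¹ :=
        congrArg Subtype.val (DFunLike.congr_fun hr (⟨x, hx⟩ : φ₀.range))
      calc x * ((r : Ω)⁻¹ * y) = (r : Ω)⁻¹ * ((r : Ω) * x * (r : Ω)⁻¹) * y := by group
        _ = (r : Ω)⁻¹ * (y * x * y⁻¹) * y := by rw [h1]
        _ = (r : Ω)⁻¹ * y * x := by group
    have hyR : y ∈ φ₀.range := by
      have := φ₀.range.mul_mem r.2 (hP.2 _ hconj hcent)
      rwa [mul_inv_cancel_left] at this
    exact hy'n (himg ▸ th_mem_img θ hRS ⟨y, hyR⟩)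

/-- Automorphisms of `T` carry maps of the lifted system to maps of it. -/
theorem LiftCtx.genSys_normAut {α : MulAut ↥(preimageAlong θ Tb)}
    (hα : α ∈ F.autGroup (preimageAlong θ Tb)) : H86.NormAut h.genSys α := by
  have hTS : (preimageAlong θ Tb) ≤ S := pre_le Tb
  have hd : H86.dmap α ∈ F.Hom (preimageAlong θ Tb) := (H85.mem_autGroup hTS).1 hα
  intro P φ hφ
  change Gen p F θ Q D P φ at hφ
  induction hφ with
  | @step P R hR hPR b hb φ he =>
    let e := H85.resIso (H86.dmap α) (F.injective_of_mem hd) hR.2.1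
    have heF : H85.IsFIso F e := H85.isFIso_resIso hd hR.2.1
    have hR' : Cen θ Q D (H85.img (H86.dmap α) R) := h.cen_conj hR heF
    have hle : H85.img (H86.dmap α) P ≤ H85.img (H86.dmap α) R := H85.img_mono _ hPR
    refine ⟨((H85.img (H86.dmap α) R).subtype.comp (MulAut.congr e b).toMonoidHom).comp
      (Subgroup.inclusion hle), Gen.step hR' hle (h.autB_congr heF hR.2.1 hb) (fun _ => rfl),
      fun x hx => ?_⟩
    show ((e (b (e.symm (Subgroup.inclusion hle ⟨_, hx⟩)))) : Ω) = _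
    rw [show e.symm (Subgroup.inclusion hle ⟨_, hx⟩) = Subgroup.inclusion hPR x from
      (MulEquiv.symm_apply_eq e).2 (Subtype.ext rfl)]
    show ((α _ : (preimageAlong θ Tb)) : Ω) = _
    exact congrArg (fun w : (preimageAlong θ Tb) => ((α w : (preimageAlong θ Tb)) : Ω)) (Subtype.ext (he x).symm)
  | @comp P R φ χ ψ h1 h2 hm he ih1 ih2 =>
    obtain ⟨χ1, hχ1, he1⟩ := ih1
    obtain ⟨χ2, hχ2, he2⟩ := ih2
    have hPT := h.gen_source_le h1
    have hval : ∀ (y : H85.img (H86.dmap α) P), ∃ (x : P)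
        (hx : ((α ⟨x, hPT x.2⟩ : (preimageAlong θ Tb)) : Ω) ∈ H85.img (H86.dmap α) P),
        y = ⟨((α ⟨x, hPT x.2⟩ : (preimageAlong θ Tb)) : Ω), hx⟩ := by
      rintro ⟨y, hy⟩
      obtain ⟨w, hw, rfl⟩ := H85.mem_img.1 hy
      exact ⟨⟨w, hw⟩, hy, rfl⟩
    have hm' : ∀ y, χ1 y ∈ H85.img (H86.dmap α) R := by
      intro y
      obtain ⟨x, hx, rfl⟩ := hval y
      rw [he1 x hx]
      exact H85.mem_img.2 ⟨_, hm x, rfl⟩
    refine ⟨χ2.comp (χ1.codRestrict _ hm'), Gen.comp hχ1 hχ2 hm' (fun _ => rfl), fun x hx => ?_⟩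
    show χ2 ⟨χ1 ⟨_, hx⟩, _⟩ = _
    have hy : ((α ⟨φ x, h.gen_source_le h2 (hm x)⟩ : (preimageAlong θ Tb)) : Ω) ∈ H85.img (H86.dmap α) R :=
      H85.mem_img.2 ⟨_, hm x, rfl⟩
    rw [show (⟨χ1 ⟨_, hx⟩, hm' _⟩ : H85.img (H86.dmap α) R) = ⟨_, hy⟩ from
      Subtype.ext (he1 x hx), he2 ⟨φ x, hm x⟩ hy]
    exact congrArg (fun w : (preimageAlong θ Tb) => ((α w : (preimageAlong θ Tb)) : Ω)) (Subtype.ext (he x).symm)

/-- The lifted system is weakly normal. -/
theorem LiftCtx.genSys_weaklyNormal : h.genSys.IsWeaklyNormalIn F p := by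
  haveI := h.finite_S'
  haveI := h.finite_Tb
  set T := preimageAlong θ Tb with hTdef
  have hTS : T ≤ S := pre_le Tb
  haveI : Finite T := H85.finite_of_le hTS
  have hTc := h.stronglyClosed_T
  refine ⟨h.genSys_saturated, h.hF, fun P φ hφ => h.gen_mem hφ, hTc, ?_, ?_⟩
  · intro P hPT φ hφ α hα
    obtain ⟨χ, hχ, he⟩ := h.genSys_normAut hα P φ hφ
    exact ⟨χ, hχ, fun x _ hx => he x hx⟩
  refine H86.induction_within h.hS h.hF hTc
    (fun P φ => ∃ α ∈ F.autGroup T, H86.Lev h.genSys α P φ) ?_ ?_ ?_ ?_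
  · rintro P R φ hh - - ⟨α, hα, hl⟩
    exact ⟨α, hα, hl.res hh fun _ => rfl⟩
  · rintro P R U e e' - - - - - ⟨α, hα, hl⟩ ⟨α', hα', hl'⟩
    exact ⟨α' * α, mul_mem hα' hα, hl.comp hl' (h.genSys_normAut (inv_mem hα))
      (fun x => (e x).2) fun _ => rfl⟩
  · rintro P R e - - - ⟨α, hα, hl⟩
    exact ⟨α⁻¹, inv_mem hα, hl.inv (h.genSys_normAut hα) fun y => ⟨e.symm y, by simp, rfl⟩⟩
  intro U hUT hU ih a ha
  rcases eq_or_lt_of_le hUT with rfl | hlt
  · exact ⟨a, ha, (H86.lev_aut a le_rfl).congr fun _ => rfl⟩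
  have hUS : U ≤ S := hU.1
  haveI : Finite U := H85.finite_of_le hUS
  have haI : H85.IsFIso F a := (H85.mem_autGroup hUS).1 ha
  -- extension to a larger source suffices
  have hext : ∀ (X : Subgroup Ω) (hUX : U ≤ X) (ψ : X →* Ω), X ≤ T → U < X → ψ ∈ F.Hom X →
      (∀ x : U, ψ (Subgroup.inclusion hUX x) = (a x : Ω)) →
      ∃ α ∈ F.autGroup T, H86.Lev h.genSys α U (U.subtype.comp a.toMonoidHom) := by
    intro X hUX ψ hXT hlt' hψ he
    haveI : Finite X := H85.finite_of_le (hXT.trans hTS)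
    have hcard : Nat.card U < Nat.card X := by
      by_contra hc
      exact hlt'.ne (Subgroup.eq_of_le_of_card_ge hUX (not_lt.1 hc))
    obtain ⟨α, hα, hl⟩ := ih X hXT hcard ψ hψ
    exact ⟨α, hα, hl.res hUX fun x => (he x).symm⟩
  by_cases hQU : Q ≤ U
  swap
  · obtain ⟨ψ, hψ, hψe, -⟩ := h.hQ.2 U _ haI
    exact hext _ le_sup_left ψ (sup_le hUT (h.Q_le_pre Tb))
      (left_lt_sup.2 hQU) hψ hψe
  by_cases hcen : D.IsCentric (imageAlong θ U)
  swap
  · have hUbT : imageAlong θ U ≤ Tb := img_le_of_le hUT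
    have hfn : D.IsFullyNormalized (imageAlong θ U) :=
      H86.fullyNormalized_weaklyNormal h.hS' h.hD.1 hUbT (h.img_fullyNormalized hU hQU)
    have hnle : ¬ centralizerIn Tb (imageAlong θ U) ≤ imageAlong θ U := fun hc =>
      hcen (H85.centric_of_fullyCentralized h.hTb h.hD.1.1
        (H85.fullyCentralized_of_fullyNormalized h.hTb h.hD.1.1 hfn) hc)
    obtain ⟨y', hy', hy'n⟩ := SetLike.not_le_iff_exists.1 hnle
    obtain ⟨y, hyS, rfl⟩ := h.exists_th (h.hD.1.2.2.2.1.1 hy'.1)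
    have hyT : y ∈ T := mem_T.2 ⟨hyS, hy'.1⟩
    have hyc : ∀ x ∈ U, th θ (y * x * y⁻¹) = th θ x := by
      intro x hx
      rw [th_conj θ hyS (hUS hx), ← (H85.mem_centralizerIn.1 hy').2 (th θ x)
        (th_mem_img θ hUS ⟨x, hx⟩), mul_inv_cancel_right]
    have hyN : y ∈ Subgroup.normalizer (U : Set Ω) := by
      refine H85.mem_normalizer_of_conj fun x hx =>
        h.mem_of_th_mem hQU (S.mul_mem (S.mul_mem hyS (hUS hx)) (S.inv_mem hyS)) ?_
      rw [hyc x hx]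
      exact th_mem_img θ hUS ⟨x, hx⟩
    set cy := H85.conjAut S U ⟨y, hyS, hyN⟩ with hcy
    have hcyS : cy ∈ autInducedBy S U := H85.conjAut_range S U ▸ ⟨_, rfl⟩
    have hcyk : cy ∈ kerA F θ U :=
      ⟨H85.autInducedBy_le_autGroup F hUS hcyS, fun x => hyc x x.2⟩
    obtain ⟨s, hs, hse⟩ :=
      H85.mem_autInducedBy.1 (h.kerA_le_induced hU (h.kerA_congr haI hcyk))
    obtain ⟨ψ, hψ, hψe⟩ :=
      H85.receptive_extend (H85.receptive_of_fullyNormalized h.hS h.hF hU) haI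
    have hyX : y ∈ extender S U (U.subtype.comp a.toMonoidHom) := by
      refine H85.mem_extender.2 ⟨hyS, hyN, s, hs, fun x hx => ?_⟩
      show (a ⟨y * x * y⁻¹, hx⟩ : Ω) = s * (a x : Ω) * s⁻¹
      rw [← hse]
      show _ = (a (cy (a.symm (a x))) : Ω)
      rw [MulEquiv.symm_apply_apply]
      rfl
    have hUE : U ≤ extender S U (U.subtype.comp a.toMonoidHom) :=
      H85.le_extender hUS fun x => H85.map_mem haI x
    have hle : U ⊔ Subgroup.zpowers y ≤ extender S U (U.subtype.comp a.toMonoidHom) :=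
      sup_le hUE (Subgroup.zpowers_le.2 hyX)
    refine hext (U ⊔ Subgroup.zpowers y) le_sup_left (ψ.comp (Subgroup.inclusion hle))
      (sup_le hUT (Subgroup.zpowers_le.2 hyT)) (left_lt_sup.2 fun hcon => ?_)
      (H85.restrict hψ hle) (fun x => hψe x x.2 _)
    exact hy'n (th_mem_img θ hUS ⟨y, hcon (Subgroup.mem_zpowers y)⟩)
  have hUc : Cen θ Q D U := ⟨hQU, hUT, hcen⟩
  have hN : normalizerIn T U ≤ normalizerIn S U := inf_le_inf_right _ hTS
  obtain ⟨k, hk, β, hβ, hkβ, ψ, hψ, hψe⟩ := H86.frattini_step h.hS h.hF hU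
    (K := autB p F θ D U) ((h.autB_le hUT).trans h.autA_le)
    (fun b hb k hk => h.autB_congr ((H85.mem_autGroup hUS).1 hb) hUT hk) ha
    (normalizerIn T U) hN fun g hg =>
      h.induced_le_autB hUT (H85.mem_autInducedBy.2 ⟨g, hg.1, fun _ => rfl⟩)
  have hle : U ⊔ normalizerIn T U ≤ T := sup_le hUT inf_le_left
  have hbig : Nat.card U < Nat.card ↥(U ⊔ normalizerIn T U) :=
    (H86.card_lt_card_normalizerIn h.hS hTS hlt).trans_le (by
      have : Finite ↥(U ⊔ normalizerIn T U) := H85.finite_of_le (hle.trans hTS)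
      exact Subgroup.card_le_of_le le_sup_right)
  obtain ⟨α, hα, hl⟩ := ih _ hle hbig ψ hψ
  have hl' : H86.Lev h.genSys 1 U (U.subtype.comp k.toMonoidHom) :=
    H86.lev_one.2 (h.gen_of_B hUc hk)
  have hlβ : H86.Lev h.genSys α U (U.subtype.comp β.toMonoidHom) :=
    hl.res le_sup_left fun x => (hψe x).symm
  refine ⟨1 * α, by rwa [one_mul], ?_⟩
  exact hlβ.comp (ψ := U.subtype.comp k.toMonoidHom) hl' (h.genSys_normAut (inv_mem hα))
    (fun x => (β x).2) fun x => by rw [hkβ]; rfl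

end H89.Lift
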