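import Cfsg.Agent.H89.CompBasic
import Cfsg.Agent.H89.LiftSat
import Cfsg.Agent.H86.WeaklyNormalResidual
import Cfsg.Agent.H87.EngineTools
import Cfsg.Agent.S5132
import Cfsg.Agent.S5134

/-!
A saturated fusion system that is not constrained has a component. In a minimal situation (all
proper normal subsystems constrained) the quotient by the centre is simple, since a normal
subsystem of it lifts to a weakly normal subsystem, whose `p'`-residual is normal.
-/

set_option autoImplicit false
set_option linter.style.haveILetI false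
set_option linter.unusedSectionVars false

open Cfsg Cfsg.FusionSystem

namespace H89

universe u

variable {Ω : Type u} [Group Ω] {S : Subgroup Ω} [Finite S] {p : ℕ} [Fact p.Prime]

omit [Fact p.Prime] in
/-- A proper subsystem misses a map. -/
theorem exists_map_notMem {T : Subgroup Ω} {F : FusionSystem S} {E : FusionSystem T}
    (hEF : E.IsSubsystemOf F) (hne : ¬ SameSys E F) :
    ∃ (P : Subgroup Ω) (φ : P →* Ω), φ ∈ F.Hom P ∧ φ ∉ E.Hom P := by
  by_contra hcon
  push Not at hcon
  refine hne ⟨le_antisymm (H87.subsystem_le hEF) ?_,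
    fun P => Set.Subset.antisymm (hEF P) fun φ hφ => hcon P φ hφ⟩
  exact H85.source_le (hcon S _ (H85.id_mem F le_rfl))

/-- A minimal nonconstrained system is quasisimple. -/
theorem quasisimple_of_min (hS : IsPGroup p S) {F : FusionSystem S} (hF : F.IsSaturated p)
    (hnc : ¬ F.IsConstrained p) (hmin : MinNonconstrained p F) : F.Quasisimple p := by
  have hhyp := hyperfocal_eq_top hS hF hnc hmin
  have hcore := core_eq_center hS hF hnc hmin
  have hQS : F.center ≤ S := center_le F
  refine ⟨hF, hhyp, fun E hE => ?_⟩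
  have hQsc : F.StronglyClosed F.center := by
    refine ⟨hQS, fun P hP φ hφ x => ?_⟩
    have h : φ x = (x : Ω) := center_fix hφ x.2 (hP x.2)
    exact h.symm ▸ hP x.2
  have hsm := Cfsg.Agent.S5134.result p hS F hF F.center hQsc _ E hE
  have hEs : E.IsSaturated p := H86.isSaturated_image hS hF hsm
  refine ⟨hEs, fun hbot => ?_, fun Tb D hD => ?_⟩
  · apply hnc
    refine isConstrained_of_normal hF (core_isNormal F) fun x hx => ?_
    rw [hcore]
    refine (hE.2.1 ⟨x, hx.1⟩).1 ?_
    exact Subgroup.mem_bot.1 (hbot ▸ Subgroup.mem_top _)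
  set θ := QuotientGroup.mk' (F.center.subgroupOf S) with hθ
  have ctx : Lift.LiftCtx p F E θ F.center D := ⟨hS, hF, center_isCentral F, hE, hD⟩
  haveI := ctx.finite_Tb
  have hTS : preimageAlong θ Tb ≤ S := Lift.pre_le Tb
  haveI : Finite (preimageAlong θ Tb) := H85.finite_of_le hTS
  have hGw := ctx.genSys_weaklyNormal
  have hNn := H86.residual_normal hS hGw
  have hNsub : ∀ P, (H86.minSysCl p ctx.genSys).Hom P ⊆ ctx.genSys.Hom P :=
    fun P φ hφ => H86.primeData_minSysCl.sub P hφ
  by_cases hsame : SameSys (H86.minSysCl p ctx.genSys) F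
  · obtain ⟨hTeq, hhom⟩ := hsame
    right
    have htop : Tb = ⊤ := by
      refine top_le_iff.1 fun y _ => ?_
      obtain ⟨s, rfl⟩ := QuotientGroup.mk'_surjective (F.center.subgroupOf S) y
      exact ((H86.mem_preimageAlong).1 (hTeq.ge s.2)).2
    refine ⟨htop, fun P' => Set.Subset.antisymm (hD.1.2.2.1 P') fun φ' hφ' => ?_⟩
    obtain ⟨φ, hφ, hφe⟩ := ctx.lift_hom hφ'
    rw [← hhom] at hφ
    obtain ⟨χ, hχ, hχe⟩ := ctx.gen_ind (hNsub _ hφ)
    have himg : imageAlong θ (preimageAlong θ P') = P' := ctx.img_pre le_top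
    refine H85.hom_congr (H85.restrict hχ himg.ge) fun y => ?_
    obtain ⟨x, hxS, hxy⟩ := Lift.exists_img θ (Subgroup.inclusion himg.ge y)
    show χ (Subgroup.inclusion himg.ge y) = φ' y
    rw [show Subgroup.inclusion himg.ge y = ⟨Lift.th θ (x : Ω), Lift.th_mem_img θ (Lift.pre_le P') x⟩
      from Subtype.ext hxy.symm, hχe, ← hφe]
    exact congrArg φ' (Subtype.ext hxy)
  · left
    have hNc := hmin _ _ hNn hsame
    obtain ⟨-, hcc, -⟩ := H86.core_spec (hS.to_le hTS) hNc
    have h1 : (H86.minSysCl p ctx.genSys).core ≤ F.center :=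
      (show (H86.minSysCl p ctx.genSys).core ≤ F.core from
        le_sSup (core_normal_of_weaklyNormal hS hNn.1)).trans hcore.le
    refine (Subgroup.eq_bot_iff_forall _).2 fun y hy => ?_
    obtain ⟨x, hx, rfl⟩ := ctx.exists_th (show y ∈ (⊤ : Subgroup _) from Subgroup.mem_top y)
    have hxT : x ∈ preimageAlong θ Tb := Lift.mem_T.2 ⟨hx, hy⟩
    refine (ctx.th_eq_one hx).2 (h1 (H85.centric_self hcc (H85.mem_centralizerIn.2
      ⟨hxT, fun q hq => ?_⟩)))
    exact (Subgroup.mem_centralizer_iff.1 (F.center_le_centralizer (h1 hq)) x hx).symm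

/-- A saturated system that is not constrained has a component. -/
theorem exists_component_of_not_constrained (hS : IsPGroup p S) {F : FusionSystem S}
    (hF : F.IsSaturated p) (hnc : ¬ F.IsConstrained p) :
    ∃ (T : Subgroup Ω) (C : FusionSystem T), C.IsComponentIn F p := by
  suffices H : ∀ (n : ℕ) (S : Subgroup Ω) [Finite S], IsPGroup p S → ∀ F : FusionSystem S,
      F.IsSaturated p → H87.weight F = n → ¬ F.IsConstrained p →
      ∃ (T : Subgroup Ω) (C : FusionSystem T), C.IsComponentIn F p from
    H _ S hS F hF rfl hnc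
  intro n
  induction n using Nat.strong_induction_on with
  | _ n ih =>
  clear hnc hF hS F
  intro S _ hS F hF hn hnc
  by_cases hmin : MinNonconstrained p F
  · exact ⟨S, F, FusionSystem.IsSubnormalIn.refl F p, quasisimple_of_min hS hF hnc hmin⟩
  · simp only [MinNonconstrained, not_forall] at hmin
    obtain ⟨T, E, hE, hne, hEnc⟩ := hmin
    have hTS : T ≤ S := hE.1.2.2.2.1.1
    haveI : Finite T := H85.finite_of_le hTS
    obtain ⟨P, φ, hφ, hφn⟩ := exists_map_notMem hE.1.2.2.1 hne
    obtain ⟨U, C, hC⟩ := ih _ (hn ▸ H87.weight_lt hE.1.2.2.1 hφ hφn) T (hS.to_le hTS) E hE.1.1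
      rfl hEnc
    exact ⟨U, C, component_of_subnormal hC
      (FusionSystem.IsSubnormalIn.step (FusionSystem.IsSubnormalIn.refl E p) hE)⟩

/-- A saturated system is constrained iff it has no component. -/
theorem constrained_iff_no_component (hS : IsPGroup p S) {F : FusionSystem S}
    (hF : F.IsSaturated p) :
    F.IsConstrained p ↔ ¬ ∃ (T : Subgroup Ω) (C : FusionSystem T), C.IsComponentIn F p := by
  refine ⟨fun hc ⟨_, C, hC⟩ => not_component_of_constrained hS hc C hC, fun h => ?_⟩
  by_contra hnc
  exact h (exists_component_of_not_constrained hS hF hnc)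

end H89
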