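import Cfsg.Agent.H89.KeyAut

/-!
A saturation criterion by induction on a key, after `H85.isSaturated_of_generated`.
-/

set_option autoImplicit false
set_option linter.style.haveILetI false

open Cfsg Cfsg.FusionSystem H85

namespace H89.KeyCrit

variable {Ω : Type*} [Group Ω] {S : Subgroup Ω} [Finite S] {p : ℕ} [Fact p.Prime]

/-- A fusion system generated by automorphisms of members of a conjugation closed `H` is
saturated, if members of `H` are saturated given saturation at larger key, and centric non-members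
have a conjugate `Q` with an `S`-induced automorphism in `O_p(Aut Q)` outside `Inn Q`. -/
theorem isSaturated_of_key (hS : IsPGroup p S) (D : FusionSystem S)
    (Gen : ∀ R : Subgroup Ω, Set (R →* Ω)) (hgenSub : ∀ R, Gen R ⊆ D.Hom R)
    (hgenRange : ∀ R, ∀ f ∈ Gen R, f.range = R)
    (hgen : ∀ X : FusionSystem S, (∀ R, Gen R ⊆ X.Hom R) → D ≤ X)
    (key : Subgroup Ω → ℕ) (hmono : ∀ A T : Subgroup Ω, A < T → T ≤ S → key A < key T)
    (hkconj : ∀ A A' : Subgroup Ω, D.IsConj A A' → key A = key A')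
    (H : Set (Subgroup Ω)) (hHconj : ∀ P ∈ H, ∀ Q, D.IsConj P Q → Q ∈ H)
    (hgenH : ∀ R, ∀ f ∈ Gen R, R ∈ H)
    (hsat : ∀ P ∈ H, P ≤ S → (∀ R : Subgroup Ω, R ≤ S → key P < key R → Sat p D R) → Sat p D P)
    (hstar : ∀ P : Subgroup Ω, D.IsCentric P → P ∉ H →
      (∀ R : Subgroup Ω, R ≤ S → key P < key R → Sat p D R) → ∃ Q, D.IsConj P Q ∧
      ¬ (Cfsg.autInducedBy S Q ⊓
        (Cfsg.pCore p ↥(D.autGroup Q)).map (D.autGroup Q).subtype ≤ Cfsg.Inn Q)) :
    D.IsSaturated p := by
  have hle : ∀ A : Subgroup Ω, A ≤ S → key A ≤ key S := fun A hA => by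
    rcases eq_or_lt_of_le hA with rfl | h
    · exact le_rfl
    · exact (hmono A S h le_rfl).le
  have hSH : S ∈ H := by
    by_contra h
    obtain ⟨Q, hQ, hne⟩ := hstar S (centric_top D) h fun R hR hlt =>
      absurd hlt (hle R hR).not_gt
    refine hne (inf_le_left.trans ?_)
    rw [conj_top hQ]
    intro c hc
    obtain ⟨g, hg, hgc⟩ := mem_autInducedBy.1 hc
    exact ⟨⟨g, hg⟩, MulEquiv.ext fun x => Subtype.ext (hgc x).symm⟩
  have main : ∀ n, ∀ P : Subgroup Ω, P ≤ S → key S - key P = n → Sat p D P := by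
    intro n
    induction n using Nat.strong_induction_on with
    | _ n ih =>
    intro P₀ hP₀S hn
    have hup₀ : ∀ R : Subgroup Ω, R ≤ S → key P₀ < key R → Sat p D R := fun R hR hlt => by
      have h1 := hle R hR
      exact ih _ (by omega) R hR rfl
    by_cases hP₀ : P₀ ∈ H
    · exact hsat P₀ hP₀ hP₀S hup₀
    obtain ⟨P, hconj, hFN⟩ := exists_fullyNormalized D hP₀S
    have hPS : P ≤ S := hFN.1
    have hPH : ∀ Q, D.IsConj P Q → Q ∉ H := fun Q hQ hQH =>
      hP₀ (hHconj Q hQH P₀ (isConj_symm (isConj_trans hconj hQ)))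
    have hPlt : P < S := lt_of_le_of_ne hPS fun h =>
      hPH P (isConj_refl D hPS) (h ▸ hSH)
    have hkP : key P₀ = key P := hkconj _ _ hconj
    have hup : ∀ R : Subgroup Ω, R ≤ S → key P < key R → Sat p D R := fun R hR hlt =>
      hup₀ R hR (hkP ▸ hlt)
    have hbig : ∀ T : Subgroup Ω, T ≤ S → P < T → Sat p D T := fun T hT hlt =>
      hup T hT (hmono P T hlt hT)
    have hnm : ∀ Q, D.IsConj P Q →
        ∃ χ ∈ D.Hom (normalizerIn S Q), (∀ x, χ x ∈ normalizerIn S P) ∧ H85.img χ Q = P :=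
      fun Q hQ => charts_exists hS D Gen hgenSub hgen ⟨le_rfl, fun R _ φ hφ x => H85.map_mem hφ x⟩ hPlt
        (fun R f hf A hAR hA => Or.inl
          ((lt_of_le_of_ne hAR fun h => hPH A hA (h ▸ hgenH R f hf)).trans_le
            (le_inf le_rfl (source_le (hgenSub R hf)))))
        (fun A T hA hlt hT => hup T hT
          ((hkconj P A hA).trans_lt (hmono A T (hlt.trans_le inf_le_left) hT)))
        (isConj_refl D hPS) hFN hQ
    have hlt : P < coreW p D P :=
      lt_coreW hS hPS hnm fun hc => hstar P hc (hPH P (isConj_refl D hPS)) hup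
    have hW : coreW p D P ≤ S := (coreW_le p D P).trans (normalizerIn_le P)
    refine ⟨P, hconj, automized_receptive_of_extends hS hPS hnm hW hlt.le (hbig _ hW hlt) ?_⟩
    refine autGroup_le_of_ext hS D Gen hgenSub hgenRange hgen hPlt hnm _
      (fun T ψ a hψ hlt' hTN ha hext =>
        mem_coreRange_of_extend hS hnm hbig hW hlt.le hψ hlt' hTN ha hext)
      fun R f hf a _ e he => ?_
    exact absurd (hgenH R f hf) (hPH R (isConj_symm he.isConj))
  exact fun P hP => main _ P hP rfl

end H89.KeyCrit
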