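import Cfsg.Agent.H87.ComponentCentralize
import Cfsg.Agent.H86.Constrained
import Cfsg.Agent.H86.PowerExists
import Cfsg.Agent.H86.PowerNormal
import Cfsg.Agent.H85.Alperin
import Cfsg.Agent.S5342

/-!
Basic reductions for the existence of components: subnormal chains compose, constrained systems
have no component, the core of a weakly normal subsystem is normal, and a nonconstrained system all
of whose proper normal subsystems are constrained is equal to its `p`-residual and has central core.
-/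

set_option autoImplicit false
set_option linter.style.haveILetI false
set_option linter.unusedSectionVars false

open Cfsg Cfsg.FusionSystem

namespace H89

universe u

variable {Ω : Type u} [Group Ω] {S : Subgroup Ω}

/-- Subnormality is transitive. -/
theorem subnormal_trans {T U : Subgroup Ω} {E : FusionSystem T} {D : FusionSystem U}
    {F : FusionSystem S} {p : ℕ} (h1 : E.IsSubnormalIn D p) (h2 : D.IsSubnormalIn F p) :
    E.IsSubnormalIn F p := by
  induction h2 with
  | refl => exact h1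
  | step _ hDF ih => exact FusionSystem.IsSubnormalIn.step (ih h1) hDF

/-- A component of a subnormal subsystem is a component. -/
theorem component_of_subnormal {T U : Subgroup Ω} {C : FusionSystem T} {D : FusionSystem U}
    {F : FusionSystem S} {p : ℕ} (h1 : C.IsComponentIn D p) (h2 : D.IsSubnormalIn F p) :
    C.IsComponentIn F p :=
  ⟨subnormal_trans h1.1 h2, h1.2⟩

variable [Finite S] {p : ℕ} [Fact p.Prime]

omit [Fact p.Prime] in
/-- The core is normal. -/
theorem core_isNormal (F : FusionSystem S) : F.IsNormal F.core :=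
  H86.sSup_mem_of_sup_closed (C := fun Q => F.IsNormal Q) (fun Q h => h.1) (H86.isNormal_bot F)
    (fun Q R => H86.isNormal_sup F)

omit [Fact p.Prime] in
/-- The centre is contained in the core. -/
theorem center_le_core (F : FusionSystem S) : F.center ≤ F.core := by
  refine le_sSup (show F.IsNormal F.center from ?_)
  obtain ⟨hle, hext⟩ := center_isCentral F
  refine ⟨hle, fun P φ hφ => ?_⟩
  obtain ⟨ψ, hψ, hψP, hψZ⟩ := hext P φ hφ
  refine ⟨ψ, hψ, hψP, le_antisymm ?_ fun z hz => ?_⟩
  · rintro _ ⟨⟨z, hz'⟩, hz, rfl⟩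
    exact (hψZ ⟨z, hz⟩).symm ▸ hz
  · exact ⟨Subgroup.inclusion le_sup_right ⟨z, hz⟩, hz, hψZ ⟨z, hz⟩⟩

/-- A normal self-centralizing subgroup makes the system constrained. -/
theorem isConstrained_of_normal {F : FusionSystem S} (hF : F.IsSaturated p) {Q : Subgroup Ω}
    (hQ : F.IsNormal Q) (hc : centralizerIn S Q ≤ Q) : F.IsConstrained p := by
  refine ⟨hF, Q, hQ, hQ.1, fun R hR => ?_⟩
  have hR' : R = Q := by
    obtain ⟨φ, hφ, rfl⟩ := hR
    haveI := H85.finite_of_le hQ.1
    refine H86.range_eq_self_of_le F hφ ?_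
    rintro _ ⟨x, rfl⟩
    exact (H85.stronglyClosed_of_isNormal hQ).2 _ le_rfl φ hφ x
  subst hR'
  exact hc

/-- A constrained system has no component. -/
theorem not_component_of_constrained (hS : IsPGroup p S) {F : FusionSystem S}
    (hF : F.IsConstrained p) {T : Subgroup Ω} (C : FusionSystem T) : ¬ C.IsComponentIn F p := by
  intro hC
  obtain ⟨hTS, -⟩ := H87.fullyNormalized_of_subnormal hC.1 hS hF.1
  haveI : Finite T := H85.finite_of_le hTS
  have hTp : IsPGroup p T := hS.to_le hTS
  have hCc : C.IsConstrained p := Cfsg.Agent.S5342.result p hS F hF C hC.1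
  obtain ⟨-, Q, hQn, hQc⟩ := hCc
  obtain ⟨hCsat, hhyp, hsimple⟩ := hC.2
  have hQZ : Q ≤ C.center := H87.le_center_of_quasisimple hTp hC.2 hQn
  have hTZ : T ≤ C.center := fun t ht => by
    refine hQZ (H85.centric_self hQc (H85.mem_centralizerIn.2 ⟨ht, fun q hq => ?_⟩))
    exact (Subgroup.mem_centralizer_iff.1 (C.center_le_centralizer (hQZ hq)) t ht).symm
  have hsc : C.StronglyClosed C.center := by
    refine ⟨center_le C, fun P hP φ hφ x => ?_⟩
    have h : φ x = (x : Ω) := center_fix hφ x.2 (hP x.2)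
    exact h.symm ▸ hP x.2
  obtain ⟨E, hE⟩ := Cfsg.Agent.S5132.result p hTp C C.center hsc
  obtain ⟨-, hne, -⟩ := hsimple E hE
  refine hne ((Subgroup.eq_bot_iff_forall _).2 fun y _ => ?_)
  obtain ⟨s, rfl⟩ := QuotientGroup.mk'_surjective (C.center.subgroupOf T) y
  exact (hE.2.1 s).2 (hTZ s.2)

/-- The core of a weakly normal subsystem is normal in the whole system. -/
theorem core_normal_of_weaklyNormal (hS : IsPGroup p S) {F : FusionSystem S} {T : Subgroup Ω}
    {E : FusionSystem T} (hE : E.IsWeaklyNormalIn F p) : F.IsNormal E.core := by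
  obtain ⟨hEs, hF, hinv⟩ := id hE
  obtain ⟨-, hTc, -, hfrat⟩ := id hinv
  haveI : Finite T := H85.finite_of_le hTc.1
  have hn := core_isNormal E
  have hsc := H85.stronglyClosed_of_isNormal hn
  have hCT : E.core ≤ T := hn.1
  have hα : ∀ α ∈ F.autGroup T, ∀ x : T, (x : Ω) ∈ E.core → (α x : Ω) ∈ E.core := by
    intro α hα x hx
    have hle : H85.img (T.subtype.comp α.toMonoidHom) E.core ≤ E.core :=
      le_sSup (H88.isNormal_transport hinv hn hα)
    exact hle (H85.mem_img.2 ⟨x, hx, rfl⟩)
  have hFsc : F.StronglyClosed E.core := by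
    refine ⟨hCT.trans hTc.1, fun P hP φ hφ x => ?_⟩
    obtain ⟨α, hαF, φ₀, hφ₀, he⟩ := hfrat P (hP.trans hCT) φ hφ
    have h1 : φ₀ x ∈ E.core := hsc.2 P hP φ₀ hφ₀ x
    rw [he x (hCT h1)]
    exact hα α hαF ⟨φ₀ x, hCT h1⟩ h1
  refine H88.isNormal_of_char_wc hS hF hFsc fun C hC hCc => ⟨hC.trans hFsc.1, fun φ hφ => ?_⟩
  refine H88.range_eq_of_le (hC.trans hFsc.1) hφ fun x => ?_
  obtain ⟨α, hαF, φ₀, hφ₀, he⟩ := hfrat C (hC.trans hCT) φ hφ
  have h1 : φ₀ x ∈ C := by
    obtain ⟨ψ, hψ, hext, -⟩ := hn.2 C φ₀ hφ₀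
    rw [← hext x]
    exact H88.char_map_mem hsc hC hCc hψ le_sup_right x.2
  rw [he x (hCT (hC h1))]
  have hd := (H85.mem_autGroup hTc.1).1 hαF
  exact H88.char_map_mem hFsc hC hCc hd hCT (x := (⟨φ₀ x, hCT (hC h1)⟩ : T)) h1

/-- Being equal as systems. -/
def SameSys {T : Subgroup Ω} (E : FusionSystem T) (F : FusionSystem S) : Prop :=
  T = S ∧ ∀ P : Subgroup Ω, E.Hom P = F.Hom P

/-- Every proper normal subsystem is constrained. -/
def MinNonconstrained (p : ℕ) (F : FusionSystem S) : Prop :=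
  ∀ (T : Subgroup Ω) (E : FusionSystem T), E.IsNormalIn F p → ¬ SameSys E F → E.IsConstrained p

/-- In a nonconstrained system all of whose proper normal subsystems are constrained the core is
central. -/
theorem core_eq_center (hS : IsPGroup p S) {F : FusionSystem S} (hF : F.IsSaturated p)
    (hnc : ¬ F.IsConstrained p) (hmin : MinNonconstrained p F) : F.core = F.center := by
  refine le_antisymm ?_ (center_le_core F)
  have hQ := core_isNormal F
  set Q := F.core with hQdef
  have hD := H87.isNormalIn_centralizerSystem hS hF hQ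
  set D := H85.centralizerSystem F Q hQ.1 with hDdef
  by_cases hsame : SameSys D F
  · obtain ⟨-, hhom⟩ := hsame
    refine le_sSup (show F.IsCentral Q from ⟨hQ.1, fun P φ hφ => ?_⟩)
    rw [← hhom] at hφ
    exact hφ.2.2.2
  · exfalso
    have hcD := hmin _ D hD hsame
    have hWS : centralizerIn S Q ≤ S := inf_le_left
    haveI : Finite (centralizerIn S Q) := H85.finite_of_le hWS
    obtain ⟨hn, hc, -⟩ := H86.core_spec (hS.to_le hWS) hcD
    have h1 : D.core ≤ Q := le_sSup (core_normal_of_weaklyNormal hS hD.1)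
    refine hnc (isConstrained_of_normal hF hQ fun w hw => ?_)
    refine h1 (H85.centric_self hc (H85.mem_centralizerIn.2 ⟨hw, fun q hq => ?_⟩))
    exact (H85.mem_centralizerIn.1 hw).2 q (h1 hq)

/-- An automorphism of order prime to `p` moving every element inside the centre is trivial. -/
theorem eq_one_of_trivial_mod_center (hS : IsPGroup p S) {F : FusionSystem S} {P : Subgroup Ω}
    (hP : P ≤ S) {α : MulAut P} (hα : α ∈ F.autGroup P) (hco : Nat.Coprime (orderOf α) p)
    (h : ∀ x : P, (x : Ω)⁻¹ * (α x : Ω) ∈ F.center) : α = 1 := by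
  refine MulEquiv.ext fun x => ?_
  let z : P := x⁻¹ * α x
  have hz : (z : Ω) ∈ F.center := h x
  have hfix : α z = z := Subtype.ext (center_fix ((H85.mem_autGroup hP).1 hα) z.2 hz)
  have hpow : ∀ k : ℕ, (α ^ k) x = x * z ^ k := by
    intro k
    induction k with
    | zero => simp
    | succ k ih =>
      rw [pow_succ', MulAut.mul_apply, ih, map_mul, map_pow, hfix, pow_succ' z k]
      show α x * z ^ k = x * (z * z ^ k)
      rw [← mul_assoc, mul_inv_cancel_left]
  have h1 := hpow (orderOf α)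
  rw [pow_orderOf_eq_one, MulAut.one_apply] at h1
  have hzn : z ^ orderOf α = 1 := mul_eq_left.1 h1.symm
  haveI : Finite P := H85.finite_of_le hP
  obtain ⟨k, hk⟩ := (hS.to_le hP) z
  have h3 : orderOf z ∣ Nat.gcd (orderOf α) (p ^ k) :=
    Nat.dvd_gcd (orderOf_dvd_of_pow_eq_one hzn) (orderOf_dvd_of_pow_eq_one hk)
  have h2 : z = 1 := orderOf_eq_one_iff.1 (Nat.dvd_one.1 ((hco.pow_right k).gcd_eq_one ▸ h3))
  exact (inv_mul_eq_one.1 h2).symm

/-- A nonconstrained system all of whose proper normal subsystems are constrained equals its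
`p`-residual. -/
theorem hyperfocal_eq_top (hS : IsPGroup p S) {F : FusionSystem S} (hF : F.IsSaturated p)
    (hnc : ¬ F.IsConstrained p) (hmin : MinNonconstrained p F) :
    F.hyperfocalSubgroup p = S := by
  by_contra hne
  set T := F.hyperfocalSubgroup p with hTdef
  have hTc := H86.hyperfocal_stronglyClosed hS hF
  obtain ⟨E, hEs, hEi⟩ := H86.exists_powerIndex _ hS F hF T hTc.1 le_rfl le_rfl
  have hEn := H86.isNormalIn_of_powerIndex hS hF hTc.1
    (H86.stronglyClosed_subgroupOf_normal F hTc) le_rfl hEs hEi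
  have hEc := hmin T E hEn fun h => hne h.1
  haveI : Finite T := H85.finite_of_le hTc.1
  obtain ⟨-, hc, -⟩ := H86.core_spec (hS.to_le hTc.1) hEc
  have h1 : E.core ≤ F.center :=
    core_eq_center hS hF hnc hmin ▸ le_sSup (core_normal_of_weaklyNormal hS hEn.1)
  have hTZ : T ≤ F.center := fun t ht => by
    refine h1 (H85.centric_self hc (H85.mem_centralizerIn.2 ⟨ht, fun q hq => ?_⟩))
    exact (Subgroup.mem_centralizer_iff.1 (F.center_le_centralizer (h1 hq)) t (hTc.1 ht)).symm
  have hauts : ∀ P : Subgroup Ω, P ≤ S → IsPGroup p (F.autGroup P) := by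
    intro P hP
    haveI := H85.finite_autGroup F hP
    intro a
    obtain ⟨k, m, hm, hkm⟩ := Nat.exists_eq_pow_mul_and_not_dvd (orderOf_pos a).ne' p
      (Fact.out : p.Prime).ne_one
    have hb : orderOf (a ^ p ^ k) = m := by
      rw [orderOf_pow' a (pow_ne_zero k (Fact.out : p.Prime).ne_zero), hkm,
        Nat.gcd_eq_right (Dvd.intro m rfl),
        Nat.mul_div_cancel_left _ (pow_pos (Fact.out : p.Prime).pos k)]
    have hco : Nat.Coprime (orderOf (a ^ p ^ k)) p :=
      hb ▸ ((Fact.out : p.Prime).coprime_iff_not_dvd.2 hm).symm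
    refine ⟨k, Subtype.ext (eq_one_of_trivial_mod_center hS hP (a ^ p ^ k).2
      (by rwa [Subgroup.orderOf_coe]) fun x => hTZ ?_)⟩
    exact Subgroup.subset_closure ⟨P, a ^ p ^ k, x, hP, Subgroup.subset_closure hco, rfl⟩
  apply hnc
  have hinn := H85.eq_inner_of_isPGroup hS hF hauts
  refine isConstrained_of_normal hF (Q := S) ⟨le_rfl, fun P φ hφ => ?_⟩ inf_le_left
  rw [hinn] at hφ
  obtain ⟨hP, g, hg, he⟩ := hφ
  have hPS : P ⊔ S ≤ S := sup_le hP le_rfl
  haveI : Finite ↥(P ⊔ S) := H85.finite_of_le hPS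
  refine ⟨_, F.conj_mem hPS hg, fun x => (he x).symm, ?_⟩
  refine le_antisymm ?_ fun y hy => ?_
  · rintro _ ⟨z, -, rfl⟩
    exact S.mul_mem (S.mul_mem hg (hPS z.2)) (S.inv_mem hg)
  · refine ⟨Subgroup.inclusion le_sup_right
      ⟨g⁻¹ * y * g, S.mul_mem (S.mul_mem (S.inv_mem hg) hy) hg⟩,
      Subgroup.mem_subgroupOf.2 (S.mul_mem (S.mul_mem (S.inv_mem hg) hy) hg), ?_⟩
    show g * (g⁻¹ * y * g) * g⁻¹ = y
    group

end H89
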