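import Cfsg.Agent.H85.HSaturated
import Cfsg.Agent.H86.Quotient

/-!
Normalizer charts relative to a strongly closed subgroup, after `H85.normalizerMap_exists`.
-/

set_option autoImplicit false
set_option linter.style.haveILetI false

open Cfsg Cfsg.FusionSystem H85

namespace H89.KeyCrit

variable {Ω : Type*} [Group Ω] {S : Subgroup Ω} [Finite S] {p : ℕ} [Fact p.Prime]

/-- Some conjugate is fully automized and receptive. -/
def Sat (p : ℕ) (D : FusionSystem S) (T : Subgroup Ω) : Prop :=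
  ∃ T', D.IsConj T T' ∧ D.IsFullyAutomized p T' ∧ D.IsReceptive T'

/-- Normalizers of a class map into the fully normalized member: it suffices to know saturation
above the class inside a strongly closed `V₀`, generators moving members only inside `V₀`. -/
theorem charts_exists (hS : IsPGroup p S) (D : FusionSystem S)
    (Gen : ∀ R : Subgroup Ω, Set (R →* Ω)) (hgenSub : ∀ R, Gen R ⊆ D.Hom R)
    (hgen : ∀ X : FusionSystem S, (∀ R, Gen R ⊆ X.Hom R) → D ≤ X)
    {V₀ : Subgroup Ω} (hV : D.StronglyClosed V₀) {P : Subgroup Ω} (hPVlt : P < V₀)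
    (hfix : ∀ R, ∀ f ∈ Gen R, ∀ A ≤ R, D.IsConj P A → A < R ⊓ V₀ ∨ H85.img f A = A)
    (hbig : ∀ A T : Subgroup Ω, D.IsConj P A → A < T ⊓ V₀ → T ≤ S → Sat p D T)
    {P₁ : Subgroup Ω} (hP₁ : D.IsConj P P₁) (hn : D.IsFullyNormalized P₁)
    {Q : Subgroup Ω} (hQ : D.IsConj P Q) :
    ∃ χ ∈ D.Hom (normalizerIn S Q), (∀ x, χ x ∈ normalizerIn S P₁) ∧ H85.img χ Q = P₁ := by
  classical
  -- terminal members and reachability
  let Term : Subgroup Ω → Prop := fun Q =>
    ∀ φ ∈ D.Hom (normalizerIn S Q), Nat.card (normalizerIn S (img φ Q)) ≤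
      Nat.card (normalizerIn S Q)
  let Reach : Subgroup Ω → Subgroup Ω → Prop := fun Q Q₁ =>
    Term Q₁ ∧ ∃ φ ∈ D.Hom (normalizerIn S Q), img φ Q = Q₁
  let Equ : Subgroup Ω → Subgroup Ω → Prop := fun Q Q' =>
    ∃ φ ∈ D.Hom (normalizerIn S Q), img φ Q = Q' ∧ φ.range = normalizerIn S Q'
  have hcls : ∀ {Q φT : Subgroup Ω} {φ : φT →* Ω}, D.IsConj P Q → φ ∈ D.Hom φT → Q ≤ φT →
      D.IsConj P (img φ Q) := fun hQ hφ h => isConj_trans hQ (isConj_img hφ h)
  have hQS : ∀ {Q : Subgroup Ω}, D.IsConj P Q → Q ≤ S := fun h => (isConj_le h).2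
  have hcard : ∀ {Q : Subgroup Ω}, D.IsConj P Q → Nat.card Q = Nat.card P :=
    fun h => (isConj_card h).symm
  have hPV : Nat.card P < Nat.card V₀ := card_lt_of_lt hV.1 hPVlt
  have hQV : ∀ {Q : Subgroup Ω}, D.IsConj P Q → Q < V₀ := fun {Q} h => by
    refine lt_of_le_of_ne ?_ fun he => (ne_of_lt hPV) (he ▸ (hcard h).symm)
    obtain ⟨φ, hφ, rfl⟩ := h
    rintro _ ⟨x, rfl⟩
    exact hV.2 P hPVlt.le φ hφ x
  have hQlt : ∀ {Q : Subgroup Ω}, D.IsConj P Q → Q < S := fun h => (hQV h).trans_le hV.1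
  have hVmem : ∀ {R : Subgroup Ω} {φ : R →* Ω}, φ ∈ D.Hom R → ∀ x : R, (x : Ω) ∈ V₀ → φ x ∈ V₀ :=
    fun hφ x hx => H86.map_mem_of_stronglyClosed hV hφ hx
  have hEqu_trans : ∀ {A B C : Subgroup Ω}, A ≤ S → Equ A B → Equ B C → Equ A C := by
    rintro A B C hA ⟨φ, hφ, hi, hr⟩ ⟨ψ, hψ, hi', hr'⟩
    have hval : ∀ x, φ x ∈ normalizerIn S B := fun x => hr ▸ ⟨x, rfl⟩
    refine ⟨_, D.comp_mem hφ hψ hval, by rw [img_img hval hφ, hi, hi'], ?_⟩
    rw [← hr']
    refine le_antisymm ?_ ?_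
    · rintro y ⟨x, rfl⟩
      exact ⟨_, rfl⟩
    · rintro y ⟨⟨z, hz⟩, rfl⟩
      obtain ⟨x, hx⟩ := hr.ge hz
      exact ⟨x, congrArg ψ (Subtype.ext hx)⟩
  have hEqu_symm : ∀ {A B : Subgroup Ω}, A ≤ S → Equ A B → Equ B A := by
    rintro A B hA ⟨φ, hφ, rfl, hr⟩
    refine ⟨_, restrict (isFIso_isoOf φ hφ rfl).symm hr.ge, ?_, ?_⟩
    · rw [img_congr (U := img φ A) (T := φ.range)
        (φ := ((normalizerIn S A).subtype.comp (isoOf φ hφ rfl).symm.toMonoidHom).comp
          (Subgroup.inclusion hr.ge))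
        (ψ := (normalizerIn S A).subtype.comp (isoOf φ hφ rfl).symm.toMonoidHom)
        (le_normalizerIn (img_le hφ)) (img_le_range φ) (fun x => rfl)]
      exact mem_isoOf_symm_img hφ (le_normalizerIn hA)
    · refine le_antisymm ?_ ?_
      · rintro y ⟨x, rfl⟩
        exact ((isoOf φ hφ rfl).symm _).2
      · intro y hy
        refine ⟨⟨φ ⟨y, hy⟩, hr.le ⟨_, rfl⟩⟩, ?_⟩
        exact congrArg Subtype.val (isoOf_symm_apply φ hφ rfl (x := ⟨y, hy⟩) rfl)
  have hTerm_equ : ∀ {A : Subgroup Ω}, A ≤ S → Term A → ∀ φ ∈ D.Hom (normalizerIn S A),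
      φ.range = normalizerIn S (img φ A) := by
    intro A hA hterm φ hφ
    haveI := finite_of_le (normalizerIn_le (S := S) (img φ A))
    refine Subgroup.eq_of_le_of_card_ge ?_ ?_
    · rintro y ⟨x, rfl⟩
      exact map_normalizing hφ (le_normalizerIn hA) le_rfl x
    · rw [← Nat.card_congr (MonoidHom.ofInjective (D.injective_of_mem hφ)).toEquiv]
      exact hterm φ hφ
  have hReach : ∀ {A : Subgroup Ω}, A ≤ S → ∃ A₁, Reach A A₁ := by
    intro A hA
    have hfin : {B : Subgroup Ω | ∃ φ ∈ D.Hom (normalizerIn S A), img φ A = B}.Finite := by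
      refine (finite_conjClass D A).subset ?_
      rintro B ⟨φ, hφ, rfl⟩
      exact isConj_img hφ (le_normalizerIn hA)
    obtain ⟨B, ⟨φ, hφ, hB⟩, hmax⟩ := Set.exists_max_image _
      (fun B => Nat.card (normalizerIn S B)) hfin
      ⟨_, _, id_mem D (normalizerIn_le A), rfl⟩
    refine ⟨B, fun ψ hψ => ?_, φ, hφ, hB⟩
    have hval : ∀ x, φ x ∈ normalizerIn S B :=
      fun x => hB ▸ map_normalizing hφ (le_normalizerIn hA) le_rfl x
    exact hmax _ ⟨_, D.comp_mem hφ hψ hval, by rw [img_img hval hφ, hB]⟩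
  -- the main claim on links
  have main : ∀ n, ∀ (A T : Subgroup Ω) (ψ : T →* Ω), D.IsConj P A → ψ ∈ D.Hom T →
      A < T ⊓ V₀ →
      T ≤ normalizerIn S A → Nat.card S - Nat.card T = n →
      ∀ A₁ A₂, Reach A A₁ → Reach (img ψ A) A₂ → Equ A₁ A₂ := by
    intro n
    induction n using Nat.strong_induction_on with
    | _ n ih =>
      -- first for terminal ends
      have hterm : ∀ (A T : Subgroup Ω) (ψ : T →* Ω), D.IsConj P A → ψ ∈ D.Hom T →
          A < T ⊓ V₀ →
          T ≤ normalizerIn S A → Nat.card S - Nat.card T = n → Term A → Term (img ψ A) →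
          Equ A (img ψ A) := by
        intro A T ψ hA hψ hATV hTN hn' htA htB
        have hAT : A < T := hATV.trans_le inf_le_left
        set B := img ψ A with hB
        have hBc : D.IsConj P B := hcls hA hψ hAT.le
        rcases eq_or_lt_of_le hTN with hTeq | hTlt
        · subst hTeq
          exact ⟨ψ, hψ, rfl, hTerm_equ (hQS hA) htA ψ hψ⟩
        have hTS := source_le hψ
        have hBV : B < ψ.range ⊓ V₀ := by
          refine lt_of_le_of_ne (le_inf (img_le_range ψ) (hQV hBc).le) fun h => ?_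
          obtain ⟨x, hx, hxA⟩ := SetLike.exists_of_lt hATV
          refine hxA ((mem_img_iff hψ (⟨x, hx.1⟩ : T)).1 (h.ge ⟨⟨_, rfl⟩, ?_⟩))
          exact hVmem hψ ⟨x, hx.1⟩ hx.2
        have hrB : ψ.range ≤ normalizerIn S B := by
          rintro y ⟨x, rfl⟩
          exact map_normalizing hψ hAT.le hTN x
        rcases eq_or_lt_of_le hrB with hreq | hrlt
        · refine hEqu_symm (hQS hBc) ⟨_, restrict (isFIso_isoOf ψ hψ rfl).symm hreq.ge, ?_, ?_⟩
          · rw [img_congr (U := B) (T := ψ.range)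
              (φ := (T.subtype.comp (isoOf ψ hψ rfl).symm.toMonoidHom).comp
                (Subgroup.inclusion hreq.ge))
              (ψ := T.subtype.comp (isoOf ψ hψ rfl).symm.toMonoidHom)
              (le_normalizerIn (hQS hBc)) (img_le_range ψ) (fun x => rfl)]
            exact mem_isoOf_symm_img hψ hAT.le
          · have hre := hTerm_equ (hQS hBc) htB _ (restrict (isFIso_isoOf ψ hψ rfl).symm hreq.ge)
            rw [img_congr (U := B) (T := ψ.range)
              (φ := (T.subtype.comp (isoOf ψ hψ rfl).symm.toMonoidHom).comp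
                (Subgroup.inclusion hreq.ge))
              (ψ := T.subtype.comp (isoOf ψ hψ rfl).symm.toMonoidHom)
              (le_normalizerIn (hQS hBc)) (img_le_range ψ) (fun x => rfl),
              mem_isoOf_symm_img hψ hAT.le] at hre
            exact hre
        obtain ⟨T₀, hT₀, e, A₀, he, hT₀a, hT₀r, hA₀T, hmem, hconj⟩ :=
          exists_move (U := A) hTS (hbig A T hA hATV hTS)
        set e' : ψ.range ≃* T₀ := (isoOf ψ hψ rfl).symm.trans e with he'def
        have he' : IsFIso D e' := (isFIso_isoOf ψ hψ rfl).symm.trans he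
        have hmem' : ∀ x : ψ.range, (e' x : Ω) ∈ A₀ ↔ (x : Ω) ∈ B := by
          rintro ⟨_, x, rfl⟩
          have : (isoOf ψ hψ rfl).symm ⟨ψ x, x, rfl⟩ = x := isoOf_symm_apply ψ hψ rfl rfl
          rw [he'def, MulEquiv.trans_apply, this, hmem, hB, mem_img_iff hψ]
        have side : ∀ (C T' : Subgroup Ω) (f : T' ≃* T₀), D.IsConj P C → IsFIso D f → C ≤ T' →
            C < T' ⊓ V₀ →
            T' ≤ normalizerIn S C → T' < normalizerIn S C →
            (∀ x : T', (f x : Ω) ∈ A₀ ↔ (x : Ω) ∈ C) →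
            ∃ M, ∃ χ ∈ D.Hom M, C < M ⊓ V₀ ∧ M ≤ normalizerIn S C ∧ img χ C = A₀ ∧
              Nat.card T < Nat.card M := by
          intro C T' f hC hf hCT' hCV hT'N hlt hfm
          obtain ⟨g, hg, hgN, hgT⟩ := exists_normalizing hS (normalizerIn_le C) hlt
          set M := normalizerIn S T' ⊓ normalizerIn S C with hMdef
          have hT'M : T' ≤ M := le_inf (le_normalizerIn hf.left_le) hT'N
          have hgM : g ∈ M := Subgroup.mem_inf.2 ⟨⟨hg.1, hgN⟩, hg⟩
          have hlt' : T' < M := SetLike.lt_iff_le_and_exists.2 ⟨hT'M, g, hgM, hgT⟩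
          obtain ⟨β, hβ, χ, hχ, hχe⟩ :=
            exists_extension_stab hS hf hT₀ hT₀r hfm hconj (M := M) inf_le_left inf_le_right
          refine ⟨M, χ, hχ, lt_of_lt_of_le hCV (inf_le_inf_right _ hT'M), inf_le_right, ?_, ?_⟩
          · refine le_antisymm ?_ ?_
            · intro y hy
              obtain ⟨x, hx, rfl⟩ := mem_img.1 hy
              rw [show x = ⟨((⟨x, hCT' hx⟩ : T') : Ω), x.2⟩ from rfl, hχe]
              exact (pStab_iff_mem hA₀T hβ _).2 ((hfm _).2 hx)
            · intro y hy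
              obtain ⟨z, hz⟩ := β.surjective ⟨y, hA₀T hy⟩
              obtain ⟨x, rfl⟩ := f.surjective z
              have hxC : (x : Ω) ∈ C := by
                rw [← hfm, ← pStab_iff_mem hA₀T hβ, hz]
                exact hy
              refine mem_img.2 ⟨⟨x, hT'M x.2⟩, hxC, ?_⟩
              rw [hχe, hz]
          · rw [Nat.card_congr e.toEquiv, ← Nat.card_congr f.toEquiv]
            exact card_lt_of_lt (inf_le_left.trans (normalizerIn_le T')) hlt'
        obtain ⟨M, χ, hχ, hAM, hMN, hχA, hMc⟩ := side A T e hA he hAT.le hATV hTN hTlt hmem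
        obtain ⟨M', χ', hχ', hBM, hM'N, hχB, hM'c⟩ := side B ψ.range e' hBc he'
          (img_le_range ψ) hBV hrB hrlt hmem'
        obtain ⟨A', hA'⟩ := hReach (hA₀T.trans hT₀)
        have self : ∀ {C : Subgroup Ω}, D.IsConj P C → Term C → Reach C C := fun hC hc =>
          ⟨hc, _, id_mem D (normalizerIn_le _), by
            refine le_antisymm ?_ ?_
            · intro y hy
              obtain ⟨x, hx, rfl⟩ := mem_img.1 hy
              exact hx
            · intro y hy
              exact mem_img.2 ⟨⟨y, le_normalizerIn (hQS hC) hy⟩, hy, rfl⟩⟩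
        have hMS : M ≤ S := source_le hχ
        have hM'S : M' ≤ S := source_le hχ'
        have hc1 := Subgroup.card_le_of_le hMS
        have hc2 := Subgroup.card_le_of_le hM'S
        have h1 := ih _ (by omega) A M χ hA hχ hAM hMN rfl A A' (self hA htA) (hχA ▸ hA')
        have h2 := ih _ (by omega) B M' χ' hBc hχ' hBM hM'N rfl B A' (self hBc htB) (hχB ▸ hA')
        exact hEqu_trans (hQS hA) h1 (hEqu_symm (hQS hBc) h2)
      intro A T ψ hA hψ hATV hTN hn' A₁ A₂ h₁ h₂
      have hAT : A < T := hATV.trans_le inf_le_left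
      obtain ⟨htA, φ₁, hφ₁, rfl⟩ := h₁
      obtain ⟨htB, φ₂, hφ₂, rfl⟩ := h₂
      set T₁ := img φ₁ T with hT₁
      have hres := isFIso_resIso hφ₁ hTN
      have hval : ∀ x : T, ψ x ∈ normalizerIn S (img ψ A) := map_normalizing hψ hAT.le hTN
      have hψ₁ := D.comp_mem hres.symm (D.comp_mem hψ hφ₂ hval)
        (fun x => ((resIso φ₁ (D.injective_of_mem hφ₁) hTN).symm x).2)
      have himg : img ((φ₂.comp (ψ.codRestrict _ hval)).comp
          ((T.subtype.comp (resIso φ₁ (D.injective_of_mem hφ₁) hTN).symm.toMonoidHom).codRestrict T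
            (fun x => ((resIso φ₁ (D.injective_of_mem hφ₁) hTN).symm x).2)))
          (img φ₁ A) = img φ₂ (img ψ A) := by
        rw [img_img (fun x => ((resIso φ₁ (D.injective_of_mem hφ₁) hTN).symm x).2) hres.symm,
          img_img hval hψ]
        congr 2
        ext y
        constructor
        · intro hy
          obtain ⟨x, hx, rfl⟩ := mem_img.1 hy
          obtain ⟨z, rfl⟩ := (resIso φ₁ (D.injective_of_mem hφ₁) hTN).surjective x
          show (((resIso φ₁ (D.injective_of_mem hφ₁) hTN).symm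
            (resIso φ₁ (D.injective_of_mem hφ₁) hTN z) : T) : Ω) ∈ A
          rw [MulEquiv.symm_apply_apply]
          exact (mem_img_iff hφ₁ _).1 hx
        · intro hy
          refine mem_img.2 ⟨resIso φ₁ (D.injective_of_mem hφ₁) hTN ⟨y, hAT.le hy⟩,
            apply_mem_img (φ := φ₁) hy, ?_⟩
          show (((resIso φ₁ (D.injective_of_mem hφ₁) hTN).symm
            (resIso φ₁ (D.injective_of_mem hφ₁) hTN ⟨y, hAT.le hy⟩) : T) : Ω) = y
          rw [MulEquiv.symm_apply_apply]
      have hle : img φ₁ A ≤ T₁ := img_mono φ₁ hAT.le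
      have hlt : img φ₁ A < T₁ ⊓ V₀ := by
        refine lt_of_le_of_ne (le_inf hle (hQV (hcls hA hφ₁ (le_normalizerIn (hQS hA)))).le)
          fun h => ?_
        obtain ⟨x, hx, hxA⟩ := SetLike.exists_of_lt hATV
        refine hxA ((mem_img_iff hφ₁ (⟨x, hTN hx.1⟩ : normalizerIn S A)).1
          (h.ge ⟨apply_mem_img hx.1, ?_⟩))
        exact hVmem hφ₁ ⟨x, hTN hx.1⟩ hx.2
      have hN₁ : T₁ ≤ normalizerIn S (img φ₁ A) := by
        intro y hy
        obtain ⟨x, -, rfl⟩ := mem_img.1 hy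
        exact map_normalizing hφ₁ (le_normalizerIn (hQS hA)) le_rfl x
      have h := hterm (img φ₁ A) T₁ _ (hcls hA hφ₁ (le_normalizerIn (hQS hA))) hψ₁ hlt hN₁
        (by rw [← hn', Nat.card_congr (resIso φ₁ (D.injective_of_mem hφ₁) hTN).toEquiv])
        htA (himg ▸ htB)
      exact himg ▸ h
  -- linked pairs form a fusion system
  let Linked : Subgroup Ω → Subgroup Ω → Prop := fun A B =>
    ∀ A₁ B₁, Reach A A₁ → Reach B B₁ → Equ A₁ B₁
  have hlink : ∀ {A R : Subgroup Ω} {ψ : R →* Ω}, D.IsConj P A → ψ ∈ D.Hom R → A < R ⊓ V₀ →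
      Linked A (img ψ A) := by
    intro A R ψ hA hψ hARV
    have hAR : A < R := hARV.trans_le inf_le_left
    obtain ⟨g, hg, hgN, hgA⟩ := exists_normalizing hS (inf_le_right.trans hV.1) hARV
    have hAT : A < R ⊓ normalizerIn S A ⊓ V₀ := SetLike.lt_iff_le_and_exists.2
      ⟨le_inf (le_inf hAR.le (le_normalizerIn (hQS hA))) (hQV hA).le, g,
        Subgroup.mem_inf.2 ⟨Subgroup.mem_inf.2 ⟨hg.1, source_le hψ hg.1, hgN⟩, hg.2⟩, hgA⟩
    have h := main _ A _ _ hA (restrict hψ inf_le_left) hAT inf_le_right rfl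
    rw [img_congr (U := A) (ψ := ψ) (hAT.le.trans inf_le_left) hAR.le (fun x => rfl)] at h
    exact h
  have hlink_refl : ∀ {A : Subgroup Ω}, D.IsConj P A → Linked A A := by
    intro A hA
    have h := hlink hA (id_mem D le_rfl) (by rw [inf_eq_right.2 hV.1]; exact hQV hA)
    have he : img S.subtype A = A := by
      refine le_antisymm ?_ ?_
      · intro y hy
        obtain ⟨x, hx, rfl⟩ := mem_img.1 hy
        exact hx
      · exact fun y hy => mem_img.2 ⟨⟨y, hQS hA hy⟩, hy, rfl⟩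
    rwa [he] at h
  have hReach_le : ∀ {A A₁ : Subgroup Ω}, D.IsConj P A → Reach A A₁ → A₁ ≤ S := by
    rintro A A₁ hA ⟨-, φ, hφ, rfl⟩
    exact img_le hφ
  let E : FusionSystem S :=
    { Hom := fun R => {φ | φ ∈ D.Hom R ∧ ∀ U ≤ R, D.IsConj P U → Linked U (img φ U)}
      le_of_mem := fun h => D.le_of_mem h.1
      injective_of_mem := fun h => D.injective_of_mem h.1
      conj_mem := by
        intro R g hR hg
        refine ⟨D.conj_mem hR hg, fun U hU hUc => ?_⟩
        have h := hlink hUc (D.conj_mem le_rfl hg) (by rw [inf_eq_right.2 hV.1]; exact hQV hUc)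
        rwa [img_congr (U := U) (ψ := Cfsg.conjHom R g) (hQS hUc) hU (fun x => rfl)] at h
      comp_mem := by
        rintro R T φ ψ ⟨hφ, hφU⟩ ⟨hψ, hψU⟩ hv
        refine ⟨D.comp_mem hφ hψ hv, fun U hU hUc => ?_⟩
        rw [img_img hv hφ]
        have hUc' : D.IsConj P (img φ U) := hcls hUc hφ hU
        have hle : img φ U ≤ T := fun y hy => by
          obtain ⟨x, -, rfl⟩ := mem_img.1 hy
          exact hv x
        intro A₁ B₁ hA hB
        obtain ⟨C₁, hC⟩ := hReach (hQS hUc')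
        exact hEqu_trans (hReach_le hUc hA) (hφU U hU hUc A₁ C₁ hA hC)
          (hψU _ hle hUc' C₁ B₁ hC hB)
      inv_mem := by
        rintro R φ ⟨hφ, hφU⟩
        refine ⟨R.subtype.comp (isoOf φ hφ rfl).symm.toMonoidHom,
          ⟨(isFIso_isoOf φ hφ rfl).symm, fun U hU hUc => ?_⟩, fun x => ?_⟩
        · let V := img (R.subtype.comp (isoOf φ hφ rfl).symm.toMonoidHom) U
          have hV : V ≤ R := fun y hy => by
            obtain ⟨x, -, rfl⟩ := mem_img.1 hy
            exact ((isoOf φ hφ rfl).symm x).2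
          have hUV : img φ V = U := by
            refine le_antisymm ?_ ?_
            · intro y hy
              obtain ⟨x, hx, rfl⟩ := mem_img.1 hy
              obtain ⟨⟨_, w, rfl⟩, hz, hzx⟩ := mem_img.1 hx
              have : w = x := Subtype.ext (by
                rw [← hzx]
                exact congrArg Subtype.val (isoOf_symm_apply φ hφ rfl (x := w) rfl).symm)
              exact this ▸ hz
            · intro y hy
              obtain ⟨x, rfl⟩ := hU hy
              refine mem_img.2 ⟨x, mem_img.2 ⟨⟨φ x, x, rfl⟩, hy, ?_⟩, rfl⟩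
              exact congrArg Subtype.val (isoOf_symm_apply φ hφ rfl (x := x) rfl)
          have hVc : D.IsConj P V := hcls hUc (isFIso_isoOf φ hφ rfl).symm hU
          intro A₁ B₁ hA hB
          have h := hφU V hV hVc B₁ A₁ hB (hUV.symm ▸ hA)
          exact hEqu_symm (hReach_le hVc hB) h
        · exact congrArg Subtype.val (isoOf_symm_apply φ hφ rfl (x := x) rfl) }
  have hFE : D ≤ E := by
    refine hgen E fun R φ hφ => ⟨hgenSub R hφ, fun U hU hUc => ?_⟩
    rcases hfix R φ hφ U hU hUc with h | h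
    · exact hlink hUc (hgenSub R hφ) h
    · rw [h]
      exact hlink_refl hUc
  obtain ⟨Q₁, hQ₁⟩ := hReach (hQS hQ)
  have hself : Reach P₁ P₁ := by
    refine ⟨fun φ hφ => hn.2 _ (isConj_img hφ (le_normalizerIn hn.1)), _,
      id_mem D (normalizerIn_le _), ?_⟩
    refine le_antisymm ?_ ?_
    · intro y hy
      obtain ⟨x, hx, rfl⟩ := mem_img.1 hy
      exact hx
    · exact fun y hy => mem_img.2 ⟨⟨y, le_normalizerIn hn.1 hy⟩, hy, rfl⟩
  obtain ⟨φ, hφ, hr⟩ := isConj_trans (isConj_symm hQ) hP₁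
  have hL := (hFE Q hφ).2 Q le_rfl hQ
  rw [img_self, hr] at hL
  obtain ⟨ψ, hψ, hψi, hψr⟩ := hL Q₁ P₁ hQ₁ hself
  obtain ⟨-, χ, hχ, hχi⟩ := hQ₁
  have hval : ∀ x, χ x ∈ normalizerIn S Q₁ :=
    fun x => hχi ▸ map_normalizing hχ (le_normalizerIn (hQS hQ)) le_rfl x
  refine ⟨_, D.comp_mem hχ hψ hval, fun x => hψr.le ⟨_, rfl⟩, ?_⟩
  rw [img_img hval hχ, hχi, hψi]

end H89.KeyCrit
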