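import Mathlib
import Cfsg.Agent.H30.Basic

/-!
A coprime automorphism of a `p`-group that fixes a maximal normal abelian subgroup of small
exponent of the part it moves is trivial.
-/

set_option autoImplicit false
set_option linter.style.haveILetI false

namespace H89.AbFix

variable {P : Type*} [Group P] {p : ℕ} [hp : Fact p.Prime]

/-- The small exponent attached to `p`. -/
def smallExp (p : ℕ) : ℕ := if p = 2 then 4 else p

theorem eq_one_of_coprime_fixed (hP : IsPGroup p P) {γ : MulAut P}
    (hγ : (orderOf γ).Coprime p) {g z : P} (h : γ g = g * z) (hz : γ z = z) : γ g = g := by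
  have hn : ∀ n : ℕ, (γ ^ n) g = g * z ^ n := by
    intro n
    induction n with
    | zero => simp
    | succ n ih => rw [pow_succ', MulAut.mul_apply, ih, map_mul, map_pow, h, hz, pow_succ',
        mul_assoc]
  have h1 := hn (orderOf γ)
  rw [pow_orderOf_eq_one, MulAut.one_apply] at h1
  have hz1 : z ^ orderOf γ = 1 := mul_left_cancel (a := g) (by rw [mul_one]; exact h1.symm)
  obtain ⟨k, hk⟩ := hP z
  have hcop : (orderOf γ).Coprime (p ^ k) := Nat.Coprime.pow_right k hγ
  have : orderOf z ∣ 1 := by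
    rw [← hcop.gcd_eq_one]
    exact Nat.dvd_gcd (orderOf_dvd_of_pow_eq_one hz1) (orderOf_dvd_of_pow_eq_one hk)
  rw [h, orderOf_eq_one_iff.mp (Nat.dvd_one.mp this), mul_one]

theorem mul_pow_central {x y c : P} (hcx : Commute c x) (hcy : Commute c y)
    (h : y * x = x * y * c) (n : ℕ) :
    (x * y) ^ n = x ^ n * y ^ n * c ^ (n * (n - 1) / 2) := by
  have hyn : ∀ m : ℕ, y ^ m * x = x * y ^ m * c ^ m := by
    intro m
    induction m with
    | zero => simp
    | succ m ih =>
      calc y ^ (m + 1) * x = y * (y ^ m * x) := by rw [pow_succ', mul_assoc]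
        _ = y * x * (y ^ m * c ^ m) := by rw [ih]; group
        _ = x * y * (c * y ^ m) * c ^ m := by rw [h]; group
        _ = x * y * (y ^ m * c) * c ^ m := by rw [(hcy.pow_right m).eq]
        _ = x * y ^ (m + 1) * c ^ (m + 1) := by rw [pow_succ' y, pow_succ' c]; group
  induction n with
  | zero => simp
  | succ n ih =>
    have hdiv : (n + 1) * (n + 1 - 1) / 2 = n * (n - 1) / 2 + n := by
      have e : (n + 1) * (n + 1 - 1) = n * (n - 1) + 2 * n := by
        cases n with
        | zero => rfl
        | succ k => simp only [Nat.add_sub_cancel]; ring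
      rw [e, Nat.add_mul_div_left _ _ two_pos]
    calc (x * y) ^ (n + 1) = x ^ n * y ^ n * c ^ (n * (n - 1) / 2) * (x * y) := by
          rw [pow_succ, ih]
      _ = x ^ n * (y ^ n * x) * y * c ^ (n * (n - 1) / 2) := by
          have hc2 : Commute (c ^ (n * (n - 1) / 2)) (x * y) := ((hcx.mul_right hcy).pow_left _)
          rw [mul_assoc (x ^ n * y ^ n), hc2.eq]; group
      _ = x ^ n * x * y ^ n * (c ^ n * y) * c ^ (n * (n - 1) / 2) := by rw [hyn]; group
      _ = x ^ n * x * y ^ n * (y * c ^ n) * c ^ (n * (n - 1) / 2) := by rw [(hcy.pow_left n).eq]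
      _ = x ^ (n + 1) * y ^ (n + 1) * c ^ ((n + 1) * (n + 1 - 1) / 2) := by
          rw [hdiv, pow_succ x, pow_succ y, Nat.add_comm (n * (n - 1) / 2) n, pow_add c]
          group

theorem dvd_choose_two : p ≠ 2 → p ∣ p * (p - 1) / 2 := by
  intro h
  obtain ⟨k, hk⟩ : 2 ∣ p - 1 := by
    have := hp.out.odd_of_ne_two h
    obtain ⟨j, rfl⟩ := this
    exact ⟨j, by omega⟩
  rw [hk, show p * (2 * k) = p * k * 2 by ring, Nat.mul_div_cancel _ two_pos]
  exact dvd_mul_right p k

/-- A nontrivial finite `p`-group has a proper subgroup containing all `p`-th powers and all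
commutators. -/
theorem exists_proper_frattini [Finite P] (hP : IsPGroup p P) (D : Subgroup P) (hD : D ≠ ⊥) :
    Subgroup.closure ({z : P | ∃ x ∈ D, z = x ^ p} ∪
      {z : P | ∃ x ∈ D, ∃ y ∈ D, z = x * y * x⁻¹ * y⁻¹}) < D := by
  refine lt_of_le_of_ne ?_ ?_
  · rw [Subgroup.closure_le]
    rintro z (⟨x, hx, rfl⟩ | ⟨x, hx, y, hy, rfl⟩)
    · exact pow_mem hx p
    · exact mul_mem (mul_mem (mul_mem hx hy) (inv_mem hx)) (inv_mem hy)
  · intro heq
    haveI : Nontrivial D := (Subgroup.nontrivial_iff_ne_bot D).mpr hD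
    haveI : Group.IsNilpotent D := (hP.to_subgroup D).isNilpotent
    have hne : commutator D ≠ ⊤ := (IsSolvable.commutator_lt_top_of_nontrivial D).ne
    haveI : Nontrivial (Abelianization D) := by
      refine (QuotientGroup.nontrivial_iff).mpr hne
    have hAb : IsPGroup p (Abelianization D) :=
      (hP.to_subgroup D).of_surjective Abelianization.of QuotientGroup.mk_surjective
    have hnot : (powMonoidHom (α := Abelianization D) p).range ≠ ⊤ := by
      intro h
      have hs : Function.Surjective (powMonoidHom (α := Abelianization D) p) :=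
        MonoidHom.range_eq_top.mp h
      have hi := Finite.injective_iff_surjective.mpr hs
      obtain ⟨a, ha⟩ := exists_prime_orderOf_dvd_card' (G := Abelianization D) p
        ((hAb.card_eq_or_dvd).resolve_left (by
          intro h1; exact absurd (Nat.card_eq_one_iff_unique.mp h1).1 (not_subsingleton _)))
      have : a = 1 := hi (by simp [powMonoidHom_apply, ← ha, pow_orderOf_eq_one])
      rw [this, orderOf_one] at ha
      exact hp.out.ne_one ha.symm
    apply hnot
    rw [eq_top_iff]
    intro a _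
    obtain ⟨d, rfl⟩ := QuotientGroup.mk_surjective a
    have hd : (d : P) ∈ Subgroup.closure ({z : P | ∃ x ∈ D, z = x ^ p} ∪
        {z : P | ∃ x ∈ D, ∃ y ∈ D, z = x * y * x⁻¹ * y⁻¹}) := heq.symm ▸ d.2
    have key : Subgroup.closure ({z : P | ∃ x ∈ D, z = x ^ p} ∪
        {z : P | ∃ x ∈ D, ∃ y ∈ D, z = x * y * x⁻¹ * y⁻¹}) ≤
        ((powMonoidHom (α := Abelianization D) p).range.comap Abelianization.of).map D.subtype := by
      rw [Subgroup.closure_le]
      rintro z (⟨x, hx, rfl⟩ | ⟨x, hx, y, hy, rfl⟩)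
      · exact ⟨⟨x, hx⟩ ^ p, ⟨Abelianization.of ⟨x, hx⟩,
          (powMonoidHom_apply _ _).trans (map_pow Abelianization.of _ p).symm⟩, rfl⟩
      · refine ⟨⟨x, hx⟩ * ⟨y, hy⟩ * ⟨x, hx⟩⁻¹ * ⟨y, hy⟩⁻¹, ⟨1, ?_⟩, rfl⟩
        rw [map_one, map_mul, map_mul, map_mul, map_inv, map_inv, mul_comm (Abelianization.of _)
          (Abelianization.of _), mul_inv_cancel_right, mul_inv_cancel]
    obtain ⟨e, he, hed⟩ := key hd
    have hed' : e = d := Subtype.ext hed
    exact hed' ▸ he

/-- A coprime automorphism fixing the normal subgroup `X` of `H0` pointwise, moving `P` only inside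
`H0`, is trivial if no larger normal abelian subgroup of small exponent lies in `H0`. -/
theorem eq_one_of_no_larger [Finite P] (hP : IsPGroup p P) (H0 X : Subgroup P) [H0.Normal]
    [X.Normal] (hXH : X ≤ H0) (hXc : ∀ a ∈ X, ∀ b ∈ X, a * b = b * a)
    (hXe : ∀ a ∈ X, a ^ smallExp p = 1) {γ : MulAut P} (hγ : (orderOf γ).Coprime p)
    (hfix : ∀ x ∈ X, γ x = x) (hdisp : ∀ g, g⁻¹ * γ g ∈ H0)
    (hno : ∀ A : Subgroup P, A.Normal → X < A → A ≤ H0 → (∀ a ∈ A, ∀ b ∈ A, a * b = b * a) →
      (∀ a ∈ A, a ^ smallExp p = 1) → False) :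
    γ = 1 := by
  classical
  let C : Subgroup P := H0 ⊓ Subgroup.centralizer (X : Set P)
  haveI hCn : C.Normal := by
    haveI : (Subgroup.centralizer (X : Set P)).Normal := Subgroup.normal_centralizer
    exact Subgroup.normal_inf_normal _ _
  have hγH : ∀ h ∈ H0, γ h ∈ H0 := fun h hh => by
    have := mul_mem hh (hdisp h)
    rwa [mul_inv_cancel_left] at this
  have hγC : ∀ c ∈ C, γ c ∈ C := fun c hc => by
    refine ⟨hγH c hc.1, fun x hx => ?_⟩
    conv_lhs => rw [← hfix x hx]
    conv_rhs => rw [← hfix x hx]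
    rw [← map_mul, ← map_mul, hc.2 x hx]
  -- `γ` fixes `C`
  have hC : ∀ c ∈ C, γ c = c := by
    by_contra hcon
    push Not at hcon
    let fam : Set (Subgroup P) :=
      {D | D ≤ C ∧ D.Normal ∧ (∀ d ∈ D, γ d ∈ D) ∧ ∃ d ∈ D, γ d ≠ d}
    obtain ⟨D, hDmem, hDmin⟩ := fam.toFinite.exists_minimal ⟨C, le_rfl, hCn, hγC, hcon⟩
    obtain ⟨hDC, hDn, hDγ, d₀, hd₀, hd₀m⟩ := hDmem
    haveI := hDn
    have hsmall : ∀ K : Subgroup P, K.Normal → K < D → (∀ k ∈ K, γ k ∈ K) →
        ∀ k ∈ K, γ k = k := by
      intro K hK hKD hKγ k hk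
      by_contra hne
      exact hKD.not_ge (hDmin ⟨hKD.le.trans hDC, hK, hKγ, k, hk, hne⟩ hKD.le)
    have hDbot : D ≠ ⊥ := fun h => by
      rw [h, Subgroup.mem_bot] at hd₀
      exact hd₀m (by rw [hd₀, map_one])
    set gK : Set P := {z : P | ∃ x ∈ D, z = x ^ p} ∪
      {z : P | ∃ x ∈ D, ∃ y ∈ D, z = x * y * x⁻¹ * y⁻¹} with hgK
    have hgKconj : ∀ g : P, ∀ z ∈ gK, g * z * g⁻¹ ∈ gK := by
      rintro g z (⟨x, hx, rfl⟩ | ⟨x, hx, y, hy, rfl⟩)
      · exact Or.inl ⟨g * x * g⁻¹, hDn.conj_mem x hx g, conj_pow.symm⟩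
      · exact Or.inr ⟨g * x * g⁻¹, hDn.conj_mem x hx g, g * y * g⁻¹, hDn.conj_mem y hy g,
          by group⟩
    have hKn : (Subgroup.closure gK).Normal := by
      constructor
      intro n hn g
      have hle : Subgroup.closure gK ≤ (Subgroup.closure gK).comap (MulAut.conj g).toMonoidHom :=
        (Subgroup.closure_le _).mpr fun z hz => Subgroup.subset_closure (hgKconj g z hz)
      exact hle hn
    have hKγ : ∀ k ∈ Subgroup.closure gK, γ k ∈ Subgroup.closure gK := by
      have hle : Subgroup.closure gK ≤ (Subgroup.closure gK).comap γ.toMonoidHom := by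
        refine (Subgroup.closure_le _).mpr ?_
        rintro z (⟨x, hx, rfl⟩ | ⟨x, hx, y, hy, rfl⟩)
        · exact Subgroup.subset_closure (Or.inl ⟨γ x, hDγ x hx, map_pow γ x p⟩)
        · exact Subgroup.subset_closure (Or.inr ⟨γ x, hDγ x hx, γ y, hDγ y hy, by simp⟩)
      exact fun k hk => hle hk
    have hKlt : Subgroup.closure gK < D := exists_proper_frattini hP D hDbot
    have hKfix := hsmall _ hKn hKlt hKγ
    -- conjugates of displacements
    set gY : Set P := {z : P | ∃ g : P, ∃ x ∈ D, z = g * (x⁻¹ * γ x) * g⁻¹} with hgY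
    have hYn : (Subgroup.closure gY).Normal := by
      constructor
      intro n hn g
      have hle : Subgroup.closure gY ≤ (Subgroup.closure gY).comap (MulAut.conj g).toMonoidHom := by
        refine (Subgroup.closure_le _).mpr ?_
        rintro z ⟨h, x, hx, rfl⟩
        refine Subgroup.subset_closure ⟨g * h, x, hx, ?_⟩
        show g * (h * (x⁻¹ * γ x) * h⁻¹) * g⁻¹ = _
        group
      exact hle hn
    have hYD : Subgroup.closure gY ≤ D := by
      refine (Subgroup.closure_le _).mpr ?_
      rintro z ⟨g, x, hx, rfl⟩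
      exact hDn.conj_mem _ (mul_mem (inv_mem hx) (hDγ x hx)) g
    have hYγ : ∀ k ∈ Subgroup.closure gY, γ k ∈ Subgroup.closure gY := by
      have hle : Subgroup.closure gY ≤ (Subgroup.closure gY).comap γ.toMonoidHom := by
        refine (Subgroup.closure_le _).mpr ?_
        rintro z ⟨g, x, hx, rfl⟩
        exact Subgroup.subset_closure ⟨γ g, γ x, hDγ x hx, by simp⟩
      exact fun k hk => hle hk
    have hYeq : Subgroup.closure gY = D := by
      rcases eq_or_lt_of_le hYD with h | h
      · exact h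
      · exfalso
        refine hd₀m (eq_one_of_coprime_fixed hP hγ (mul_inv_cancel_left d₀ _).symm ?_)
        exact hsmall _ hYn h hYγ _ (Subgroup.subset_closure ⟨1, d₀, hd₀, by simp⟩)
    -- `D` centralises `K`
    have hYK : ∀ x ∈ D, ∀ f ∈ Subgroup.closure gK, f * (x⁻¹ * γ x) = x⁻¹ * γ x * f := by
      intro x _ f hf
      have h1 := hKfix _ (hKn.conj_mem f hf x)
      rw [map_mul, map_mul, map_inv, hKfix f hf] at h1
      calc f * (x⁻¹ * γ x) = x⁻¹ * (x * f * x⁻¹) * γ x := by group
        _ = x⁻¹ * (γ x * f * (γ x)⁻¹) * γ x := by rw [h1]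
        _ = x⁻¹ * γ x * f := by group
    have hcent : ∀ d ∈ D, ∀ f ∈ Subgroup.closure gK, f * d = d * f := by
      intro d hd f hf
      rw [← hYeq] at hd
      induction hd using Subgroup.closure_induction with
      | mem z hz =>
        obtain ⟨g, x, hx, rfl⟩ := hz
        have h1 := hYK x hx _ (hKn.conj_mem f hf g⁻¹)
        calc f * (g * (x⁻¹ * γ x) * g⁻¹)
            = g * ((g⁻¹ * f * g⁻¹⁻¹) * (x⁻¹ * γ x)) * g⁻¹ := by group
          _ = g * ((x⁻¹ * γ x) * (g⁻¹ * f * g⁻¹⁻¹)) * g⁻¹ := by rw [h1]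
          _ = g * (x⁻¹ * γ x) * g⁻¹ * f := by group
      | one => simp
      | mul a b _ _ ha hb => rw [← mul_assoc, ha, mul_assoc, hb, mul_assoc]
      | inv a _ ha => exact (Commute.inv_right (ha : Commute f a)).eq
    -- the exponent
    have hpow : ∀ x ∈ D, x ^ p ∈ Subgroup.closure gK := fun x hx =>
      Subgroup.subset_closure (Or.inl ⟨x, hx, rfl⟩)
    have hcomm : ∀ x ∈ D, ∀ y ∈ D, y⁻¹ * x⁻¹ * y * x ∈ Subgroup.closure gK := fun x hx y hy =>
      Subgroup.subset_closure (Or.inr ⟨y⁻¹, inv_mem hy, x⁻¹, inv_mem hx, by group⟩)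
    have hcp : ∀ x ∈ D, ∀ y ∈ D, (y⁻¹ * x⁻¹ * y * x) ^ p = 1 := by
      intro x hx y hy
      have hk := hcomm x hx y hy
      set c := y⁻¹ * x⁻¹ * y * x with hc
      have hcx : Commute c x := (hcent x hx c hk : c * x = x * c)
      have hcy : Commute c y := (hcent y hy c hk : c * y = y * c)
      have hyx : y * x = x * y * c := by rw [hc]; group
      have hpy : ∀ m : ℕ, y ^ m * x = x * y ^ m * c ^ m := by
        intro m
        induction m with
        | zero => simp
        | succ m ih =>
          calc y ^ (m + 1) * x = y * (y ^ m * x) := by rw [pow_succ', mul_assoc]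
            _ = y * x * (y ^ m * c ^ m) := by rw [ih]; group
            _ = x * y * (c * y ^ m) * c ^ m := by rw [hyx]; group
            _ = x * y * (y ^ m * c) * c ^ m := by rw [(hcy.pow_right m).eq]
            _ = x * y ^ (m + 1) * c ^ (m + 1) := by rw [pow_succ' y, pow_succ' c]; group
      have h1 := hpy p
      rw [hcent x hx _ (hpow y hy)] at h1
      exact (mul_left_cancel (a := x * y ^ p) (by rw [mul_one]; exact h1)).symm
    have hdiv : p ≠ 2 → ∀ c : P, c ^ p = 1 → c ^ (p * (p - 1) / 2) = 1 := by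
      intro h c hc
      obtain ⟨k, hk⟩ := dvd_choose_two (p := p) h
      rw [hk, pow_mul, hc, one_pow]
    have hexp : ∀ d ∈ D, d ^ smallExp p = 1 := by
      intro d hd
      rw [← hYeq] at hd
      induction hd using Subgroup.closure_induction with
      | mem z hz =>
        obtain ⟨g, x, hx, rfl⟩ := hz
        rw [conj_pow]
        suffices h : (x⁻¹ * γ x) ^ smallExp p = 1 by rw [h]; group
        set y := x⁻¹ * γ x with hy
        have hyD : y ∈ D := mul_mem (inv_mem hx) (hDγ x hx)
        have hk := hcomm x hx y hyD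
        set c := y⁻¹ * x⁻¹ * y * x with hc
        have h1 := mul_pow_central (x := x) (y := y) (c := c)
          (hcent x hx c hk : c * x = x * c) (hcent y hyD c hk : c * y = y * c)
          (by rw [hc]; group) p
        rw [show x * y = γ x by rw [hy, mul_inv_cancel_left], ← map_pow,
          hKfix _ (hpow x hx)] at h1
        have hcp' : c ^ p = 1 := hcp x hx y hyD
        have h2 : y ^ p * c ^ (p * (p - 1) / 2) = 1 :=
          mul_left_cancel (a := x ^ p) (by rw [mul_one, ← mul_assoc]; exact h1.symm)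
        unfold smallExp
        split_ifs with h
        · have h2' : y ^ 2 * c = 1 := by simpa [h] using h2
          have : y ^ 2 = c⁻¹ := eq_inv_of_mul_eq_one_left h2'
          rw [show (4 : ℕ) = 2 * 2 from rfl, pow_mul, this, inv_pow, inv_eq_one]
          simpa [h] using hcp'
        · rwa [hdiv h c hcp', mul_one] at h2
      | one => simp
      | mul a b ha hb iha ihb =>
        rw [hYeq] at ha hb
        have hk := hcomm a ha b hb
        set c := b⁻¹ * a⁻¹ * b * a with hc
        rw [mul_pow_central (x := a) (y := b) (c := c) (hcent a ha c hk : c * a = a * c)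
          (hcent b hb c hk : c * b = b * c) (by rw [hc]; group), iha, ihb, one_mul, one_mul]
        have hcp' : c ^ p = 1 := hcp a ha b hb
        unfold smallExp
        split_ifs with h
        · show c ^ (4 * (4 - 1) / 2) = 1
          rw [show 4 * (4 - 1) / 2 = 2 * 3 from rfl, pow_mul]
          rw [h] at hcp'
          rw [hcp', one_pow]
        · exact hdiv h c hcp'
      | inv a _ iha => rw [inv_pow, iha, inv_one]
    -- a larger abelian normal subgroup
    have hDX : ¬ D ≤ X := fun h => hd₀m (hfix d₀ (h hd₀))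
    let π := QuotientGroup.mk' X
    haveI hQn : (D.map π).Normal := hDn.map π (QuotientGroup.mk'_surjective X)
    have hQne : D.map π ≠ ⊥ := fun h => hDX (by
      rw [Subgroup.map_eq_bot_iff, QuotientGroup.ker_mk'] at h
      exact h)
    obtain ⟨⟨q, hq⟩, hq1⟩ := Subgroup.ne_bot_iff_exists_ne_one.mp
      (H30.inf_center_ne_bot (p := p) (hP.to_quotient X) hQn hQne)
    obtain ⟨⟨d, hd, rfl⟩, hqc⟩ := hq
    have hdX : d ∉ X := fun h => hq1 (Subtype.ext ((QuotientGroup.eq_one_iff d).mpr h))
    have hdconj : ∀ g : P, d⁻¹ * (g * d * g⁻¹) ∈ X := by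
      intro g
      rw [← QuotientGroup.eq_one_iff]
      have h := Subgroup.mem_center_iff.mp hqc (π g)
      show π (d⁻¹ * (g * d * g⁻¹)) = 1
      rw [map_mul, map_mul, map_mul, map_inv, map_inv, h, mul_inv_cancel_right, inv_mul_cancel]
    let A : Subgroup P := Subgroup.closure ((X : Set P) ∪ {d})
    have hAC : ∀ a ∈ (X : Set P) ∪ {d}, ∀ b ∈ (X : Set P) ∪ {d}, a * b = b * a := by
      rintro a (ha | ha) b (hb | hb)
      · exact hXc a ha b hb
      · rw [hb]; exact (hDC hd).2 a ha
      · rw [ha]; exact ((hDC hd).2 b hb).symm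
      · rw [ha, hb]
    have hAc : ∀ a ∈ A, ∀ b ∈ A, a * b = b * a := by
      intro a ha b hb
      exact Subgroup.closure_induction₂ (p := fun u v _ _ => Commute u v)
        (fun u v hu hv => hAC u hu v hv) (fun u _ => Commute.one_left u)
        (fun u _ => Commute.one_right u) (fun u v w _ _ _ h1 h2 => h1.mul_left h2)
        (fun u v w _ _ _ h1 h2 => h1.mul_right h2) (fun u v _ _ h => h.inv_left)
        (fun u v _ _ h => h.inv_right) ha hb
    refine hno A ?_ ?_ ?_ hAc ?_
    · constructor
      intro n hn g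
      have hle : A ≤ A.comap (MulAut.conj g).toMonoidHom := by
        refine (Subgroup.closure_le _).mpr ?_
        rintro z (hz | hz)
        · exact Subgroup.subset_closure (Or.inl (Subgroup.Normal.conj_mem inferInstance z hz g))
        · rw [Set.mem_singleton_iff] at hz
          subst hz
          show g * z * g⁻¹ ∈ A
          have := A.mul_mem (Subgroup.subset_closure (Or.inr rfl) : z ∈ A)
            (Subgroup.subset_closure (Or.inl (hdconj g)))
          rwa [mul_inv_cancel_left] at this
      exact hle hn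
    · refine lt_of_le_of_ne (fun x hx => Subgroup.subset_closure (Or.inl hx)) fun h => hdX ?_
      rw [h]
      exact Subgroup.subset_closure (Or.inr rfl)
    · refine (Subgroup.closure_le _).mpr ?_
      rintro z (hz | hz)
      · exact hXH hz
      · rw [Set.mem_singleton_iff] at hz
        exact hz ▸ (hDC hd).1
    · intro a ha
      induction ha using Subgroup.closure_induction with
      | mem z hz =>
        rcases hz with hz | hz
        · exact hXe z hz
        · rw [Set.mem_singleton_iff] at hz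
          exact hz ▸ hexp d hd
      | one => simp
      | mul a b ha hb iha ihb => rw [Commute.mul_pow (hAc a ha b hb), iha, ihb, one_mul]
      | inv a _ iha => rw [inv_pow, iha, inv_one]
  -- `γ` fixes everything
  refine MulEquiv.ext fun g => ?_
  rw [MulAut.one_apply]
  refine eq_one_of_coprime_fixed hP hγ (mul_inv_cancel_left g _).symm (hC _ ⟨hdisp g, ?_⟩)
  intro x hx
  have h1 := hfix _ (Subgroup.Normal.conj_mem inferInstance x hx g)
  rw [map_mul, map_mul, map_inv, hfix x hx] at h1
  calc x * (g⁻¹ * γ g) = g⁻¹ * (g * x * g⁻¹) * γ g := by group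
    _ = g⁻¹ * (γ g * x * (γ g)⁻¹) * γ g := by rw [h1]
    _ = g⁻¹ * γ g * x := by group

end H89.AbFix
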