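import Cfsg.Agent.H89.Generation
import Cfsg.Agent.H89.SmallAbelianFix
import Cfsg.Agent.H85.LocalSystems
import Cfsg.Agent.H86.Hyperfocal

/-!
Abelian subgroups of small exponent of the hyperfocal subgroup control fusion.
-/

set_option autoImplicit false
set_option linter.style.haveILetI false

open Cfsg Cfsg.FusionSystem
open scoped Pointwise

namespace H89.AbCtl

variable {Ω : Type*} [Group Ω] {S : Subgroup Ω} {p : ℕ}

/-- Abelian, of small exponent, in the hyperfocal subgroup. -/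
structure Good (F : FusionSystem S) (p : ℕ) (A : Subgroup Ω) : Prop where
  le : A ≤ F.hyperfocalSubgroup p
  comm : ∀ a ∈ A, ∀ b ∈ A, a * b = b * a
  exp : ∀ a ∈ A, a ^ AbFix.smallExp p = 1

theorem normalizes_img {N A B : Subgroup Ω} [Finite B] {m : N →* Ω} (hm : H85.img m A = B)
    (hAN : A ≤ N) {x : N} (hx : (x : Ω) ∈ Subgroup.normalizer (A : Set Ω)) :
    m x ∈ Subgroup.normalizer (B : Set Ω) := by
  refine H85.mem_normalizer_of_conj fun y hy => ?_
  rw [← hm] at hy
  obtain ⟨a, ha, rfl⟩ := H85.mem_img.1 hy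
  rw [← map_inv, ← map_mul, ← map_mul]
  exact hm ▸ H85.apply_mem_img (H85.conj_mem_of_mem_normalizer hx ha)

variable [Finite S] [hp : Fact p.Prime]

theorem good_of_isConj (hS : IsPGroup p S) {F : FusionSystem S} (hF : F.IsSaturated p)
    {A B : Subgroup Ω} (hA : Good F p A) (hc : F.IsConj A B) : Good F p B := by
  obtain ⟨φ, hφ, rfl⟩ := hc
  refine ⟨?_, ?_, ?_⟩
  · rintro _ ⟨a, rfl⟩
    exact (H86.hyperfocal_stronglyClosed hS hF).2 A hA.le φ hφ a
  · rintro _ ⟨a, rfl⟩ _ ⟨b, rfl⟩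
    rw [← map_mul, ← map_mul, show a * b = b * a from Subtype.ext (hA.comm _ a.2 _ b.2)]
  · rintro _ ⟨a, rfl⟩
    rw [← map_pow, show a ^ AbFix.smallExp p = 1 from Subtype.ext (hA.exp _ a.2), map_one]

/-- `E` and `F` have the same maps between good subgroups. -/
def Agree (E F : FusionSystem S) (p : ℕ) : Prop :=
  ∀ (A : Subgroup Ω) (φ : A →* Ω), Good F p A → φ ∈ F.Hom A → φ ∈ E.Hom A

theorem fullyNormalized_sub {E F : FusionSystem S} (hEF : E.IsSubsystemOf F) {B : Subgroup Ω}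
    (hB : F.IsFullyNormalized B) : E.IsFullyNormalized B :=
  ⟨hB.1, fun Q ⟨φ, hφ, hr⟩ => hB.2 Q ⟨φ, hEF B hφ, hr⟩⟩

/-- Normalizer maps of good subgroups may be chosen in `E`. -/
theorem exists_map (hS : IsPGroup p S) {E F : FusionSystem S} (hE : E.IsSaturated p)
    (hF : F.IsSaturated p) (hEF : E.IsSubsystemOf F) (hAg : Agree E F p) {A B : Subgroup Ω}
    (hA : Good F p A) (hB : F.IsFullyNormalized B) (hc : F.IsConj A B) :
    ∃ m ∈ E.Hom (normalizerIn S A), H85.img m A = B := by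
  have hAS : A ≤ S := (H85.isConj_le hc).1
  have hAN : A ≤ normalizerIn S A := H85.le_normalizerIn hAS
  obtain ⟨φ, hφ, -, himg⟩ := H85.exists_map_to_fullyNormalized hS hF hB hc
  let e : A ≃* B := (H85.resIso φ (F.injective_of_mem hφ) hAN).trans (MulEquiv.subgroupCongr himg)
  have heF : H85.IsFIso F e := H85.hom_congr (H85.restrict hφ hAN) fun _ => rfl
  have heE : H85.IsFIso E e := hAg A _ hA heF
  obtain ⟨ψ, hψ, hext⟩ := H85.receptive_extend
    (H85.receptive_of_fullyNormalized hS hE (fullyNormalized_sub hEF hB)) heE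
  have hle : normalizerIn S A ≤ extender S A (B.subtype.comp e.toMonoidHom) := by
    intro g hg
    refine H85.mem_extender.2 ⟨hg.1, hg.2, φ ⟨g, hg⟩, H85.map_mem hφ _, fun x hx => ?_⟩
    show φ _ = φ _ * φ _ * (φ _)⁻¹
    rw [← map_inv, ← map_mul, ← map_mul]
    rfl
  refine ⟨_, H85.restrict hψ hle, ?_⟩
  haveI := H85.finite_of_le hAS
  haveI := H85.finite_of_le hB.1
  refine le_antisymm ?_ ?_
  · intro y hy
    obtain ⟨a, ha, rfl⟩ := H85.mem_img.1 hy
    have h1 : ψ (Subgroup.inclusion hle a) = (e ⟨(a : Ω), ha⟩ : Ω) := hext a ha (hle a.2)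
    show ψ (Subgroup.inclusion hle a) ∈ B
    rw [h1]
    exact (e _).2
  · intro y hy
    obtain ⟨a, ha⟩ := e.surjective ⟨y, hy⟩
    refine H85.mem_img.2 ⟨⟨a, hAN a.2⟩, a.2, ?_⟩
    show ψ (Subgroup.inclusion hle _) = y
    exact (hext a a.2 (hle (hAN a.2))).trans (congrArg Subtype.val ha)

/-- Common part of two systems. -/
def interSys {T : Subgroup Ω} (N : FusionSystem T) (E : FusionSystem S) (hT : T ≤ S) :
    FusionSystem T where
  Hom P := N.Hom P ∩ E.Hom P
  le_of_mem h := N.le_of_mem h.1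
  injective_of_mem h := N.injective_of_mem h.1
  conj_mem hP hg := ⟨N.conj_mem hP hg, E.conj_mem (hP.trans hT) (hT hg)⟩
  comp_mem h h' hm := ⟨N.comp_mem h.1 h'.1 hm, E.comp_mem h.2 h'.2 hm⟩
  inv_mem := by
    rintro P φ ⟨hN, hE⟩
    obtain ⟨ψ, hψ, hψe⟩ := N.inv_mem hN
    obtain ⟨χ, hχ, hχe⟩ := E.inv_mem hE
    refine ⟨ψ, ⟨hψ, ?_⟩, hψe⟩
    refine H85.hom_congr hχ ?_
    rintro ⟨_, x, rfl⟩
    exact (hχe x).trans (hψe x).symm

omit hp in
theorem normalizer_map_mem {F : FusionSystem S} {X R : Subgroup Ω} [Finite X] {ψ : R →* Ω}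
    (hψ : ψ ∈ F.Hom R) (hXR : X ≤ R) (hRX : R ≤ normalizerIn S X) (himg : H85.img ψ X = X) :
    ψ ∈ F.normalizerHom X R := by
  have hsup : R ⊔ X ≤ R := sup_le le_rfl hXR
  refine H85.mem_normalizerHom.2 ⟨hψ, hRX, fun z => ⟨H85.map_mem hψ z,
    normalizes_img himg hXR (hRX z.2).2⟩, _, H85.restrict hψ hsup, fun _ => rfl, ?_⟩
  refine le_antisymm ?_ ?_
  · intro y hy
    obtain ⟨z, hz, rfl⟩ := H85.mem_img.1 hy
    exact himg.le (H85.apply_mem_img (x := Subgroup.inclusion hsup z) hz)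
  · intro y hy
    rw [← himg] at hy
    obtain ⟨z, hz, rfl⟩ := H85.mem_img.1 hy
    exact H85.mem_img.2 ⟨Subgroup.inclusion le_sup_left z, hz, rfl⟩

theorem normalizerHom_le (hS : IsPGroup p S) {E F : FusionSystem S} (hE : E.IsSaturated p)
    (hF : F.IsSaturated p) (hEF : E.IsSubsystemOf F) (hAg : Agree E F p) :
    ∀ (n : ℕ) (X : Subgroup Ω), Good F p X → F.IsFullyNormalized X →
      Nat.card S - Nat.card X = n → ∀ P, F.normalizerHom X P ⊆ E.Hom P := by
  intro n
  induction n using Nat.strong_induction_on with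
  | _ n ih =>
  intro X hX hXn hn
  have hXS : X ≤ S := hXn.1
  haveI := H85.finite_of_le hXS
  let M := H85.normalizerSystem F X hXS
  have hM : M.IsSaturated p := H85.isSaturated_normalizerSystem hS hF hXn M
    (H85.normalizerSystem_spec F X hXS)
  have hNp : IsPGroup p (normalizerIn S X) := hS.to_le inf_le_left
  haveI : Finite (normalizerIn S X) := H85.finite_of_le inf_le_left
  have hXN : X ≤ normalizerIn S X := H85.le_normalizerIn hXS
  suffices H : M ≤ interSys M E inf_le_left from fun P φ hφ => (H P hφ).2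
  refine H89.le_of_centric_induction hNp hM ?_
  intro P hPn hPc hbig α hαM
  refine ⟨hαM, ?_⟩
  have hPN : P ≤ normalizerIn S X := hPn.1
  have hPS : P ≤ S := hPN.trans inf_le_left
  haveI := H85.finite_of_le hPS
  have hαF : H85.IsFIso F α := (H85.mem_normalizerHom.1 hαM).1
  obtain ⟨-, -, -, ψ, hψ, hψe, hψX⟩ := H85.mem_normalizerHom.1 hαM
  by_cases hXP : X ≤ P
  swap
  · have hR : P ⊔ X ≤ normalizerIn S X := sup_le hPN hXN
    haveI := H85.finite_of_le (hR.trans (inf_le_left : normalizerIn S X ≤ S))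
    have hlt : Nat.card P < Nat.card ↥(P ⊔ X) :=
      H89.card_lt_of_lt (hR.trans inf_le_left) (left_lt_sup.mpr hXP)
    have hmem : ψ ∈ M.Hom (P ⊔ X) := normalizer_map_mem hψ le_sup_right hR hψX
    exact H85.of_extend (hbig _ hR hlt hmem).2 le_sup_left hψe
  -- `α` stabilises `X`
  have hαX : ∀ x : P, (x : Ω) ∈ X → ((α x : P) : Ω) ∈ X := fun x hx => by
    have := hψe x
    rw [show ((α x : P) : Ω) = (P.subtype.comp α.toMonoidHom) x from rfl, ← this]
    exact hψX.le (H85.apply_mem_img (x := Subgroup.inclusion le_sup_left x) hx)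
  have hPnorm : ∀ {g : Ω}, g ∈ P → g ∈ Subgroup.normalizer (X : Set Ω) := fun hg => (hPN hg).2
  by_cases hA : ∃ A : Subgroup Ω, X < A ∧ A ≤ P ∧ Good F p A ∧ P ≤ Subgroup.normalizer (A : Set Ω)
  · obtain ⟨A, hXA, hAP, hAg', hPA⟩ := hA
    have hAS : A ≤ S := hAP.trans hPS
    haveI := H85.finite_of_le hAS
    let A' : Subgroup Ω := H85.img (P.subtype.comp α.toMonoidHom) A
    have hA'P : A' ≤ P := fun y hy => by
      obtain ⟨a, -, rfl⟩ := H85.mem_img.1 hy
      exact (α a).2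
    have hcA : F.IsConj A A' := H85.isConj_img hαF hAP
    haveI := H85.finite_of_le (hA'P.trans hPS)
    have hPA' : P ≤ Subgroup.normalizer (A' : Set Ω) := by
      intro g hg
      obtain ⟨g', hg'⟩ := α.surjective ⟨g, hg⟩
      have := normalizes_img (N := P) (m := P.subtype.comp α.toMonoidHom) (A := A) (B := A') rfl
        hAP (x := g') (hPA g'.2)
      rwa [show (P.subtype.comp α.toMonoidHom) g' = g from congrArg Subtype.val hg'] at this
    obtain ⟨B, hAB, hB⟩ := H85.exists_fullyNormalized F hAS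
    haveI := H85.finite_of_le hB.1
    obtain ⟨m₁, hm₁, himg₁⟩ := exists_map hS hE hF hEF hAg hAg' hB hAB
    obtain ⟨m₂, hm₂, himg₂⟩ := exists_map hS hE hF hEF hAg (good_of_isConj hS hF hAg' hcA) hB
      (H85.isConj_trans (H85.isConj_symm hcA) hAB)
    have hPN₁ : P ≤ normalizerIn S A := fun g hg => ⟨hPS hg, hPA hg⟩
    have hPN₂ : P ≤ normalizerIn S A' := fun g hg => ⟨hPS hg, hPA' hg⟩
    let i₁ := H85.resIso m₁ (E.injective_of_mem hm₁) hPN₁
    let i₂ := H85.resIso m₂ (E.injective_of_mem hm₂) hPN₂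
    have hi₁ : H85.IsFIso E i₁ := H85.isFIso_resIso hm₁ hPN₁
    have hi₂ : H85.IsFIso E i₂ := H85.isFIso_resIso hm₂ hPN₂
    have hi₁F : H85.IsFIso F i₁ := hEF _ hi₁
    have hi₂F : H85.IsFIso F i₂ := hEF _ hi₂
    let P₁ := H85.img m₁ P
    let γ : P₁ ≃* H85.img m₂ P := (i₁.symm.trans α).trans i₂
    have hγF : H85.IsFIso F γ := (hi₁F.symm.trans hαF).trans hi₂F
    have hBP₁ : B ≤ P₁ := himg₁.ge.trans (H85.img_mono m₁ hAP)
    have hP₁N : P₁ ≤ normalizerIn S B := by
      intro y hy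
      obtain ⟨x, hx, rfl⟩ := H85.mem_img.1 hy
      exact ⟨H85.map_mem hm₁ x, normalizes_img himg₁ (H85.le_normalizerIn hAS) (hPA hx)⟩
    have hγv : ∀ a : P, ((γ (i₁ a) : H85.img m₂ P) : Ω) =
        m₂ (Subgroup.inclusion hPN₂ (α a)) := fun a => by
      show ((i₂ (α (i₁.symm (i₁ a))) : H85.img m₂ P) : Ω) = _
      rw [i₁.symm_apply_apply]
      rfl
    have hγimg : H85.img ((H85.img m₂ P).subtype.comp γ.toMonoidHom) B = B := by
      refine le_antisymm ?_ ?_
      · intro y hy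
        obtain ⟨z, hz, rfl⟩ := H85.mem_img.1 hy
        rw [← himg₁] at hz
        obtain ⟨a, ha, hae⟩ := H85.mem_img.1 hz
        have hz' : z = i₁ ⟨a, hAP ha⟩ := Subtype.ext hae.symm
        show ((γ z : H85.img m₂ P) : Ω) ∈ B
        rw [hz', hγv, ← himg₂]
        exact H85.apply_mem_img (H85.apply_mem_img (φ := P.subtype.comp α.toMonoidHom)
          (x := ⟨a, hAP ha⟩) ha)
      · intro y hy
        rw [← himg₂] at hy
        obtain ⟨a', ha', rfl⟩ := H85.mem_img.1 hy
        obtain ⟨a, ha, hae⟩ := H85.mem_img.1 ha'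
        refine H85.mem_img.2 ⟨i₁ a, himg₁ ▸ H85.apply_mem_img (x := Subgroup.inclusion hPN₁ a) ha, ?_⟩
        show ((γ (i₁ a) : H85.img m₂ P) : Ω) = _
        rw [hγv]
        exact congrArg m₂ (Subtype.ext hae)
    have hγN : (H85.img m₂ P).subtype.comp γ.toMonoidHom ∈ F.normalizerHom B P₁ :=
      normalizer_map_mem hγF hBP₁ hP₁N hγimg
    have hlt : Nat.card X < Nat.card B := by
      rw [← H85.isConj_card hAB]
      exact H89.card_lt_of_lt hAS hXA
    have hBle : Nat.card B ≤ Nat.card S :=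
      Nat.card_le_card_of_injective _ (Subgroup.inclusion_injective hB.1)
    have hγE : H85.IsFIso E γ := ih (Nat.card S - Nat.card B) (by omega) B
      (good_of_isConj hS hF hAg' hAB) hB rfl P₁ hγN
    exact ((hi₁.trans hγE).trans hi₂.symm).congr fun x => by
      show ((i₂.symm (i₂ (α (i₁.symm (i₁ x)))) : P) : Ω) = _
      rw [i₁.symm_apply_apply, i₂.symm_apply_apply]
  -- no larger good subgroup
  let K₀ : Subgroup (MulAut P) :=
    { carrier := {a | a ∈ M.autGroup P ∧ ∀ x : P, (x : Ω) ∈ X → a x = x}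
      one_mem' := ⟨one_mem _, fun _ _ => rfl⟩
      mul_mem' := fun {a b} ha hb => ⟨mul_mem ha.1 hb.1, fun x hx => by
        rw [MulAut.mul_apply, hb.2 x hx, ha.2 x hx]⟩
      inv_mem' := fun {a} ha => ⟨inv_mem ha.1, fun x hx => by
        conv_lhs => rw [← ha.2 x hx]
        exact MulAut.inv_apply_self _ _ _⟩ }
  haveI : Finite (MulAut P) := Finite.of_injective _ DFunLike.coe_injective
  have hPp : IsPGroup p P := hS.to_le hPS
  have hK₀p : IsPGroup p K₀ := by
    intro a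
    obtain ⟨k, m, hm, hk⟩ :=
      Nat.exists_eq_pow_mul_and_not_dvd (orderOf_pos a).ne' p hp.out.ne_one
    refine ⟨k, Subtype.ext ?_⟩
    set γ : MulAut P := (a : MulAut P) ^ p ^ k with hγdef
    have hγK : γ ∈ K₀ := pow_mem a.2 _
    have hγc : (orderOf γ).Coprime p := by
      rw [hγdef, orderOf_pow_of_dvd (pow_ne_zero _ hp.out.ne_zero)
        (by rw [Subgroup.orderOf_coe, hk]; exact dvd_mul_right _ _),
        Subgroup.orderOf_coe, hk, Nat.mul_div_cancel_left _ (pow_pos hp.out.pos _)]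
      exact ((hp.out.coprime_iff_not_dvd).2 hm).symm
    have hγF : γ ∈ F.autGroup P :=
      (H85.mem_autGroup hPS).2 (H85.mem_normalizerHom.1 ((H85.mem_autGroup hPN).1 hγK.1)).1
    have hHn : ∀ h ∈ F.hyperfocalSubgroup p, ∀ g ∈ P, g * h * g⁻¹ ∈ F.hyperfocalSubgroup p :=
      fun h hh g hg => H86.conj_mem_hyperfocal F p (hPS hg) hh
    haveI : ((F.hyperfocalSubgroup p).subgroupOf P).Normal :=
      ⟨fun h hh g => hHn h hh g g.2⟩
    haveI : (X.subgroupOf P).Normal :=
      ⟨fun x hx g => H85.conj_mem_of_mem_normalizer (g := (g : Ω)) (x := (x : Ω)) (hPnorm g.2) hx⟩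
    show γ = 1
    refine AbFix.eq_one_of_no_larger hPp ((F.hyperfocalSubgroup p).subgroupOf P) (X.subgroupOf P)
      (fun x hx => hX.le hx) (fun a ha b hb => Subtype.ext (hX.comm a ha b hb))
      (fun a ha => Subtype.ext (hX.exp a ha)) hγc hγK.2 (fun g => ?_) ?_
    · refine Subgroup.subset_closure ⟨P, ⟨γ, hγF⟩, g, hPS,
        Subgroup.subset_closure ?_, rfl⟩
      show Nat.Coprime (orderOf (⟨γ, hγF⟩ : F.autGroup P)) p
      rwa [Subgroup.orderOf_mk]
    · intro A hAn hXA hAH hAc hAe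
      refine hA ⟨A.map P.subtype, ?_, Subgroup.map_subtype_le A, ⟨?_, ?_, ?_⟩, ?_⟩
      · have := Subgroup.map_lt_map_iff_of_injective (f := P.subtype) Subtype.coe_injective |>.mpr hXA
        rwa [Subgroup.map_subgroupOf_eq_of_le hXP] at this
      · rintro _ ⟨a, ha, rfl⟩
        exact hAH ha
      · rintro _ ⟨a, ha, rfl⟩ _ ⟨b, hb, rfl⟩
        exact congrArg Subtype.val (hAc a ha b hb)
      · rintro _ ⟨a, ha, rfl⟩
        exact congrArg Subtype.val (hAe a ha)
      · intro g hg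
        haveI : Finite ↥(A.map P.subtype) :=
          H85.finite_of_le ((Subgroup.map_subtype_le A).trans hPS)
        refine H85.mem_normalizer_of_conj ?_
        rintro _ ⟨a, ha, rfl⟩
        exact ⟨⟨g, hg⟩ * a * ⟨g, hg⟩⁻¹, hAn.conj_mem a ha _, rfl⟩
  have hKnorm : ∀ b ∈ M.autGroup P, ∀ k ∈ K₀, b * k * b⁻¹ ∈ K₀ := by
    intro b hb k hk
    refine ⟨mul_mem (mul_mem hb hk.1) (inv_mem hb), fun x hx => ?_⟩
    obtain ⟨-, -, -, ψb, -, hψbe, hψbX⟩ := H85.mem_normalizerHom.1
      ((H85.mem_autGroup hPN).1 (inv_mem hb))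
    have hbx : ((b⁻¹ x : P) : Ω) ∈ X := by
      rw [show ((b⁻¹ x : P) : Ω) = (P.subtype.comp (b⁻¹ : MulAut P).toMonoidHom) x from rfl,
        ← hψbe x]
      exact hψbX.le (H85.apply_mem_img (x := Subgroup.inclusion le_sup_left x) hx)
    rw [MulAut.mul_apply, MulAut.mul_apply, hk.2 _ hbx]
    exact MulAut.apply_inv_self _ _ _
  have hK₀S : K₀ ≤ autInducedBy (normalizerIn S X) P := by
    have hfull := ((H85.isFullyAutomized_iff hNp).1
      (H85.fullyAutomized_of_fullyNormalized hNp hM hPn)).2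
    have hsub := H85.autInducedBy_le_autGroup M hPN
    have hsupA : K₀ ⊔ autInducedBy (normalizerIn S X) P ≤ M.autGroup P :=
      sup_le (fun a ha => ha.1) hsub
    have hle : autInducedBy (normalizerIn S X) P ≤ Subgroup.normalizer (K₀ : Set (MulAut P)) := by
      intro b hb
      refine Subgroup.mem_normalizer_iff.2 fun k => ⟨fun hk => hKnorm b (hsub hb) k hk, fun hk => ?_⟩
      have := hKnorm b⁻¹ (inv_mem (hsub hb)) _ hk
      simpa [mul_assoc] using this
    have := hfull _ hsupA (IsPGroup.to_sup_of_normal_left' hK₀p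
      (H85.autInducedBy_isPGroup hNp P) hle) le_sup_right
    exact this ▸ le_sup_left
  by_cases hout : K₀ ≤ Cfsg.Inn P
  swap
  · exact (H89.aut_mem_of_normal hNp hM hPn hbig K₀ hK₀S hKnorm hout α hαM).2
  -- `C_S(X) ≤ P`
  have hCX : ∀ c ∈ centralizerIn S X, c ∈ P := by
    have hCN : centralizerIn S X ≤ normalizerIn S X := H85.centralizerIn_le_normalizerIn X
    by_contra hcon
    push Not at hcon
    obtain ⟨c₀, hc₀, hc₀P⟩ := hcon
    have hW : P ⊔ centralizerIn S X ≤ S := sup_le hPS inf_le_left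
    haveI := H85.finite_of_le hW
    have hne : P ≠ P ⊔ centralizerIn S X := fun h => hc₀P (h ▸ Subgroup.mem_sup_right hc₀)
    have hlt := H89.lt_normalizerIn (hS.to_le hW) le_sup_left hne
    obtain ⟨g, hg, hgP⟩ := SetLike.exists_of_lt hlt
    have hmul : ∃ q ∈ P, ∃ c ∈ centralizerIn S X, q * c = g := by
      have hn : P ≤ Subgroup.normalizer ((centralizerIn S X : Subgroup Ω) : Set Ω) := by
        intro q hq
        haveI : Finite (centralizerIn S X) := H85.finite_of_le inf_le_left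
        refine H85.mem_normalizer_of_conj fun c hc => ⟨S.mul_mem (S.mul_mem (hPS hq) hc.1)
          (S.inv_mem (hPS hq)), fun x hx => ?_⟩
        have hy : q⁻¹ * x * q ∈ X := H85.conj_mem_of_mem_normalizer' (hPnorm hq) hx
        calc x * (q * c * q⁻¹) = q * ((q⁻¹ * x * q) * c) * q⁻¹ := by group
          _ = q * (c * (q⁻¹ * x * q)) * q⁻¹ := by rw [hc.2 _ hy]
          _ = q * c * q⁻¹ * x := by group
      have h1 : g ∈ ((P : Set Ω) * (centralizerIn S X : Set Ω) : Set Ω) := by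
        rw [← Subgroup.coe_mul_of_left_le_normalizer_right _ _ hn]
        exact hg.1
      exact h1
    obtain ⟨q, hq, c, hc, rfl⟩ := hmul
    have hcn : c ∈ Subgroup.normalizer (P : Set Ω) := by
      have h1 := mul_mem (inv_mem (Subgroup.le_normalizer hq)) hg.2
      rwa [inv_mul_cancel_left] at h1
    let cc : MulAut P := P.normalizerMonoidHom ⟨c, hcn⟩
    have hcK : cc ∈ K₀ := by
      refine ⟨H85.autInducedBy_le_autGroup M hPN
        (H85.normalizerMonoidHom_mem_autInducedBy (g := ⟨c, hcn⟩) (hCN hc)), fun x hx => Subtype.ext ?_⟩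
      show c * (x : Ω) * c⁻¹ = x
      rw [← hc.2 _ hx, mul_inv_cancel_right]
    obtain ⟨u, hu⟩ := hout hcK
    have hcu : c * (u : Ω)⁻¹ ∈ centralizerIn (normalizerIn S X) P := by
      refine H85.mem_centralizerIn.2 ⟨mul_mem (hCN hc) (inv_mem (hPN u.2)), fun x hx => ?_⟩
      have h1 := congrArg (fun z : P => (z : Ω)) (DFunLike.congr_fun hu ((u⁻¹) * ⟨x, hx⟩ * u))
      change (u : Ω) * ((u : Ω)⁻¹ * x * u) * (u : Ω)⁻¹ = c * ((u : Ω)⁻¹ * x * u) * c⁻¹ at h1
      calc x * (c * (u : Ω)⁻¹) = ((u : Ω) * ((u : Ω)⁻¹ * x * u) * (u : Ω)⁻¹) * (c * (u : Ω)⁻¹) := by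
            group
        _ = c * ((u : Ω)⁻¹ * x * u) * c⁻¹ * (c * (u : Ω)⁻¹) := by rw [h1]
        _ = c * (u : Ω)⁻¹ * x := by group
    have hcP : c ∈ P := by
      have := mul_mem (H85.centric_self hPc hcu) u.2
      rwa [inv_mul_cancel_right] at this
    exact hgP (mul_mem hq hcP)
  -- compare with an extension in `E`
  let aX : X →* Ω := (P.subtype.comp α.toMonoidHom).comp (Subgroup.inclusion hXP)
  have haX : aX ∈ F.Hom X := H85.restrict hαF hXP
  have hr : aX.range = X := H86.range_eq_self_of_le F haX (by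
    rintro _ ⟨x, rfl⟩
    exact hαX _ x.2)
  let e := H85.isoOf aX haX hr
  have heE : H85.IsFIso E e := H85.hom_congr (hAg X aX hX haX) fun _ => rfl
  obtain ⟨β, hβ, hβe⟩ := H85.receptive_extend
    (H85.receptive_of_fullyNormalized hS hE (fullyNormalized_sub hEF hXn)) heE
  have hPe : P ≤ extender S X (X.subtype.comp e.toMonoidHom) := by
    intro g hg
    refine H85.mem_extender.2 ⟨hPS hg, hPnorm hg, _, H85.map_mem hαF ⟨g, hg⟩, fun x hx => ?_⟩
    show aX _ = (P.subtype.comp α.toMonoidHom) _ * aX x * _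
    rw [← map_inv, show aX x = (P.subtype.comp α.toMonoidHom) (Subgroup.inclusion hXP x) from rfl,
      ← map_mul, ← map_mul]
    rfl
  have hβP := H85.restrict hβ hPe
  set β' : P →* Ω := β.comp (Subgroup.inclusion hPe) with hβ'
  have hβX : ∀ x : P, (x : Ω) ∈ X → β' x = ((α x : P) : Ω) := fun x hx =>
    (hβe x hx (hPe x.2)).trans rfl
  have hrange : β'.range ≤ P := by
    rintro _ ⟨x, rfl⟩
    have h1 : (((α x : P) : Ω))⁻¹ * β' x ∈ centralizerIn S X := by
      refine H85.mem_centralizerIn.2 ⟨S.mul_mem (S.inv_mem (hPS (α x).2)) (H85.map_mem hβP x),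
        fun y hy => ?_⟩
      obtain ⟨z, hz⟩ := e.surjective ⟨y, hy⟩
      have hzy : ((α (Subgroup.inclusion hXP z) : P) : Ω) = y := congrArg Subtype.val hz
      set w := x * Subgroup.inclusion hXP z * x⁻¹ with hw
      have hwX : (w : Ω) ∈ X := H85.conj_mem_of_mem_normalizer (hPnorm x.2) z.2
      have h2 := hβX w hwX
      rw [hw, map_mul, map_mul, map_mul, map_mul, map_inv, map_inv,
        hβX (Subgroup.inclusion hXP z) z.2, Subgroup.coe_mul, Subgroup.coe_mul, Subgroup.coe_inv,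
        hzy] at h2
      calc y * ((((α x : P) : Ω))⁻¹ * β' x)
          = (((α x : P) : Ω))⁻¹ * ((((α x : P) : Ω)) * y * (((α x : P) : Ω))⁻¹) * β' x := by group
        _ = (((α x : P) : Ω))⁻¹ * (β' x * y * (β' x)⁻¹) * β' x := by rw [h2]
        _ = (((α x : P) : Ω))⁻¹ * β' x * y := by group
    have := mul_mem (α x).2 (hCX _ h1)
    rwa [mul_inv_cancel_left] at this
  let b : MulAut P := H86.autOfHom β' (E.injective_of_mem hβP) (H86.range_eq_self_of_le E hβP hrange)
  have hbE : H85.IsFIso E b := H85.hom_congr hβP fun _ => rfl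
  have hbX : H85.img (P.subtype.comp b.toMonoidHom) X = X := by
    refine le_antisymm ?_ ?_
    · intro y hy
      obtain ⟨x, hx, rfl⟩ := H85.mem_img.1 hy
      show β' x ∈ X
      rw [hβX x hx]
      exact hαX x hx
    · intro y hy
      obtain ⟨z, hz⟩ := e.surjective ⟨y, hy⟩
      refine H85.mem_img.2 ⟨Subgroup.inclusion hXP z, z.2, ?_⟩
      show β' _ = y
      rw [hβX _ z.2]
      exact congrArg Subtype.val hz
  have hbM : H85.IsFIso M b := normalizer_map_mem (hEF _ hbE) hXP hPN hbX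
  have hδ : b⁻¹ * α ∈ K₀ := by
    refine ⟨mul_mem (inv_mem ((H85.mem_autGroup hPN).2 hbM)) ((H85.mem_autGroup hPN).2 hαM),
      fun x hx => ?_⟩
    rw [MulAut.mul_apply, show α x = b x from Subtype.ext (hβX x hx).symm]
    exact MulAut.inv_apply_self _ _ _
  have hδE : H85.IsFIso E (b⁻¹ * α) :=
    H85.isFIso_of_mem_autInducedBy E hPS (by
      obtain ⟨g, hg, hge⟩ := H85.mem_autInducedBy.1 (hK₀S hδ)
      exact H85.mem_autInducedBy.2 ⟨g, hg.1, hge⟩)
  have := hδE.trans hbE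
  refine this.congr fun x => ?_
  show ((b ((b⁻¹ * α) x) : P) : Ω) = _
  rw [MulAut.mul_apply, MulAut.apply_inv_self]

/-- Small abelian subgroups of the hyperfocal subgroup control fusion. -/
theorem hom_eq (hS : IsPGroup p S) {E F : FusionSystem S} (hE : E.IsSaturated p)
    (hF : F.IsSaturated p) (hEF : E.IsSubsystemOf F) (hAg : Agree E F p) :
    ∀ P : Subgroup Ω, E.Hom P = F.Hom P := by
  intro P
  refine Set.Subset.antisymm (hEF P) fun φ hφ => ?_
  haveI : Finite (⊥ : Subgroup Ω) := inferInstance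
  have hbot : F.IsFullyNormalized ⊥ := ⟨bot_le, fun Q ⟨φ, hφ, hr⟩ => by
    subst hr
    have : φ.range = ⊥ := by
      rw [eq_bot_iff]
      rintro _ ⟨x, rfl⟩
      rw [show x = 1 from Subtype.ext (Subgroup.mem_bot.1 x.2), map_one]
      exact one_mem _
    rw [this]⟩
  refine normalizerHom_le hS hE hF hEF hAg _ ⊥
    ⟨bot_le, fun a ha b hb => by rw [Subgroup.mem_bot.1 ha, Subgroup.mem_bot.1 hb],
      fun a ha => by rw [Subgroup.mem_bot.1 ha, one_pow]⟩ hbot rfl P ?_
  have hN : ∀ {g : Ω}, g ∈ S → g ∈ normalizerIn S ⊥ := fun hg =>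
    ⟨hg, H85.mem_normalizer_of_conj fun y hy => by rw [Subgroup.mem_bot.1 hy]; simp⟩
  have hsup : P ⊔ ⊥ ≤ P := sup_le le_rfl bot_le
  refine H85.mem_normalizerHom.2 ⟨hφ, fun g hg => hN (H85.source_le hφ hg),
    fun x => hN (H85.map_mem hφ x), _, H85.restrict hφ hsup, fun _ => rfl, H85.img_bot _⟩

end H89.AbCtl
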