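import Cfsg.Agent.H89.FactorRange
import Cfsg.Agent.H86.Image
import Cfsg.Agent.H88.WeaklyNormal
import Cfsg.Agent.S5134

/-!
The image of a weakly normal subsystem in a factor system is weakly normal.
-/
set_option autoImplicit false
set_option linter.style.haveILetI false
set_option linter.unusedSectionVars false

open Cfsg Cfsg.FusionSystem

namespace H89

universe u v

variable {Ω : Type u} [Group Ω] {S : Subgroup Ω} [Finite S] {p : ℕ} [Fact p.Prime]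

/-- A weakly normal subsystem over a subgroup containing the kernel has a weakly normal image in
the factor system. -/
theorem exists_weaklyNormal_image (hS : IsPGroup p S) {F : FusionSystem S} {R : Subgroup Ω}
    {N : FusionSystem R} (hN : N.IsWeaklyNormalIn F p) {Z : Subgroup Ω} (hZ : F.StronglyClosed Z)
    (hZR : Z ≤ R) {Ω' : Type v} [Group Ω'] {S' : Subgroup Ω'} {θ : S →* Ω'} {E : FusionSystem S'}
    (hE : F.IsFactorSystem Z θ E) :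
    ∃ E₀ : FusionSystem ((θ.comp (Subgroup.inclusion hN.2.2.2.1.1)).range),
      E₀.IsWeaklyNormalIn E p := by
  obtain ⟨hNs, hF, hsub, hRc, hinv, hfr⟩ := id hN
  have hRS := hRc.1
  haveI : Finite R := H85.finite_of_le hRS
  have hRp := hS.to_le hRS
  have hZN : N.StronglyClosed Z := ⟨hZR, fun P hP φ hφ x => hZ.2 P hP φ (hsub P hφ) x⟩
  obtain ⟨-, hker, hrng, hhom⟩ := id hE
  set ρ : R →* Ω' := θ.comp (Subgroup.inclusion hN.2.2.2.1.1) with hρ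
  obtain ⟨E₀, hE₀⟩ := exists_factor_range N hZN ρ fun r => hker _
  refine ⟨E₀, ?_⟩
  have hsm := Cfsg.Agent.S5134.result p hS F hF Z hZ θ E hE
  have hsm₀ := Cfsg.Agent.S5134.result p hRp N hNs Z hZN ρ E₀ hE₀
  have hEs₀ := H86.isSaturated_image hRp hNs hsm₀
  have hEs := H86.isSaturated_image hS hF hsm
  have hρS : ρ.range ≤ S' := by
    rintro _ ⟨r, rfl⟩
    exact hrng.le ⟨_, rfl⟩
  have hpre : ∀ {P' : Subgroup Ω'}, P' ≤ ρ.range →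
      preimageAlong θ P' ≤ preimageAlong ρ P' := by
    rintro P' hP' _ ⟨s, hs, rfl⟩
    obtain ⟨r, hr⟩ := hP' hs
    have hz : (r : Ω)⁻¹ * (s : Ω) ∈ Z := (hker ((Subgroup.inclusion hRS r)⁻¹ * s)).1 (by
      rw [map_mul, map_inv, inv_mul_eq_one]
      exact hr)
    have hsR : (s : Ω) ∈ R := by
      have := R.mul_mem r.2 (hZR hz)
      rwa [mul_inv_cancel_left] at this
    exact ⟨⟨s, hsR⟩, show θ _ ∈ P' from hs, rfl⟩
  have hpre' : ∀ P' : Subgroup Ω', preimageAlong ρ P' ≤ preimageAlong θ P' := by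
    rintro P' _ ⟨r, hr, rfl⟩
    exact ⟨Subgroup.inclusion hRS r, hr, rfl⟩
  haveI : Finite ρ.range := Finite.of_surjective _ ρ.rangeRestrict_surjective
  haveI : Finite S' := hrng ▸ Finite.of_surjective _ θ.rangeRestrict_surjective
  refine ⟨hEs₀, hEs, fun P' φ' hφ' => ?_, ⟨hρS, fun P' hP' φ' hφ' y => ?_⟩,
    fun P' hP' φ' hφ' α' hα' => ?_, fun P' hP' φ' hφ' => ?_⟩
  · obtain ⟨hP', φ, hφ, hA, hB, hC, he⟩ := (hE₀.2.2.2 P' φ').1 hφ'
    have hle := hpre hP'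
    refine (hhom P' φ').2 ⟨hP'.trans hρS, _, hsub _ (H85.restrict hφ hle),
      fun x hx => hRS (hA (hle hx)), fun x => hRS (hB _),
      fun x => hC (Subgroup.inclusion hle x), fun x => ?_⟩
    exact (he (Subgroup.inclusion hle x)).trans (congrArg θ (Subtype.ext rfl))
  · obtain ⟨-, φ, hφ, hA, hB, hC, he⟩ := (hhom P' φ').1 hφ'
    obtain ⟨r, hr⟩ := hP' y.2
    have hrP : (r : Ω) ∈ preimageAlong θ P' :=
      ⟨Subgroup.inclusion hRS r, show θ _ ∈ P' from hr ▸ y.2, rfl⟩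
    have hm : φ ⟨r, hrP⟩ ∈ R := H86.map_mem_of_stronglyClosed hRc hφ (x := ⟨r, hrP⟩) r.2
    refine ⟨⟨φ ⟨r, hrP⟩, hm⟩, ?_⟩
    rw [show y = ⟨θ ⟨(r : Ω), hA hrP⟩, hC ⟨r, hrP⟩⟩ from Subtype.ext hr.symm, he ⟨r, hrP⟩]
    rfl
  · obtain ⟨-, φ, hφ, hA, hB, hC, he⟩ := (hE₀.2.2.2 P' φ').1 hφ'
    obtain ⟨-, γ, hγ, hA₁, hB₁, hC₁, he₁⟩ :=
      (hhom ρ.range _).1 ((H85.mem_autGroup hρS).1 hα')
    have hRle : R ≤ preimageAlong θ ρ.range := fun r hr =>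
      ⟨⟨r, hRS hr⟩, ⟨⟨r, hr⟩, rfl⟩, rfl⟩
    have hγS := H85.restrict hγ hRle
    have hr : (γ.comp (Subgroup.inclusion hRle)).range = R :=
      H86.range_eq_self_of_le F hγS (by rintro _ ⟨x, rfl⟩; exact hRc.2 R le_rfl _ hγS x)
    set a := H86.autOfHom _ (F.injective_of_mem hγS) hr
    have ha : a ∈ F.autGroup R := H86.autOfHom_mem F hγS hr
    have hat : ∀ s : R, ((α' ⟨ρ s, s, rfl⟩ : ρ.range) : Ω') = ρ (a s) :=
      fun s => (he₁ (Subgroup.inclusion hRle s)).trans (congrArg θ (Subtype.ext rfl))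
    obtain ⟨χ, hχ, hχe⟩ := hinv _ hA φ hφ a ha
    obtain ⟨χ', hχ', hA₂, hB₂, hC₂, he₂⟩ := hsm₀.1.2 _ _ hχ
    have hmem : ∀ (s : R) (hs : ρ s ∈ P'),
        ((a s : R) : Ω) ∈ ((preimageAlong ρ P').subgroupOf R).map
          (R.subtype.comp a.toMonoidHom) :=
      fun s hs => ⟨s, ⟨s, hs, rfl⟩, rfl⟩
    have hle : (P'.subgroupOf ρ.range).map (ρ.range.subtype.comp α'.toMonoidHom) ≤
        imageAlong ρ (((preimageAlong ρ P').subgroupOf R).map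
          (R.subtype.comp a.toMonoidHom)) := by
      rintro _ ⟨w, hw, rfl⟩
      obtain ⟨s, hs⟩ := w.2
      refine H86.mem_imageAlong.2 ⟨a s, hmem s (hs ▸ hw), ?_⟩
      show ρ (a s) = (α' w : Ω')
      rw [← hat]
      exact congrArg (fun z => (α' z : Ω')) (Subtype.ext hs)
    refine ⟨_, H85.restrict hχ' hle, fun y hy hαy => ?_⟩
    obtain ⟨s, hs⟩ := hP' y.2
    have hsP : (s : Ω) ∈ preimageAlong ρ P' :=
      ⟨s, show ρ s ∈ P' by rw [hs]; exact y.2, rfl⟩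
    have hw := hmem s (hs ▸ y.2)
    have h1 : Subgroup.inclusion hle ⟨_, hαy⟩ = ⟨ρ ⟨(a s : R), hA₂ hw⟩, hC₂ ⟨_, hw⟩⟩ := by
      refine Subtype.ext ?_
      show (α' _ : Ω') = ρ (a s)
      rw [← hat]
      exact congrArg (fun z => (α' z : Ω')) (Subtype.ext hs.symm)
    rw [MonoidHom.comp_apply, h1, he₂ ⟨_, hw⟩]
    have h2 : φ' y = ρ ⟨φ ⟨s, hsP⟩, hB ⟨s, hsP⟩⟩ := by
      rw [show y = ⟨ρ ⟨(s : Ω), hA hsP⟩, hC ⟨s, hsP⟩⟩ from Subtype.ext hs.symm]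
      exact he ⟨s, hsP⟩
    rw [show (⟨φ' y, hy⟩ : ρ.range) = ⟨_, ⟨_, rfl⟩⟩ from Subtype.ext h2, hat]
    exact congrArg ρ (Subtype.ext (hχe ⟨s, hsP⟩ _ hw))
  · obtain ⟨-, φ, hφ, hA, hB, hC, he⟩ := (hhom P' φ').1 hφ'
    have hleR : preimageAlong θ P' ≤ R := fun x hx => by
      obtain ⟨r, -, rfl⟩ := hpre hP' hx
      exact r.2
    obtain ⟨a, ha, φ₀, hφ₀, hdec⟩ := hfr _ hleR φ hφ
    obtain ⟨γ', hγ', hA₁, hB₁, hC₁, he₁⟩ := hsm.1.2 _ _ ((H85.mem_autGroup hRS).1 ha)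
    have hle : ρ.range ≤ imageAlong θ R := by
      rintro _ ⟨r, rfl⟩
      exact H86.mem_imageAlong.2 ⟨Subgroup.inclusion hRS r, r.2, rfl⟩
    have hγT := H85.restrict hγ' hle
    have hr : (γ'.comp (Subgroup.inclusion hle)).range = ρ.range :=
      H86.range_eq_self_of_le E hγT (by
        rintro _ ⟨w, rfl⟩
        obtain ⟨r, hr⟩ := w.2
        refine ⟨a r, ?_⟩
        show ρ (a r) = γ' (Subgroup.inclusion hle w)
        rw [show Subgroup.inclusion hle w = ⟨θ ⟨(r : Ω), hA₁ r.2⟩, hC₁ r⟩ from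
          Subtype.ext hr.symm, he₁ r]
        rfl)
    obtain ⟨χ, hχ, hA₂, hB₂, hC₂, he₂⟩ := hsm₀.1.2 _ _ (H85.restrict hφ₀ (hpre' P'))
    have hle' : P' ≤ imageAlong ρ (preimageAlong ρ P') :=
      (H86.imageAlong_preimageAlong hE₀.2.2.1 hP').ge
    refine ⟨_, H86.autOfHom_mem E hγT hr, _, H85.restrict hχ hle', fun y hy => ?_⟩
    obtain ⟨s, hs⟩ := hP' y.2
    have hsP : (s : Ω) ∈ preimageAlong ρ P' :=
      ⟨s, show ρ s ∈ P' by rw [hs]; exact y.2, rfl⟩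
    have hsPθ := hpre' P' hsP
    have hyv : y = ⟨θ ⟨(s : Ω), hA hsPθ⟩, hC ⟨s, hsPθ⟩⟩ := Subtype.ext hs.symm
    have hφR : φ₀ ⟨s, hsPθ⟩ ∈ R := H85.map_mem hφ₀ _
    have h2 : χ (Subgroup.inclusion hle' y) = ρ ⟨φ₀ ⟨s, hsPθ⟩, hφR⟩ := by
      rw [show Subgroup.inclusion hle' y = ⟨ρ ⟨(s : Ω), hA₂ hsP⟩, hC₂ ⟨s, hsP⟩⟩ from
        Subtype.ext hs.symm]
      exact he₂ ⟨s, hsP⟩
    rw [H86.autOfHom_apply, MonoidHom.comp_apply]
    rw [show Subgroup.inclusion hle ⟨χ.comp (Subgroup.inclusion hle') y, hy⟩ =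
      ⟨θ ⟨φ₀ ⟨s, hsPθ⟩, hA₁ hφR⟩, hC₁ ⟨_, hφR⟩⟩ from Subtype.ext h2,
      he₁ ⟨_, hφR⟩, hyv, he ⟨s, hsPθ⟩]
    exact congrArg θ (Subtype.ext (hdec ⟨s, hsPθ⟩ hφR))

end H89
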