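import Cfsg.Agent.H89.QuasisimpleResidual
import Cfsg.Agent.H87.EngineTools

/-!
Existence of the layer, given intersections (wedges) of normal subsystems.
-/
set_option autoImplicit false
set_option linter.style.haveILetI false
set_option linter.unusedSectionVars false

open Cfsg Cfsg.FusionSystem

namespace H89

universe u

/-- Any two normal subsystems have a common normal subsystem on the intersection of their bases. -/
def HasWedge (p : ℕ) : Prop :=
  ∀ {Ω : Type u} [Group Ω] (S TM TN : Subgroup Ω) [Finite S] (F : FusionSystem S)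
    (M : FusionSystem TM) (N : FusionSystem TN), IsPGroup p S → M.IsNormalIn F p →
      N.IsNormalIn F p → ∃ D : FusionSystem (TM ⊓ TN),
        D.IsNormalIn F p ∧ D.IsNormalIn M p ∧ D.IsNormalIn N p

variable {Ω : Type u} [Group Ω] {S : Subgroup Ω} [Finite S] {p : ℕ} [Fact p.Prime]

/-- A component whose base lies in the base of a normal subsystem is a component of it. -/
theorem component_of_le_base (hW : HasWedge.{u} p) (hS : IsPGroup p S) {F : FusionSystem S}
    {U T : Subgroup Ω} {C : FusionSystem U} (hC : C.IsComponentIn F p) {N : FusionSystem T}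
    (hN : N.IsNormalIn F p) (hUT : U ≤ T) : C.IsComponentIn N p := by
  suffices main : ∀ {U S : Subgroup Ω} {C : FusionSystem U} {F : FusionSystem S} {q : ℕ},
      C.IsSubnormalIn F q → q = p → Finite S → IsPGroup p S → C.Quasisimple p →
      ∀ (T : Subgroup Ω) (N : FusionSystem T), N.IsNormalIn F p → U ≤ T →
        C.IsSubnormalIn N p from
    ⟨main hC.1 rfl inferInstance hS hC.2 T N hN hUT, hC.2⟩
  intro U S C F q h
  induction h with
  | refl F q =>
    intro hq _ hS hCq T N hN hUT
    subst hq
    obtain rfl := le_antisymm hN.1.2.2.2.1.1 hUT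
    rw [eq_of_weaklyNormal_top hS hCq hN.1]
    exact .refl F _
  | @step V S₀ C₀ D F' q hsn hDF ih =>
    intro hq _ hS hCq T N hN hUT
    subst hq
    have hVS := hDF.1.2.2.2.1.1
    haveI : Finite V := H85.finite_of_le hVS
    have hUV := (H87.fullyNormalized_of_subnormal hsn (hS.to_le hVS) hDF.1.1).1
    obtain ⟨W, -, hWD, hWN⟩ := hW _ V T F' D N hS hDF hN
    exact subnormal_trans (ih rfl inferInstance (hS.to_le hVS) hCq _ W hWD (le_inf hUV hUT))
      (.step (.refl W _) hWN)

omit [Finite S] [Fact p.Prime] in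
/-- A subnormal subsystem is a subsystem. -/
theorem subnormal_sub {U : Subgroup Ω} {C : FusionSystem U} {F : FusionSystem S}
    (h : C.IsSubnormalIn F p) : C.IsSubsystemOf F := by
  induction h with
  | refl F q => exact fun _ _ h => h
  | step _ hDF ih => exact fun P φ hφ => hDF.1.2.2.1 P (ih P hφ)

/-- A saturated system is normal in itself. -/
theorem isNormalIn_refl {F : FusionSystem S} (hF : F.IsSaturated p) : F.IsNormalIn F p := by
  refine ⟨H75.Res.weaklyNormal_self hF, fun α hα => ?_⟩
  have hXS : S ⊔ centralizerIn S S ≤ S := sup_le le_rfl inf_le_left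
  haveI : Finite ↥(S ⊔ centralizerIn S S) := H85.finite_of_le hXS
  have hψ := H85.restrict ((H85.mem_autGroup le_rfl).1 hα) hXS
  have hr : ((S.subtype.comp α.toMonoidHom).comp (Subgroup.inclusion hXS)).range =
      S ⊔ centralizerIn S S :=
    H86.range_eq_self_of_le F hψ (by rintro _ ⟨x, rfl⟩; exact Subgroup.mem_sup_left (α _).2)
  refine ⟨H86.autOfHom _ (F.injective_of_mem hψ) hr, H86.autOfHom_mem F hψ hr, fun x => rfl,
    fun c hc => ?_⟩
  rw [H86.autOfHom_apply]
  show (c : Ω)⁻¹ * (α ⟨c, hXS c.2⟩ : Ω) ∈ _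
  set d : S := ⟨c, hXS c.2⟩
  have hd : ∀ s : S, s * d = d * s := fun s =>
    Subtype.ext ((H85.mem_centralizerIn.1 hc).2 s s.2)
  refine ⟨S.mul_mem (S.inv_mem d.2) (α d).2, Subgroup.mem_centralizer_iff.2 fun s hs => ?_⟩
  obtain ⟨t, ht⟩ := α.surjective ⟨s, hs⟩
  have h1 : α t * α d = α d * α t := by rw [← map_mul, ← map_mul, hd]
  have h2 : Commute (α t) (d⁻¹ * α d) :=
    (Commute.inv_right (hd (α t) : Commute (α t) d)).mul_right h1
  have h3 := congrArg (fun w : S => (w : Ω)) h2.eq
  rw [ht] at h3
  exact h3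

/-- The least normal subsystem containing all components exists. -/
theorem exists_layer (hW : HasWedge.{u} p) (hS : IsPGroup p S) {F : FusionSystem S}
    (hF : F.IsSaturated p) : ∃ (T : Subgroup Ω) (E : FusionSystem T), E.IsLayerOf F p := by
  classical
  let good : ℕ → Prop := fun n => ∃ (T : Subgroup Ω) (E : FusionSystem T), E.IsNormalIn F p ∧
    (∀ (U : Subgroup Ω) (C : FusionSystem U), C.IsComponentIn F p → C.IsSubsystemOf E) ∧
      H87.weight E = n
  have hex : ∃ n, good n := by
    exact ⟨_, S, F, isNormalIn_refl hF, fun U C hC => subnormal_sub hC.1, rfl⟩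
  obtain ⟨T, E, hE, hall, hwt⟩ := Nat.find_spec hex
  refine ⟨T, E, hE, hall, fun R D hD hallD => ?_⟩
  obtain ⟨W, hWF, hWE, hWD⟩ := hW S T R F E D hS hE hD
  have hallW : ∀ (U : Subgroup Ω) (C : FusionSystem U), C.IsComponentIn F p →
      C.IsSubsystemOf W := fun U C hC =>
    subnormal_sub (component_of_le_base hW hS hC hWF
      (le_inf (H85.source_le (hall U C hC U (H85.id_mem C le_rfl)))
        (H85.source_le (hallD U C hC U (H85.id_mem C le_rfl))))).1
  intro P φ hφ
  by_contra hn
  haveI : Finite T := H85.finite_of_le hE.1.2.2.2.1.1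
  have hlt := H87.weight_lt hWE.1.2.2.1 hφ fun h => hn (hWD.1.2.2.1 P h)
  exact Nat.find_min hex (hwt ▸ hlt) ⟨_, W, hWF, hallW, rfl⟩

end H89
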