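import Cfsg.Agent.H89.DichotomyExt
import Cfsg.Agent.H89.LayerExists
import Cfsg.Agent.H89.FactorNormal
import Cfsg.Agent.H87.ComponentCentralize
import Cfsg.Agent.H86.CentralizerSystemE
import Cfsg.Agent.H75.CentReduce

/-!
A component is a component of a normal subsystem or centralizes it.
-/
set_option autoImplicit false
set_option linter.style.haveILetI false
set_option linter.unusedSectionVars false

open Cfsg Cfsg.FusionSystem

namespace H89

universe u

variable {Ω : Type u} [Group Ω] {S : Subgroup Ω} [Finite S] {p : ℕ} [Fact p.Prime]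

/-- In a quasisimple system the base of a normal subsystem is central or everything. -/
theorem quasisimple_base_le_center (hS : IsPGroup p S) {F : FusionSystem S} (hq : F.Quasisimple p)
    {R : Subgroup Ω} {N : FusionSystem R} (hN : N.IsNormalIn F p) (hne : R ≠ S) :
    R ≤ F.center := by
  obtain ⟨hF, hhyp, hsimple⟩ := id hq
  have hRc := hN.1.2.2.2.1
  have hZs := H87.stronglyClosed_center F
  have hZn : F.IsNormal F.center := by
    obtain ⟨hle, hext⟩ := center_isCentral F
    refine ⟨hle, fun P φ hφ => ?_⟩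
    obtain ⟨ψ, hψ, hψP, hψZ⟩ := hext P φ hφ
    refine ⟨ψ, hψ, hψP, le_antisymm ?_ fun z hz => ?_⟩
    · rintro _ ⟨⟨z, hz'⟩, hz, rfl⟩
      exact (hψZ ⟨z, hz⟩).symm ▸ hz
    · exact ⟨Subgroup.inclusion le_sup_right ⟨z, hz⟩, hz, hψZ ⟨z, hz⟩⟩
  have hcomm : ⁅F.center, R⁆ = ⊥ := by
    rw [Subgroup.commutator_eq_bot_iff_le_centralizer]
    exact fun z hz => Subgroup.mem_centralizer_iff.2 fun r hr =>
      Subgroup.mem_centralizer_iff.1 (F.center_le_centralizer hz) r (hRc.1 hr)
  haveI : Finite F.center := H85.finite_of_le hZs.1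
  obtain ⟨D, hD, -⟩ := H75.Fus.exists_normal_product hS hF (H87.isNormalIn_inner hS hF hZn) hN
    hcomm
  obtain ⟨E, hE⟩ := Cfsg.Agent.S5132.result p hS F F.center hZs
  obtain ⟨E₀, hE₀⟩ := exists_weaklyNormal_image hS hD.1 hZs le_sup_left hE
  obtain ⟨-, -, hnorm⟩ := hsimple E hE
  haveI : Finite (⊤ : Subgroup (S ⧸ F.center.subgroupOf S)) := Subtype.finite
  have hS' : IsPGroup p (⊤ : Subgroup (S ⧸ F.center.subgroupOf S)) :=
    (hS.to_quotient _).of_equiv Subgroup.topEquiv.symm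
  rcases hnorm _ _ (H86.residual_normal hS' hE₀) with h | ⟨h, -⟩
  · intro r hr
    refine (hE.2.1 ⟨r, hRc.1 hr⟩).1 (Subgroup.mem_bot.1 (h ▸ ?_))
    exact ⟨⟨r, Subgroup.mem_sup_right hr⟩, rfl⟩
  -- otherwise every map moves elements inside cosets of `R`
  exfalso
  refine hne (le_antisymm hRc.1 ?_)
  have hsplit : ∀ s ∈ S, ∃ z ∈ F.center, ∃ r ∈ R, z * r = s := by
    intro s hs
    obtain ⟨⟨x, hx⟩, hxe⟩ := h.ge (Subgroup.mem_top
      (QuotientGroup.mk' (F.center.subgroupOf S) ⟨s, hs⟩))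
    obtain ⟨z, hz, r, hr, rfl⟩ := H75.Fus.mem_sup_comm (fun a ha b hb =>
      ((Subgroup.mem_centralizer_iff.1 (F.center_le_centralizer ha)) b (hRc.1 hb)).symm) hx
    have h1 : (z * r)⁻¹ * s ∈ F.center := (hE.2.1
      ((⟨z * r, S.mul_mem (hZs.1 hz) (hRc.1 hr)⟩ : S)⁻¹ * ⟨s, hs⟩)).1 (by
        rw [map_mul, map_inv, inv_mul_eq_one]; exact hxe)
    refine ⟨z * ((z * r)⁻¹ * s), F.center.mul_mem hz h1, r, hr, ?_⟩
    have hc := Subgroup.mem_centralizer_iff.1 (F.center_le_centralizer h1) r (hRc.1 hr)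
    rw [mul_assoc, ← hc, ← mul_assoc, mul_inv_cancel_left]
  have hhR : F.hyperfocalSubgroup p ≤ R := by
    refine H87.hyperfocal_le_of_trivial fun P hP a ha _ x => ?_
    obtain ⟨z, hz, r, hr, hzr⟩ := hsplit x (hP x.2)
    obtain ⟨ψ, hψ, hψP, hψZ⟩ := (center_isCentral F).2 P _ ((H85.mem_autGroup hP).1 ha)
    have hzX : z ∈ P ⊔ F.center := Subgroup.mem_sup_right hz
    have hrX : r ∈ P ⊔ F.center := by
      have := mul_mem (inv_mem hzX) (Subgroup.mem_sup_left (T := F.center) x.2)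
      rwa [← hzr, inv_mul_cancel_left] at this
    have h2 : (a x : Ω) = z * ψ ⟨r, hrX⟩ := by
      refine (hψP x).symm.trans ?_
      rw [show Subgroup.inclusion le_sup_left x =
        (⟨z, hzX⟩ : ↥(P ⊔ F.center)) * ⟨r, hrX⟩ from Subtype.ext hzr.symm, map_mul,
        show ψ ⟨z, hzX⟩ = z from hψZ ⟨z, hz⟩]
    rw [h2, ← hzr]
    rw [mul_inv_rev, mul_assoc, inv_mul_cancel_left]
    exact R.mul_mem (R.inv_mem hr) (H86.map_mem_of_stronglyClosed hRc hψ (x := ⟨r, hrX⟩) hr)
  exact hhyp.ge.trans hhR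

/-- If a quasisimple `C` inside a normal `M` over `V` centralizes `R ⊓ V`, it centralizes `R`. -/
theorem centralize_normal_step (hP' : H86.HasProducts.{u} p) (hS : IsPGroup p S)
    {F : FusionSystem S} {V U R : Subgroup Ω} {M : FusionSystem V} {C : FusionSystem U}
    (hM : M.IsNormalIn F p) (hCq : C.Quasisimple p) (hR : F.StronglyClosed R)
    (hC : ∀ hY : R ⊓ V ≤ V, C.IsSubsystemOf (H85.centralizerSystem M (R ⊓ V) hY)) :
    C.IsSubsystemOf (H85.centralizerSystem F R hR.1) := by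
  obtain ⟨D, hD⟩ := hP' S V F M hS hM
  have hVc := hM.1.2.2.2.1
  have hsub := hM.1.2.2.1
  have hVS := hVc.1
  haveI : Finite V := H85.finite_of_le hVS
  set Y := R ⊓ V with hY
  have hC' : ∀ (P : Subgroup Ω) (φ : P →* Ω), φ ∈ C.Hom P → φ ∈ M.centralizerHom Y P :=
    fun P φ hφ => hC inf_le_right P hφ
  have hUY : U ≤ centralizerIn V Y := fun t ht => (hC' U _ (H85.id_mem C le_rfl)).2.1 ht
  have hUV : U ≤ V := hUY.trans inf_le_left
  have hUS : U ≤ S := hUV.trans hVS
  haveI : Finite U := H85.finite_of_le hUS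
  -- automorphisms of order prime to `p` extend over `R`
  have hext : ∀ (P : Subgroup Ω), P ≤ U → ∀ a ∈ C.autGroup P, Nat.Coprime (orderOf a) p →
      ∃ b ∈ F.autGroup (P ⊔ R),
        (∀ x : P, (b (Subgroup.inclusion le_sup_left x) : Ω) = a x) ∧
        (∀ r : R, (r : Ω) ∈ V → (b (Subgroup.inclusion le_sup_right r) : Ω) = r) ∧
        ∀ r : R, (r : Ω)⁻¹ * (b (Subgroup.inclusion le_sup_right r) : Ω) ∈ Y := by
    intro P hPU a ha hao
    obtain ⟨-, -, -, ψ, hψ, hψP, hψY⟩ := hC' P _ ((H85.mem_autGroup hPU).1 ha)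
    have hXV : (P ⊔ Y) ≤ V := sup_le (hPU.trans hUV) inf_le_right
    haveI : Finite ↥(P ⊔ Y) := H85.finite_of_le hXV
    have hr : ψ.range = (P ⊔ Y) := H86.range_eq_self_of_le M hψ (by
      rintro _ ⟨z, rfl⟩
      exact H87.mapsTo_sup (Q := P ⊔ Y) (fun x => by rw [hψP]; exact Subgroup.mem_sup_left (a x).2)
        (fun y => by rw [hψY]; exact Subgroup.mem_sup_right y.2) z)
    set a₁ := H86.autOfHom ψ (M.injective_of_mem hψ) hr with ha₁
    have ha₁M : a₁ ∈ M.autGroup (P ⊔ Y) := H86.autOfHom_mem M hψ hr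
    haveI : Finite (M.autGroup (P ⊔ Y)) := H85.finite_autGroup M hXV
    obtain ⟨n, hn, hna⟩ := H86.exists_exp_coprime (⟨a₁, ha₁M⟩ : M.autGroup (P ⊔ Y)) a hao
    have hpow : ∀ (m : ℕ), (∀ x : P, ((a₁ ^ m) (Subgroup.inclusion le_sup_left x) : Ω) =
        (a ^ m) x) ∧ ∀ y : Y, ((a₁ ^ m) (Subgroup.inclusion le_sup_right y) : Ω) = y := by
      intro m
      induction m with
      | zero => exact ⟨fun x => rfl, fun y => rfl⟩
      | succ m ih =>
        refine ⟨fun x => ?_, fun y => ?_⟩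
        · rw [pow_succ', MulAut.mul_apply, pow_succ', MulAut.mul_apply,
            show (a₁ ^ m) (Subgroup.inclusion le_sup_left x) =
              Subgroup.inclusion le_sup_left ((a ^ m) x) from Subtype.ext (ih.1 x)]
          exact hψP _
        · rw [pow_succ', MulAut.mul_apply,
            show (a₁ ^ m) (Subgroup.inclusion le_sup_right y) =
              Subgroup.inclusion le_sup_right y from Subtype.ext (ih.2 y)]
          exact hψY y
    have hfix : ∀ x : ↥(P ⊔ Y), (x : Ω) ∈ R → (a₁ ^ n) x = x := fun x hx =>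
      Subtype.ext ((hpow n).2 ⟨x, hx, hXV x.2⟩)
    obtain ⟨b, hb, hbX, hbR⟩ := exists_ext_displace hS hD hR hVc hXV le_sup_right
      (pow_mem ha₁M n) (by rw [← Subgroup.orderOf_coe] at hn; exact hn) hfix
    have hle : P ⊔ R ≤ (P ⊔ Y) ⊔ R := sup_le_sup_right le_sup_left R
    have hge : (P ⊔ Y) ⊔ R ≤ P ⊔ R :=
      sup_le (sup_le le_sup_left (inf_le_left.trans le_sup_right)) le_sup_right
    have hJS : P ⊔ R ≤ S := sup_le (hPU.trans hUS) hR.1
    haveI : Finite ↥(P ⊔ R) := H85.finite_of_le hJS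
    have hbI := H85.restrict ((H85.mem_autGroup (hle.antisymm hge ▸ hJS)).1 hb) hle
    have hbr := H86.range_eq_self_of_le F hbI (by
      rintro _ ⟨z, rfl⟩; exact hge (b _).2)
    refine ⟨H86.autOfHom _ (F.injective_of_mem hbI) hbr, H86.autOfHom_mem F hbI hbr,
      fun x => ?_, fun r hr => ?_, fun r => ?_⟩
    · refine ((congrArg (fun z => (b z : Ω)) (Subtype.ext rfl)).trans
        (hbX (Subgroup.inclusion le_sup_left x))).trans ?_
      rw [(hpow n).1 x, hna]
    · refine ((congrArg (fun z => (b z : Ω)) (Subtype.ext rfl)).trans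
        (hbX (Subgroup.inclusion le_sup_right (⟨r, r.2, hr⟩ : Y)))).trans ?_
      exact (hpow n).2 ⟨r, r.2, hr⟩
    · have e : (H86.autOfHom _ (F.injective_of_mem hbI) hbr (Subgroup.inclusion le_sup_right r) : Ω) =
          b (Subgroup.inclusion le_sup_right r) := congrArg (fun z => (b z : Ω)) (Subtype.ext rfl)
      rw [e]
      exact hbR r
  -- `U` centralizes `R`
  have hUR : U ≤ centralizerIn S R := by
    refine hCq.2.1.ge.trans (H87.hyperfocal_le_of_trivial fun P hP a ha hao x => ?_)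
    obtain ⟨b, -, hbP, hbV, hbR⟩ := hext P hP a ha hao
    have hxV : (x : Ω) ∈ V := hUV (hP x.2)
    refine H85.mem_centralizerIn.2 ⟨S.mul_mem (S.inv_mem (hUS (hP x.2))) (hUS (hP (a x).2)),
      fun r hr => ?_⟩
    set r' : R := ⟨r, hr⟩
    set c : Ω := r * x * r⁻¹ * (x : Ω)⁻¹ with hc
    have hcR : c ∈ R := by
      have := R.mul_mem hr (H86.normal_of_stronglyClosed F hR (hUS (hP x.2)) (R.inv_mem hr))
      simpa [hc, mul_assoc] using this
    have hcV : c ∈ V := V.mul_mem (H86.normal_of_stronglyClosed F hVc (hR.1 hr) hxV) (V.inv_mem hxV)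
    set y := r⁻¹ * (b (Subgroup.inclusion le_sup_right r') : Ω) with hy
    have hyY : y ∈ Y := hbR r'
    have hbr : (b (Subgroup.inclusion le_sup_right r') : Ω) = r * y := by
      rw [hy, mul_inv_cancel_left]
    have h1 : (b (Subgroup.inclusion le_sup_right r' * Subgroup.inclusion le_sup_left x *
        (Subgroup.inclusion le_sup_right r')⁻¹ * (Subgroup.inclusion le_sup_left x)⁻¹) : Ω) = c :=
      (congrArg (fun z => (b z : Ω)) (Subtype.ext rfl)).trans (hbV ⟨c, hcR⟩ hcV)
    simp only [map_mul, map_inv, Subgroup.coe_mul, Subgroup.coe_inv, hbP, hbr] at h1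
    have hya : y * (a x : Ω) * y⁻¹ = a x := by
      rw [(H85.mem_centralizerIn.1 (hUY (hP (a x).2))).2 y hyY, mul_inv_cancel_right]
    have h2 : r * (a x : Ω) * r⁻¹ * (a x : Ω)⁻¹ = c := by
      rw [← h1]
      conv_lhs => enter [1, 1, 2]; rw [← hya]
      group
    calc r * ((x : Ω)⁻¹ * a x) = (x : Ω)⁻¹ * (r * x * r⁻¹ * (x : Ω)⁻¹)⁻¹ *
          (r * (a x : Ω) * r⁻¹ * (a x : Ω)⁻¹) * (a x : Ω) * r := by group
      _ = (x : Ω)⁻¹ * a x * r := by rw [h2, ← hc]; group
  let I : FusionSystem U := H87.interSys C (H85.centralizerSystem F R hR.1) hUR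
  suffices h : ∀ P : Subgroup Ω, P ≤ U → ∀ φ ∈ C.Hom P, φ ∈ I.Hom P from
    fun P φ hφ => (h P (H85.source_le hφ) φ hφ).2
  refine H86.induction_within (hS.to_le hUS) hCq.1 (H86.stronglyClosed_self C)
    (fun P φ => φ ∈ I.Hom P) ?_ ?_ ?_ ?_
  · intro P Q φ h _ _ hφ
    exact H85.restrict hφ h
  · intro P Q Q' e e' _ _ _ _ _ h h'
    exact H85.hom_congr (H85.IsFIso.trans (F := I) h h') fun _ => rfl
  · intro P Q e _ _ _ h
    exact H85.IsFIso.symm (F := I) h
  intro P hPU hP _ a ha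
  refine (H85.mem_autGroup (F := I) hPU).1 ?_
  obtain ⟨-, Q, hQ⟩ := H85.fullyAutomized_of_fullyNormalized (hS.to_le hUS) hCq.1 hP
  haveI : Finite (C.autGroup P) := H85.finite_autGroup C hPU
  suffices hle : (⊤ : Subgroup (C.autGroup P)) ≤ (I.autGroup P).subgroupOf (C.autGroup P) from
    hle (Subgroup.mem_top (⟨a, ha⟩ : C.autGroup P))
  rw [← H86.pResidual_sup_sylow Q, Cfsg.pResidual]
  refine sup_le ((Subgroup.closure_le _).2 ?_) ?_
  swap
  · intro k hk
    rw [hQ] at hk
    exact H85.autInducedBy_le_autGroup I hPU hk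
  intro k hk
  obtain ⟨n, hn⟩ := IsPGroup.iff_card.1 hS
  obtain ⟨j, hj⟩ := exists_pow_eq_self_of_coprime (n := Nat.card S) (x := (k : MulAut P)) (by
    rw [hn, Subgroup.orderOf_coe]; exact Nat.Coprime.pow_left n hk.symm)
  show (k : MulAut P) ∈ I.autGroup P
  rw [← hj]
  refine pow_mem ?_ j
  set N := Nat.card S with hNdef
  have hPR : P ⊔ R ≤ S := sup_le (hPU.trans hUS) hR.1
  obtain ⟨b, hb, hbP, hbV, hbR⟩ := hext P hPU k k.2 (by rw [Subgroup.orderOf_coe]; exact hk)
  have hiterP : ∀ (m : ℕ) (x : P), (b ^ m) (Subgroup.inclusion le_sup_left x) =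
      Subgroup.inclusion le_sup_left (((k : MulAut P) ^ m) x) := by
    intro m
    induction m with
    | zero => intro x; rfl
    | succ m ih =>
      intro x
      rw [pow_succ', MulAut.mul_apply, ih, pow_succ']
      exact Subtype.ext (hbP _)
  have hiter : ∀ (r : R) (m : ℕ), ((b ^ m) (Subgroup.inclusion le_sup_right r) : Ω) =
      (r : Ω) * ((r : Ω)⁻¹ * b (Subgroup.inclusion le_sup_right r)) ^ m := by
    intro r m
    induction m with
    | zero => simp
    | succ m ih =>
      set y := (r : Ω)⁻¹ * (b (Subgroup.inclusion le_sup_right r) : Ω) with hy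
      have hyY : y ∈ Y := hbR r
      have e : (b ^ m) (Subgroup.inclusion le_sup_right r) = Subgroup.inclusion le_sup_right r *
          Subgroup.inclusion le_sup_right (⟨y ^ m, R.pow_mem hyY.1 m⟩ : R) := Subtype.ext ih
      rw [pow_succ', MulAut.mul_apply, e, map_mul, Subgroup.coe_mul,
        hbV ⟨y ^ m, R.pow_mem hyY.1 m⟩ (V.pow_mem hyY.2 m), pow_succ', ← mul_assoc]
      congr 1
      rw [hy, mul_inv_cancel_left]
  refine (H85.mem_autGroup (F := I) hPU).2 ⟨(H85.mem_autGroup hPU).1 (pow_mem k.2 N),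
    (H85.mem_autGroup (hPU.trans hUS)).1 (pow_mem ((H85.mem_autGroup (hPU.trans hUS)).2
      (hsub P (hC' P _ ((H85.mem_autGroup hPU).1 k.2)).1)) N),
    hPU.trans hUR, fun x => hUR (hPU (((k : MulAut P) ^ N) x).2),
    _, (H85.mem_autGroup hPR).1 (pow_mem hb N), fun x => ?_, fun r => ?_⟩
  · exact congrArg Subtype.val (hiterP N x)
  · refine (hiter r N).trans ?_
    have h1 : ((r : Ω)⁻¹ * b (Subgroup.inclusion le_sup_right r)) ^ N = 1 :=
      congrArg Subtype.val (pow_card_eq_one' (x := (⟨_, (hR.1 (hbR r).1)⟩ : S)))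
    rw [h1, mul_one]

/-- A component is a component of a given normal subsystem, or centralizes it. -/
theorem component_dichotomy (hW : HasWedge.{u} p) (hP' : H86.HasProducts.{u} p)
    (hS : IsPGroup p S) {F : FusionSystem S} {U R : Subgroup Ω} {C : FusionSystem U}
    (hC : C.IsComponentIn F p) {N : FusionSystem R} (hN : N.IsNormalIn F p) :
    C.IsComponentIn N p ∨ (C.IsSubsystemOf (H85.centralizerSystem F R hN.1.2.2.2.1.1) ∧
      U ≤ H86.centE p F N) := by
  have key : C.IsComponentIn N p ∨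
      C.IsSubsystemOf (H85.centralizerSystem F R hN.1.2.2.2.1.1) := by
    suffices main : ∀ {U S : Subgroup Ω} {C : FusionSystem U} {F : FusionSystem S} {q : ℕ},
        C.IsSubnormalIn F q → q = p → Finite S → IsPGroup p S → C.Quasisimple p →
        ∀ (R : Subgroup Ω) (N : FusionSystem R) (hN : N.IsNormalIn F p),
          C.IsSubnormalIn N p ∨
            C.IsSubsystemOf (H85.centralizerSystem F R hN.1.2.2.2.1.1) from
      (main hC.1 rfl inferInstance hS hC.2 R N hN).imp (fun h => ⟨h, hC.2⟩) id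
    intro U S C F q h
    induction h with
    | refl F q =>
      intro hq _ hS hCq R N hN
      subst hq
      by_cases hR : R = U
      · subst hR
        left
        rw [eq_of_weaklyNormal_top hS hCq hN.1]
        exact .refl F _
      · right
        intro P φ hφ
        have hZ := quasisimple_base_le_center hS hCq hN hR
        have hRc : ∀ {x : Ω}, x ∈ U → x ∈ centralizerIn U R := fun {x} hx =>
          H85.mem_centralizerIn.2 ⟨hx, fun r hr =>
            ((Subgroup.mem_centralizer_iff.1 (F.center_le_centralizer (hZ hr))) x hx).symm⟩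
        obtain ⟨ψ, hψ, hψP, hψZ⟩ := (center_isCentral F).2 P φ hφ
        exact ⟨hφ, fun x hx => hRc (H85.source_le hφ hx), fun x => hRc (H85.map_mem hφ x), _,
          H85.restrict hψ (sup_le_sup_left hZ P), fun x => hψP x,
          fun r => hψZ ⟨r, hZ r.2⟩⟩
    | @step V S₀ C₀ D F' q hsn hDF ih =>
      intro hq _ hS hCq R N hN
      subst hq
      have hVS := hDF.1.2.2.2.1.1
      haveI : Finite V := H85.finite_of_le hVS
      obtain ⟨W, -, hWD, hWN⟩ := hW _ V R F' D N hS hDF hN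
      rcases ih rfl inferInstance (hS.to_le hVS) hCq _ W hWD with h | h
      · exact Or.inl (subnormal_trans h (.step (.refl W _) hWN))
      · refine Or.inr (centralize_normal_step hP' hS hDF hCq hN.1.2.2.2.1 fun hY => ?_)
        have e : V ⊓ R = R ⊓ V := inf_comm V R
        intro P φ hφ
        have hh := h P hφ
        revert hY
        rw [← e]
        intro hY
        exact hh
  refine key.imp_right fun h => ⟨h, ?_⟩
  have hUS := (H87.fullyNormalized_of_subnormal hC.1 hS hN.1.2.1).1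
  haveI : Finite U := H85.finite_of_le hUS
  have hUR : U ≤ centralizerIn S R := fun u hu => (h U (H85.id_mem C le_rfl)).2.1 hu
  refine hC.2.2.1.ge.trans (H87.hyperfocal_le_of_trivial fun P hP a ha _ x => ?_)
  exact H86.displace_mem_centE hS hN (hP.trans hUR) ((H85.mem_autGroup
    (F := H85.centralizerSystem F R hN.1.2.2.2.1.1) (hP.trans hUR)).2
    (h P ((H85.mem_autGroup hP).1 ha))) x

end H89
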