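import Cfsg.Agent.H89.FittingConstrained
import Cfsg.Agent.H86.CentralizerSystemE
import Cfsg.Agent.H75.CentralPair

/-!
The centre of a generalized Fitting subsystem is its centralizer in `S`.
-/
set_option autoImplicit false
set_option linter.style.haveILetI false
set_option linter.unusedSectionVars false

open Cfsg Cfsg.FusionSystem

namespace H89

universe u

variable {Ω : Type u} [Group Ω] {S : Subgroup Ω}

/-- The multiplication map of a central product. -/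
theorem centralProduct_theta {T₁ T₂ : Subgroup Ω} {θ : ↥(T₁.prod T₂) →* Ω}
    (h₁ : ∀ (x : Ω) (hx : ((x, 1) : Ω × Ω) ∈ T₁.prod T₂), θ ⟨(x, 1), hx⟩ = x)
    (h₂ : ∀ (y : Ω) (hy : ((1, y) : Ω × Ω) ∈ T₁.prod T₂), θ ⟨(1, y), hy⟩ = y)
    (a : ↥(T₁.prod T₂)) : θ a = (a : Ω × Ω).1 * (a : Ω × Ω).2 := by
  have hx : (((a : Ω × Ω).1, 1) : Ω × Ω) ∈ T₁.prod T₂ := ⟨a.2.1, one_mem _⟩
  have hy : ((1, (a : Ω × Ω).2) : Ω × Ω) ∈ T₁.prod T₂ := ⟨one_mem _, a.2.2⟩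
  calc θ a = θ (⟨_, hx⟩ * ⟨_, hy⟩) := congrArg θ (Subtype.ext (Prod.ext (mul_one _).symm
          (one_mul _).symm))
    _ = _ := by rw [map_mul, h₁ _ hx, h₂ _ hy]

variable [Finite S] {p : ℕ} [Fact p.Prime]

/-- The layer is centralized by the largest normal subgroup. -/
theorem layer_le_centralizerHom (hS : IsPGroup p S) {F : FusionSystem S} (hF : F.IsSaturated p)
    {T : Subgroup Ω} {E : FusionSystem T} (hE : E.IsLayerOf F p) (P : Subgroup Ω) :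
    E.Hom P ⊆ F.centralizerHom F.core P :=
  hE.2.2 _ _ (H87.isNormalIn_centralizerSystem hS hF (core_isNormal F))
    (fun _ _ hC => H87.component_centralizes hS hC (core_isNormal F)) P

/-- The base of the layer centralizes the largest normal subgroup. -/
theorem layer_base_le (hS : IsPGroup p S) {F : FusionSystem S} (hF : F.IsSaturated p)
    {T : Subgroup Ω} {E : FusionSystem T} (hE : E.IsLayerOf F p) :
    T ≤ centralizerIn S F.core :=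
  fun _ ht => (layer_le_centralizerHom hS hF hE T (H85.id_mem E le_rfl)).2.1 ht

/-- A generalized Fitting subsystem lies in the whole system. -/
theorem fitting_isSubsystemOf (hS : IsPGroup p S) {F : FusionSystem S} (hF : F.IsSaturated p)
    {U : Subgroup Ω} {D : FusionSystem U} (hD : D.IsGeneralizedFittingOf F p) :
    D.IsSubsystemOf F := by
  obtain ⟨T, E, hE, D₀, hD₀, Z, θ, -, -, -, hx, hy, -, -, hrng, hhom⟩ := hD
  intro P' φ' hφ'
  obtain ⟨hP', φ, hφ, hA, hB, hC, he⟩ := (hhom P' φ').1 hφ'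
  obtain ⟨-, φ₁, ⟨-, g, hg, h1⟩, φ₂, hφ₂, hval⟩ := (hD₀ _ φ).1 hφ
  obtain ⟨-, -, hcg, ψ, hψ, hψP, hψQ⟩ := layer_le_centralizerHom hS hF hE _ hφ₂
  have hgS : g ∈ S := (core_isNormal F).1 hg
  have hcomp := F.comp_mem hψ
    (F.conj_mem (P := ψ.range) (g := g) (by rintro _ ⟨z, rfl⟩; exact H85.map_mem hψ z) hgS)
    fun z => ⟨z, rfl⟩
  have hle : P' ≤ (preimageAlong θ P').map (MonoidHom.snd Ω Ω) ⊔ F.core := by
    intro y hy'
    obtain ⟨a, rfl⟩ : y ∈ θ.range := by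
      have := hP' hy'
      rwa [hrng]
    have ha : (a : Ω × Ω) ∈ preimageAlong θ P' := ⟨a, hy', rfl⟩
    rw [centralProduct_theta hx hy a]
    exact mul_mem (Subgroup.mem_sup_right a.2.1) (Subgroup.mem_sup_left ⟨_, ha, rfl⟩)
  refine H85.hom_congr (H85.restrict hcomp hle) fun y => ?_
  obtain ⟨a, hay⟩ : (y : Ω) ∈ θ.range := by
    have := hP' y.2
    rwa [hrng]
  have ha : (a : Ω × Ω) ∈ preimageAlong θ P' := ⟨a, show θ a ∈ P' by rw [hay]; exact y.2, rfl⟩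
  have hyv : y = ⟨θ ⟨(a : Ω × Ω), hA ha⟩, hC ⟨_, ha⟩⟩ := Subtype.ext hay.symm
  have hv := hval ⟨_, ha⟩ ⟨_, ha, rfl⟩ ⟨_, ha, rfl⟩
  set c : Ω := (a : Ω × Ω).1 with hc
  set d : ↥((preimageAlong θ P').map (MonoidHom.snd Ω Ω)) := ⟨_, _, ha, rfl⟩ with hd
  have hφy : φ' y = g * c * g⁻¹ * φ₂ d := by
    rw [hyv, he ⟨_, ha⟩, centralProduct_theta hx hy]
    show (φ ⟨_, ha⟩).1 * (φ ⟨_, ha⟩).2 = _
    rw [hv, h1]
    rfl
  rw [hφy]
  show g * ψ (Subgroup.inclusion hle y) * g⁻¹ = _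
  rw [show Subgroup.inclusion hle y = Subgroup.inclusion le_sup_right (⟨c, a.2.1⟩ : F.core) *
      Subgroup.inclusion le_sup_left d from
    Subtype.ext (hay.symm.trans (centralProduct_theta hx hy a)), map_mul, hψQ, hψP]
  have hcd : φ₂ d * g⁻¹ = g⁻¹ * φ₂ d :=
    ((H85.mem_centralizerIn.1 (hcg d)).2 _ (inv_mem hg)).symm
  show g * (c * φ₂ d) * g⁻¹ = _
  rw [mul_assoc g, mul_assoc c, hcd]
  group

/-- The centre of a generalized Fitting subsystem centralizes it in `F`. -/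
theorem fitting_center_spec (hS : IsPGroup p S) {F : FusionSystem S} (hF : F.IsSaturated p)
    {U : Subgroup Ω} {D : FusionSystem U} (hD : D.IsGeneralizedFittingOf F p) :
    D.center ≤ centralizerIn S U ∧ ∀ P : Subgroup Ω, D.Hom P ⊆ F.centralizerHom D.center P := by
  have hsub := fitting_isSubsystemOf hS hF hD
  have hUS : U ≤ S := H85.source_le (hsub U (H85.id_mem D le_rfl))
  haveI : Finite U := H85.finite_of_le hUS
  have hle : D.center ≤ centralizerIn S U := fun z hz =>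
    ⟨hUS (center_le D hz), D.center_le_centralizer hz⟩
  have hUc : U ≤ centralizerIn S D.center := fun u hu => H85.mem_centralizerIn.2
    ⟨hUS hu, fun z hz => ((H85.mem_centralizerIn.1 (hle hz)).2 u hu).symm⟩
  haveI : Finite U := H85.finite_of_le hUS
  refine ⟨hle, fun P φ hφ => ⟨hsub P hφ, (H85.source_le hφ).trans hUc,
    fun x => hUc (H85.map_mem hφ x), ?_⟩⟩
  obtain ⟨ψ, hψ, h₁, h₂⟩ := (center_isCentral D).2 P φ hφ
  exact ⟨ψ, hsub _ hψ, h₁, h₂⟩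

/-- Maps of the covering system induce maps of its factor system. -/
theorem exists_induced_center {Ω' : Type u} [Group Ω'] {S' : Subgroup Ω} {U : Subgroup Ω'}
    [Finite S'] {D₀ : FusionSystem S'} {Z : Subgroup Ω} {θ : S' →* Ω'} {D : FusionSystem U}
    (hZ : Z ≤ D₀.center) (hD : D₀.IsFactorSystem Z θ D) {P' : Subgroup Ω'} (hP' : P' ≤ U)
    {Φ : ↥(preimageAlong θ P') →* Ω} (hΦ : Φ ∈ D₀.Hom (preimageAlong θ P')) :
    ∃ φ' ∈ D.Hom P', InducedAlong θ Φ φ' := by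
  obtain ⟨-, hker, hrng, hhom⟩ := hD
  have hsc : D₀.StronglyClosed Z := by
    refine ⟨hZ.trans (center_le D₀), fun R hR φ hφ x => ?_⟩
    rw [show φ x = (x : Ω) from center_fix hφ x.2 (hZ (hR x.2))]
    exact hR x.2
  have hin : ∀ x : ↥(preimageAlong θ P'), θ ⟨x, (D₀.le_of_mem hΦ).1 x.2⟩ ∈ P' := fun x => by
    obtain ⟨s, hs, hsx⟩ := x.2
    rw [show (⟨(x : Ω), (D₀.le_of_mem hΦ).1 x.2⟩ : S') = s from Subtype.ext hsx.symm]
    exact hs
  obtain ⟨φ', hφ'⟩ := H86.exists_induced hsc hker hΦ hin fun y => by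
    obtain ⟨s, hs⟩ := hrng.ge (hP' y.2)
    exact ⟨⟨(s : Ω), s, show θ s ∈ P' from hs ▸ y.2, rfl⟩, hs⟩
  exact ⟨φ', (hhom P' φ').2 ⟨hP', Φ, hΦ, hφ'⟩, hφ'⟩

/-- A subgroup centralizing a generalized Fitting subsystem lies in its centre. -/
theorem le_fitting_center (hS : IsPGroup p S) {F : FusionSystem S} (hF : F.IsSaturated p)
    {U : Subgroup Ω} {D : FusionSystem U} (hD : D.IsGeneralizedFittingOf F p) {Y : Subgroup Ω}
    (hY : Y ≤ centralizerIn S U) (hc : ∀ P : Subgroup Ω, D.Hom P ⊆ F.centralizerHom Y P) :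
    Y ≤ D.center := by
  obtain ⟨T, E, hE, D₀, hD₀, Z, θ, hZc, -, -, hx, hy, hZS, hker, hrng, hhom⟩ := hD
  have hTQ : T ≤ centralizerIn S F.core := layer_base_le hS hF hE
  have hθ := centralProduct_theta hx hy
  have hQU : F.core ≤ U := fun q hq => hrng.le ⟨⟨(q, 1), hq, one_mem _⟩, hx q _⟩
  have hTU : T ≤ U := fun t ht => hrng.le ⟨⟨(1, t), one_mem _, ht⟩, hy t _⟩
  haveI : Finite T := H85.finite_of_le (hTQ.trans inf_le_left)
  have : Finite F.core := H85.finite_of_le (core_isNormal F).1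
  have : Finite ↥(F.core.prod T) := Finite.of_equiv _ (Subgroup.prodEquiv F.core T).toEquiv.symm
  have hfac : D₀.IsFactorSystem Z θ D := ⟨hZS, hker, hrng, hhom⟩
  have hED : E.IsSubsystemOf D := by
    intro P φ hφ
    have hP : P ≤ T := H85.source_le hφ
    set P₀ : Subgroup (Ω × Ω) := (⊥ : Subgroup Ω).prod P
    let f₀ : ↥P₀ →* Ω × Ω :=
      ((MonoidHom.fst Ω Ω).comp P₀.subtype).prod
        (φ.comp (((MonoidHom.snd Ω Ω).comp P₀.subtype).codRestrict P fun x => x.2.2))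
    have hf₀ : f₀ ∈ D₀.Hom P₀ := by
      have h2 : P₀.map (MonoidHom.snd Ω Ω) ≤ P := by rintro _ ⟨x, hx', rfl⟩; exact hx'.2
      refine (hD₀ _ f₀).2 ⟨fun x hx' => ⟨show x.1 ∈ F.core by
          rw [show x.1 = 1 from hx'.1]; exact one_mem _, hP hx'.2⟩,
        conjHom _ 1, ⟨?_, 1, one_mem _, fun _ => rfl⟩, _, H85.restrict hφ h2, fun x h₁ h₂ => ?_⟩
      · rintro _ ⟨x, hx', rfl⟩
        show x.1 ∈ F.core
        rw [show x.1 = 1 from hx'.1]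
        exact one_mem _
      · refine Prod.ext ?_ rfl
        show (x : Ω × Ω).1 = 1 * (x : Ω × Ω).1 * 1⁻¹
        simp
    obtain ⟨ψ, hψ, hψP, -⟩ := (center_isCentral D₀).2 P₀ f₀ hf₀
    have hle : preimageAlong θ P ≤ P₀ ⊔ D₀.center := by
      rintro _ ⟨s, hs, rfl⟩
      have hsU : ((1, θ s) : Ω × Ω) ∈ F.core.prod T := ⟨one_mem _, hP hs⟩
      have hz : (((⟨_, hsU⟩ : ↥(F.core.prod T))⁻¹ * s : ↥(F.core.prod T)) : Ω × Ω) ∈ Z :=
        (hker _).1 (by rw [map_mul, map_inv, hy _ hsU, inv_mul_cancel])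
      rw [show (F.core.prod T).subtype s =
        ((1, θ s) : Ω × Ω) * (((⟨_, hsU⟩ : ↥(F.core.prod T))⁻¹ * s : ↥(F.core.prod T)) : Ω × Ω) from
        (mul_inv_cancel_left ((1, θ s) : Ω × Ω) (s : Ω × Ω)).symm]
      exact Subgroup.mul_mem_sup ⟨one_mem _, hs⟩ (hZc hz)
    obtain ⟨φ', hφ', hA, hB, hC, he⟩ :=
      exists_induced_center hZc hfac (hP.trans hTU) (H85.restrict hψ hle)
    refine H85.hom_congr hφ' fun x => ?_
    have hxU : ((1, (x : Ω)) : Ω × Ω) ∈ F.core.prod T := ⟨one_mem _, hP x.2⟩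
    have hx0 : ((1, (x : Ω)) : Ω × Ω) ∈ preimageAlong θ P :=
      ⟨⟨_, hxU⟩, show θ _ ∈ P by rw [hy]; exact x.2, rfl⟩
    rw [show x = ⟨θ ⟨_, hA hx0⟩, hC ⟨_, hx0⟩⟩ from Subtype.ext (hy _ _).symm, he ⟨_, hx0⟩]
    have hψx : ψ (Subgroup.inclusion hle ⟨_, hx0⟩) = (1, φ x) :=
      hψP ⟨((1, (x : Ω)) : Ω × Ω), ⟨rfl, x.2⟩⟩
    rw [hθ]
    show (ψ (Subgroup.inclusion hle ⟨_, hx0⟩)).1 * (ψ (Subgroup.inclusion hle ⟨_, hx0⟩)).2 = _
    rw [hψx, one_mul]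
    exact congrArg φ (Subtype.ext (hy _ _).symm)
  have hYT : Y ≤ centralizerIn S T := hY.trans (H86.centralizerIn_antitone hTU)
  have hCent : H86.Cent F E Y := fun P φ hφ => hc P (hED P hφ)
  have hYE := H86.le_centE hS hE.1 hYT hCent
  obtain ⟨C, hCn, -⟩ := H86.exists_centralizer_normal hS hE.1
  have hWS : (H86.centE p F E) ≤ S := H86.centE_le.trans inf_le_left
  haveI : Finite (H86.centE p F E) := H85.finite_of_le hWS
  have hWp : IsPGroup p (H86.centE p F E) := hS.to_le hWS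
  have hCc : C.IsConstrained p := by
    by_contra hnc
    obtain ⟨V, K, hK⟩ := exists_component_of_not_constrained hWp hCn.1.1 hnc
    have hKF : K.IsComponentIn F p :=
      ⟨subnormal_trans hK.1 (.step (.refl C p) hCn), hK.2⟩
    have hVW : V ≤ (H86.centE p F E) := (H87.fullyNormalized_of_subnormal hK.1 hWp hCn.1.1).1
    have hVT : V ≤ T := H85.source_le (hE.2.1 V K hKF V (H85.id_mem K le_rfl))
    haveI : Finite V := H85.finite_of_le hVW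
    refine H87.not_isMulCommutative_of_quasisimple (hWp.to_le hVW) K hK.2 ⟨⟨fun a b => ?_⟩⟩
    exact Subtype.ext ((H85.mem_centralizerIn.1 (H86.centE_le (hVW a.2))).2 _ (hVT b.2)).symm
  obtain ⟨-, hcc, -⟩ := H86.core_spec hWp hCc
  have hcQ : C.core ≤ F.core := le_sSup (core_normal_of_weaklyNormal hS hCn.1)
  have hYQ : Y ≤ F.core := fun y hy' => hcQ (H85.centric_self hcc (H85.mem_centralizerIn.2
    ⟨hYE hy', fun q hq => (H85.mem_centralizerIn.1 (hY hy')).2 q (hQU (hcQ hq))⟩))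
  have hYU : Y ≤ U := hYQ.trans hQU
  refine le_sSup ⟨hYU, fun P' φ' hφ' => ?_⟩
  obtain ⟨hP', φ, hφ, hA, hB, hC, he⟩ := (hhom P' φ').1 hφ'
  obtain ⟨-, φ₁, ⟨-, g, hg, h1⟩, φ₂, hφ₂, hval⟩ := (hD₀ _ φ).1 hφ
  have hPY : P' ⊔ Y ≤ U := sup_le hP' hYU
  set R := preimageAlong θ (P' ⊔ Y)
  have hR : R ≤ F.core.prod T := by rintro _ ⟨s, -, rfl⟩; exact s.2
  have hmem : ∀ x ∈ R, ∃ a ∈ preimageAlong θ P', ∃ y ∈ Y, x = a * (y, 1) := by
    rintro _ ⟨s, hs, rfl⟩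
    obtain ⟨b, hb, y, hy', hby⟩ :=
      H75.Fus.mem_sup_comm (fun b hb y hy' =>
        ((H85.mem_centralizerIn.1 (hY hy')).2 b (hP' hb))) hs
    have hyU : ((y, 1) : Ω × Ω) ∈ F.core.prod T := ⟨hYQ hy', one_mem _⟩
    refine ⟨(F.core.prod T).subtype (s * (⟨_, hyU⟩ : ↥(F.core.prod T))⁻¹), ⟨_, ?_, rfl⟩, y, hy', ?_⟩
    · show θ _ ∈ P'
      rw [map_mul, map_inv, hx y hyU, ← hby, mul_inv_cancel_right]
      exact hb
    · exact (inv_mul_cancel_right _ _).symm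
  have hsnd : R.map (MonoidHom.snd Ω Ω) ≤ (preimageAlong θ P').map (MonoidHom.snd Ω Ω) := by
    rintro _ ⟨x, hx', rfl⟩
    obtain ⟨a, ha, y, -, rfl⟩ := hmem x hx'
    exact ⟨a, ha, (mul_one _).symm⟩
  let Φ : ↥R →* Ω × Ω :=
    ((conjHom (R.map (MonoidHom.fst Ω Ω)) g).comp
      ((MonoidHom.fst Ω Ω).subgroupMap R)).prod
      ((φ₂.comp (Subgroup.inclusion hsnd)).comp ((MonoidHom.snd Ω Ω).subgroupMap R))
  have hΦ : Φ ∈ D₀.Hom R := (hD₀ _ Φ).2 ⟨hR, conjHom (R.map (MonoidHom.fst Ω Ω)) g,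
    ⟨by rintro _ ⟨x, hx', rfl⟩; exact (hR hx').1, g, hg, fun _ => rfl⟩, _,
    H85.restrict hφ₂ hsnd, fun x h₁ h₂ => rfl⟩
  obtain ⟨ψ, hψ, hA', hB', hC', he'⟩ := exists_induced_center hZc hfac hPY hΦ
  refine ⟨ψ, hψ, fun x => ?_, fun y => ?_⟩
  · obtain ⟨s, hs⟩ := hrng.ge (hP' x.2)
    have hsP : (s : Ω × Ω) ∈ preimageAlong θ P' := ⟨s, show θ s ∈ P' from hs ▸ x.2, rfl⟩
    have hsR : (s : Ω × Ω) ∈ R :=
      ⟨s, show θ s ∈ P' ⊔ Y from Subgroup.mem_sup_left (hs ▸ x.2), rfl⟩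
    rw [show Subgroup.inclusion le_sup_left x = ⟨θ ⟨_, hA' hsR⟩, hC' ⟨_, hsR⟩⟩ from
      Subtype.ext hs.symm, he' ⟨_, hsR⟩,
      show x = ⟨θ ⟨_, hA hsP⟩, hC ⟨_, hsP⟩⟩ from Subtype.ext hs.symm, he ⟨_, hsP⟩]
    refine congrArg θ (Subtype.ext ?_)
    show Φ ⟨_, hsR⟩ = φ ⟨_, hsP⟩
    rw [hval ⟨_, hsP⟩ ⟨_, hsP, rfl⟩ ⟨_, hsP, rfl⟩, h1]
    rfl
  · have hyU : (((y : Ω), 1) : Ω × Ω) ∈ F.core.prod T := ⟨hYQ y.2, one_mem _⟩
    have hyR : (((y : Ω), 1) : Ω × Ω) ∈ R :=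
      ⟨⟨_, hyU⟩, show θ _ ∈ P' ⊔ Y by rw [hx]; exact Subgroup.mem_sup_right y.2, rfl⟩
    rw [show Subgroup.inclusion le_sup_right y = ⟨θ ⟨_, hA' hyR⟩, hC' ⟨_, hyR⟩⟩ from
      Subtype.ext (hx _ _).symm, he' ⟨_, hyR⟩, hθ]
    show g * (y : Ω) * g⁻¹ * φ₂ ⟨1, _⟩ = y
    rw [show φ₂ ⟨1, _⟩ = 1 from map_one φ₂, mul_one,
      (H85.mem_centralizerIn.1 (hY y.2)).2 g (hQU hg)]
    simp

end H89
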