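import Cfsg.Agent.H89.TransportNormal

/-!
Components and layers under transport; conjugates of components.
-/

set_option autoImplicit false
set_option linter.style.haveILetI false
set_option linter.unusedSectionVars false

open Cfsg Cfsg.FusionSystem

namespace H89.Tp

variable {Ω : Type*} [Group Ω] {S : Subgroup Ω} {Ω' : Type*} [Group Ω'] {S' : Subgroup Ω'}
  {f : S ≃* S'} {T U : Subgroup Ω} {T' U' : Subgroup Ω'} {E : FusionSystem T}
  {E' : FusionSystem T'} {F : FusionSystem U} {F' : FusionSystem U'}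

theorem Tr.congr {S'' : Subgroup Ω'} {g : S ≃* S''} (h : Tr f E E') (hfg : hom f = hom g) :
    Tr g E E' := by
  refine ⟨h.le, ?_, fun P φ hφ => ?_, fun P' φ' hφ' => ?_⟩
  · show imageAlong (hom g) T = T'
    rw [← hfg]
    exact h.im_eq
  · show ∃ φ' ∈ E'.Hom (imageAlong (hom g) P), InducedAlong (hom g) φ φ'
    rw [← hfg]
    exact h.push P φ hφ
  · rw [← hfg]
    exact h.pull P' φ' hφ'

theorem Tr.trans {Ω'' : Type*} [Group Ω''] {S'' : Subgroup Ω''} {T'' : Subgroup Ω''}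
    {g : S' ≃* S''} {E'' : FusionSystem T''} (h : Tr f E E') (h' : Tr g E' E'') :
    Tr (f.trans g) E E'' := by
  have him : ∀ P : Subgroup Ω, im (f.trans g) P = im g (im f P) := fun P => by
    ext z
    constructor
    · rintro ⟨x, hx, rfl⟩
      exact ⟨f x, coe_mem_im.2 hx, rfl⟩
    · rintro ⟨y, hy, rfl⟩
      obtain ⟨x, hx, hxy⟩ := mem_im.1 hy
      exact ⟨x, hx, congrArg (fun w : S' => (g w : Ω'')) (Subtype.ext hxy)⟩
  have hpre : ∀ P'' : Subgroup Ω'', preimageAlong (hom (f.trans g)) P'' ≤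
      preimageAlong (hom f) (preimageAlong (hom g) P'') := fun P'' x hx => by
    obtain ⟨hxS, hx⟩ := mem_pre.1 hx
    exact mem_pre.2 ⟨hxS, coe_mem_pre.2 hx⟩
  refine ⟨h.le, by rw [him, h.im_eq, h'.im_eq], fun P φ hφ => ?_, fun P'' φ'' hφ'' => ?_⟩
  · obtain ⟨φ', hφ', hA, hB, hC, he⟩ := h.push P φ hφ
    obtain ⟨φ'', hφ'', hA', hB', hC', he'⟩ := h'.push _ φ' hφ'
    refine ⟨_, H86.restrict_mem E'' (him P).le hφ'', hA, hB, fun x => coe_mem_im.2 x.2,
      fun x => ?_⟩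
    refine Eq.trans (congrArg φ'' (Subtype.ext ?_)) ((he' ⟨_, hC x⟩).trans ?_)
    · rfl
    · exact congrArg (fun w : S' => (g w : Ω'')) (Subtype.ext (he x))
  · obtain ⟨φ', hφ', hA', hB', hC', he'⟩ := h'.pull P'' φ'' hφ''
    obtain ⟨φ, hφ, hA, hB, hC, he⟩ := h.pull _ φ' hφ'
    refine ⟨_, H86.restrict_mem E (hpre P'') hφ, fun x hx => (mem_pre.1 hx).1,
      fun x => hB _, fun x => (mem_pre.1 x.2).2, fun x => ?_⟩
    refine Eq.trans (congrArg φ'' (Subtype.ext ?_))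
      ((he' ⟨_, hC (Subgroup.inclusion (hpre P'') x)⟩).trans ?_)
    · rfl
    · exact congrArg (fun w : S' => (g w : Ω''))
        (Subtype.ext (he (Subgroup.inclusion (hpre P'') x)))

theorem Tr.subnormal [Finite S] {p : ℕ} (h : E.IsSubnormalIn F p) :
    ∀ [Fact p.Prime], IsPGroup p S → U ≤ S → ∀ {U' : Subgroup Ω'} {F' : FusionSystem U'}, Tr f F F' →
      ∀ {T' : Subgroup Ω'} {E' : FusionSystem T'}, Tr f E E' → E'.IsSubnormalIn F' p := by
  induction h with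
  | refl F₀ p₀ =>
    intro _ _ _ U' F' hF T' E' hE
    obtain rfl : T' = U' := hE.im_eq.symm.trans hF.im_eq
    rw [H85.fusionSystem_ext (hE.unique hF)]
    exact IsSubnormalIn.refl _ _
  | step _ hn ih =>
    intro _ hS hUS U' F' hF T' E' hE
    have hUD := hn.1.2.2.2.1.1
    obtain ⟨D', hD'⟩ := exists_tr f _ (hUD.trans hUS)
    exact IsSubnormalIn.step (ih hS (hUD.trans hUS) hD' hE) (hD'.normal hS hF hn)

theorem exists_tr_top {R : Subgroup Ω'} (g : S ≃* R) (E : FusionSystem S) :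
    ∃ E' : FusionSystem R, Tr g E E' := by
  obtain ⟨E', hE'⟩ := exists_tr g E le_rfl
  have : ∀ (V : Subgroup Ω'), im g S = V → ∃ E'' : FusionSystem V, Tr g E E'' := by
    rintro V rfl
    exact ⟨E', hE'⟩
  exact this R (im_top g)

theorem subnormal_le {p : ℕ} (h : E.IsSubnormalIn F p) : T ≤ U := by
  induction h with
  | refl => exact le_rfl
  | step _ hn ih => exact ih.trans hn.1.2.2.2.1.1

theorem Tr.component [Finite S] {p : ℕ} [Fact p.Prime] (hS : IsPGroup p S) (hE : Tr f E E')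
    (hF : Tr f F F') (h : E.IsComponentIn F p) : E'.IsComponentIn F' p :=
  ⟨Tr.subnormal h.1 hS hF.le hF hE, hE.quasisimple hS h.2⟩

/-- An automorphism of the subgroup in the automiser fixes a normal subsystem. -/
theorem tr_self_of_normal [Finite S] {p : ℕ} {F : FusionSystem S} {T : Subgroup Ω}
    {E : FusionSystem T} (h : E.IsNormalIn F p) {α : MulAut T} (hα : α ∈ F.autGroup T) :
    Tr (α : T ≃* T) E E := by
  refine ⟨le_rfl, im_top α, fun P φ hφ => ?_, fun P' φ' hφ' => ?_⟩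
  · have hPT : P ≤ T := (E.le_of_mem hφ).1
    obtain ⟨χ, hχ, hχe⟩ := h.1.2.2.2.2.1 P hPT φ hφ α hα
    exact ⟨χ, hχ, hPT, fun x => (E.le_of_mem hφ).2 x, fun x => ⟨⟨x, hPT x.2⟩, x.2, rfl⟩,
      fun x => hχe x ((E.le_of_mem hφ).2 x) _⟩
  · have hPT : P' ≤ T := (E.le_of_mem hφ').1
    obtain ⟨χ, hχ, hχe⟩ := h.1.2.2.2.2.1 P' hPT φ' hφ' α⁻¹ (inv_mem hα)
    have hle : preimageAlong (hom (α : T ≃* T)) P' ≤
        (P'.subgroupOf T).map (T.subtype.comp (α⁻¹ : MulAut T).toMonoidHom) := fun x hx => by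
      obtain ⟨hxT, hx⟩ := mem_pre.1 hx
      exact ⟨(α : T ≃* T) ⟨x, hxT⟩, hx, congrArg Subtype.val (MulAut.inv_apply_self _ α _)⟩
    refine ⟨_, H86.restrict_mem E hle hχ, fun x hx => (mem_pre.1 hx).1,
      fun x => (E.le_of_mem hχ).2 _, fun x => (mem_pre.1 x.2).2, fun x => ?_⟩
    obtain ⟨hxT, hx⟩ := mem_pre.1 x.2
    let y : P' := ⟨((α : T ≃* T) ⟨x, hxT⟩ : Ω), hx⟩
    have hy : φ' y ∈ T := (E.le_of_mem hφ').2 y
    have e1 : (α⁻¹ : MulAut T) ⟨(y : Ω), hPT y.2⟩ = ⟨(x : Ω), hxT⟩ :=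
      (congrArg (α⁻¹ : MulAut T) (Subtype.ext rfl)).trans (MulAut.inv_apply_self _ α ⟨x, hxT⟩)
    have h1 := hχe y hy ⟨⟨(y : Ω), hPT y.2⟩, y.2, rfl⟩
    have h2 : χ (Subgroup.inclusion hle x) = ((α⁻¹ : MulAut T) ⟨φ' y, hy⟩ : Ω) :=
      (congrArg χ (Subtype.ext (congrArg Subtype.val e1).symm)).trans h1
    refine (show φ' _ = φ' y from rfl).trans ?_
    show φ' y = ((α : T ≃* T) ⟨χ (Subgroup.inclusion hle x), _⟩ : Ω)
    rw [show (⟨χ (Subgroup.inclusion hle x), (E.le_of_mem hχ).2 _⟩ : T) =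
      (α⁻¹ : MulAut T) ⟨φ' y, hy⟩ from Subtype.ext h2]
    exact congrArg Subtype.val (MulAut.apply_inv_self _ α (⟨φ' y, hy⟩ : T)).symm

theorem autGroup_range [Finite S] {F : FusionSystem S} {T : Subgroup Ω} {φ : T →* Ω}
    (hφ : φ ∈ F.Hom T) (h : ∀ x, φ x ∈ T) : φ.range = T := by
  haveI := H85.finite_of_le (H85.source_le hφ)
  exact H86.range_eq_self_of_le F hφ (by rintro _ ⟨x, rfl⟩; exact h x)

/-- A system is its own transport along one of its automorphisms. -/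
theorem tr_self_of_aut [Finite T] {C : FusionSystem T} {φ : T →* Ω} (hφ : φ ∈ C.Hom T)
    (hr : φ.range = T) : Tr (H85.isoOf φ hφ hr) C C := by
  let i := H85.isoOf φ hφ hr
  refine ⟨le_rfl, im_top i, fun P ψ hψ => ?_, fun P' ψ' hψ' => ?_⟩
  · have hPT : P ≤ T := (C.le_of_mem hψ).1
    let r := H85.resIso φ (C.injective_of_mem hφ) hPT
    have hle : im i P ≤ H85.img φ P := by
      rintro _ ⟨x, hx, rfl⟩
      exact H85.apply_mem_img hx
    have h1 := C.comp_mem (H85.restrict (H85.isFIso_resIso hφ hPT).symm hle) hψ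
      (fun y => SetLike.coe_mem _)
    have h2 := C.comp_mem h1 hφ (fun y => (C.le_of_mem hψ).2 _)
    refine ⟨_, h2, hPT, fun x => (C.le_of_mem hψ).2 x, fun x => ⟨⟨x, hPT x.2⟩, x.2, rfl⟩,
      fun x => ?_⟩
    show φ _ = φ _
    refine congrArg φ (Subtype.ext (congrArg ψ (Subtype.ext ?_)))
    show ((r.symm _ : P) : Ω) = x
    exact congrArg Subtype.val (r.symm_apply_eq.2 (Subtype.ext rfl))
  · have hPT : P' ≤ T := (C.le_of_mem hψ').1
    have hpT : preimageAlong (hom i) P' ≤ T := fun x hx => (mem_pre.1 hx).1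
    have hφ1 := H85.restrict hφ hpT
    have h1 := C.comp_mem hφ1 hψ' (fun x => (mem_pre.1 x.2).2)
    have hinv : H85.IsFIso C i := H85.isFIso_isoOf φ hφ hr
    have h2 := C.comp_mem h1 hinv.symm (fun x => (C.le_of_mem hψ').2 _)
    refine ⟨_, h2, hpT, fun x => (C.le_of_mem h2).2 x, fun x => (mem_pre.1 x.2).2, fun x => ?_⟩
    refine Eq.trans ?_ (congrArg Subtype.val (i.apply_symm_apply _)).symm
    rfl

theorem subnormal_image {p : ℕ} {T : Subgroup Ω} {C : FusionSystem T}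
    {U : Subgroup Ω} {D : FusionSystem U} (h : C.IsSubnormalIn D p) :
    ∀ [Fact p.Prime], Finite U → IsPGroup p U → ∀ {R : Subgroup Ω} (g : T ≃* R),
      R.subtype.comp g.toMonoidHom ∈ D.Hom T →
        ∀ {C' : FusionSystem R}, Tr g C C' → C'.IsSubnormalIn D p := by
  induction h with
  | @refl C₀ p₀ =>
    intro _ _ _ R g hg C' hC'
    have hr : (R.subtype.comp g.toMonoidHom).range = T := by
      refine H86.range_eq_self_of_le C₀ hg ?_
      rintro _ ⟨x, rfl⟩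
      exact (C₀.le_of_mem hg).2 x
    obtain rfl : R = T := by rw [← hr, H85.IsFIso.range_eq]
    have h0 := (tr_self_of_aut hg hr).congr (g := g) (MonoidHom.ext fun x => rfl)
    rw [H85.fusionSystem_ext (hC'.unique h0)]
    exact IsSubnormalIn.refl _ _
  | @step V U₀ C₀ D₀ F₀ p₀ hs hn ih =>
    intro _ hfin hU R g hg C' hC'
    have hVU : V ≤ U₀ := hn.1.2.2.2.1.1
    have hTV : T ≤ V := subnormal_le hs
    haveI := H85.finite_of_le hVU
    obtain ⟨α, hα, φ₀, hφ₀, hfac⟩ := hn.1.2.2.2.2.2 T hTV _ hg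
    let g₀ : T ≃* φ₀.range := H85.isoOf φ₀ hφ₀ rfl
    obtain ⟨C₂, hC₂⟩ := exists_tr_top g₀ C₀
    have hsub₂ : C₂.IsSubnormalIn D₀ p₀ :=
      ih inferInstance (hU.to_le hVU) g₀ (H85.isFIso_isoOf φ₀ hφ₀ rfl) hC₂
    have hR0 : φ₀.range ≤ V := by
      rintro _ ⟨x, rfl⟩
      exact (D₀.le_of_mem hφ₀).2 x
    obtain ⟨C₃, hC₃⟩ := exists_tr (α : V ≃* V) C₂ hR0
    have hsub₃ : C₃.IsSubnormalIn D₀ p₀ :=
      Tr.subnormal hsub₂ (hU.to_le hVU) le_rfl (tr_self_of_normal hn hα) hC₃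
    obtain ⟨e, he, hC₃'⟩ := hC₃.exists_res
    have hcomp := hC₂.trans hC₃'
    have hhom : hom (g₀.trans e) = hom g := MonoidHom.ext fun x => by
      show (e (g₀ x) : Ω) = (g x : Ω)
      rw [he]
      exact (hfac x ((D₀.le_of_mem hφ₀).2 x)).symm
    have hC₃g := hcomp.congr hhom
    obtain rfl : R = im (α : V ≃* V) φ₀.range := (hC'.im_eq.symm.trans hC₃g.im_eq)
    rw [H85.fusionSystem_ext (hC'.unique hC₃g)]
    exact IsSubnormalIn.step hsub₃ hn

end H89.Tp
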