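import Cfsg.Agent.H27.Base2.Residual
import Cfsg.Agent.H89.BaseSmall

/-!
The small models over three elements, in the form used by the residual cases.
-/

set_option autoImplicit false

namespace H89.BaseSmall

open H27.Base2

theorem noModel_three_two : NoModel 3 false 2 := fun _ _ hK _ hΓ => false_two hK hΓ

theorem noModel_three_twisted : NoModel 3 true 3 := fun _ _ hK _ hΓ => false_three_twisted hK hΓ

theorem setupPair_32 : SetupPair 3 false 2 := setupPair_of_noModel noModel_three_two

theorem setupPair_t33 : SetupPair 3 true 3 := setupPair_of_noModel noModel_three_twisted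

/-- The certificate wanted for `(3, false, 3)`. -/
def CertNearPair : Prop :=
  ∀ (K : Type) [Field K], Nat.card K = 3 → ∃ x y : Fin (2 ^ 3) → K,
    ∀ g, NormModel K false 3 g →
      (g : Module.End K (Fin (2 ^ 3) → K)) x = x → (g : Module.End K (Fin (2 ^ 3) → K)) y = y →
      g = 1 ∨ (g * g = 1 ∧ Nat.card {n : Fin (2 ^ (2 * 3)) // ∃ c : K,
        (g : Module.End K (Fin (2 ^ 3) → K)) * word K false 3 n =
          c • (word K false 3 n * (g : Module.End K (Fin (2 ^ 3) → K)))} = 16)

theorem setupPair_33 (h : CertNearPair) : SetupPair 3 false 3 := fun K _ hK Γ hΓ =>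
  pair_three hK hΓ (h K hK)

end H89.BaseSmall
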