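import Cfsg.Agent.H89.LayerExists
import Cfsg.Agent.H89.FittingCentre
import Cfsg.Agent.H75.CentReduce

/-!
Existence and normality of the generalized Fitting subsystem, given wedges.
-/
set_option autoImplicit false
set_option linter.style.haveILetI false
set_option linter.unusedSectionVars false

open Cfsg Cfsg.FusionSystem

namespace H89

universe u

variable {Ω : Type u} [Group Ω] {S T : Subgroup Ω} [Finite S] {p : ℕ} [Fact p.Prime]
  {F : FusionSystem S}

/-- Inside a normal subsystem, the centralizer of a strongly closed central subgroup of its base is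
again normal (after `H75.Fus.exists_cent_reduce`, recording that it is a subsystem). -/
theorem exists_cent_normal (hS : IsPGroup p S) {E : FusionSystem T} (hE : E.IsNormalIn F p)
    {Z : Subgroup Ω} (hZT : Z ≤ T) (hZ : F.StronglyClosed Z)
    (hcomm : ∀ z ∈ Z, ∀ t ∈ T, t * z = z * t) :
    ∃ E' : FusionSystem T, E'.IsNormalIn F p ∧ Z ≤ E'.center ∧ E'.IsSubsystemOf E ∧
      ∀ P, E'.Hom P = E.centralizerHom Z P := by
  obtain ⟨⟨hEs, hF, hEF, hTc, hinv, hfr⟩, hext⟩ := id hE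
  have hTS := hTc.1
  have : Finite T := H85.finite_of_le hTS
  have hTp : IsPGroup p T := hS.to_le hTS
  have hZE : E.StronglyClosed Z := ⟨hZT, fun R hR φ hφ x => hZ.2 R hR φ (hEF R hφ) x⟩
  have hZn : E.IsNormal Z := H85.isNormal_of_abelian hTp hEs hZE
    ⟨⟨fun a b => Subtype.ext (hcomm b b.2 a (hZT a.2))⟩⟩
  have hW : centralizerIn T Z = T :=
    le_antisymm inf_le_left fun t ht =>
      H85.mem_centralizerIn.2 ⟨ht, fun z hz => (hcomm z hz t ht).symm⟩
  suffices key : ∀ (W : Subgroup Ω) (C : FusionSystem W), W = T → C.IsNormalIn E p →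
      (∀ P, C.Hom P = E.centralizerHom Z P) →
      ∃ E' : FusionSystem T, E'.IsNormalIn F p ∧ Z ≤ E'.center ∧ E'.IsSubsystemOf E ∧
        ∀ P, E'.Hom P = E.centralizerHom Z P from
    key _ _ hW (H87.isNormalIn_centralizerSystem hTp hEs hZn) fun _ => rfl
  rintro W C rfl ⟨⟨hCs, -, hCE, -, -, hCfr⟩, hCext⟩ hC
  have hEA : E.autGroup W ≤ F.autGroup W := fun _ hx =>
    (H85.mem_autGroup hTS).2 (hEF _ ((H85.mem_autGroup le_rfl).1 hx))
  refine ⟨C, ⟨⟨hCs, hF, fun P φ hφ => hEF P (hCE P hφ), hTc, fun P hPT φ hφ α hα => ?_, ?_⟩, ?_⟩,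
    ?_, hCE, hC⟩
  · obtain ⟨-, -, -, ψ, hψ, he, hfix⟩ := hC P ▸ hφ
    have hinv' := H86.strongInv_of_invariant hE.1.2.2
    obtain ⟨χ, hχ, hχe⟩ := H86.strongInv_aut hinv' hTS hα hψ
    have hle : (P.subgroupOf W).map (W.subtype.comp α.toMonoidHom) ≤
        ((P ⊔ Z).subgroupOf W).map (W.subtype.comp α.toMonoidHom) :=
      Subgroup.map_mono fun x hx => Subgroup.mem_sup_left (S := P) hx
    have hval : ∀ (x : P) (hx : ((α ⟨x, hPT x.2⟩ : W) : Ω) ∈
        (P.subgroupOf W).map (W.subtype.comp α.toMonoidHom)),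
        χ ⟨_, hle hx⟩ = ((α ⟨φ x, (C.le_of_mem hφ).2 x⟩ : W) : Ω) := fun x hx =>
      (hχe (Subgroup.inclusion le_sup_left x) (hle hx)).trans
        (congrArg (fun w => (α w : Ω)) (Subtype.ext (he x)))
    refine ⟨χ.comp (Subgroup.inclusion hle), ?_, fun x _ hx => hval x hx⟩
    have hαS : H85.IsFIso F α := (H85.mem_autGroup hTS).1 hα
    have hP' : (P.subgroupOf W).map (W.subtype.comp α.toMonoidHom) ≤ centralizerIn W Z := by
      rintro _ ⟨w, -, rfl⟩
      exact H85.mem_centralizerIn.2 ⟨(α w).2, fun z hz => (hcomm z hz _ (α w).2).symm⟩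
    have hZimg : (P.subgroupOf W).map (W.subtype.comp α.toMonoidHom) ⊔ Z ≤
        ((P ⊔ Z).subgroupOf W).map (W.subtype.comp α.toMonoidHom) := by
      refine sup_le hle fun z hz => ⟨α.symm ⟨z, hZT hz⟩, ?_, ?_⟩
      · exact Subgroup.mem_sup_right (S := P) (H86.map_mem_of_stronglyClosed hZ hαS.symm
          (x := ⟨z, hZT hz⟩) hz)
      · show (α (α.symm _) : Ω) = z
        rw [MulEquiv.apply_symm_apply]
    rw [hC]
    refine ⟨H85.restrict hχ hle, hP', fun x => ?_, χ.comp (Subgroup.inclusion hZimg),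
      H85.restrict hχ hZimg, fun x => rfl, fun z => ?_⟩
    · exact H85.mem_centralizerIn.2 ⟨H85.map_mem hχ _,
        fun z hz => (hcomm z hz _ (H85.map_mem hχ _)).symm⟩
    · set w : W := α.symm ⟨z, hZT z.2⟩ with hw
      have hwZ : (w : Ω) ∈ Z :=
        H86.map_mem_of_stronglyClosed hZ hαS.symm (x := ⟨z, hZT z.2⟩) z.2
      have h1 := hχe (Subgroup.inclusion le_sup_right (⟨w, hwZ⟩ : Z))
        ⟨w, Subgroup.mem_sup_right (S := P) hwZ, rfl⟩
      have h2 : ψ (Subgroup.inclusion le_sup_right (⟨w, hwZ⟩ : Z)) = w := hfix ⟨w, hwZ⟩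
      have h3 : (α w : Ω) = z := by rw [hw, MulEquiv.apply_symm_apply]
      refine Eq.trans (congrArg χ (Subtype.ext ?_)) (h1.trans ?_)
      · exact h3.symm
      exact (congrArg (fun v => (α v : Ω)) (Subtype.ext h2)).trans h3
  · intro P hPT φ hφ
    obtain ⟨α, hα, φ₀, h₀, he⟩ := hfr P hPT φ hφ
    obtain ⟨α', hα', φ₁, h₁, he'⟩ := hCfr P hPT φ₀ h₀
    refine ⟨α * α', mul_mem hα (hEA hα'), φ₁, h₁, fun x hx => ?_⟩
    rw [he x ((E.le_of_mem h₀).2 x), MulAut.mul_apply]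
    exact congrArg (fun w => (α w : Ω)) (Subtype.ext (he' x hx))
  · intro α hα
    exact hext α ((H85.mem_autGroup le_rfl).2 (hCE _ ((H85.mem_autGroup le_rfl).1 hα)))
  · refine le_sSup ⟨hZT, fun P φ hφ => ?_⟩
    obtain ⟨-, hP, -, ψ, hψ, he, hfix⟩ := hC P ▸ hφ
    refine ⟨ψ, ?_, he, hfix⟩
    rw [hC]
    have hle : P ⊔ Z ⊔ Z ≤ P ⊔ Z := sup_le le_rfl le_sup_right
    have hPT : P ⊔ Z ≤ W := H85.source_le hψ
    refine ⟨hψ, fun x hx => H85.mem_centralizerIn.2 ⟨hPT hx, fun z hz => (hcomm z hz x (hPT hx)).symm⟩,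
      fun x => H85.mem_centralizerIn.2 ⟨H85.map_mem hψ x,
        fun z hz => (hcomm z hz _ (H85.map_mem hψ x)).symm⟩,
      _, H85.restrict hψ hle, fun x => rfl, fun z => hfix z⟩

/-- The layer is determined up to its maps. -/
theorem layer_unique {T₁ T₂ : Subgroup Ω} {E₁ : FusionSystem T₁} {E₂ : FusionSystem T₂}
    (h₁ : E₁.IsLayerOf F p) (h₂ : E₂.IsLayerOf F p) :
    T₁ = T₂ ∧ ∀ P, E₁.Hom P = E₂.Hom P := by
  have a := h₁.2.2 _ _ h₂.1 h₂.2.1
  have b := h₂.2.2 _ _ h₁.1 h₁.2.1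
  exact ⟨le_antisymm (H85.source_le (a T₁ (H85.id_mem E₁ le_rfl)))
    (H85.source_le (b T₂ (H85.id_mem E₂ le_rfl))), fun P => Set.Subset.antisymm (a P) (b P)⟩

omit [Finite S] [Fact p.Prime] in
/-- A central product is determined by its factors. -/
theorem centralProduct_unique {T₁ T₂ U V : Subgroup Ω} {E₁ : FusionSystem T₁}
    {E₂ : FusionSystem T₂} {D : FusionSystem U} {D' : FusionSystem V}
    (h : IsCentralProductOf E₁ E₂ D) (h' : IsCentralProductOf E₁ E₂ D') :
    U = V ∧ ∀ P, D.Hom P = D'.Hom P := by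
  obtain ⟨D₀, hD₀, Z, θ, -, -, -, hx, hy, -, -, hr, hh⟩ := h
  obtain ⟨D₀', hD₀', Z', θ', -, -, -, hx', hy', -, -, hr', hh'⟩ := h'
  obtain rfl : θ = θ' := MonoidHom.ext fun a => by
    rw [centralProduct_theta hx hy, centralProduct_theta hx' hy']
  obtain rfl : D₀ = D₀' := H85.fusionSystem_ext fun P => Set.ext fun φ =>
    (hD₀ P φ).trans (hD₀' P φ).symm
  obtain rfl : U = V := hr.symm.trans hr'
  exact ⟨rfl, fun P => Set.ext fun φ => (hh P φ).trans (hh' P φ).symm⟩

/-- The layer meets the largest normal subgroup inside its centre. -/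
theorem inf_core_le_center (hW : HasWedge.{u} p) (hS : IsPGroup p S) (hF : F.IsSaturated p)
    {E : FusionSystem T} (hE : E.IsLayerOf F p) : F.core ⊓ T ≤ E.center := by
  have hTQ := layer_base_le hS hF hE
  have hTc := hE.1.1.2.2.2.1
  have hQ := H85.stronglyClosed_of_isNormal (core_isNormal F)
  have hZ : F.StronglyClosed (F.core ⊓ T) := ⟨inf_le_left.trans hQ.1, fun R hR φ hφ x =>
    ⟨hQ.2 R (hR.trans inf_le_left) φ hφ x, hTc.2 R (hR.trans inf_le_right) φ hφ x⟩⟩
  obtain ⟨E', hn, hz, hsub, hhom⟩ := exists_cent_normal hS hE.1 inf_le_right hZ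
    fun z hz t ht => ((H85.mem_centralizerIn.1 (hTQ ht)).2 z hz.1).symm
  haveI : Finite T := H85.finite_of_le hTc.1
  have hle : E.IsSubsystemOf E' := by
    refine hE.2.2 _ _ hn fun U C hC => ?_
    exact subnormal_sub (component_of_le_base hW hS hC hn
      (H85.source_le (hE.2.1 U C hC U (H85.id_mem C le_rfl)))).1
  obtain rfl : E = E' := H85.fusionSystem_le_antisymm hle hsub
  exact hz

/-- The generalized Fitting subsystem exists and is normal. -/
theorem fitting_exists_normal (hW : HasWedge.{u} p) (hS : IsPGroup p S) (hF : F.IsSaturated p) :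
    (∃ (U : Subgroup Ω) (D : FusionSystem U), D.IsGeneralizedFittingOf F p) ∧
      ∀ (U : Subgroup Ω) (D : FusionSystem U), D.IsGeneralizedFittingOf F p →
        D.IsNormalIn F p := by
  obtain ⟨T, E, hE⟩ := exists_layer hW hS hF
  have hTQ := layer_base_le hS hF hE
  have hQ := core_isNormal F
  haveI : Finite F.core := H85.finite_of_le hQ.1
  have hcomm : ⁅F.core, T⁆ = ⊥ := by
    rw [Subgroup.commutator_eq_bot_iff_le_centralizer]
    exact fun q hq => Subgroup.mem_centralizer_iff.2 fun t ht =>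
      ((H85.mem_centralizerIn.1 (hTQ ht)).2 q hq).symm
  obtain ⟨D, hDn, hDc⟩ := H75.Fus.exists_normal_product hS hF
    (H87.isNormalIn_inner hS hF hQ) hE.1 hcomm
  have hin : F.core ⊓ T ≤ (innerFusionSystem F.core).center := by
    refine le_sSup ⟨inf_le_left, ?_⟩
    rintro P φ ⟨hP, g, hg, hφ⟩
    have hle : P ⊔ (F.core ⊓ T) ≤ F.core := sup_le hP inf_le_left
    refine ⟨conjHom _ g, ⟨hle, g, hg, fun _ => rfl⟩, fun x => (hφ x).symm, fun x => ?_⟩
    show g * (x : Ω) * g⁻¹ = x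
    rw [(H85.mem_centralizerIn.1 (hTQ x.2.2)).2 g hg, mul_inv_cancel_right]
  have hcp := hDc hin (inf_core_le_center hW hS hF hE)
  refine ⟨⟨_, D, T, E, hE, hcp⟩, ?_⟩
  rintro U D' ⟨T', E', hE', hcp'⟩
  obtain ⟨rfl, hh⟩ := layer_unique hE hE'
  obtain rfl : E = E' := H85.fusionSystem_ext hh
  obtain ⟨rfl, hh'⟩ := centralProduct_unique hcp hcp'
  obtain rfl : D = D' := H85.fusionSystem_ext hh'
  exact hDn

end H89
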