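import Cfsg.Agent.H75.CentralComponent
import Cfsg.Agent.H86.Basic

/-!
A normal subsystem of a central factor is normal in the product.
-/
set_option autoImplicit false
set_option linter.style.haveILetI false
set_option linter.unusedSectionVars false

open Cfsg Cfsg.FusionSystem H75.Fus

namespace H89

variable {Ω : Type*} [Group Ω] {T₁ T₂ U : Subgroup Ω} [Finite T₁] [Finite T₂] {p : ℕ}
  [Fact p.Prime] {E₁ : FusionSystem T₁} {E₂ : FusionSystem T₂}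

theorem normal_of_factor (hc : CommPair E₁ E₂) (h₁ : IsPGroup p T₁) (h₂ : IsPGroup p T₂)
    (hs₂ : E₂.IsSaturated p) {C : FusionSystem U} (hC : C.IsNormalIn E₁ p) :
    C.IsNormalIn (pairSys hc) p := by
  obtain ⟨⟨hCs, hE₁, hCE, hUc, hinv, hfr⟩, hext⟩ := id hC
  have hUT := hUc.1
  haveI : Finite U := H85.finite_of_le hUT
  set D := pairSys hc with hD
  have hUD : U ≤ T₁ ⊔ T₂ := hUT.trans le_sup_left
  have hleft : ∀ {P : Subgroup Ω} {φ : P →* Ω}, φ ∈ D.Hom P → P ≤ T₁ → φ ∈ E₁.Hom P :=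
    fun hφ hP => hc.mem_left hφ hP
  refine ⟨⟨hCs, isSaturated_pairSys h₁ h₂ hc hE₁ hs₂, fun P φ hφ => hc.le_left P (hCE P hφ),
    ⟨hUD, fun R hR φ hφ x => hUc.2 R hR φ (hleft hφ (hR.trans hUT)) x⟩,
    fun P hP φ hφ α hα => hinv P hP φ hφ α ((H85.mem_autGroup hUT).2
      (hleft ((H85.mem_autGroup hUD).1 hα) hUT)),
    fun P hP φ hφ => ?_⟩, fun α hα => ?_⟩
  · obtain ⟨a, ha, φ₀, h₀, he⟩ := hfr P hP φ (hleft hφ (hP.trans hUT))
    exact ⟨a, (H85.mem_autGroup hUD).2 (hc.le_left U ((H85.mem_autGroup hUT).1 ha)), φ₀, h₀, he⟩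
  set X := U ⊔ centralizerIn T₁ U with hX
  set Y := U ⊔ centralizerIn (T₁ ⊔ T₂) U with hY
  obtain ⟨β, hβ, hβU, hβC⟩ := hext α hα
  have hXT : X ≤ T₁ := sup_le hUT inf_le_left
  have hXY : X ≤ Y := sup_le_sup_left (inf_le_inf_right _ le_sup_left) U
  have hT₂Y : T₂ ≤ Y := fun b hb => Subgroup.mem_sup_right (S := U) (H85.mem_centralizerIn.2
    ⟨Subgroup.mem_sup_right hb, fun u hu => hc.comm u (hUT hu) b hb⟩)
  have hdec : ∀ c ∈ centralizerIn (T₁ ⊔ T₂) U,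
      ∃ a ∈ centralizerIn T₁ U, ∃ b ∈ T₂, a * b = c := by
    intro c hc'
    obtain ⟨hcm, hcU⟩ := H85.mem_centralizerIn.1 hc'
    obtain ⟨a, ha, b, hb, rfl⟩ := mem_sup_comm hc.comm hcm
    refine ⟨a, H85.mem_centralizerIn.2 ⟨ha, fun u hu => ?_⟩, b, hb, rfl⟩
    refine mul_right_cancel (b := b) ?_
    rw [mul_assoc, hcU u hu, mul_assoc a b u, ← hc.comm u (hUT hu) b hb, mul_assoc]
  have hle : Y ≤ X ⊔ T₂ := sup_le (le_sup_left.trans le_sup_left) fun c hc' => by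
    obtain ⟨a, ha, b, hb, rfl⟩ := hdec c hc'
    exact Subgroup.mul_mem_sup (Subgroup.mem_sup_right ha) hb
  have hYS : Y ≤ T₁ ⊔ T₂ := sup_le hUD inf_le_left
  haveI : Finite X := H85.finite_of_le hXT
  haveI : Finite ↥(T₁ ⊔ T₂) := Finite.of_surjective
    (fun w : T₁ × T₂ => (⟨(w.1 : Ω) * w.2, Subgroup.mul_mem_sup w.1.2 w.2.2⟩ : ↥(T₁ ⊔ T₂)))
    fun x => by
      obtain ⟨a, ha, b, hb, h⟩ := mem_sup_comm hc.comm x.2
      exact ⟨(⟨a, ha⟩, ⟨b, hb⟩), Subtype.ext h⟩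
  haveI : Finite Y := H85.finite_of_le hYS
  obtain ⟨ψ, hψ, hψX, hψT⟩ := hc.exists_ext_left ((H85.mem_autGroup hXT).1 hβ)
  have hχ : ψ.comp (Subgroup.inclusion hle) ∈ D.Hom Y := H85.restrict (F := D) hψ hle
  have hval : ∀ x : X, ψ (Subgroup.inclusion hle (Subgroup.inclusion hXY x)) = (β x : Ω) :=
    fun x => hψX x
  have hr : (ψ.comp (Subgroup.inclusion hle)).range = Y := by
    refine H86.range_eq_self_of_le D hχ ?_
    rintro _ ⟨⟨z, hz⟩, rfl⟩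
    have key : ∀ (z : Ω) (hz : z ∈ X ⊔ T₂), ψ ⟨z, hz⟩ ∈ Y := by
      intro z hz
      exact H87.mapsTo_sup (Q := Y)
        (fun x => by rw [hψX]; exact hXY (β x).2)
        (fun t => by rw [hψT]; exact hT₂Y t.2) ⟨z, hz⟩
    exact key z (hle hz)
  refine ⟨H86.autOfHom _ (D.injective_of_mem hχ) hr, H86.autOfHom_mem D hχ hr, fun x => ?_,
    fun c hc' => ?_⟩
  · rw [H86.autOfHom_apply]
    exact (hval (Subgroup.inclusion le_sup_left x)).trans (hβU x)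
  · rw [H86.autOfHom_apply]
    obtain ⟨a, ha, b, hb, hab⟩ := hdec c hc'
    have haY : a ∈ Y := hXY (Subgroup.mem_sup_right ha)
    rw [show c = ⟨a, haY⟩ * ⟨b, hT₂Y hb⟩ from Subtype.ext hab.symm, map_mul]
    have h1 := hβC ⟨a, Subgroup.mem_sup_right ha⟩ ha
    have e1 : ψ (Subgroup.inclusion hle ⟨a, haY⟩) =
        (β ⟨a, Subgroup.mem_sup_right ha⟩ : Ω) := hval ⟨a, Subgroup.mem_sup_right ha⟩
    have e2 : ψ (Subgroup.inclusion hle ⟨b, hT₂Y hb⟩) = b := hψT ⟨b, hb⟩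
    show ((a : Ω) * b)⁻¹ * (ψ (Subgroup.inclusion hle ⟨a, haY⟩) *
      ψ (Subgroup.inclusion hle ⟨b, hT₂Y hb⟩)) ∈ _
    rw [e1, e2]
    set y := (β ⟨a, Subgroup.mem_sup_right ha⟩ : Ω) with hy
    have h3 : a⁻¹ * y ∈ U ⊓ Subgroup.centralizer (U : Set Ω) := h1
    have hcomm : b * (a⁻¹ * y) = (a⁻¹ * y) * b := (hc.comm _ (hUT h3.1) b hb).symm
    rw [show (a * b)⁻¹ * (y * b) = a⁻¹ * y by
      rw [mul_inv_rev, mul_assoc, ← mul_assoc a⁻¹, ← hcomm, inv_mul_cancel_left]]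
    exact h3

end H89
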