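import Cfsg.Agent.H89.LayerOwn
import Cfsg.Agent.H89.PairFactor
import Cfsg.Agent.H89.Dichotomy
import Cfsg.Agent.H89.FittingNormal

/-!
Components are normal in the layer and in the generalized Fitting subsystem.
-/
set_option autoImplicit false
set_option linter.style.haveILetI false
set_option linter.unusedSectionVars false

open Cfsg Cfsg.FusionSystem H75.Fus

namespace H89

universe u

variable {Ω : Type u} [Group Ω] {S : Subgroup Ω} [Finite S] {p : ℕ} [Fact p.Prime]

theorem normalIn_of_same {V W R : Subgroup Ω} {D : FusionSystem V} {G : FusionSystem W}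
    {C : FusionSystem R} (h : SameSys D G) (hC : C.IsNormalIn D p) : C.IsNormalIn G p := by
  obtain ⟨rfl, hh⟩ := h
  obtain rfl := H85.fusionSystem_ext hh
  exact hC

/-- In a system that is its own layer, components are normal. -/
theorem component_normal_of_ownLayer (hW : HasWedge.{u} p) (hP' : H86.HasProducts.{u} p)
    (hS : IsPGroup p S) {F : FusionSystem S} (hF : F.IsSaturated p) (hown : OwnLayer p F)
    {U : Subgroup Ω} {C : FusionSystem U} (hC : C.IsComponentIn F p) : C.IsNormalIn F p := by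
  classical
  suffices main : ∀ (w : ℕ) (S : Subgroup Ω) [Finite S] (F : FusionSystem S),
      H87.weight F = w → IsPGroup p S → F.IsSaturated p → OwnLayer p F →
      C.IsComponentIn F p → C.IsNormalIn F p from main _ S F rfl hS hF hown hC
  intro w
  induction w using Nat.strong_induction_on with
  | _ w ih =>
  intro S _ F hw hS hF hown hC
  rcases exists_proper_normal hC.1 with hsame | ⟨V, M, hM, hne, hCM⟩
  · obtain ⟨rfl, hh⟩ := hsame
    obtain rfl := H85.fusionSystem_ext hh
    exact isNormalIn_refl hF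
  -- a least normal subsystem with `C` as a component
  let good : ℕ → Prop := fun n => ∃ (V : Subgroup Ω) (N : FusionSystem V), N.IsNormalIn F p ∧
    C.IsComponentIn N p ∧ H87.weight N = n
  have hex : ∃ n, good n := ⟨_, V, M, hM, ⟨hCM, hC.2⟩, rfl⟩
  obtain ⟨R, N, hN, hCN, hwN⟩ := Nat.find_spec hex
  have hRS := hN.1.2.2.2.1.1
  haveI : Finite R := H85.finite_of_le hRS
  have hRp : IsPGroup p R := hS.to_le hRS
  have hmin : ∀ {V : Subgroup Ω} (N' : FusionSystem V), N'.IsNormalIn F p →
      C.IsComponentIn N' p → N'.IsSubsystemOf N → N.IsSubsystemOf N' := by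
    intro V N' hN' hCN' hle P φ hφ
    by_contra hn
    have := H87.weight_lt hle hφ hn
    exact Nat.find_min hex (hwN ▸ this) ⟨V, N', hN', hCN', rfl⟩
  have hlt : H87.weight N < w := by
    obtain ⟨P, φ, hφ, hφn⟩ := exists_map_notMem hM.1.2.2.1 hne
    have h1 : H87.weight N ≤ H87.weight M :=
      hwN ▸ Nat.find_le ⟨V, M, hM, ⟨hCM, hC.2⟩, rfl⟩
    exact hw ▸ lt_of_le_of_lt h1 (H87.weight_lt hM.1.2.2.1 hφ hφn)
  -- the centralizer of `N`
  obtain ⟨K, hK, -⟩ := H86.exists_centralizer_normal hS hN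
  have hYS := hK.1.2.2.2.1.1
  haveI : Finite (H86.centE p F N) := H85.finite_of_le hYS
  set Y := H86.centE p F N with hY
  have hYC : ∀ y ∈ Y, ∀ r ∈ R, r * y = y * r := fun y hy r hr =>
    (H85.mem_centralizerIn.1 (H86.centE_le hy)).2 r hr
  have hZ : F.StronglyClosed (R ⊓ Y) := ⟨inf_le_left.trans hRS, fun Q hQ φ hφ x =>
    ⟨hN.1.2.2.2.1.2 Q (hQ.trans inf_le_left) φ hφ x,
      hK.1.2.2.2.1.2 Q (hQ.trans inf_le_right) φ hφ x⟩⟩
  obtain ⟨N₁, hn₁, hz₁, hsub₁, -⟩ :=
    exists_cent_normal hS hN inf_le_left hZ fun z hz r hr => hYC z hz.2 r hr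
  obtain ⟨K₁, hk₁, hzk, -, -⟩ :=
    exists_cent_normal hS hK inf_le_right hZ fun z hz y hy => (hYC y hy z hz.1).symm
  have hCN₁ : C.IsComponentIn N₁ p :=
    component_of_le_base hW hS hC hn₁ (Tp.subnormal_le hCN.1)
  obtain rfl : N = N₁ := H85.fusionSystem_le_antisymm (hmin N₁ hn₁ hCN₁ hsub₁) hsub₁
  have hc : CommPair N K₁ := ⟨fun r hr y hy => hYC y hy r hr, hz₁, hzk⟩
  have hall : ∀ (V : Subgroup Ω) (C' : FusionSystem V), C'.IsComponentIn F p →
      C'.IsSubsystemOf (pairSys hc) := by
    intro V C' hC' P φ hφ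
    rcases component_dichotomy hW hP' hS hC' hN with h | ⟨-, h⟩
    · exact hc.le_left P (subnormal_sub h.1 P hφ)
    · exact hc.le_right P (subnormal_sub (component_of_le_base hW hS hC' hk₁ h).1 P hφ)
  have hFD := hown _ _ (isNormalIn_pairSys hS hF hc hn₁ hk₁) hall
  have hDF := pairSys_le hS hc hn₁ hk₁
  have hsame : SameSys (pairSys hc) F := ⟨le_antisymm (sup_le hRS hYS)
      fun s hs => H85.source_le (hFD S (H85.id_mem F le_rfl)) hs,
    fun P => Set.Subset.antisymm (hDF P) (hFD P)⟩
  -- `N` is its own layer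
  have hownN : OwnLayer p N := by
    intro V D hD hDall P φ hφ
    obtain ⟨W, L, hL⟩ := exists_layer hW hRp hN.1.1
    have hWT := hL.1.1.2.2.2.1.1
    have hnp := normal_of_factor hc hRp (hS.to_le hYS) hk₁.1.1 hL.1
    have hLF : L.IsNormalIn F p := by
      exact normalIn_of_same hsame hnp
    have hCL : C.IsComponentIn L p := component_of_le_base hW hRp hCN hL.1
      (H85.source_le (hL.2.1 U C hCN U (H85.id_mem C le_rfl)))
    exact hL.2.2 _ _ hD hDall P (hmin L hLF hCL hL.1.1.2.2.1 P hφ)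
  have hCn := normal_of_factor hc hRp (hS.to_le hYS) hk₁.1.1
    (ih _ hlt R N rfl hRp hN.1.1 hownN hCN)
  exact normalIn_of_same hsame hCn

/-- Every component is normal in every generalized Fitting subsystem. -/
theorem component_normal_fitting (hW : HasWedge.{u} p) (hP' : H86.HasProducts.{u} p)
    (hS : IsPGroup p S) {F : FusionSystem S} (hF : F.IsSaturated p) {U V : Subgroup Ω}
    {C : FusionSystem U} (hC : C.IsComponentIn F p) {D : FusionSystem V}
    (hD : D.IsGeneralizedFittingOf F p) : C.IsNormalIn D p := by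
  obtain ⟨T, E, hE, hcp⟩ := hD
  have hTS := hE.1.1.2.2.2.1.1
  have hQS := (core_isNormal F).1
  haveI : Finite T := H85.finite_of_le hTS
  haveI : Finite F.core := H85.finite_of_le hQS
  have hCE : C.IsComponentIn E p := component_of_le_base hW hS hC hE.1
    (H85.source_le (hE.2.1 U C hC U (H85.id_mem C le_rfl)))
  have h1 := component_normal_of_ownLayer hW hP' (hS.to_le hTS) hE.1.1.1
    (ownLayer_of_layer hW hS hE) hCE
  obtain ⟨hc, hV, hD⟩ := exists_commPair (hS.to_le hQS) (hS.to_le hTS) hcp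
  have h2 := normal_of_factor hc.swap (hS.to_le hTS) (hS.to_le hQS)
    (H87.isNormalIn_inner hS hF (core_isNormal F)).1.1 h1
  rw [sup_comm] at hV
  subst hV
  rwa [show D = pairSys hc.swap from H85.fusionSystem_ext fun P => Set.ext fun φ => by
    rw [hD P]
    exact ⟨pairHom_swap hc.comm, pairHom_swap hc.swap.comm⟩]

end H89
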