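import Cfsg.Agent.H88.GTCriterion
import Cfsg.Agent.H80.Detect

/-!
For an odd prime a saturated fusion system that is not inner has a centric normal subgroup of `S`
whose automorphism group is not a `p`-group.
-/

set_option autoImplicit false
set_option linter.style.haveILetI false

open Cfsg Cfsg.FusionSystem

universe u

namespace H89

variable {Ω : Type u} [Group Ω] {S : Subgroup Ω} {p : ℕ}

/-- `Q` witnesses that `F` has a noninner constrained normalizer system over `S`. -/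
def GoodCentric (p : ℕ) (F : FusionSystem S) (Q : Subgroup Ω) : Prop :=
  Q ≤ S ∧ S ≤ Subgroup.normalizer (Q : Set Ω) ∧ centralizerIn S Q ≤ Q ∧ ¬ IsPGroup p (F.autGroup Q)

theorem fullyNormalized_of_normalized [Finite S] {F : FusionSystem S} {Q : Subgroup Ω} (hQ : Q ≤ S)
    (hn : S ≤ Subgroup.normalizer (Q : Set Ω)) : F.IsFullyNormalized Q := by
  refine ⟨hQ, fun R _ => ?_⟩
  rw [show normalizerIn S Q = S from inf_eq_left.2 hn]
  exact Subgroup.card_le_of_le (H85.normalizerIn_le R)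

theorem exists_goodCentric_aux [Fact p.Prime] (hp : p ≠ 2) :
    ∀ (n : ℕ) {Ω : Type u} [Group Ω] {S : Subgroup Ω} [Finite S], Nat.card S ≤ n → IsPGroup p S →
      ∀ (F : FusionSystem S), F.IsSaturated p →
        ¬ (∀ P : Subgroup Ω, F.Hom P = (innerFusionSystem S).Hom P) →
        ∃ Q : Subgroup Ω, GoodCentric p F Q := by
  intro n
  induction n with
  | zero =>
    intro Ω _ S _ h _ _ _ _
    exact absurd h (not_le.2 Nat.card_pos)
  | succ n ih =>
  intro Ω _ S _ hn hS F hF hne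
  classical
  have hSsc : F.StronglyClosed S := H86.stronglyClosed_self F
  have hS1 : S ≠ ⊥ := fun h => by
    refine hne (H88.inner_of_pGroup hS hF fun R hR => ?_)
    have hR1 : R = ⊥ := le_bot_iff.1 (h ▸ hR.1)
    subst hR1
    intro a
    exact ⟨0, by rw [pow_zero, pow_one]; exact Subtype.ext (MulEquiv.ext fun x => Subsingleton.elim _ _)⟩
  set W := Cfsg.centerThompsonAOf S with hW
  have hWS : W ≤ S := H88.centerThompsonAOf_le_self S
  have hWn : S ≤ Subgroup.normalizer (W : Set Ω) := H88.zj_normalizer_of_sc hSsc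
  have hT : normalizerIn S W = S := inf_eq_left.2 hWn
  have hW1 : W ≠ ⊥ := H88.centerThompsonAOf_ne_bot' hS hS1
  haveI : Finite W := H85.finite_of_le hWS
  have hWcomm : ∀ x ∈ W, ∀ y ∈ W, y * x = x * y := fun x hx y hy =>
    Subgroup.mem_centralizer_iff.1 hx.2 y hy.1
  -- a nontrivial coprime automorphism stabilizing `W`
  obtain ⟨P₀, hWP₀, hP₀, a₀, ha₀, ha₀c, ha₀st, ha₀1⟩ : ∃ P : Subgroup Ω, W ≤ P ∧
      P ≤ normalizerIn S W ∧ ∃ a ∈ F.autGroup P, (orderOf a).Coprime p ∧
        (∀ x : P, (x : Ω) ∈ W → ((a x : P) : Ω) ∈ W) ∧ a ≠ 1 := by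
    by_contra hcon
    push Not at hcon
    exact hne (H88.inner_of_stabTrivial_zj hp hS hF hSsc
      fun P h1 h2 a ha hc hs => hcon P h1 h2 a ha hc hs)
  set C := centralizerIn S W with hC
  have hCS : C ≤ S := H85.centralizerIn_le W
  have hWC : W ≤ C := fun x hx => H85.mem_centralizerIn.2 ⟨hWS hx, fun y hy => hWcomm x hx y hy⟩
  haveI : Finite C := H85.finite_of_le hCS
  have hCn : S ≤ Subgroup.normalizer (C : Set Ω) := fun g hg => by
    refine H85.mem_normalizer_of_conj fun x hx =>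
      H85.mem_centralizerIn.2 ⟨S.mul_mem (S.mul_mem hg hx.1) (S.inv_mem hg), fun y hy => ?_⟩
    have := (H85.mem_centralizerIn.1 hx).2 _ (H85.conj_mem_of_mem_normalizer' (hWn hg) hy)
    calc y * (g * x * g⁻¹) = g * ((g⁻¹ * y * g) * x) * g⁻¹ := by group
      _ = g * (x * (g⁻¹ * y * g)) * g⁻¹ := by rw [this]
      _ = g * x * g⁻¹ * y := by group
  by_cases hCp : IsPGroup p (F.autGroup C)
  swap
  · exact ⟨C, hCS, hCn, fun x hx =>
      ⟨hx.1, Subgroup.centralizer_le (fun y hy => hWC hy) hx.2⟩, hCp⟩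
  set Z := W ⊓ Subgroup.centralizer (S : Set Ω) with hZ
  have hZW : Z ≤ W := inf_le_left
  -- automorphisms of `W` fix `Z`
  have hfixW : ∀ b ∈ F.autGroup W, ∀ z : W, (z : Ω) ∈ Z → b z = z := by
    intro b hb z hz
    have hbf := (H85.mem_autGroup hWS).1 hb
    have hWfn : F.IsFullyNormalized W := fullyNormalized_of_normalized hWS hWn
    obtain ⟨ψ, hψ, hext⟩ :=
      H85.receptive_extend (H85.receptive_of_fullyNormalized hS hF hWfn) hbf
    have hWT : W ≤ extender S W (W.subtype.comp b.toMonoidHom) :=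
      H85.le_extender hWS fun x => hWS (b x).2
    have hCT : C ≤ extender S W (W.subtype.comp b.toMonoidHom) :=
      H85.centralizerIn_le_extender W _
    have hr : (ψ.comp (Subgroup.inclusion hCT)).range = C := by
      refine Subgroup.eq_of_le_of_card_ge ?_ (le_of_eq (Nat.card_congr
        (MonoidHom.ofInjective (F.injective_of_mem (H85.restrict hψ hCT))).toEquiv))
      rintro _ ⟨x, rfl⟩
      exact H85.extend_maps_centralizer (e := b) hWT (fun y => hext y y.2 _) (H85.map_mem hψ _) x.2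
    let c : MulAut C := H85.isoOf _ (H85.restrict hψ hCT) hr
    have hc : c ∈ F.autGroup C :=
      (H85.mem_autGroup hCS).2 (H85.isFIso_isoOf _ (H85.restrict hψ hCT) hr)
    have hind := H88.le_autInducedBy_of_normal_pGroup hS hF
      (fullyNormalized_of_normalized hCS hCn) ⊤ (hCp.to_subgroup ⊤) (α := ⟨c, hc⟩) trivial
    obtain ⟨g, hg, hgc⟩ := H85.mem_autInducedBy.1 hind
    apply Subtype.ext
    have h1 : ((b z : W) : Ω) = ψ ⟨z, hWT z.2⟩ := (hext z z.2 _).symm
    rw [h1]
    have h2 := hgc ⟨z, hWC z.2⟩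
    refine Eq.trans ?_ (h2.trans ?_)
    · rfl
    · show g * (z : Ω) * g⁻¹ = z
      rw [Subgroup.mem_centralizer_iff.1 hz.2 g hg, mul_inv_cancel_right]
  -- the normalizer system of `W` fixes `Z`
  have hZT : Z ≤ normalizerIn S W := fun z hz => hT.ge (hWS hz.1)
  have hN := H85.normalizerSystem_spec F W hWS
  set N := H85.normalizerSystem F W hWS with hNdef
  have hfixN : ∀ (X : Subgroup Ω) (φ : X →* Ω), φ ∈ N.Hom X → ∀ x : X, (x : Ω) ∈ Z → φ x = x := by
    intro X φ hφ x hx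
    obtain ⟨-, -, -, ψ, hψ, hext, himg⟩ := H85.mem_normalizerHom.1 hφ
    have hr : (ψ.comp (Subgroup.inclusion le_sup_right)).range = W := by
      refine Subgroup.eq_of_le_of_card_ge ?_ (le_of_eq (Nat.card_congr
        (MonoidHom.ofInjective (F.injective_of_mem (H85.restrict hψ le_sup_right))).toEquiv))
      rintro _ ⟨w, rfl⟩
      exact himg.le (H85.apply_mem_img w.2)
    let b : MulAut W := H85.isoOf _ (H85.restrict hψ le_sup_right) hr
    have hb : b ∈ F.autGroup W :=
      (H85.mem_autGroup hWS).2 (H85.isFIso_isoOf _ (H85.restrict hψ le_sup_right) hr)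
    rw [← hext x]
    exact congrArg Subtype.val (hfixW b hb ⟨x, hx.1⟩ hx)
  haveI : Finite ↥(normalizerIn S W) := H85.finite_of_le (H85.normalizerIn_le W)
  have hTp := hS.to_le (H85.normalizerIn_le W)
  have hNsat : N.IsSaturated p := H85.isSaturated_normalizerSystem hS hF
    (fullyNormalized_of_normalized hWS hWn) N hN
  have hZsc : N.StronglyClosed Z :=
    ⟨hZT, fun X hX φ hφ x => by rw [hfixN X φ hφ x (hX x.2)]; exact hX x.2⟩
  have hZ1 : Z ≠ ⊥ := by
    haveI : (W.subgroupOf S).Normal := Subgroup.normal_subgroupOf_of_le_normalizer hWn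
    have hWS1 : W.subgroupOf S ≠ ⊥ := by
      intro h
      rw [Subgroup.subgroupOf_eq_bot, disjoint_iff, inf_eq_left.2 hWS] at h
      exact hW1 h
    obtain ⟨z, hz, hz1⟩ := (Subgroup.bot_or_exists_ne_one _).resolve_left
      (H80.pgroup_normal_inf_center_ne_bot hS (W.subgroupOf S) hWS1)
    intro h
    have : (z : Ω) ∈ Z := ⟨hz.1, Subgroup.mem_centralizer_iff.2 fun g hg =>
      congrArg Subtype.val (Subgroup.mem_center_iff.1 hz.2 ⟨g, hg⟩)⟩
    rw [h, Subgroup.mem_bot] at this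
    exact hz1 (Subtype.ext this)
  haveI : (Z.subgroupOf (normalizerIn S W)).Normal := by
    refine ⟨fun x hx g => Subgroup.mem_subgroupOf.2 ?_⟩
    show (g : Ω) * (x : Ω) * (g : Ω)⁻¹ ∈ Z
    rw [Subgroup.mem_centralizer_iff.1 (Subgroup.mem_subgroupOf.1 hx).2 g g.2.1, mul_inv_cancel_right]
    exact Subgroup.mem_subgroupOf.1 hx
  obtain ⟨E', hE'⟩ := Cfsg.Agent.S5132.result p hTp N Z hZsc
  set θ := QuotientGroup.mk' (Z.subgroupOf (normalizerIn S W)) with hθ
  have hsurj := Cfsg.Agent.S5134.result p hTp N hNsat Z hZsc θ E' hE'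
  have hE'sat : E'.IsSaturated p := H86.isSaturated_image hTp hNsat hsurj
  obtain ⟨-, hker, hrange, hmaps⟩ := id hE'
  have hqp : IsPGroup p (↥(normalizerIn S W) ⧸ Z.subgroupOf (normalizerIn S W)) := hTp.to_quotient _
  -- the factor system is not inner
  have hne' : ¬ (∀ Y, E'.Hom Y = (innerFusionSystem ⊤).Hom Y) := by
    intro hinner
    apply ha₀1
    have hP₀S : P₀ ≤ S := hP₀.trans (H85.normalizerIn_le W)
    haveI : Finite P₀ := H85.finite_of_le hP₀S
    have haN := H88.mem_normalizerSystem_autGroup hN hWP₀ hP₀ ha₀ ha₀st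
    have hae := (H85.mem_autGroup hP₀).1 haN
    set X' := imageAlong θ P₀ with hX'
    have hP'mem : ∀ x : P₀, θ ⟨x, hP₀ x.2⟩ ∈ X' := fun x =>
      H88.mem_imageAlong.2 ⟨_, x.2, rfl⟩
    have honto : ∀ y : X', ∃ x : P₀, θ ⟨x, hP₀ x.2⟩ = y := by
      intro y
      obtain ⟨s, hs, hsy⟩ := H88.mem_imageAlong.1 y.2
      exact ⟨⟨s, hs⟩, hsy⟩
    obtain ⟨φ', hφ'E, hA, hB, hC', hind⟩ := hsurj.1.2 P₀ _ hae
    haveI : Finite X' := Subtype.finite
    have hφ'r : φ'.range = X' := by
      refine Subgroup.eq_of_le_of_card_ge ?_ (le_of_eq (Nat.card_congr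
        (MonoidHom.ofInjective (E'.injective_of_mem hφ'E)).toEquiv))
      rintro w ⟨y, rfl⟩
      obtain ⟨x, hx⟩ := honto y
      rw [show y = ⟨θ ⟨x, hA x.2⟩, hC' x⟩ from Subtype.ext hx.symm, hind x]
      exact hP'mem (a₀ x)
    set a' : MulAut X' := H85.isoOf φ' hφ'E hφ'r
    have ha'mem : a' ∈ E'.autGroup X' :=
      (H85.mem_autGroup le_top).2 (H85.isFIso_isoOf φ' hφ'E hφ'r)
    have ha'ind : H88.InducesAut θ a₀ a' := fun x _ _ _ => hind x
    have ha'c : (orderOf a').Coprime p := by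
      refine Nat.Coprime.coprime_dvd_left (orderOf_dvd_of_pow_eq_one ?_) ha₀c
      exact H88.InducesAut.unique hP₀ hP'mem honto
        (pow_orderOf_eq_one a₀ ▸ ha'ind.pow hP₀ hP'mem (orderOf a₀)) H88.InducesAut.one
    have ha'1 : a' = 1 := H88.eq_one_of_isPGroup
      (H88.isPGroup_autGroup_of_inner (hqp.to_subgroup ⊤) hinner le_top) ha'mem ha'c
    refine MulEquiv.ext fun x => ?_
    rw [MulAut.one_apply]
    refine H88.fixed_of_iterate_autComm (hS.to_le hP₀S) a₀ ha₀c 2 x ?_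
    show H88.autComm a₀ (H88.autComm a₀ x) = 1
    have hmem : ((H88.autComm a₀ x : P₀) : Ω) ∈ Z := by
      have h1 := ha'ind x (hP₀ x.2) (hP₀ (a₀ x).2) (hP'mem x)
      rw [ha'1, MulAut.one_apply] at h1
      have : θ ((⟨x, hP₀ x.2⟩ : ↥(normalizerIn S W))⁻¹ * ⟨(a₀ x : P₀), hP₀ (a₀ x).2⟩) = 1 := by
        rw [map_mul, map_inv]
        exact inv_mul_eq_one.2 h1
      exact (hker _).1 this
    have hfix : a₀ (H88.autComm a₀ x) = H88.autComm a₀ x :=
      Subtype.ext (hfixN P₀ _ hae _ hmem)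
    rw [H88.autComm, hfix, inv_mul_cancel]
  have hcard : Nat.card (⊤ : Subgroup (↥(normalizerIn S W) ⧸ Z.subgroupOf (normalizerIn S W))) ≤ n := by
    rw [Subgroup.card_top]
    have h1 := Subgroup.card_eq_card_quotient_mul_card_subgroup (Z.subgroupOf (normalizerIn S W))
    rw [Nat.card_congr (Subgroup.subgroupOfEquivOfLe hZT).toEquiv] at h1
    have h4 : Nat.card (normalizerIn S W) = Nat.card S := by rw [hT]
    rw [h4] at h1
    have h2 : 2 ≤ Nat.card Z := by
      haveI : Nontrivial Z := (Subgroup.nontrivial_iff_ne_bot Z).2 hZ1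
      haveI : Finite Z := H85.finite_of_le (hZW.trans hWS)
      exact Finite.one_lt_card
    have h3 : 0 < Nat.card (↥(normalizerIn S W) ⧸ Z.subgroupOf (normalizerIn S W)) := Nat.card_pos
    have h5 := Nat.mul_le_mul_left (Nat.card (↥(normalizerIn S W) ⧸ Z.subgroupOf (normalizerIn S W))) h2
    omega
  obtain ⟨Q', -, hQ'n, hQ'c, hQ'p⟩ := ih hcard (hqp.to_subgroup ⊤) E' hE'sat hne'
  set Q := preimageAlong θ Q' with hQ
  have hQT : Q ≤ normalizerIn S W := Subgroup.map_subtype_le _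
  have hQS : Q ≤ S := hQT.trans (H85.normalizerIn_le W)
  haveI : Finite Q := H85.finite_of_le hQS
  refine ⟨Q, hQS, fun g hg => H85.mem_normalizer_of_conj fun x hx => ?_, fun x hx => ?_, fun hQp => ?_⟩
  · obtain ⟨hxT, hx'⟩ := H88.mem_preimageAlong.1 hx
    have hgT : g ∈ normalizerIn S W := hT.ge hg
    refine H88.mem_preimageAlong.2 ⟨mul_mem (mul_mem hgT hxT) (Subgroup.inv_mem _ hgT), ?_⟩
    have := H85.conj_mem_of_mem_normalizer (hQ'n (Subgroup.mem_top (θ ⟨g, hgT⟩))) hx'
    rw [← map_inv, ← map_mul, ← map_mul] at this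
    exact this
  · have hxT : x ∈ normalizerIn S W := hT.ge hx.1
    refine H88.mem_preimageAlong.2 ⟨hxT, hQ'c (H85.mem_centralizerIn.2 ⟨Subgroup.mem_top _, fun y hy => ?_⟩)⟩
    obtain ⟨s, rfl⟩ := QuotientGroup.mk'_surjective _ y
    have hsQ : (s : Ω) ∈ Q := H88.mem_preimageAlong.2 ⟨s.2, hy⟩
    rw [← map_mul, ← map_mul]
    exact congrArg θ (Subtype.ext ((H85.mem_centralizerIn.1 hx).2 _ hsQ))
  · apply hQ'p
    haveI : Finite Q' := Subtype.finite
    haveI : Finite (MulAut Q') := Finite.of_injective _ DFunLike.coe_injective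
    refine H88.isPGroup_of_coprime_trivial fun a' ha'c => Subtype.ext ?_
    obtain ⟨-, φ, hφ, hpre, hφS, hP', hind⟩ :=
      (hmaps Q' _).1 ((H85.mem_autGroup le_top).1 a'.2)
    have hφr : φ.range = Q := by
      refine Subgroup.eq_of_le_of_card_ge ?_ (le_of_eq (Nat.card_congr
        (MonoidHom.ofInjective (N.injective_of_mem hφ)).toEquiv))
      rintro w ⟨x, rfl⟩
      refine H88.mem_preimageAlong.2 ⟨hφS x, ?_⟩
      rw [← hind x]
      exact ((a' : MulAut Q') _).2
    set b : MulAut Q := H85.isoOf φ hφ hφr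
    have hbF : b ∈ F.autGroup Q :=
      H88.normalizerSystem_autGroup_le hN ((H85.mem_autGroup hQT).2 (H85.isFIso_isoOf φ hφ hφr))
    have hbind : H88.InducesAut θ b (a' : MulAut Q') := fun x _ _ _ => hind x
    obtain ⟨k, hk⟩ := hQp ⟨b, hbF⟩
    have hbk : b ^ p ^ k = 1 := congrArg Subtype.val hk
    rw [← Subgroup.orderOf_coe] at ha'c
    refine H88.eq_one_of_pow_prime_pow ha'c (k := k) (H88.InducesAut.unique hQT hP' (fun y => ?_)
      (hbk ▸ hbind.pow hQT hP' (p ^ k)) H88.InducesAut.one)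
    obtain ⟨s, hs⟩ := QuotientGroup.mk'_surjective _ (y : ↥(normalizerIn S W) ⧸ Z.subgroupOf _)
    exact ⟨⟨s, H88.mem_preimageAlong.2 ⟨s.2, by rw [hθ, hs]; exact y.2⟩⟩, hs⟩

/-- **A noninner system has a noninner constrained subsystem over `S`** (`p` odd). -/
theorem exists_constrained_noninner [Finite S] [Fact p.Prime] (hp : p ≠ 2) (hS : IsPGroup p S)
    {F : FusionSystem S} (hF : F.IsSaturated p)
    (hne : ¬ (∀ P : Subgroup Ω, F.Hom P = (innerFusionSystem S).Hom P)) :
    ∃ E : FusionSystem S, E ≤ F ∧ E.IsConstrained p ∧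
      ¬ (∀ P : Subgroup Ω, E.Hom P = (innerFusionSystem S).Hom P) := by
  obtain ⟨Q, hQS, hQn, hQc, hQp⟩ := exists_goodCentric_aux hp (Nat.card S) le_rfl hS F hF hne
  have hfn := fullyNormalized_of_normalized (F := F) hQS hQn
  have hcen : F.IsCentric Q := H85.centric_of_fullyCentralized hS hF
    (H85.fullyCentralized_of_fullyNormalized hS hF hfn) hQc
  have hT : normalizerIn S Q = S := inf_eq_left.2 hQn
  have hN := H85.normalizerSystem_spec F Q hQS
  obtain ⟨hcon, -, -⟩ := H86.normalizerSystem_constrained hS hF hfn hcen hN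
  have haut : ¬ IsPGroup p ((H85.normalizerSystem F Q hQS).autGroup Q) := by
    intro h
    refine hQp (h.to_le fun a ha => ?_)
    exact H88.mem_normalizerSystem_autGroup hN le_rfl (hT.ge.trans' hQS) ha fun x _ => (a x).2
  have key : ∀ (T : Subgroup Ω), T = S → ∀ E : FusionSystem T,
      (∀ P, E.Hom P ⊆ F.Hom P) → E.IsConstrained p → ¬ IsPGroup p (E.autGroup Q) →
      ∃ E : FusionSystem S, E ≤ F ∧ E.IsConstrained p ∧
        ¬ (∀ P : Subgroup Ω, E.Hom P = (innerFusionSystem S).Hom P) := by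
    intro T hTS E hle hc hna
    subst hTS
    exact ⟨E, hle, hc, fun h => hna (H88.isPGroup_autGroup_of_inner hS h hQS)⟩
  exact key _ hT _ (fun P => H88.normalizerSystem_hom_le hN P) hcon haut

end H89
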