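import Cfsg.Agent.H86.ProductIface
import Cfsg.Agent.H86.TrivMod
import Cfsg.Agent.H86.Hyperfocal
import Cfsg.Agent.H86.Quotient
import Cfsg.Agent.H87.PowerIndex
import Cfsg.Agent.H87.CentralizerNormal

/-!
Automorphisms from a normal subsystem `M` over `V` extend over a strongly closed subgroup `R`,
moving it inside the cosets of `R ⊓ V`.
-/
set_option autoImplicit false
set_option linter.style.haveILetI false
set_option linter.unusedSectionVars false

open Cfsg Cfsg.FusionSystem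

namespace H89

universe u

variable {Ω : Type u} [Group Ω] {S : Subgroup Ω} [Finite S] {p : ℕ} [Fact p.Prime]

/-- In a product `S M`, an automorphism of order prime to `p` of a subgroup of `V` fixing `R ⊓ V`
extends over `R`. -/
theorem exists_ext_displace (hS : IsPGroup p S) {F : FusionSystem S} {V : Subgroup Ω}
    {M : FusionSystem V} {D : FusionSystem S} (hD : H86.IsProductOn M F p D)
    {R : Subgroup Ω} (hR : F.StronglyClosed R) (hV : F.StronglyClosed V) {X : Subgroup Ω}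
    (hXV : X ≤ V) (hYX : R ⊓ V ≤ X) {a : MulAut X} (ha : a ∈ M.autGroup X)
    (hao : Nat.Coprime (orderOf a) p) (hfix : ∀ x : X, (x : Ω) ∈ R → a x = x) :
    ∃ b ∈ F.autGroup (X ⊔ R),
      (∀ x : X, (b (Subgroup.inclusion le_sup_left x) : Ω) = a x) ∧
        ∀ r : R, (r : Ω)⁻¹ * (b (Subgroup.inclusion le_sup_right r) : Ω) ∈ R ⊓ V := by
  set Y := R ⊓ V with hY
  have hXS : X ≤ S := hXV.trans hV.1
  have hRS := hR.1
  have hYS : Y ≤ S := inf_le_left.trans hRS
  haveI : Finite X := H85.finite_of_le hXS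
  have hDF : ∀ {P : Subgroup Ω} {φ : P →* Ω}, φ ∈ D.Hom P → φ ∈ F.Hom P :=
    fun h => hD.subsystem _ h
  have hYc : D.StronglyClosed Y := ⟨hYS, fun P hP φ hφ x =>
    ⟨hR.2 P (hP.trans inf_le_left) φ (hDF hφ) x, hV.2 P (hP.trans inf_le_right) φ (hDF hφ) x⟩⟩
  have haD : a ∈ D.autGroup X := hD.coprime_mem X hXV a ha hao
  have haI : H85.IsFIso D a := (H85.mem_autGroup hXS).1 haD
  have hnV : ∀ {s v : Ω}, s ∈ S → v ∈ V → s * v * s⁻¹ ∈ V := fun hs hv =>
    H86.normal_of_stronglyClosed F hV hs hv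
  have hnR : ∀ {s v : Ω}, s ∈ S → v ∈ R → s * v * s⁻¹ ∈ R := fun hs hv =>
    H86.normal_of_stronglyClosed F hR hs hv
  have hcomm : ∀ {r x : Ω}, r ∈ R → x ∈ X → r * x * r⁻¹ * x⁻¹ ∈ Y := by
    intro r x hr hx
    refine ⟨?_, V.mul_mem (hnV (hRS hr) (hXV hx)) (V.inv_mem (hXV hx))⟩
    have := R.mul_mem hr (hnR (hXS hx) (R.inv_mem hr))
    simpa [mul_assoc] using this
  have hRN : R ≤ normalizerIn S X := by
    intro r hr
    refine ⟨hRS hr, Subgroup.mem_normalizer_iff.2 fun x => ?_⟩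
    have key : ∀ {r : Ω}, r ∈ R → ∀ {x : Ω}, x ∈ X → r * x * r⁻¹ ∈ X := fun {r} hr {x} hx => by
      have := X.mul_mem (hYX (hcomm hr hx)) hx
      simpa [mul_assoc] using this
    refine ⟨key hr, fun h => ?_⟩
    have := key (R.inv_mem hr) h
    simpa [mul_assoc] using this
  have hXN : X ≤ normalizerIn S X := H85.le_normalizerIn hXS
  -- a fully normalized conjugate
  obtain ⟨X₁, hc, hX₁⟩ := H85.exists_fullyNormalized D hXS
  have hfa := H85.fullyAutomized_of_fullyNormalized hS hD.saturated hX₁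
  have hrec := H85.receptive_of_fullyNormalized hS hD.saturated hX₁
  obtain ⟨e₀, he₀⟩ := H85.isConj_iff.1 hc
  obtain ⟨β, hβ, γh, hγh, -, hγe⟩ := H85.exists_normalizer_extension hS hfa hrec he₀
  set e := e₀.trans β with he_def
  have hX₁S : X₁ ≤ S := hX₁.1
  have he : H85.IsFIso D e := he₀.trans ((H85.mem_autGroup hX₁S).1 hβ)
  have hev : ∀ x : X, γh (Subgroup.inclusion hXN x) = (e x : Ω) := fun x => hγe x _
  haveI : Finite X₁ := H85.finite_of_le hX₁S
  haveI : Finite (D.autGroup X₁) := H85.finite_autGroup D hX₁S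
  -- automorphisms of `X₁` fixing `Y` and trivial modulo it
  let K : Subgroup (D.autGroup X₁) :=
    { carrier := {k | ∀ x : X₁, (x : Ω)⁻¹ * ((k : MulAut X₁) x : Ω) ∈ Y ∧
        ((x : Ω) ∈ Y → (k : MulAut X₁) x = x)}
      one_mem' := fun x => ⟨by simp, fun _ => rfl⟩
      mul_mem' := by
        intro k l hk hl x
        refine ⟨?_, fun hx => ?_⟩
        · have := Y.mul_mem (hl x).1 (hk ((l : MulAut X₁) x)).1
          rwa [mul_assoc, mul_inv_cancel_left] at this
        · show (k : MulAut X₁) ((l : MulAut X₁) x) = x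
          rw [(hl x).2 hx, (hk x).2 hx]
      inv_mem' := by
        intro k hk x
        have h1 := (hk (((k⁻¹ : D.autGroup X₁) : MulAut X₁) x))
        have h0 : (k : MulAut X₁) (((k⁻¹ : D.autGroup X₁) : MulAut X₁) x) = x :=
          MulAut.apply_inv_self _ (k : MulAut X₁) x
        rw [h0] at h1
        refine ⟨?_, fun hx => ?_⟩
        · have := Y.inv_mem h1.1
          rwa [mul_inv_rev, inv_inv] at this
        · show (k : MulAut X₁)⁻¹ x = x
          conv_lhs => rw [← (hk x).2 hx]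
          exact MulAut.inv_apply_self _ (k : MulAut X₁) x }
  have hKn : K.Normal := by
    refine ⟨fun k hk g x => ?_⟩
    have hgI : H85.IsFIso D (g : MulAut X₁) := (H85.mem_autGroup hX₁S).1 g.2
    set w : X₁ := (g : MulAut X₁)⁻¹ x with hw
    have hgw : (g : MulAut X₁) w = x := MulAut.apply_inv_self _ _ _
    have hz : (w : Ω)⁻¹ * ((k : MulAut X₁) w : Ω) ∈ Y := (hk w).1
    have hval : ((g * k * g⁻¹ : D.autGroup X₁) : MulAut X₁) x =
        (g : MulAut X₁) ((k : MulAut X₁) w) := rfl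
    refine ⟨?_, fun hx => ?_⟩
    · rw [hval]
      have h1 : (g : MulAut X₁) ((k : MulAut X₁) w) =
          x * (g : MulAut X₁) (w⁻¹ * (k : MulAut X₁) w) := by
        rw [map_mul, map_inv, hgw, mul_inv_cancel_left]
      rw [h1, Subgroup.coe_mul, inv_mul_cancel_left]
      exact H86.map_mem_of_stronglyClosed hYc hgI (x := w⁻¹ * (k : MulAut X₁) w) hz
    · rw [hval, (hk w).2 (show (w : Ω) ∈ Y from
        H86.map_mem_of_stronglyClosed hYc hgI.symm (x := x) hx), hgw]
  have hKp : IsPGroup p K := by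
    rintro ⟨k, hk⟩
    obtain ⟨j, hj⟩ := H86.pow_eq_one_trivMod (hS.to_le hX₁S) (P := Y) (k := (k : MulAut X₁))
      (fun x => (hk x).1) fun x => (hk x).2
    exact ⟨j, Subtype.ext (Subtype.ext hj)⟩
  -- the twisted isomorphism extends to `R`
  set f := a.trans e with hf_def
  have hf : H85.IsFIso D f := haI.trans he
  obtain ⟨ψ, hψ, hψe⟩ := H85.receptive_extend hrec hf
  have hsub : R ≤ extender S X (X₁.subtype.comp f.toMonoidHom) := by
    intro r hr
    refine H85.mem_extender.2 ⟨hRS hr, (hRN hr).2, ?_⟩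
    set c := H85.conjAut S X ⟨r, hRN hr⟩ with hc_def
    have hcv : ∀ x : X, (c x : Ω) = r * x * r⁻¹ := fun x => rfl
    have hcD : c ∈ D.autGroup X := H85.autInducedBy_le_autGroup D hXS
      (H85.mem_autInducedBy.2 ⟨r, hRS hr, fun x => hcv x⟩)
    -- the commutator of `a` and `c` lies in `K`
    set k₀ : MulAut X := a * c * a⁻¹ * c⁻¹ with hk₀
    have hk₀D : k₀ ∈ D.autGroup X :=
      mul_mem (mul_mem (mul_mem haD hcD) (inv_mem haD)) (inv_mem hcD)
    have hk₀e : MulAut.congr e k₀ ∈ D.autGroup X₁ := (H85.mem_autGroup hX₁S).2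
      (((he.symm.trans ((H85.mem_autGroup hXS).1 hk₀D)).trans he).congr fun _ => rfl)
    have hcY : ∀ x : X, (x : Ω)⁻¹ * (c x : Ω) ∈ Y := fun x => by
      rw [hcv]
      have h1 := hcomm hr x.2
      refine ⟨?_, V.mul_mem (V.inv_mem (hXV x.2)) (hnV (hRS hr) (hXV x.2))⟩
      have := hnR (S.inv_mem (hXS x.2)) h1.1
      simpa [mul_assoc] using this
    have haY : ∀ x : X, (x : Ω) ∈ Y → a x = x := fun x hx => hfix x hx.1
    have haY' : ∀ x : X, (x : Ω) ∈ Y → a⁻¹ x = x := fun x hx => by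
      conv_lhs => rw [← haY x hx]
      exact MulAut.inv_apply_self _ a x
    have hk₀Y : ∀ x : X, (x : Ω)⁻¹ * (k₀ x : Ω) ∈ Y ∧ ((x : Ω) ∈ Y → k₀ x = x) := by
      intro x
      set v := c⁻¹ x with hv
      have hcv' : c v = x := MulAut.apply_inv_self _ _ _
      set w := a⁻¹ v with hw
      have haw : a w = v := MulAut.apply_inv_self _ _ _
      have hk : k₀ x = a (c w) := rfl
      refine ⟨?_, fun hx => ?_⟩
      · have h1 : a (c w) = v * (w⁻¹ * c w) := by
          conv_rhs => rw [← haY (w⁻¹ * c w) (hcY w), ← haw, ← map_mul, mul_inv_cancel_left]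
        have h2 : (x : Ω)⁻¹ * v ∈ Y := by
          have := Y.inv_mem (hcY v)
          rwa [hcv', mul_inv_rev, inv_inv] at this
        rw [hk, h1, Subgroup.coe_mul, ← mul_assoc]
        exact Y.mul_mem h2 (hcY w)
      · have hvY : (v : Ω) ∈ Y := by
          have h2 := hcY v
          rw [hcv'] at h2
          have := Y.mul_mem hx (Y.inv_mem h2)
          rwa [mul_inv_rev, inv_inv, mul_inv_cancel_left] at this
        rw [hk, show w = v from haY' v hvY, hcv', haY x hx]
    have heI : H85.IsFIso D e := he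
    have hmem : (⟨_, hk₀e⟩ : D.autGroup X₁) ∈ K := by
      intro y
      obtain ⟨x, rfl⟩ := e.surjective y
      have hv : MulAut.congr e k₀ (e x) = e (k₀ x) :=
        congrArg (fun z => e (k₀ z)) (e.symm_apply_apply x)
      refine ⟨?_, fun hx => ?_⟩
      · show (e x : Ω)⁻¹ * (MulAut.congr e k₀ (e x) : Ω) ∈ Y
        rw [hv, ← Subgroup.coe_inv, ← Subgroup.coe_mul, ← map_inv, ← map_mul]
        exact H86.map_mem_of_stronglyClosed hYc heI (x := x⁻¹ * k₀ x) (hk₀Y x).1
      · show MulAut.congr e k₀ (e x) = e x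
        rw [hv, (hk₀Y x).2 (by
          have := H86.map_mem_of_stronglyClosed hYc heI.symm (x := e x) hx
          simpa using this)]
    obtain ⟨T, hT⟩ := hfa.2
    have hKT : K ≤ (T : Subgroup (D.autGroup X₁)) := by
      haveI := hKn
      exact hKp.le_sylow_of_normal T
    have hk₀T := hKT hmem
    rw [hT] at hk₀T
    obtain ⟨h₁, hh₁, hh₁e⟩ := H85.mem_autInducedBy.1 hk₀T
    refine ⟨h₁ * γh ⟨r, hRN hr⟩, S.mul_mem hh₁ (H85.map_mem hγh _), fun x hx => ?_⟩
    have hec : (e (c (a x)) : Ω) = γh ⟨r, hRN hr⟩ * (e (a x) : Ω) * (γh ⟨r, hRN hr⟩)⁻¹ := by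
      rw [← hev, ← hev, ← map_inv, ← map_mul, ← map_mul]
      exact congrArg γh (Subtype.ext (hcv _))
    show (e (a ⟨r * x * r⁻¹, hx⟩) : Ω) = _ * (e (a x) : Ω) * _
    have h1 : a ⟨r * x * r⁻¹, hx⟩ = k₀ (c (a x)) := by
      rw [hk₀]
      simp only [MulAut.mul_apply, MulAut.inv_apply_self]
      exact congrArg a (Subtype.ext (hcv x).symm)
    rw [h1, show e (k₀ (c (a x))) = MulAut.congr e k₀ (e (c (a x))) from
      (congrArg (fun z => e (k₀ z)) (e.symm_apply_apply _)).symm]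
    rw [show (MulAut.congr e k₀ (e (c (a x))) : Ω) = _ from hh₁e (e (c (a x))), hec]
    group
  have hXext : X ≤ extender S X (X₁.subtype.comp f.toMonoidHom) :=
    H85.le_extender hXS fun x => hX₁S (f x).2
  set J := X ⊔ R with hJ
  have hJS : J ≤ S := sup_le hXS hRS
  haveI : Finite J := H85.finite_of_le hJS
  have hJN : J ≤ normalizerIn S X := sup_le hXN hRN
  have hψJ := H85.restrict hψ (sup_le hXext hsub)
  have hγJ := H85.restrict hγh hJN
  set ψ' := ψ.comp (Subgroup.inclusion (sup_le hXext hsub)) with hψ'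
  set γ' := γh.comp (Subgroup.inclusion hJN) with hγ'
  have hψX : ∀ x : X, ψ' (Subgroup.inclusion le_sup_left x) = (e (a x) : Ω) := fun x =>
    hψe x x.2 _
  have hγX : ∀ x : X, γ' (Subgroup.inclusion le_sup_left x) = (e x : Ω) := fun x => hev x
  haveI : Finite R := H85.finite_of_le hRS
  have hrange : ∀ {φ : ↥J →* Ω}, φ ∈ D.Hom J →
      (∀ x : X, φ (Subgroup.inclusion le_sup_left x) ∈ X₁) →
      (∀ y : X₁, ∃ x : X, φ (Subgroup.inclusion le_sup_left x) = y) → φ.range = X₁ ⊔ R := by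
    intro φ hφ hm hs
    have hφR := H85.restrict hφ (le_sup_right : R ≤ J)
    have hr : (φ.comp (Subgroup.inclusion le_sup_right)).range = R :=
      H86.range_eq_self_of_le D hφR (by
        rintro _ ⟨x, rfl⟩; exact hR.2 R le_rfl _ (hDF hφR) x)
    refine le_antisymm ?_ (sup_le ?_ ?_)
    · rintro _ ⟨z, rfl⟩
      exact H87.mapsTo_sup (Q := X₁ ⊔ R) (fun x => Subgroup.mem_sup_left (hm x))
        (fun r => Subgroup.mem_sup_right (hR.2 R le_rfl _ (hDF hφR) r)) z
    · intro y hy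
      obtain ⟨x, hx⟩ := hs ⟨y, hy⟩
      exact ⟨_, hx⟩
    · intro y hy
      obtain ⟨z, hz⟩ := hr.ge hy
      exact ⟨_, hz⟩
  have hψr : ψ'.range = X₁ ⊔ R := hrange hψJ (fun x => (hψX x).symm ▸ (f x).2) fun y => by
    obtain ⟨x, hx⟩ := f.surjective y
    exact ⟨x, (hψX x).trans (congrArg Subtype.val hx)⟩
  have hγr : γ'.range = X₁ ⊔ R := hrange hγJ (fun x => (hγX x).symm ▸ (e x).2) fun y => by
    obtain ⟨x, hx⟩ := e.surjective y
    exact ⟨x, (hγX x).trans (congrArg Subtype.val hx)⟩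
  set eψ := H85.isoOf ψ' hψJ hψr with heψ
  set eγ := H85.isoOf γ' hγJ hγr with heγ
  set b₀ : MulAut J := eψ.trans eγ.symm with hb₀
  have hb₀D : b₀ ∈ D.autGroup J := (H85.mem_autGroup hJS).2
    ((H85.isFIso_isoOf ψ' hψJ hψr).trans (H85.isFIso_isoOf γ' hγJ hγr).symm)
  have hb₀X : ∀ x : X, b₀ (Subgroup.inclusion le_sup_left x) =
      Subgroup.inclusion le_sup_left (a x) := fun x => by
    show eγ.symm (eψ _) = _
    rw [MulEquiv.symm_apply_eq]
    exact Subtype.ext ((hψX x).trans (hγX (a x)).symm)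
  haveI : Finite (D.autGroup J) := H85.finite_autGroup D hJS
  obtain ⟨n, hn, hna⟩ := H86.exists_exp_coprime (⟨b₀, hb₀D⟩ : D.autGroup J) a hao
  have hpow : ∀ (m : ℕ) (x : X), (b₀ ^ m) (Subgroup.inclusion le_sup_left x) =
      Subgroup.inclusion le_sup_left ((a ^ m) x) := by
    intro m
    induction m with
    | zero => intro x; rfl
    | succ m ih =>
      intro x
      rw [pow_succ', MulAut.mul_apply, ih, pow_succ', MulAut.mul_apply, hb₀X]
  have hbD : b₀ ^ n ∈ D.autGroup J := pow_mem hb₀D n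
  refine ⟨b₀ ^ n, (H85.mem_autGroup hJS).2 (hDF ((H85.mem_autGroup hJS).1 hbD)),
    fun x => by rw [hpow, hna]; rfl, fun r => ?_⟩
  set z : J := Subgroup.inclusion le_sup_right r with hz
  refine ⟨R.mul_mem (R.inv_mem r.2) (H86.map_mem_of_stronglyClosed hR
    (hDF ((H85.mem_autGroup hJS).1 hbD)) (x := z) r.2), hD.hyp_le (Subgroup.subset_closure ?_)⟩
  exact ⟨J, ⟨b₀ ^ n, hbD⟩, z, hJS,
    H87.mem_pResidual_of_coprime (by rw [← SubmonoidClass.mk_pow]; exact hn), rfl⟩

end H89
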