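import Mathlib
import Cfsg.Agent.H86.Sylow

/-! Sylow 2-subgroups when an involution centralizer is "generalized dihedral" (helper89). -/

set_option autoImplicit false

namespace H89

variable {G : Type*} [Group G]

/-- `T` is an abelian subgroup of index 2 in the centralizer of `z` with a single involution `z`,
and the elements of the centralizer outside `T` are involutions. -/
structure GenDihedral (z : G) (T : Subgroup G) : Prop where
  sq : z * z = 1
  ne : z ≠ 1
  le : T ≤ Subgroup.centralizer ({z} : Set G)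
  comm : ∀ x ∈ T, ∀ y ∈ T, x * y = y * x
  invol : ∀ x ∈ T, x * x = 1 → x = 1 ∨ x = z
  osq : ∀ x ∈ Subgroup.centralizer ({z} : Set G), x ∉ T → x * x = 1
  omul : ∀ x ∈ Subgroup.centralizer ({z} : Set G), ∀ y ∈ Subgroup.centralizer ({z} : Set G),
    x ∉ T → y ∉ T → x * y ∈ T
  outer : ∃ x ∈ Subgroup.centralizer ({z} : Set G), x ∉ T

theorem GenDihedral.conj {z : G} {T : Subgroup G} (h : GenDihedral z T) (g : G) :
    GenDihedral (g * z * g⁻¹) (T.map (MulAut.conj g).toMonoidHom) := by
  have hC : ∀ x, x ∈ Subgroup.centralizer ({g * z * g⁻¹} : Set G) ↔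
      g⁻¹ * x * g ∈ Subgroup.centralizer ({z} : Set G) := by
    intro x
    rw [Subgroup.mem_centralizer_singleton_iff, Subgroup.mem_centralizer_singleton_iff,
      ← (mul_right_injective g⁻¹).eq_iff, ← (mul_left_injective g).eq_iff]
    simp [mul_assoc]
  have hT : ∀ x, x ∈ T.map (MulAut.conj g).toMonoidHom ↔ g⁻¹ * x * g ∈ T := by
    intro x
    constructor
    · rintro ⟨y, hy, rfl⟩
      simpa [mul_assoc] using hy
    · intro hx
      exact ⟨_, hx, by simp [mul_assoc]⟩
  have hm : ∀ a b : G, g⁻¹ * (a * b) * g = (g⁻¹ * a * g) * (g⁻¹ * b * g) := fun a b => by group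
  have hinj : ∀ a b : G, g⁻¹ * a * g = g⁻¹ * b * g → a = b := fun a b hab =>
    mul_left_cancel (mul_right_cancel hab)
  refine ⟨hinj _ _ ?_, fun h1 => h.ne ?_, fun x hx => (hC x).2 (h.le ((hT x).1 hx)), ?_, ?_, ?_, ?_, ?_⟩
  · rw [hm]; simpa [mul_assoc] using h.sq
  · calc z = g⁻¹ * (g * z * g⁻¹) * g := by group
      _ = 1 := by rw [h1]; simp
  · intro x hx y hy
    apply hinj
    rw [hm, hm, h.comm _ ((hT x).1 hx) _ ((hT y).1 hy)]
  · intro x hx h2
    have h3 := congrArg (fun a => g⁻¹ * a * g) h2
    simp only [hm] at h3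
    rcases h.invol _ ((hT x).1 hx) (by simpa using h3) with e | e
    · left; exact hinj _ _ (by simpa using e)
    · right; exact hinj _ _ (by simpa [mul_assoc] using e)
  · intro x hx hxT
    apply hinj
    rw [hm, h.osq _ ((hC x).1 hx) (fun h' => hxT ((hT x).2 h'))]
    simp
  · intro x hx y hy hxT hyT
    rw [hT, hm]
    exact h.omul _ ((hC x).1 hx) _ ((hC y).1 hy) (fun h' => hxT ((hT x).2 h'))
      (fun h' => hyT ((hT y).2 h'))
  · obtain ⟨x, hx, hxT⟩ := h.outer
    exact ⟨g * x * g⁻¹, (hC _).2 (by simpa [mul_assoc] using hx),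
      fun h' => hxT (by simpa [mul_assoc] using (hT _).1 h')⟩

/-- Sylow 2-subgroups of order at least 8 are generated by involutions and self-normalizing. -/
theorem genDihedral_sylow [Finite G] {z : G} {T : Subgroup G} (h : GenDihedral z T)
    (hone : ∀ x : G, x ≠ 1 → x * x = 1 → ∃ g : G, g * z * g⁻¹ = x) (S : Sylow 2 G)
    (h8 : 8 ≤ Nat.card (S : Subgroup G)) :
    Subgroup.closure {x : G | x ∈ (S : Subgroup G) ∧ orderOf x = 2} = (S : Subgroup G) ∧
      Subgroup.normalizer ((S : Subgroup G) : Set G) = (S : Subgroup G) := by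
  haveI : Fact (Nat.Prime 2) := ⟨Nat.prime_two⟩
  haveI : Nontrivial (S : Subgroup G) :=
    Finite.one_lt_card_iff_nontrivial.1 (by omega)
  haveI : Nontrivial (Subgroup.center (S : Subgroup G)) := S.isPGroup'.center_nontrivial
  obtain ⟨m, hm, hcard⟩ :=
    (S.isPGroup'.to_subgroup (Subgroup.center (S : Subgroup G))).nontrivial_iff_card.1 inferInstance
  obtain ⟨c, hc⟩ := exists_prime_orderOf_dvd_card' 2 (G := Subgroup.center (S : Subgroup G))
    (hcard ▸ dvd_pow_self 2 hm.ne')
  have hu : orderOf (((c : (S : Subgroup G)) : G)) = 2 := by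
    rw [Subgroup.orderOf_coe, Subgroup.orderOf_coe, hc]
  obtain ⟨g, hg⟩ := hone ((c : (S : Subgroup G)) : G) (fun h1 => by rw [h1, orderOf_one] at hu; omega)
    (by rw [← pow_two]; exact orderOf_dvd_iff_pow_eq_one.1 hu.dvd)
  clear hone
  replace h := h.conj g
  rw [hg] at h
  generalize T.map (MulAut.conj g).toMonoidHom = U at h
  clear hg
  set u : G := ((c : (S : Subgroup G)) : G) with hudef
  have hSC : (S : Subgroup G) ≤ Subgroup.centralizer ({u} : Set G) := fun x hx =>
    Subgroup.mem_centralizer_singleton_iff.2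
      (congrArg Subtype.val (Subgroup.mem_center_iff.1 c.2 ⟨x, hx⟩))
  -- an element of `S` outside `U`
  obtain ⟨s, hsS, hsU⟩ : ∃ s ∈ (S : Subgroup G), s ∉ U := by
    by_contra hcon
    push_neg at hcon
    obtain ⟨x, hxC, hxU⟩ := h.outer
    have hx2 := h.osq x hxC hxU
    have hxp : IsPGroup 2 (Subgroup.zpowers x) := by
      intro y
      obtain ⟨k, hk⟩ := Subgroup.mem_zpowers_iff.1 y.2
      refine ⟨1, Subtype.ext ?_⟩
      rw [Subgroup.coe_pow, pow_one, ← hk, ← zpow_natCast, ← zpow_mul, mul_comm, zpow_mul,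
        zpow_natCast, pow_two, hx2, one_zpow]
      rfl
    obtain ⟨k, hkC, hk⟩ :=
      H86.exists_conj_le_sylow_of_le S hSC (Subgroup.zpowers_le.2 hxC) hxp
    have hy := hcon _ (hk x (Subgroup.mem_zpowers x))
    rcases h.invol _ hy (by
      calc k * x * k⁻¹ * (k * x * k⁻¹) = k * (x * x) * k⁻¹ := by group
        _ = 1 := by rw [hx2]; simp) with e | e
    · apply hxU
      have : x = 1 := by
        calc x = k⁻¹ * (k * x * k⁻¹) * k := by group
          _ = 1 := by rw [e]; simp
      rw [this]; exact U.one_mem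
    · apply hxU
      have hku := Subgroup.mem_centralizer_singleton_iff.1 hkC
      have : x = u := by
        calc x = k⁻¹ * (k * x * k⁻¹) * k := by group
          _ = k⁻¹ * (u * k) := by rw [e]; group
          _ = u := by rw [← hku]; group
      rw [this]
      exact hcon _ (c : (S : Subgroup G)).2
  have hsC := hSC hsS
  have hs2 := h.osq s hsC hsU
  -- an element of order at least 4
  obtain ⟨t, htS, htU, ht2⟩ : ∃ t ∈ (S : Subgroup G), t ∈ U ∧ t * t ≠ 1 := by
    by_contra hcon
    push_neg at hcon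
    classical
    have hsub : ((S : Subgroup G) : Set G) ⊆ (↑({1, u, s, s * u} : Finset G) : Set G) := by
      intro x hx
      simp only [Finset.coe_insert, Finset.coe_singleton, Set.mem_insert_iff, Set.mem_singleton_iff]
      by_cases hxU : x ∈ U
      · rcases h.invol x hxU (hcon x hx hxU) with e | e
        · exact Or.inl e
        · exact Or.inr (Or.inl e)
      · have hsx : s * x ∈ U := h.omul s hsC x (hSC hx) hsU hxU
        rcases h.invol _ hsx (hcon _ ((S : Subgroup G).mul_mem hsS hx) hsx) with e | e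
        · exact Or.inr (Or.inr (Or.inl (by
            calc x = s * s * x := by rw [hs2, one_mul]
              _ = s := by rw [mul_assoc, e, mul_one])))
        · exact Or.inr (Or.inr (Or.inr (by
            calc x = s * s * x := by rw [hs2, one_mul]
              _ = s * u := by rw [mul_assoc, e])))
    have h4 : Nat.card (S : Subgroup G) ≤ 4 := by
      calc Nat.card (S : Subgroup G) = ((S : Subgroup G) : Set G).ncard := rfl
        _ ≤ (↑({1, u, s, s * u} : Finset G) : Set G).ncard :=
            Set.ncard_le_ncard hsub (Finset.finite_toSet _)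
        _ = ({1, u, s, s * u} : Finset G).card := Set.ncard_coe_finset _
        _ ≤ 4 := Finset.card_le_four
    omega
  have hinv : ∀ y ∈ Subgroup.centralizer ({u} : Set G), y ∉ U → ∀ x ∈ U, y * x * y⁻¹ = x⁻¹ := by
    intro y hyC hyU x hx
    have hyx : y * x ∉ U := fun h' => hyU (by simpa using U.mul_mem h' (U.inv_mem hx))
    have h1 := h.osq _ (mul_mem hyC (h.le hx)) hyx
    have h2 : y⁻¹ = y := inv_eq_of_mul_eq_one_right (h.osq y hyC hyU)
    rw [h2]
    exact eq_inv_of_mul_eq_one_left (by simpa [mul_assoc] using h1)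
  constructor
  · refine le_antisymm ((Subgroup.closure_le _).2 fun x hx => hx.1) fun x hx => ?_
    have key : ∀ y ∈ (S : Subgroup G), y ∉ U →
        y ∈ Subgroup.closure {x : G | x ∈ (S : Subgroup G) ∧ orderOf x = 2} := by
      intro y hy hyU
      refine Subgroup.subset_closure ⟨hy, orderOf_eq_prime ?_ fun h1 => hyU (h1 ▸ U.one_mem)⟩
      rw [pow_two, h.osq y (hSC hy) hyU]
    by_cases hxU : x ∈ U
    · have := key (s * x) ((S : Subgroup G).mul_mem hsS hx)
        (fun h' => hsU (by simpa using U.mul_mem h' (U.inv_mem hxU)))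
      simpa [← mul_assoc, hs2] using Subgroup.mul_mem _ (key s hsS hsU) this
    · exact key x hx hxU
  · refine le_antisymm (fun n hn => ?_) Subgroup.le_normalizer
    have hnconj : ∀ x ∈ (S : Subgroup G), n * x * n⁻¹ ∈ (S : Subgroup G) := fun x hx =>
      (Subgroup.mem_normalizer_iff.1 hn x).1 hx
    -- `n` centralizes `u`
    have hnu : n ∈ Subgroup.centralizer ({u} : Set G) := by
      set y : G := n * u * n⁻¹ with hy
      have hyS : y ∈ (S : Subgroup G) := hnconj u (c : (S : Subgroup G)).2
      have hycomm : ∀ x ∈ (S : Subgroup G), y * x = x * y := by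
        intro x hx
        have hx' : n⁻¹ * x * n ∈ (S : Subgroup G) :=
          (Subgroup.mem_normalizer_iff''.1 hn x).1 hx
        have := Subgroup.mem_centralizer_singleton_iff.1 (hSC hx')
        calc y * x = n * (u * (n⁻¹ * x * n)) * n⁻¹ := by rw [hy]; group
          _ = n * (n⁻¹ * x * n * u) * n⁻¹ := by rw [this]
          _ = x * y := by rw [hy]; group
      have hyU : y ∈ U := by
        by_contra hyU
        have h1 := hinv y (hSC hyS) hyU t htU
        rw [hycomm t htS, mul_inv_cancel_right] at h1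
        exact ht2 (by rw [← mul_eq_one_iff_eq_inv] at h1; exact h1)
      have hy2 : y * y = 1 := by
        calc y * y = n * (u * u) * n⁻¹ := by rw [hy]; group
          _ = 1 := by rw [h.sq]; simp
      rcases h.invol y hyU hy2 with e | e
      · exfalso
        apply h.ne
        calc u = n⁻¹ * y * n := by rw [hy]; group
          _ = 1 := by rw [e]; simp
      · rw [Subgroup.mem_centralizer_singleton_iff]
        exact (mul_inv_eq_iff_eq_mul.1 e)
    have hn2 : n * n ∈ (S : Subgroup G) := by
      by_cases hnU : n ∈ U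
      · have h1 : s * n⁻¹ * s⁻¹ = n := by
          rw [hinv s hsC hsU _ (U.inv_mem hnU), inv_inv]
        have h2 := (S : Subgroup G).mul_mem (hnconj s hsS) ((S : Subgroup G).inv_mem hsS)
        have h3 : n * n = n * s * n⁻¹ * s⁻¹ := by
          calc n * n = n * (s * n⁻¹ * s⁻¹) := by rw [h1]
            _ = n * s * n⁻¹ * s⁻¹ := by group
        rwa [h3]
      · rw [h.osq n hnu hnU]; exact one_mem _
    have hnp : IsPGroup 2 (Subgroup.zpowers n) := by
      obtain ⟨k, hk⟩ := S.isPGroup' ⟨n * n, hn2⟩
      have hk' : (n * n) ^ 2 ^ k = 1 := congrArg Subtype.val hk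
      intro y
      obtain ⟨j, hj⟩ := Subgroup.mem_zpowers_iff.1 y.2
      refine ⟨k + 1, Subtype.ext ?_⟩
      rw [Subgroup.coe_pow, ← hj, ← zpow_natCast, ← zpow_mul, mul_comm, zpow_mul, zpow_natCast,
        pow_succ', pow_mul, pow_two, hk', one_zpow]
      rfl
    have hsup : IsPGroup 2 ((S : Subgroup G) ⊔ Subgroup.zpowers n : Subgroup G) := by
      refine IsPGroup.to_sup_of_normal_left' S.isPGroup' hnp ?_
      exact Subgroup.zpowers_le.2 hn
    have := S.is_maximal' hsup le_sup_left
    exact this ▸ Subgroup.mem_sup_right (Subgroup.mem_zpowers n)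

end H89
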