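import Cfsg.Agent.H89.PSL3Two

/-!
Simplicity of a `2`-fusion system read off in a subgroup that carries the Sylow `2`-subgroup.
-/

set_option autoImplicit false

namespace H89

section

variable {H G : Type*} [Group H] [Group G] [Finite H] [Finite G]

/-- The image of a Sylow `2`-subgroup has odd index. -/
theorem odd_index_map_of (f : H →* G) (P : Sylow 2 H)
    (hinj : Function.Injective (f.comp (P : Subgroup H).subtype)) (k m : ℕ) (hm : Odd m)
    (hcard : k * Nat.card G = Nat.card H * m) : Odd ((P : Subgroup H).map f).index := by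
  haveI : Fact (Nat.Prime 2) := ⟨Nat.prime_two⟩
  set S0 := (P : Subgroup H).map f with hS0
  have hc : Nat.card S0 = Nat.card (P : Subgroup H) := by
    rw [hS0, ← Nat.card_congr (MonoidHom.ofInjective hinj).toEquiv.symm]
    congr 1
    rw [MonoidHom.range_comp, Subgroup.range_subtype]
  rw [← Subgroup.card_mul_index (P : Subgroup H), ← Subgroup.card_mul_index S0, hc] at hcard
  have hkey : k * S0.index = (P : Subgroup H).index * m := by
    refine Nat.eq_of_mul_eq_mul_left (Nat.card_pos (α := (P : Subgroup H))) ?_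
    linear_combination hcard
  have hodd : Odd (k * S0.index) := by
    rw [hkey]
    exact (Nat.not_even_iff_odd.mp fun he => P.not_dvd_index he.two_dvd).mul hm
  exact (Nat.odd_mul.mp hodd).2

/-- The simplicity criterion through an embedded Sylow `2`-subgroup. -/
theorem isSimple_two_of_embed (f : H →* G) (P : Sylow 2 H)
    (hinj : Function.Injective (f.comp (P : Subgroup H).subtype))
    (hidx : Odd ((P : Subgroup H).map f).index)
    (hne : Nontrivial (P : Subgroup H)) (hrig : OddRigid (P : Subgroup H))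
    (hconj : ∀ u w : (P : Subgroup H), orderOf u = 2 → orderOf w = 2 →
      ∃ g, g * f (u : H) * g⁻¹ = f (w : H))
    (hgen : ∀ T : Subgroup (P : Subgroup H),
      (∀ u : (P : Subgroup H), orderOf u = 2 → u ∈ T) →
      (∀ u ∈ T, ∀ v : (P : Subgroup H), (∃ g, g * f (u : H) * g⁻¹ = f (v : H)) → v ∈ T) →
      T = ⊤)
    (S : Sylow 2 G) :
    (Cfsg.groupFusionSystem (S : Subgroup G)).IsSimple 2 := by
  haveI : Fact (Nat.Prime 2) := ⟨Nat.prime_two⟩
  set f' := f.comp (P : Subgroup H).subtype with hf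
  set S0 := (P : Subgroup H).map f with hS0
  have hrange : f'.range = S0 := by rw [hf, MonoidHom.range_comp, Subgroup.range_subtype]
  let e : (P : Subgroup H) ≃* S0 :=
    (MonoidHom.ofInjective hinj).trans (MulEquiv.subgroupCongr hrange)
  refine H87.isSimple_two_of_sylow S0 (P.2.map _) hidx ?_
    (oddNormalizerTrivial_of_rigid (oddRigid_equiv e hrig)) (fun T hT hcl => ?_) S
  · intro h
    obtain ⟨u, hu⟩ := exists_ne (1 : (P : Subgroup H))
    refine hu (hinj ?_)
    have : (e u : G) ∈ (⊥ : Subgroup _) := h ▸ (e u).2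
    rw [map_one]
    exact Subgroup.mem_bot.mp this
  by_cases hT1 : T = ⊥
  · exact Or.inl hT1
  refine Or.inr (le_antisymm hT ?_)
  set T' := T.comap f' with hT'
  have hmem : ∀ u, f' u ∈ S0 := fun u => hrange ▸ ⟨u, rfl⟩
  have hfus : ∀ u ∈ T', ∀ v : (P : Subgroup H),
      (∃ g, g * f (u : H) * g⁻¹ = f (v : H)) → v ∈ T' := by
    rintro u hu v ⟨g, hg⟩
    have := hcl _ hu g
    rw [show f' u = f (u : H) from rfl, hg] at this
    exact this (hmem v)
  have hT'1 : T' ≠ ⊥ := by
    intro h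
    apply hT1
    rw [eq_bot_iff]
    intro t ht
    obtain ⟨u, hu⟩ : t ∈ f'.range := hrange.ge (hT ht)
    have : u ∈ T' := by rw [hT', Subgroup.mem_comap, hu]; exact ht
    rw [h, Subgroup.mem_bot] at this
    rw [Subgroup.mem_bot, ← hu, this, map_one]
  obtain ⟨k, hk⟩ := IsPGroup.iff_card.mp (P.2.to_subgroup T')
  have hk0 : k ≠ 0 := fun h0 => hT'1 (Subgroup.card_eq_one.mp (by rw [hk, h0, pow_zero]))
  obtain ⟨w, hw⟩ := exists_prime_orderOf_dvd_card' (G := T') 2 (hk ▸ dvd_pow_self 2 hk0)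
  have hwv : orderOf (w : (P : Subgroup H)) = 2 := by rwa [Subgroup.orderOf_coe]
  have htop : T' = ⊤ := hgen T' (fun u hu => hfus _ w.2 u (hconj _ u hwv hu)) hfus
  intro t ht
  obtain ⟨u, hu⟩ : t ∈ f'.range := hrange.ge ht
  have : u ∈ T' := htop ▸ Subgroup.mem_top u
  rw [hT', Subgroup.mem_comap, hu] at this
  exact this

end

/-- Generation in a semidihedral group. -/
theorem qd_generation {S : Type*} [Group S] {n : ℕ} {x y : S} (h : H67.QD n x y) (T : Subgroup S)
    (hinv : ∀ u : S, orderOf u = 2 → u ∈ T)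
    (hfour : ∀ u v : S, u ^ 2 = x ^ (2 * H67.qdQ n) → v ^ 2 = x ^ (2 * H67.qdQ n) → u ∈ T → v ∈ T) :
    T = ⊤ := by
  have hy : y ∈ T := hinv y h.ordy
  have hx2 : x ^ (2 : ℤ) ∈ T := by
    have := T.mul_mem (hinv _ (h.orderOf_y_form 2 dvd_rfl)) (T.inv_mem hy)
    simpa [mul_assoc] using this
  have hA : x ^ H67.qdQ n ∈ T := by
    obtain ⟨k, hk⟩ := h.q_two_dvd
    rw [hk, zpow_mul]
    exact T.zpow_mem hx2 k
  have hxy : x * y ∈ T := by
    refine hfour _ _ (h.sq_c_form _) ?_ hA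
    have := h.sq_y_form 1
    rwa [zpow_one, mul_one] at this
  have hx : x ∈ T := by simpa using T.mul_mem hxy (T.inv_mem hy)
  rw [eq_top_iff]
  intro g _
  rcases h.cases g with ⟨i, rfl⟩ | ⟨i, rfl⟩
  · exact T.zpow_mem hx i
  · exact T.mul_mem (T.zpow_mem hx i) hy

/-- Generation in a wreathed group. -/
theorem wr_generation {S : Type*} [Group S] {n : ℕ} {x y z : S} (h : H67.WR n x y z)
    (T : Subgroup S) (hinv : ∀ u : S, orderOf u = 2 → u ∈ T) (hcl : x * y⁻¹ ∈ T → x ∈ T) :
    T = ⊤ := by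
  have hzT : z ∈ T := hinv z h.ordz
  have hxy : x * y⁻¹ ∈ T := by
    have h2 := T.mul_mem (hinv _ (h.orderOf_ez 1 (-1) (by simp))) (T.inv_mem hzT)
    rwa [H67.wrElt, zpow_one, zpow_neg_one, mul_inv_cancel_right] at h2
  rw [eq_top_iff, ← h.closure_xz, Subgroup.closure_le]
  rintro g (rfl | rfl)
  · exact hcl hxy
  · exact hzT

section

variable {F : Type*} [Field F]

/-- In a semidihedral `2`-subgroup of `GL₂` containing `-1`, this is the central involution. -/
theorem qd_center_neg_one {G : Type*} [Group G] (ι : G →* GL (Fin 2) F)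
    (hι : Function.Injective ι) (h2 : (2 : F) ≠ 0) (e : G) (he : ι e = -1) {n : ℕ} {x y : G}
    (h : H67.QD n x y) : x ^ (2 * H67.qdQ n) = e := by
  have hm : e ∈ Subgroup.center G :=
    Subgroup.mem_center_iff.mpr fun g => hι (by rw [map_mul, map_mul, he]; simp)
  have he1 : e ≠ 1 := by
    intro e1
    rw [e1, map_one] at he
    have e' := congrArg (fun g : GL (Fin 2) F => (g : Matrix (Fin 2) (Fin 2) F) 0 0) he
    simp at e'
    exact h2 (by linear_combination e')
  rw [h.center_eq, Subgroup.mem_zpowers_iff] at hm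
  obtain ⟨k, hk⟩ := hm
  set c := x ^ (2 * H67.qdQ n) with hc
  have hc2 : c ^ (2 : ℤ) = 1 := by
    rw [zpow_two, ← pow_two]
    exact orderOf_dvd_iff_pow_eq_one.mp (by rw [hc, h.orderOf_c])
  rcases Int.even_or_odd k with ⟨l, hl⟩ | ⟨l, hl⟩
  · exfalso
    apply he1
    rw [hl, ← two_mul, zpow_mul, hc2, one_zpow] at hk
    exact hk.symm
  · rw [hl, zpow_add, zpow_mul, hc2, one_zpow, one_mul, zpow_one] at hk
    exact hk

/-- A central involution of the whole group lies in every Sylow `2`-subgroup. -/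
theorem mem_sylow_of_central_involution {G : Type*} [Group G] (P : Sylow 2 G) (e : G)
    (he : orderOf e = 2) (hcen : ∀ g : G, g * e = e * g) : e ∈ (P : Subgroup G) := by
  haveI : Fact (Nat.Prime 2) := ⟨Nat.prime_two⟩
  have hp : IsPGroup 2 (Subgroup.zpowers e) :=
    IsPGroup.of_card (n := 1) (by rw [Nat.card_zpowers, pow_one, he])
  have hn : (P : Subgroup G) ≤ Subgroup.normalizer (Subgroup.zpowers e : Set G) := by
    intro g _
    refine Subgroup.centralizer_le_normalizer _ (Subgroup.mem_centralizer_iff.mpr ?_)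
    rintro _ ⟨k, rfl⟩
    exact ((show Commute g e from hcen g).zpow_right k).eq.symm
  exact (P.is_maximal' (hp.to_sup_of_normal_left' P.2 hn) le_sup_right).le
    (Subgroup.mem_sup_left (Subgroup.mem_zpowers _))

/-- A wreathed Sylow `2`-subgroup with prescribed generators. -/
theorem exists_wr_sylow [Finite F] (H : Subgroup (GL (Fin 2) F)) (a m : ℕ) (ha : 2 ≤ a)
    (hm : Odd m) (hH : Nat.card H = 2 ^ (2 * a + 1) * m) (ω : Fˣ) (hω : orderOf ω = 2 ^ a)
    (hd : ∀ u ∈ Subgroup.zpowers ω, ∀ v ∈ Subgroup.zpowers ω, H67.diagHom F (u, v) ∈ H)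
    (hs : H67.swapGL F ∈ H) :
    ∃ (P : Sylow 2 H) (x y z : (P : Subgroup H)), H67.WR a x y z ∧
      ((x : H) : GL (Fin 2) F) = H67.diagHom F (ω, 1) ∧
      ((y : H) : GL (Fin 2) F) = H67.diagHom F (1, ω) := by
  haveI : Fact (Nat.Prime 2) := ⟨Nat.prime_two⟩
  set s : H := ⟨H67.swapGL F, hs⟩ with hsdef
  let D : Subgroup H :=
    (((Subgroup.zpowers ω).prod (Subgroup.zpowers ω)).map (H67.diagHom F)).comap H.subtype
  have hDp : IsPGroup 2 D := by
    have h1 : IsPGroup 2 ((Subgroup.zpowers ω).prod (Subgroup.zpowers ω)) :=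
      IsPGroup.of_card (n := a + a) (by
        rw [Nat.card_congr (Subgroup.prodEquiv _ _).toEquiv, Nat.card_prod, Nat.card_zpowers, hω,
          pow_add])
    exact (h1.map _).comap_of_injective H.subtype Subtype.val_injective
  have hsord : orderOf s = 2 := by rw [hsdef, Subgroup.orderOf_mk, H67.orderOf_swapGL]
  have hsp : IsPGroup 2 (Subgroup.zpowers s) :=
    IsPGroup.of_card (n := 1) (by rw [Nat.card_zpowers, hsord, pow_one])
  have hs2 : s * s = 1 := by
    rw [← pow_two]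
    exact orderOf_dvd_iff_pow_eq_one.mp (by rw [hsord])
  have key : ∀ g ∈ D, s * g * s⁻¹ ∈ D := by
    intro g hg
    obtain ⟨⟨u, v⟩, ⟨hu, hv⟩, huv⟩ := hg
    refine ⟨(v, u), ⟨hv, hu⟩, ?_⟩
    show H67.diagHom F (v, u) = H67.swapGL F * (g : GL (Fin 2) F) * (H67.swapGL F)⁻¹
    rw [← H67.swapGL_conj (u, v)]
    exact congrArg (fun w => H67.swapGL F * w * (H67.swapGL F)⁻¹) huv
  have hsN : Subgroup.zpowers s ≤ Subgroup.normalizer (D : Set H) := by
    rw [Subgroup.zpowers_le, Subgroup.mem_normalizer_iff]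
    intro g
    refine ⟨key g, fun hg => ?_⟩
    have := key _ hg
    rwa [inv_eq_of_mul_eq_one_right hs2, ← mul_assoc, ← mul_assoc, hs2, one_mul, mul_assoc, hs2,
      mul_one] at this
  obtain ⟨P, hP⟩ := (hsp.to_sup_of_normal_right' hDp hsN).exists_le_sylow
  have hx' : (⟨_, hd ω (Subgroup.mem_zpowers ω) 1 (one_mem _)⟩ : H) ∈ (P : Subgroup H) :=
    hP (Subgroup.mem_sup_right ⟨(ω, 1), ⟨Subgroup.mem_zpowers ω, one_mem _⟩, rfl⟩)
  have hy' : (⟨_, hd 1 (one_mem _) ω (Subgroup.mem_zpowers ω)⟩ : H) ∈ (P : Subgroup H) :=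
    hP (Subgroup.mem_sup_right ⟨(1, ω), ⟨one_mem _, Subgroup.mem_zpowers ω⟩, rfl⟩)
  have hz' : s ∈ (P : Subgroup H) := hP (Subgroup.mem_sup_left (Subgroup.mem_zpowers s))
  refine ⟨P, ⟨_, hx'⟩, ⟨_, hy'⟩, ⟨_, hz'⟩, ⟨ha, ?_, ?_, ?_, ?_, ?_, ?_⟩, rfl, rfl⟩
  · rw [Sylow.card_eq_multiplicity, hH]
    congr 1
    rw [Nat.factorization_mul (by positivity) hm.pos.ne', Finsupp.add_apply,
      Nat.Prime.factorization_pow Nat.prime_two, Finsupp.single_eq_same,
      Nat.factorization_eq_zero_of_not_dvd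
        (fun hd' => Nat.not_even_iff_odd.mpr hm (even_iff_two_dvd.mpr hd')),
      add_zero]
  · rw [Subgroup.orderOf_mk, Subgroup.orderOf_mk, orderOf_injective _ (H67.diagHom_injective F),
      Prod.orderOf, hω, orderOf_one, Nat.lcm_one_right]
  · apply Subtype.ext; apply Subtype.ext
    show H67.diagHom F (ω, 1) * H67.diagHom F (1, ω) = H67.diagHom F (1, ω) * H67.diagHom F (ω, 1)
    rw [← map_mul, ← map_mul, mul_comm]
  · rw [Subgroup.eq_bot_iff_forall]
    rintro v ⟨⟨i, hi⟩, ⟨j, hj⟩⟩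
    have e1 : H67.diagHom F ((ω, (1 : Fˣ)) ^ i) = H67.diagHom F (((1 : Fˣ), ω) ^ j) := by
      rw [map_zpow, map_zpow]
      simpa using congrArg (fun w : (P : Subgroup H) => ((w : H) : GL (Fin 2) F)) (hi.trans hj.symm)
    have e2 := congrArg Prod.fst (H67.diagHom_injective F e1)
    simp at e2
    rw [← hi]
    apply Subtype.ext; apply Subtype.ext
    simp only [SubgroupClass.coe_zpow, Subgroup.coe_one]
    rw [← map_zpow, Prod.pow_mk, one_zpow, e2]
    exact map_one _
  · rw [Subgroup.orderOf_mk, hsord]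
  · exact Subtype.ext (Subtype.ext (H67.swapGL_conj (ω, 1)))

/-- A matrix with two independent columns `v, Mv` and square `-1` is conjugate to the rotation. -/
theorem gl2_sq_neg_one' {A : GL (Fin 2) F}
    (hA : (A : Matrix (Fin 2) (Fin 2) F) * (A : Matrix (Fin 2) (Fin 2) F) = -1)
    (hns : (A : Matrix (Fin 2) (Fin 2) F) 1 0 ≠ 0 ∨ (A : Matrix (Fin 2) (Fin 2) F) 0 1 ≠ 0) :
    ∃ h : GL (Fin 2) F, (A : Matrix (Fin 2) (Fin 2) F) * (h : Matrix (Fin 2) (Fin 2) F) =
      (h : Matrix (Fin 2) (Fin 2) F) * !![0, -1; 1, 0] := by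
  set M := (A : Matrix (Fin 2) (Fin 2) F) with hM
  have e00 := congrFun (congrFun hA 0) 0
  have e01 := congrFun (congrFun hA 0) 1
  have e10 := congrFun (congrFun hA 1) 0
  have e11 := congrFun (congrFun hA 1) 1
  simp [Matrix.mul_apply, Fin.sum_univ_two] at e00 e01 e10 e11
  rcases hns with hc | hb
  · refine ⟨Matrix.GeneralLinearGroup.mkOfDetNeZero !![1, M 0 0; 0, M 1 0] ?_, ?_⟩
    · rw [Matrix.det_fin_two_of]
      simpa using hc
    · ext i j
      fin_cases i <;> fin_cases j <;>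
        simp [Matrix.GeneralLinearGroup.mkOfDetNeZero, Matrix.mul_apply, Fin.sum_univ_two]
      · linear_combination e00
      · linear_combination e10
  · refine ⟨Matrix.GeneralLinearGroup.mkOfDetNeZero !![0, M 0 1; 1, M 1 1] ?_, ?_⟩
    · rw [Matrix.det_fin_two_of]
      simpa using hb
    · ext i j
      fin_cases i <;> fin_cases j <;>
        simp [Matrix.GeneralLinearGroup.mkOfDetNeZero, Matrix.mul_apply, Fin.sum_univ_two]
      · linear_combination e01
      · linear_combination e11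

end

end H89
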