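import Cfsg.Prelude.Def_FusionComponents
import Cfsg.Agent.H86.Basic

/-!
The factor system read through an arbitrary homomorphism (after the proof of S5132).
-/
set_option autoImplicit false
set_option linter.unusedSectionVars false

open Cfsg

namespace H89

variable {Ω : Type*} [Group Ω] {S : Subgroup Ω} [Finite S] {Ω' : Type*} [Group Ω']

/-- The factor system through any homomorphism with strongly closed kernel exists. -/
theorem exists_factor_range (F : Cfsg.FusionSystem S) {S₀ : Subgroup Ω}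
    (hS₀ : F.StronglyClosed S₀) (θ : S →* Ω') (hker : ∀ s : S, θ s = 1 ↔ (s : Ω) ∈ S₀) :
    ∃ E : Cfsg.FusionSystem θ.range, F.IsFactorSystem S₀ θ E := by
  classical
  have hle : ∀ P' : Subgroup Ω', Cfsg.FusionSystem.preimageAlong θ P' ≤ S :=
    fun P' => Subgroup.map_subtype_le _
  have hmem : ∀ (P' : Subgroup Ω') (x : S),
      (x : Ω) ∈ Cfsg.FusionSystem.preimageAlong θ P' ↔ θ x ∈ P' := by
    intro P' x
    constructor
    · rintro ⟨s, hs, hsx⟩
      rw [← Subtype.ext hsx]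
      exact hs
    · exact fun h => ⟨x, h, rfl⟩
  refine ⟨
    { Hom := fun P' => {φ' | P' ≤ θ.range ∧
        ∃ φ ∈ F.Hom (Cfsg.FusionSystem.preimageAlong θ P'), Cfsg.FusionSystem.InducedAlong θ φ φ'}
      le_of_mem := fun {P' φ'} h => ?_
      injective_of_mem := ?_
      conj_mem := ?_
      comp_mem := ?_
      inv_mem := ?_ }, hS₀.1, hker, rfl, fun P' φ' => Iff.rfl⟩
  · obtain ⟨hP'r, φ, hφ, hP, hφS, hP', he⟩ := h
    refine ⟨hP'r, fun y => ?_⟩
    obtain ⟨s, hs⟩ := hP'r y.2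
    have hsP : (s : Ω) ∈ Cfsg.FusionSystem.preimageAlong θ P' := by
      rw [hmem, hs]
      exact y.2
    refine ⟨⟨φ ⟨s, hsP⟩, hφS _⟩, ?_⟩
    rw [← he ⟨s, hsP⟩]
    exact congrArg φ' (Subtype.ext hs)
  · rintro P' φ' ⟨hP'r, φ, hφ, hP, hφS, hP', he⟩
    refine (injective_iff_map_eq_one φ').mpr fun y hy => ?_
    obtain ⟨s, hs⟩ := hP'r y.2
    have hsP : (s : Ω) ∈ Cfsg.FusionSystem.preimageAlong θ P' := by
      rw [hmem, hs]
      exact y.2
    have h1 := he ⟨s, hsP⟩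
    have h2 : (⟨θ ⟨(s : Ω), hP hsP⟩, hP' ⟨s, hsP⟩⟩ : P') = y := Subtype.ext hs
    rw [h2, hy] at h1
    have h3 : φ ⟨s, hsP⟩ ∈ S₀ := (hker _).mp h1.symm
    have hS₀P : S₀ ≤ Cfsg.FusionSystem.preimageAlong θ P' := by
      intro z hz
      refine (hmem P' ⟨z, hS₀.1 hz⟩).mpr ?_
      rw [(hker _).mpr hz]
      exact one_mem _
    have : Finite S₀ := H86.finite_of_le hS₀.1
    have h4 := H86.restrict_mem F hS₀P hφ
    have h5 : (φ.comp (Subgroup.inclusion hS₀P)).range = S₀ :=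
      H86.range_eq_self_of_le F h4 (by rintro _ ⟨z, rfl⟩; exact hS₀.2 S₀ le_rfl _ h4 z)
    obtain ⟨z, hz⟩ := h5.ge h3
    have h6 := congrArg Subtype.val (F.injective_of_mem hφ hz)
    have h7 : (s : Ω) ∈ S₀ := by
      rw [← show (z : Ω) = (s : Ω) from h6]
      exact z.2
    refine Subtype.ext ?_
    rw [← hs]
    exact (hker s).mpr h7
  · intro P' g' hP'' hg'
    obtain ⟨g, rfl⟩ := hg'
    refine ⟨hP'', _, F.conj_mem (hle P') g.2, hle P',
      fun x => S.mul_mem (S.mul_mem g.2 (hle P' x.2)) (S.inv_mem g.2),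
      fun x => (hmem P' ⟨x, hle P' x.2⟩).mp x.2, fun x => ?_⟩
    show θ g * θ ⟨x, hle P' x.2⟩ * (θ g)⁻¹ = θ ⟨g * x * (g : Ω)⁻¹, _⟩
    rw [← map_inv, ← map_mul, ← map_mul]
    rfl
  · rintro P' Q' φ' ψ' ⟨hP'r, φ, hφ, hP, hφS, hP', he⟩ ⟨-, ψ, hψ, hQ, hψS, hQ', ke⟩ h
    have hc : ∀ x, φ x ∈ Cfsg.FusionSystem.preimageAlong θ Q' := by
      intro x
      refine (hmem Q' ⟨φ x, hφS x⟩).mpr ?_
      rw [← he x]
      exact h _
    refine ⟨hP'r, _, F.comp_mem hφ hψ hc, hP, fun x => hψS ⟨φ x, hc x⟩, hP', fun x => ?_⟩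
    show ψ' ⟨φ' ⟨θ ⟨x, hP x.2⟩, hP' x⟩, h _⟩ = θ ⟨ψ ⟨φ x, hc x⟩, _⟩
    rw [← ke ⟨φ x, hc x⟩]
    congr 1
    exact Subtype.ext (he x)
  · rintro P' φ' ⟨hP'r, φ, hφ, hP, hφS, hP', he⟩
    have hinj : Function.Injective φ' := by
      refine (injective_iff_map_eq_one φ').mpr fun y hy => ?_
      obtain ⟨s, hs⟩ := hP'r y.2
      have hsP : (s : Ω) ∈ Cfsg.FusionSystem.preimageAlong θ P' := by
        rw [hmem, hs]
        exact y.2
      have h1 := he ⟨s, hsP⟩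
      have h2 : (⟨θ ⟨(s : Ω), hP hsP⟩, hP' ⟨s, hsP⟩⟩ : P') = y := Subtype.ext hs
      rw [h2, hy] at h1
      have h3 : φ ⟨s, hsP⟩ ∈ S₀ := (hker _).mp h1.symm
      have hS₀P : S₀ ≤ Cfsg.FusionSystem.preimageAlong θ P' := by
        intro z hz
        refine (hmem P' ⟨z, hS₀.1 hz⟩).mpr ?_
        rw [(hker _).mpr hz]
        exact one_mem _
      have : Finite S₀ := H86.finite_of_le hS₀.1
      have h4 := H86.restrict_mem F hS₀P hφ
      have h5 : (φ.comp (Subgroup.inclusion hS₀P)).range = S₀ :=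
        H86.range_eq_self_of_le F h4 (by rintro _ ⟨z, rfl⟩; exact hS₀.2 S₀ le_rfl _ h4 z)
      obtain ⟨z, hz⟩ := h5.ge h3
      have h6 := congrArg Subtype.val (F.injective_of_mem hφ hz)
      have h7 : (s : Ω) ∈ S₀ := by
        rw [← show (z : Ω) = (s : Ω) from h6]
        exact z.2
      refine Subtype.ext ?_
      rw [← hs]
      exact (hker s).mpr h7
    obtain ⟨ψ, hψ, hψe⟩ := F.inv_mem hφ
    have hr : Cfsg.FusionSystem.preimageAlong θ φ'.range ≤ φ.range := by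
      rintro _ ⟨s, ⟨y, hy⟩, rfl⟩
      obtain ⟨t, ht⟩ := hP'r y.2
      have htP : (t : Ω) ∈ Cfsg.FusionSystem.preimageAlong θ P' := by
        rw [hmem, ht]
        exact y.2
      have h1 := he ⟨t, htP⟩
      have h2 : (⟨θ ⟨(t : Ω), hP htP⟩, hP' ⟨t, htP⟩⟩ : P') = y := Subtype.ext ht
      rw [h2, hy] at h1
      have h3 : ((φ ⟨t, htP⟩)⁻¹ * (s : Ω)) ∈ S₀ := by
        refine (hker (⟨φ ⟨t, htP⟩, hφS _⟩⁻¹ * s)).mp ?_
        rw [map_mul, map_inv, h1, inv_mul_cancel]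
      have hS₀P : S₀ ≤ Cfsg.FusionSystem.preimageAlong θ P' := by
        intro z hz
        refine (hmem P' ⟨z, hS₀.1 hz⟩).mpr ?_
        rw [(hker _).mpr hz]
        exact one_mem _
      have : Finite S₀ := H86.finite_of_le hS₀.1
      have h4 := H86.restrict_mem F hS₀P hφ
      have h5 : (φ.comp (Subgroup.inclusion hS₀P)).range = S₀ :=
        H86.range_eq_self_of_le F h4 (by rintro _ ⟨z, rfl⟩; exact hS₀.2 S₀ le_rfl _ h4 z)
      obtain ⟨z, hz⟩ := h5.ge h3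
      refine ⟨⟨t, htP⟩ * Subgroup.inclusion hS₀P z, ?_⟩
      rw [map_mul]
      show φ ⟨t, htP⟩ * (φ.comp (Subgroup.inclusion hS₀P)) z = s
      rw [hz, mul_inv_cancel_left]
    have hrr : φ'.range ≤ θ.range := by
      rintro _ ⟨y, rfl⟩
      obtain ⟨s, hs⟩ := hP'r y.2
      have hsP : (s : Ω) ∈ Cfsg.FusionSystem.preimageAlong θ P' := by
        rw [hmem, hs]
        exact y.2
      refine ⟨⟨φ ⟨s, hsP⟩, hφS _⟩, ?_⟩
      rw [← he ⟨s, hsP⟩]
      exact congrArg φ' (Subtype.ext hs)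
    let e : P' ≃* φ'.range := MonoidHom.ofInjective hinj
    refine ⟨P'.subtype.comp e.symm.toMonoidHom,
      ⟨hrr, _, H86.restrict_mem F hr hψ, hle _, fun x => (F.le_of_mem hψ).2 _,
        fun x => (hmem _ ⟨x, hle _ x.2⟩).mp x.2, fun x => ?_⟩, fun y => ?_⟩
    · obtain ⟨w, hw⟩ := hr x.2
      have hx : (⟨(x : Ω), hr x.2⟩ : φ.range) = ⟨φ w, ⟨w, rfl⟩⟩ := Subtype.ext hw.symm
      have h1 : (ψ.comp (Subgroup.inclusion hr)) x = (w : Ω) := by
        show ψ ⟨(x : Ω), hr x.2⟩ = _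
        rw [hx, hψe]
      have h3 : (⟨θ ⟨x, hle _ x.2⟩, (hmem _ ⟨x, hle _ x.2⟩).mp x.2⟩ : φ'.range) =
          e ⟨θ ⟨w, hP w.2⟩, hP' w⟩ := by
        apply Subtype.ext
        show θ _ = φ' _
        rw [he w]
        exact congrArg θ (Subtype.ext hw.symm)
      show ((e.symm _ : P') : Ω') = _
      rw [h3, e.symm_apply_apply]
      exact congrArg θ (Subtype.ext h1.symm)
    · show ((e.symm (e y) : P') : Ω') = y
      rw [e.symm_apply_apply]

end H89
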