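import Cfsg.Prelude.Def_FusionFitting
import Cfsg.Agent.H89.Components
import Cfsg.Agent.H87.ComponentCentralize
import Cfsg.Agent.H87.CentralizerNormal
import Cfsg.Agent.H87.QuasisimpleBasic

/-!
A saturated system is constrained iff the inner system of its largest normal subgroup is a
generalized Fitting subsystem.
-/
set_option autoImplicit false
set_option linter.style.haveILetI false
set_option linter.unusedSectionVars false

open Cfsg Cfsg.FusionSystem

namespace H89

universe u

variable {Ω : Type u} [Group Ω] {S : Subgroup Ω}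

/-- The inner system of `Q × 1` is the product of the inner systems of `Q` and of `1`. -/
theorem inner_prod_bot_isProduct (Q : Subgroup Ω) :
    IsProductSystem (innerFusionSystem Q) (innerFusionSystem (⊥ : Subgroup Ω))
      (innerFusionSystem (Q.prod ⊥)) := by
  intro P φ
  constructor
  · rintro ⟨hP, g, hg, he⟩
    refine ⟨hP, conjHom _ g.1, ⟨?_, g.1, hg.1, fun _ => rfl⟩, conjHom _ g.2,
      ⟨?_, g.2, hg.2, fun _ => rfl⟩, fun x h₁ h₂ => he x⟩
    · rintro _ ⟨y, hy, rfl⟩
      exact (hP hy).1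
    · rintro _ ⟨y, hy, rfl⟩
      exact (hP hy).2
  · rintro ⟨hP, φ₁, ⟨-, a, ha, h1⟩, φ₂, ⟨-, b, hb, h2⟩, he⟩
    refine ⟨hP, (a, b), ⟨ha, hb⟩, fun x => ?_⟩
    rw [he x ⟨x, x.2, rfl⟩ ⟨x, x.2, rfl⟩, h1, h2]
    rfl

/-- `inner Q` is the central product of `inner Q` and the trivial system. -/
theorem inner_centralProduct_bot (Q : Subgroup Ω) :
    IsCentralProductOf (innerFusionSystem Q) (innerFusionSystem (⊥ : Subgroup Ω))
      (innerFusionSystem Q) := by
  let θ : ↥(Q.prod (⊥ : Subgroup Ω)) →* Ω :=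
    (MonoidHom.fst Ω Ω).comp (Q.prod (⊥ : Subgroup Ω)).subtype
  refine ⟨_, inner_prod_bot_isProduct Q, ⊥, θ, bot_le, bot_inf_eq _, bot_inf_eq _,
    fun x hx => rfl, fun y hy => (Subgroup.mem_bot.1 hy.2).symm, bot_le, fun s => ?_, ?_, ?_⟩
  · rw [Subgroup.mem_bot]
    exact ⟨fun h => Prod.ext h (Subgroup.mem_bot.1 s.2.2), fun h => congrArg Prod.fst h⟩
  · refine le_antisymm ?_ fun x hx => ⟨⟨(x, 1), hx, rfl⟩, rfl⟩
    rintro _ ⟨s, rfl⟩
    exact s.2.1
  · intro P' φ'
    constructor
    · rintro ⟨hP, g, hg, he⟩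
      have hle : preimageAlong θ P' ≤ Q.prod ⊥ := by
        rintro _ ⟨s, -, rfl⟩
        exact s.2
      refine ⟨hP, conjHom _ (g, 1), ⟨hle, (g, 1), ⟨hg, rfl⟩, fun _ => rfl⟩, hle,
        fun x => ?_, fun x => ?_, fun x => ?_⟩
      · exact (Q.prod ⊥).mul_mem ((Q.prod ⊥).mul_mem ⟨hg, rfl⟩ (hle x.2))
          ((Q.prod ⊥).inv_mem ⟨hg, rfl⟩)
      · obtain ⟨s, hs, hsx⟩ := x.2
        have hsx' : s = ⟨x, hle x.2⟩ := Subtype.ext hsx
        exact hsx' ▸ hs
      · exact he _
    · rintro ⟨hP, φ, ⟨-, g, hg, hφ⟩, hA, hB, hC, he⟩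
      refine ⟨hP, g.1, hg.1, fun y => ?_⟩
      let x : ↥(preimageAlong θ P') := ⟨((y : Ω), 1), ⟨((y : Ω), 1), hP y.2, rfl⟩, y.2, rfl⟩
      have h := he x
      rw [show (⟨θ ⟨(x : Ω × Ω), hA x.2⟩, hC x⟩ : P') = y from Subtype.ext rfl] at h
      rw [h]
      exact congrArg Prod.fst (hφ x)

variable [Finite S] {p : ℕ} [Fact p.Prime]

/-- Every component lies over a subgroup centralizing the largest normal subgroup. -/
theorem component_base_le_centralizer (hS : IsPGroup p S) {F : FusionSystem S} {T : Subgroup Ω}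
    {C : FusionSystem T} (hC : C.IsComponentIn F p) : T ≤ centralizerIn S F.core :=
  fun _ ht => ((H87.component_centralizes hS hC (core_isNormal F) T
    (H85.id_mem C le_rfl)).2.1 ht)

/-- A saturated system is constrained iff the inner system of its largest normal subgroup is a
generalized Fitting subsystem. -/
theorem constrained_iff_fitting_inner (hS : IsPGroup p S) {F : FusionSystem S}
    (hF : F.IsSaturated p) :
    F.IsConstrained p ↔ (innerFusionSystem F.core).IsGeneralizedFittingOf F p := by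
  refine ⟨fun hc => ?_, ?_⟩
  · refine ⟨⊥, innerFusionSystem ⊥,
      ⟨H87.isNormalIn_inner hS hF (H86.isNormal_bot F),
        fun U C hC => absurd hC (not_component_of_constrained hS hc C),
        ?_⟩, inner_centralProduct_bot _⟩
    rintro R D hD - P φ ⟨hP, g, hg, he⟩
    exact H85.hom_congr (D.conj_mem (hP.trans bot_le) ((bot_le : ⊥ ≤ R) hg)) fun x => (he x).symm
  · rintro ⟨T, E, ⟨-, hall, -⟩, D₀, -, Z, θ, -, -, -, -, hy, -, -, hr, -⟩
    refine (constrained_iff_no_component hS hF).2 ?_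
    rintro ⟨U, C, hC⟩
    have hUT : U ≤ T := H85.source_le (hall U C hC U (H85.id_mem C le_rfl))
    have hTQ : T ≤ F.core := fun t ht => hr.le ⟨⟨(1, t), one_mem _, ht⟩, hy t _⟩
    have hUS : U ≤ S := fun u hu =>
      ((component_base_le_centralizer hS hC) hu).1
    haveI : Finite U := H85.finite_of_le hUS
    refine H87.not_isMulCommutative_of_quasisimple (hS.to_le hUS) C hC.2 ⟨⟨fun a b => ?_⟩⟩
    exact Subtype.ext ((H85.mem_centralizerIn.1 (component_base_le_centralizer hS hC a.2)).2 _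
      (hTQ (hUT b.2))).symm

end H89
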