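import Mathlib
import Cfsg.Agent.H31.KulakoffTwo
import Cfsg.Agent.H6.Transfer
import Cfsg.Agent.H30.Basic

/-!
# A four-group acting on a perfect group with all fixed point groups of 2-rank one

If a four-group `U` acts on the perfect finite group `A` so that no `C_A(u)`, `1 ≠ u ∈ U`, contains two
distinct commuting involutions, then neither does `A`.  (The Sylow 2-subgroup would be of maximal class,
and then an involution would be conjugate to a different one which is the only square involution.)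
-/

set_option autoImplicit false
set_option linter.style.haveILetI false

namespace H89

namespace GammaOne

open Subgroup
open scoped commutatorElement

/-- A subgroup of index two contains the commutator of any two elements. -/
theorem commutatorElement_mem_of_index_two {A : Type*} [Group A] {M : Subgroup A} (hM : M.index = 2)
    (x y : A) : ⁅x, y⁆ ∈ M := by
  rw [commutatorElement_def, mul_mem_iff_of_index_two hM, mul_mem_iff_of_index_two hM,
    mul_mem_iff_of_index_two hM, inv_mem_iff, inv_mem_iff]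
  tauto

/-- In a finite cyclic 2-group generated by `c`, the element `g` of order four. -/
theorem four_unique {Y : Type*} [Group Y] {c g x : Y} {k : ℕ} (hc : orderOf c = 2 ^ (k + 2))
    (hg : g = c ^ (2 ^ k)) (hx : x ∈ zpowers c) (hx4 : x ^ 4 = 1) :
    x = 1 ∨ x = g ∨ x = g ^ 2 ∨ x = g⁻¹ := by
  obtain ⟨i, rfl⟩ := mem_zpowers_iff.1 hx
  have h1 : ((2 : ℤ) ^ (k + 2)) ∣ i * 4 := by
    have h2 : c ^ (i * 4) = 1 := by rw [zpow_mul]; exact_mod_cast hx4
    have h3 := orderOf_dvd_iff_zpow_eq_one.2 h2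
    rw [hc] at h3
    exact_mod_cast h3
  obtain ⟨j, rfl⟩ : ((2 : ℤ) ^ k) ∣ i := by
    rw [show (2 : ℤ) ^ (k + 2) = 2 ^ k * 4 by ring] at h1
    exact (mul_dvd_mul_iff_right (by norm_num : (4 : ℤ) ≠ 0)).1 h1
  have hgi : c ^ ((2 : ℤ) ^ k * j) = g ^ j := by
    rw [hg, ← zpow_natCast, ← zpow_mul]; norm_num
  have hg4 : g ^ (4 : ℤ) = 1 := by
    rw [hg, show (4 : ℤ) = ((4 : ℕ) : ℤ) by norm_num, zpow_natCast, ← pow_mul,
      show 2 ^ k * 4 = 2 ^ (k + 2) by ring, ← hc, pow_orderOf_eq_one]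
  rw [hgi, show j = 4 * (j / 4) + j % 4 from (Int.mul_ediv_add_emod j 4).symm, zpow_add, zpow_mul, hg4,
    one_zpow, one_mul]
  rcases (show j % 4 = 0 ∨ j % 4 = 1 ∨ j % 4 = 2 ∨ j % 4 = 3 by omega) with h | h | h | h <;> rw [h]
  · left; exact zpow_zero g
  · right; left; exact zpow_one g
  · right; right; left; norm_cast
  · right; right; right
    rw [show (3 : ℤ) = -1 + 4 by norm_num, zpow_add, hg4, mul_one, zpow_neg_one]

/-- The main lemma. -/
theorem commuting_involutions_eq {Y : Type*} [Group Y] [Finite Y] (A U : Subgroup Y) [A.Normal]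
    (hU4 : Nat.card U = 4) (hUsq : ∀ u ∈ U, u * u = 1) (hAU : A ⊔ U = ⊤) (hperf : ⁅A, A⁆ = A)
    (hfix : ∀ u ∈ U, u ≠ 1 → ∀ x ∈ A, ∀ y ∈ A, orderOf x = 2 → orderOf y = 2 →
      u * x = x * u → u * y = y * u → x * y = y * x → x = y) :
    ∀ x ∈ A, ∀ y ∈ A, orderOf x = 2 → orderOf y = 2 → x * y = y * x → x = y := by
  classical
  haveI : Fact (Nat.Prime 2) := ⟨Nat.prime_two⟩
  by_contra hcon
  push Not at hcon
  obtain ⟨x₀, hx₀, y₀, hy₀, hxo, hyo, hxy₀, hne₀⟩ := hcon
  have hUcomm : ∀ u ∈ U, ∀ v ∈ U, u * v = v * u := by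
    intro u hu v hv
    have h := hUsq _ (mul_mem hu hv)
    have hu' : u⁻¹ = u := inv_eq_of_mul_eq_one_right (hUsq u hu)
    have hv' : v⁻¹ = v := inv_eq_of_mul_eq_one_right (hUsq v hv)
    calc u * v = (u * v)⁻¹ := (inv_eq_of_mul_eq_one_right h).symm
      _ = v * u := by rw [mul_inv_rev, hu', hv']
  have hUp : IsPGroup 2 U := IsPGroup.of_card (n := 2) (by rw [hU4]; norm_num)
  obtain ⟨R, hR⟩ := hUp.exists_le_sylow
  set P : Subgroup Y := (R : Subgroup Y) ⊓ A with hPdef
  have hPR : P ≤ (R : Subgroup Y) := inf_le_left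
  have hPA : P ≤ A := inf_le_right
  have hPp : IsPGroup 2 P := R.isPGroup'.to_le hPR
  have hPinv : ∀ r ∈ (R : Subgroup Y), ∀ p ∈ P, r * p * r⁻¹ ∈ P := fun r hr p hp =>
    ⟨(R : Subgroup Y).mul_mem ((R : Subgroup Y).mul_mem hr hp.1) ((R : Subgroup Y).inv_mem hr), Normal.conj_mem inferInstance p hp.2 r⟩
  -- two commuting involutions inside `P`
  obtain ⟨x₁, hx₁, y₁, hy₁, hx₁o, hy₁o, hxy₁, hne₁⟩ : ∃ x ∈ P, ∃ y ∈ P,
      orderOf x = 2 ∧ orderOf y = 2 ∧ x * y = y * x ∧ x ≠ y := by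
    have hp : ∀ z : Y, orderOf z = 2 → IsPGroup 2 (zpowers z) := fun z hz =>
      IsPGroup.of_card (n := 1) (by rw [Nat.card_zpowers, hz, pow_one])
    have hnorm : zpowers y₀ ≤ normalizer (zpowers x₀ : Set Y) := by
      refine le_trans ?_ (centralizer_le_normalizer _)
      rw [zpowers_le]
      intro w hw
      obtain ⟨i, rfl⟩ := mem_zpowers_iff.1 hw
      exact ((show Commute y₀ x₀ from hxy₀.symm).zpow_right i).eq.symm
    obtain ⟨R₁, hR₁⟩ := ((hp x₀ hxo).to_sup_of_normal_left' (hp y₀ hyo) hnorm).exists_le_sylow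
    obtain ⟨g, hg⟩ := MulAction.exists_smul_eq Y R₁ R
    have hin : ∀ w ∈ zpowers x₀ ⊔ zpowers y₀, w ∈ A → g * w * g⁻¹ ∈ P := fun w hw hwA => by
      refine ⟨?_, Normal.conj_mem inferInstance w hwA g⟩
      rw [← hg]
      show g * w * g⁻¹ ∈ ((g • R₁ : Sylow 2 Y) : Subgroup Y)
      rw [Sylow.coe_subgroup_smul]
      exact ⟨w, hR₁ hw, rfl⟩
    refine ⟨g * x₀ * g⁻¹, hin _ (mem_sup_left (mem_zpowers _)) hx₀, g * y₀ * g⁻¹,
      hin _ (mem_sup_right (mem_zpowers _)) hy₀, ?_, ?_, ?_, ?_⟩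
    · rw [← hxo]; exact (MulAut.conj g).orderOf_eq x₀
    · rw [← hyo]; exact (MulAut.conj g).orderOf_eq y₀
    · calc g * x₀ * g⁻¹ * (g * y₀ * g⁻¹) = g * (x₀ * y₀) * g⁻¹ := by group
        _ = g * (y₀ * x₀) * g⁻¹ := by rw [hxy₀]
        _ = _ := by group
    · exact fun h => hne₀ (mul_left_cancel (mul_right_cancel h))
  -- a central involution
  obtain ⟨z, hzP, hzo, hzc⟩ : ∃ z ∈ P, orderOf z = 2 ∧ ∀ r ∈ (R : Subgroup Y), r * z = z * r := by
    set C : Subgroup (R : Subgroup Y) := P.subgroupOf R with hC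
    have hCn : C.Normal := ⟨fun p hp r => hPinv r r.2 p hp⟩
    have hCne : C ≠ ⊥ := fun h => by
      have h' : (⟨x₁, hPR hx₁⟩ : (R : Subgroup Y)) ∈ C := hx₁
      rw [h, mem_bot, Subtype.ext_iff] at h'
      rw [show x₁ = 1 from h', orderOf_one] at hx₁o
      exact (show (1 : ℕ) ≠ 2 by norm_num) hx₁o.symm.symm
    have hne := H30.inf_center_ne_bot R.isPGroup' hCn hCne
    obtain ⟨w, hw⟩ := exists_prime_orderOf_dvd_card' (G := ↥(C ⊓ center (R : Subgroup Y))) 2 (by
      rcases (R.isPGroup'.to_subgroup (C ⊓ center (R : Subgroup Y))).card_eq_or_dvd with h | h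
      · exact absurd (card_eq_one.1 h) hne
      · exact h)
    refine ⟨((w : (R : Subgroup Y)) : Y), w.2.1, ?_, ?_⟩
    · rw [Subgroup.orderOf_coe, Subgroup.orderOf_coe]; exact hw
    · intro r hr
      exact congrArg Subtype.val (mem_center_iff.1 w.2.2 ⟨r, hr⟩)
  have hz2 : z * z = 1 := by rw [← pow_two, ← hzo, pow_orderOf_eq_one]
  have hzA : z ∈ A := hPA hzP
  -- the free action
  have hfree : ∀ a ∈ P, orderOf a = 2 → a ≠ z → ∀ u ∈ U, u * a = a * u → u = 1 := by
    intro a ha hao haz u hu hua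
    by_contra hu1
    exact haz (hfix u hu hu1 a (hPA ha) z hzA hao hzo hua (hzc u (hR hu)) (hzc a (hPR ha)))
  obtain ⟨a, haP, hao, haz⟩ : ∃ a ∈ P, orderOf a = 2 ∧ a ≠ z := by
    rcases eq_or_ne x₁ z with h | h
    · exact ⟨y₁, hy₁, hy₁o, fun h' => hne₁ (h.trans h'.symm)⟩
    · exact ⟨x₁, hx₁, hx₁o, h⟩
  have ha2 : a * a = 1 := by rw [← pow_two, ← hao, pow_orderOf_eq_one]
  -- `P` is of maximal class
  obtain ⟨n, hn⟩ := IsPGroup.iff_card.1 hPp
  have hnc : ¬ IsCyclic P := by
    intro hcyc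
    haveI : Fintype P := Fintype.ofFinite _
    have h1 := IsCyclic.card_pow_eq_one_le (α := P) (n := 2) two_pos
    have hs : ({1, ⟨a, haP⟩, ⟨z, hzP⟩} : Finset P) ⊆
        Finset.univ.filter (fun w : P => w ^ 2 = 1) := by
      intro w hw
      simp only [Finset.mem_insert, Finset.mem_singleton] at hw
      rw [Finset.mem_filter]
      refine ⟨Finset.mem_univ _, ?_⟩
      rcases hw with rfl | rfl | rfl
      · exact one_pow 2
      · exact Subtype.ext (by simpa [pow_two] using ha2)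
      · exact Subtype.ext (by simpa [pow_two] using hz2)
    have ha1 : a ≠ 1 := fun h => by rw [h, orderOf_one] at hao; exact (show (1 : ℕ) ≠ 2 by norm_num) hao
    have hz1 : z ≠ 1 := fun h => by rw [h, orderOf_one] at hzo; exact (show (1 : ℕ) ≠ 2 by norm_num) hzo
    have h3 : ({1, ⟨a, haP⟩, ⟨z, hzP⟩} : Finset P).card = 3 := by
      rw [Finset.card_insert_of_notMem, Finset.card_insert_of_notMem, Finset.card_singleton]
      · rw [Finset.mem_singleton, Subtype.ext_iff]; exact haz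
      · simp only [Finset.mem_insert, Finset.mem_singleton, Subtype.ext_iff, not_or]
        exact ⟨fun h => ha1 h.symm, fun h => hz1 h.symm⟩
    have h4 := Finset.card_le_card hs
    omega
  have hcount : Nat.card {H : Subgroup P // Nat.card H = 2 ^ 1} % 4 = 1 := by
    let T := {b : Y // b ∈ P ∧ orderOf b = 2 ∧ b ≠ z}
    letI act : MulAction U T :=
      { smul := fun u b => ⟨(u : Y) * b.1 * (u : Y)⁻¹, hPinv _ (hR u.2) _ b.2.1,
          ((MulAut.conj (u : Y)).orderOf_eq b.1).trans b.2.2.1,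
          fun h => b.2.2.2 (by
            have h' : (u : Y) * b.1 = z * u := mul_inv_eq_iff_eq_mul.1 h
            rw [← hzc _ (hR u.2)] at h'
            exact mul_left_cancel h')⟩
        one_smul := fun b => Subtype.ext (by show (1 : Y) * b.1 * (1 : Y)⁻¹ = b.1; group)
        mul_smul := fun u v b => Subtype.ext (by
          show (u : Y) * v * b.1 * ((u : Y) * v)⁻¹ = (u : Y) * ((v : Y) * b.1 * (v : Y)⁻¹) * (u : Y)⁻¹
          group) }
    have hst : ∀ b : T, MulAction.stabilizer U b = ⊥ := by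
      intro b
      refine (eq_bot_iff_forall _).2 fun u hu => Subtype.ext ?_
      refine hfree b.1 b.2.1 b.2.2.1 b.2.2.2 u u.2 ?_
      exact mul_inv_eq_iff_eq_mul.1 (congrArg Subtype.val (MulAction.mem_stabilizer_iff.1 hu))
    have h4 : 4 ∣ Nat.card T := by
      rw [Nat.card_congr (MulAction.selfEquivOrbitsQuotientProd hst), Nat.card_prod, hU4]
      exact dvd_mul_left 4 _
    let e : Option T → {H : Subgroup P // Nat.card H = 2 ^ 1} := fun o => match o with
      | none => ⟨zpowers ⟨z, hzP⟩, by rw [Nat.card_zpowers, Subgroup.orderOf_mk, hzo, pow_one]⟩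
      | some b => ⟨zpowers ⟨b.1, b.2.1⟩, by rw [Nat.card_zpowers, Subgroup.orderOf_mk, b.2.2.1, pow_one]⟩
    have hgen : ∀ (p q : P), orderOf p = 2 → orderOf q = 2 → zpowers p = zpowers q → p = q := by
      intro p q hp hq h
      have hpm : p ∈ zpowers q := h ▸ mem_zpowers p
      obtain ⟨i, rfl⟩ := mem_zpowers_iff.1 hpm
      have hq2 : q ^ (2 : ℤ) = 1 := by
        rw [show (2 : ℤ) = ((2 : ℕ) : ℤ) by norm_num, zpow_natCast, ← hq, pow_orderOf_eq_one]
      rcases Int.even_or_odd' i with ⟨m, rfl | rfl⟩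
      · rw [zpow_mul, hq2, one_zpow, orderOf_one] at hp
        exact absurd hp (show (1 : ℕ) ≠ 2 by norm_num)
      · rw [zpow_add, zpow_mul, hq2, one_zpow, one_mul, zpow_one]
    have he : Function.Bijective e := by
      constructor
      · rintro (_ | b) (_ | b') h
        · rfl
        · exact absurd (congrArg Subtype.val (hgen _ _ (by rw [Subgroup.orderOf_mk]; exact hzo)
            (by rw [Subgroup.orderOf_mk]; exact b'.2.2.1) (congrArg Subtype.val h))).symm b'.2.2.2
        · exact absurd (congrArg Subtype.val (hgen _ _ (by rw [Subgroup.orderOf_mk]; exact b.2.2.1)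
            (by rw [Subgroup.orderOf_mk]; exact hzo) (congrArg Subtype.val h))) b.2.2.2
        · have h1 := hgen _ _ (by rw [Subgroup.orderOf_mk]; exact b.2.2.1)
            (by rw [Subgroup.orderOf_mk]; exact b'.2.2.1) (congrArg Subtype.val h)
          have h2 : b.1 = b'.1 := congrArg (fun q : P => (q : Y)) h1
          exact congrArg some (Subtype.ext h2)
      · rintro ⟨H, hH⟩
        rw [pow_one] at hH
        obtain ⟨q, hq⟩ := exists_prime_orderOf_dvd_card' (G := H) 2 (by rw [hH])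
        have hHq : zpowers (q : P) = H := eq_of_le_of_card_ge (zpowers_le.2 q.2)
          (by rw [hH, Nat.card_zpowers, Subgroup.orderOf_coe, hq])
        by_cases hqz : ((q : P) : Y) = z
        · exact ⟨none, Subtype.ext (by
            show zpowers (⟨z, hzP⟩ : P) = H
            rw [← hHq]; exact congrArg zpowers (Subtype.ext hqz.symm))⟩
        · exact ⟨some ⟨((q : P) : Y), (q : P).2,
            by rw [Subgroup.orderOf_coe, Subgroup.orderOf_coe, hq], hqz⟩, Subtype.ext hHq⟩
    have hT : Nat.card {H : Subgroup P // Nat.card H = 2 ^ 1} = Nat.card T + 1 := by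
      rw [← Nat.card_congr (Equiv.ofBijective e he), Finite.card_option]
    obtain ⟨k, hk⟩ := h4
    omega
  have hn2 : 1 < n := by
    by_contra hlt
    refine hnc ?_
    rcases (show n = 0 ∨ n = 1 by omega) with rfl | rfl
    · haveI : Subsingleton P := (Nat.card_eq_one_iff_unique.1 (by simpa using hn)).1
      exact isCyclic_of_subsingleton
    · exact isCyclic_of_prime_card (p := 2) (by simpa using hn)
  have hK := H31.KulTwo.kulakoff_two_aux n P hPp hnc hn 1 le_rfl hn2
  have hmc : H31.KulTwo.MC P := by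
    by_contra hm
    have := hK.1 (Or.inl hm)
    rw [Nat.ModEq] at this
    omega
  have hn3 : 3 ≤ n := by
    have h8 := hmc.1
    rw [hn] at h8
    exact (Nat.pow_le_pow_iff_right (a := 2) (by norm_num)).1 (by simpa using h8)
  -- an invariant cyclic maximal subgroup
  obtain ⟨M, hMi, hMc, hMinv⟩ : ∃ M : Subgroup P, M.index = 2 ∧ IsCyclic M ∧
      ∀ u ∈ U, ∀ p : P, p ∈ M → ∀ h, (⟨u * (p : Y) * u⁻¹, h⟩ : P) ∈ M := by
    let φ : U →* MulAut P :=
      { toFun := fun u =>
          { toFun := fun p => ⟨(u : Y) * p * (u : Y)⁻¹, hPinv _ (hR u.2) _ p.2⟩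
            invFun := fun p => ⟨(u : Y)⁻¹ * p * ((u : Y)⁻¹)⁻¹, hPinv _ (inv_mem (hR u.2)) _ p.2⟩
            left_inv := fun p => Subtype.ext (by
              show (u : Y)⁻¹ * ((u : Y) * p * (u : Y)⁻¹) * ((u : Y)⁻¹)⁻¹ = p; group)
            right_inv := fun p => Subtype.ext (by
              show (u : Y) * ((u : Y)⁻¹ * p * ((u : Y)⁻¹)⁻¹) * (u : Y)⁻¹ = p; group)
            map_mul' := fun p q => Subtype.ext (by
              show (u : Y) * ((p : Y) * q) * (u : Y)⁻¹ = (u * p * (u : Y)⁻¹) * (u * q * (u : Y)⁻¹)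
              group) }
        map_one' := MulEquiv.ext fun p => Subtype.ext (by
          show (1 : Y) * p * (1 : Y)⁻¹ = p; group)
        map_mul' := fun u v => MulEquiv.ext fun p => Subtype.ext (by
          show (u : Y) * v * p * ((u : Y) * v)⁻¹ = u * ((v : Y) * p * (v : Y)⁻¹) * (u : Y)⁻¹; group) }
    let S := {M : Subgroup P // M.index = 2 ∧ IsCyclic M}
    letI act : MulAction U S :=
      { smul := fun u M => ⟨M.1.map (φ u).toMonoidHom, by
          rw [Subgroup.index_map_of_bijective (φ u).bijective]; exact M.2.1, by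
          haveI := M.2.2
          exact (M.1.equivMapOfInjective _ (φ u).injective).isCyclic.1 inferInstance⟩
        one_smul := fun M => Subtype.ext (by
          show M.1.map (φ 1).toMonoidHom = M.1
          rw [map_one]; exact M.1.map_id)
        mul_smul := fun u v M => Subtype.ext (by
          show M.1.map (φ (u * v)).toMonoidHom =
            (M.1.map (φ v).toMonoidHom).map (φ u).toMonoidHom
          rw [Subgroup.map_map, map_mul]
          rfl) }
    have hodd : ¬ 2 ∣ Nat.card S := by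
      haveI : Fintype (Subgroup P) := Fintype.ofFinite _
      rw [Nat.card_eq_fintype_card, Fintype.card_subtype]
      exact fun h => Nat.not_even_iff_odd.2 ((H31.KulTwo.cyclic_count hPp hnc hn hn3).1 hmc)
        (even_iff_two_dvd.2 h)
    obtain ⟨M, hM⟩ := hUp.nonempty_fixed_point_of_prime_not_dvd_card S hodd
    refine ⟨M.1, M.2.1, M.2.2, fun u hu p hp h => ?_⟩
    have hMu : M.1.map (φ ⟨u, hu⟩).toMonoidHom = M.1 := congrArg Subtype.val (hM ⟨u, hu⟩)
    rw [← hMu]
    exact ⟨p, hp, rfl⟩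
  obtain ⟨c, hcM⟩ := (isCyclic_iff_exists_zpowers_eq_top (α := M)).1 hMc
  have hMz : M = zpowers (c : P) := by
    have := congrArg (Subgroup.map M.subtype) hcM
    rw [MonoidHom.map_zpowers, ← MonoidHom.range_eq_map, Subgroup.range_subtype] at this
    exact this.symm
  set cP : P := (c : P) with hcP
  rw [hMz] at hMi hMinv
  obtain ⟨k, rfl⟩ : ∃ k, n = k + 3 := ⟨n - 3, by omega⟩
  have hco : orderOf cP = 2 ^ (k + 2) := by
    have h1 := Subgroup.card_mul_index (zpowers cP)
    rw [hMi, Nat.card_zpowers, hn, pow_succ] at h1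
    exact Nat.eq_of_mul_eq_mul_right two_pos h1
  set g : P := cP ^ (2 ^ k) with hg
  have hgo : orderOf g = 4 := by
    rw [hg, orderOf_pow' cP (by positivity), hco,
      Nat.gcd_eq_right (pow_dvd_pow 2 (by omega)), Nat.pow_div (by omega) two_pos]
    norm_num
  have hgM : g ∈ zpowers cP := npow_mem_zpowers cP _
  have hg4 : g ^ 4 = 1 := hgo ▸ pow_orderOf_eq_one g
  -- elements inverting modulo four
  have hinvert : ∀ y : P, y ∉ zpowers cP → y * g * y⁻¹ = g⁻¹ := by
    intro y hy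
    obtain ⟨r, hr, -, h⟩ := H31.KulTwo.dichotomy (c := cP) (y := y) (n := k + 3)
      ⟨hPp, hnc, hn3, hn, hMi, hy⟩
    rcases h with ⟨-, hbad, -⟩ | ⟨hr4, -, -⟩
    · exact absurd hmc hbad
    · obtain ⟨m, hm⟩ := hr4
      rw [hg, ← conj_pow, hr, ← zpow_natCast, ← zpow_natCast, ← zpow_mul, ← zpow_neg]
      have : cP ^ ((2 : ℤ) ^ (k + 2) * m) = 1 := by
        rw [zpow_mul, show (2 : ℤ) ^ (k + 2) = ((2 ^ (k + 2) : ℕ) : ℤ) by norm_num, zpow_natCast,
          ← hco, pow_orderOf_eq_one, one_zpow]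
      rw [show r * ((2 ^ k : ℕ) : ℤ) = -((2 ^ k : ℕ) : ℤ) + (2 : ℤ) ^ (k + 2) * m by
        push_cast; linear_combination ((2 : ℤ) ^ k) * hm, zpow_add, this, mul_one]
  have hgne : g⁻¹ ≠ g := fun h => by
    have h2 : g ^ 2 = 1 := by rw [pow_two]; nth_rewrite 1 [← h]; exact inv_mul_cancel g
    have := orderOf_dvd_of_pow_eq_one h2
    rw [hgo] at this; omega
  have hinvol : ∀ y : P, y ∈ zpowers cP → y ^ 2 = 1 → y ≠ 1 → y = g ^ 2 := by
    intro y hy hy2 hy1
    rcases four_unique hco hg hy (by rw [show (4 : ℕ) = 2 * 2 by norm_num, pow_mul, hy2, one_pow])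
      with h | h | h | h
    · exact absurd h hy1
    · exfalso; rw [h] at hy2; have := orderOf_dvd_of_pow_eq_one hy2; rw [hgo] at this; omega
    · exact h
    · exfalso; rw [h, inv_pow, inv_eq_one] at hy2
      have := orderOf_dvd_of_pow_eq_one hy2; rw [hgo] at this; omega
  set zP : P := ⟨z, hzP⟩ with hzPdef
  set aP : P := ⟨a, haP⟩ with haPdef
  have hzM : zP ∈ zpowers cP := by
    by_contra hzn
    refine hgne (?_ : g⁻¹ = g)
    rw [← hinvert zP hzn, mul_inv_eq_iff_eq_mul]
    exact Subtype.ext (hzc _ (hPR g.2)).symm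
  have hzg : zP = g ^ 2 := hinvol zP hzM (Subtype.ext (by simpa [pow_two] using hz2)) fun h => by
    have h' : z = 1 := congrArg Subtype.val h
    rw [h', orderOf_one] at hzo; exact (show (1 : ℕ) ≠ 2 by norm_num) hzo
  have hnotM : ∀ (b : Y) (hb : b ∈ P), orderOf b = 2 → b ≠ z → (⟨b, hb⟩ : P) ∉ zpowers cP := by
    intro b hb hbo hbz hmem
    have h1 : (⟨b, hb⟩ : P) ^ 2 = 1 := Subtype.ext (by
      show b ^ 2 = 1; rw [← hbo, pow_orderOf_eq_one])
    have h2 := hinvol _ hmem h1 fun h => by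
      have h' : b = 1 := congrArg Subtype.val h
      rw [h', orderOf_one] at hbo; exact (show (1 : ℕ) ≠ 2 by norm_num) hbo
    rw [← hzg] at h2
    exact hbz (congrArg Subtype.val h2)
  -- an element of `U` fixing `g`
  obtain ⟨w, hwU, hw1, hwg⟩ : ∃ w ∈ U, w ≠ 1 ∧ w * (g : Y) * w⁻¹ = (g : Y) := by
    have hcase : ∀ u ∈ U, u * (g : Y) * u⁻¹ = (g : Y) ∨ u * (g : Y) * u⁻¹ = ((g⁻¹ : P) : Y) := by
      intro u hu
      have hmem := hMinv u hu g hgM (hPinv u (hR hu) g g.2)
      set q : P := ⟨u * (g : Y) * u⁻¹, hPinv u (hR hu) g g.2⟩ with hq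
      have hqo : orderOf q = 4 := by
        rw [← hgo, ← Subgroup.orderOf_coe q, ← Subgroup.orderOf_coe g]
        exact (MulAut.conj u).orderOf_eq (g : Y)
      rcases four_unique hco hg hmem (hqo ▸ pow_orderOf_eq_one q) with h | h | h | h
      · rw [h, orderOf_one] at hqo; omega
      · exact Or.inl (congrArg Subtype.val h)
      · rw [h] at hqo
        have h2 : (g ^ 2) ^ 2 = 1 := by rw [← pow_mul]; exact hg4
        have := orderOf_dvd_of_pow_eq_one h2
        rw [hqo] at this; omega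
      · exact Or.inr (congrArg Subtype.val h)
    haveI : Nontrivial U := Finite.one_lt_card_iff_nontrivial.1 (by rw [hU4]; norm_num)
    obtain ⟨u, hu1⟩ := exists_ne (1 : U)
    rcases hcase u u.2 with h | h
    · exact ⟨u, u.2, fun e => hu1 (Subtype.ext e), h⟩
    obtain ⟨v, hv⟩ : ∃ v : U, v ∉ zpowers u := by
      by_contra hall
      push Not at hall
      have h1 : Nat.card (zpowers u) = 4 := by
        rw [show zpowers u = ⊤ from eq_top_iff.2 fun v _ => hall v, card_top, hU4]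
      rw [Nat.card_zpowers] at h1
      have h2 : orderOf u ∣ 2 := orderOf_dvd_of_pow_eq_one (Subtype.ext (by
        rw [pow_two]; exact hUsq u u.2))
      rw [h1] at h2; omega
    rcases hcase v v.2 with h' | h'
    · exact ⟨v, v.2, fun e => hv (by rw [show v = 1 from Subtype.ext e]; exact one_mem _), h'⟩
    refine ⟨(u : Y) * v, mul_mem u.2 v.2, fun e => hv ?_, ?_⟩
    · have : v = u⁻¹ := eq_inv_of_mul_eq_one_right (Subtype.ext e : u * v = 1)
      rw [this]; exact inv_mem (mem_zpowers u)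
    · calc (u : Y) * v * (g : Y) * ((u : Y) * v)⁻¹ = u * ((v : Y) * g * (v : Y)⁻¹) * (u : Y)⁻¹ := by
            group
        _ = ((u : Y) * g * (u : Y)⁻¹)⁻¹ := by rw [h']; push_cast; group
        _ = g := by rw [h]; simp
  have hww : w * w = 1 := hUsq w hwU
  have hwinv : w⁻¹ = w := inv_eq_of_mul_eq_one_right hww
  -- the image of `a` under `w`
  have hwa : w * a * w⁻¹ = a * z := by
    set bP : P := ⟨w * a * w⁻¹, hPinv w (hR hwU) a haP⟩ with hb
    have hbo : orderOf (w * a * w⁻¹) = 2 := hao ▸ (MulAut.conj w).orderOf_eq a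
    have hbz : w * a * w⁻¹ ≠ z := fun h => haz (by
      have h' : w * a = z * w := mul_inv_eq_iff_eq_mul.1 h
      rw [← hzc w (hR hwU)] at h'
      exact mul_left_cancel h')
    set x : P := aP * bP with hx
    have hxM : x ∈ zpowers cP := (mul_mem_iff_of_index_two hMi).2
      (iff_of_false (hnotM a haP hao haz) (hnotM _ bP.2 hbo hbz))
    have hwx : w * (x : Y) * w⁻¹ = ((x : Y))⁻¹ := by
      show w * (a * (w * a * w⁻¹)) * w⁻¹ = (a * (w * a * w⁻¹))⁻¹
      have hai : a⁻¹ = a := inv_eq_of_mul_eq_one_right ha2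
      rw [mul_inv_rev, mul_inv_rev, mul_inv_rev, inv_inv, hai, hwinv]
      calc w * (a * (w * a * w)) * w = w * a * w * a * (w * w) := by group
        _ = _ := by rw [hww]; group
    obtain ⟨e, he⟩ : ∃ e : ℤ, w * (cP : Y) * w⁻¹ = ((cP ^ e : P) : Y) := by
      obtain ⟨e, he⟩ := mem_zpowers_iff.1 (hMinv w hwU cP (mem_zpowers cP) (hPinv w (hR hwU) cP cP.2))
      exact ⟨e, (congrArg Subtype.val he).symm⟩
    have hconj : ∀ i : ℤ, w * ((cP ^ i : P) : Y) * w⁻¹ = ((cP ^ (e * i) : P) : Y) := by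
      intro i
      rw [zpow_mul, SubgroupClass.coe_zpow, SubgroupClass.coe_zpow, ← conj_zpow, he]
    have he4 : (4 : ℤ) ∣ e - 1 := by
      have h1 := hconj ((2 ^ k : ℕ) : ℤ)
      rw [zpow_natCast, ← hg, hwg] at h1
      have h2 : cP ^ ((e - 1) * ((2 ^ k : ℕ) : ℤ)) = 1 := by
        have h1' : cP ^ (((2 ^ k : ℕ) : ℤ)) = cP ^ (e * ((2 ^ k : ℕ) : ℤ)) := by
          rw [zpow_natCast, ← hg]; exact Subtype.ext h1
        rw [sub_mul, one_mul, zpow_sub, ← h1', mul_inv_cancel]
      have h3 := orderOf_dvd_iff_zpow_eq_one.2 h2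
      rw [hco] at h3
      push_cast at h3
      rw [show (2 : ℤ) ^ (k + 2) = 4 * 2 ^ k by ring] at h3
      exact (mul_dvd_mul_iff_right (by positivity : (2 : ℤ) ^ k ≠ 0)).1 h3
    obtain ⟨i, hi⟩ := mem_zpowers_iff.1 hxM
    have hx2 : x ^ 2 = 1 := by
      have h1 := hconj i
      rw [hi, hwx] at h1
      have h2 : cP ^ (i * (e + 1)) = 1 := by
        have h1' : x⁻¹ = cP ^ (e * i) := Subtype.ext h1
        rw [← hi] at h1'
        rw [show i * (e + 1) = e * i + i by ring, zpow_add, ← h1', inv_mul_cancel]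
      rw [← hi]
      have h3 := orderOf_dvd_iff_zpow_eq_one.2 h2
      rw [hco] at h3
      push_cast at h3
      obtain ⟨m, hm⟩ := he4
      rw [show i * (e + 1) = (i * 2) * (2 * m + 1) by rw [show e = 4 * m + 1 by omega]; ring] at h3
      have hcop : IsCoprime ((2 : ℤ) ^ (k + 2)) (2 * m + 1) := by
        refine IsCoprime.pow_left ?_
        exact ⟨-m, 1, by ring⟩
      have h4 := hcop.dvd_of_dvd_mul_right h3
      have h5 : cP ^ (i * 2) = 1 := orderOf_dvd_iff_zpow_eq_one.1 (by rw [hco]; exact_mod_cast h4)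
      rw [zpow_mul, show (2 : ℤ) = ((2 : ℕ) : ℤ) from rfl, zpow_natCast] at h5
      exact h5
    have hx1 : x ≠ 1 := by
      intro h
      have h' : a * (w * a * w⁻¹) = 1 := congrArg Subtype.val h
      refine hw1 (hfree a haP hao haz w hwU ?_)
      have h'' : w * a * w⁻¹ = a := by
        rw [eq_inv_of_mul_eq_one_right h', inv_eq_of_mul_eq_one_right ha2]
      exact mul_inv_eq_iff_eq_mul.1 h''
    have hxz := hinvol x hxM hx2 hx1
    rw [← hzg] at hxz
    have hxz' : a * (w * a * w⁻¹) = z := congrArg Subtype.val hxz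
    rw [← hxz', ← mul_assoc, ha2, one_mul]
  -- the element `γ`
  set γ : Y := w * (g : Y) with hγ
  have hwgc : w * (g : Y) = (g : Y) * w := mul_inv_eq_iff_eq_mul.1 hwg
  have hγz : γ * γ = z := by
    calc γ * γ = w * ((g : Y) * w) * g := by rw [hγ]; group
      _ = (w * w) * ((g : Y) * g) := by rw [← hwgc]; group
      _ = z := by
        rw [hww, one_mul, show z = ((zP : P) : Y) from rfl, hzg, pow_two]; rfl
  have hga : (g : Y) * a * (g : Y)⁻¹ = z * a := by
    have h := congrArg Subtype.val (hinvert aP (hnotM a haP hao haz))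
    have h' : a * (g : Y) * a⁻¹ = ((g : Y))⁻¹ := h
    have h'' : a * (g : Y)⁻¹ = (g : Y) * a := by
      calc a * (g : Y)⁻¹ = a * (a * (g : Y) * a⁻¹) := by rw [h']
        _ = (a * a) * g * a⁻¹ := by group
        _ = (g : Y) * a := by rw [ha2, inv_eq_of_mul_eq_one_right ha2, one_mul]
    rw [mul_assoc, h'', ← mul_assoc]
    congr 1
    rw [show z = ((zP : P) : Y) from rfl, hzg, pow_two]; rfl
  have hγa : γ * a = a * γ := by
    refine mul_inv_eq_iff_eq_mul.1 ?_
    calc γ * a * γ⁻¹ = w * ((g : Y) * a * (g : Y)⁻¹) * w⁻¹ := by rw [hγ]; group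
      _ = w * z * a * w⁻¹ := by rw [hga]; group
      _ = z * (w * a * w⁻¹) := by rw [hzc w (hR hwU)]; group
      _ = (z * z) * a := by rw [hwa, hzc a (hPR haP), mul_assoc]
      _ = a := by rw [hz2, one_mul]
  -- square involutions in `R`
  have hsq : ∀ r ∈ (R : Subgroup Y), orderOf (r * r) = 2 → r * r = z := by
    intro r hr hro
    obtain ⟨α, hα, u, hu, hru⟩ : ∃ α ∈ A, ∃ u ∈ U, α * u = r :=
      mem_sup_of_normal_left.1 (hAU ▸ mem_top r)
    have hαR : α ∈ (R : Subgroup Y) := by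
      rw [show α = r * u⁻¹ by rw [← hru]; group]; exact mul_mem hr (inv_mem (hR hu))
    set p : P := ⟨α, hαR, hα⟩
    set q : P := ⟨u * α * u⁻¹, hPinv u (hR hu) α p.2⟩
    have hpq : p ∈ zpowers cP ↔ q ∈ zpowers cP := by
      refine ⟨fun h => hMinv u hu p h _, fun h => ?_⟩
      have h1 := hMinv u⁻¹ (inv_mem hu) q h (by
        show u⁻¹ * (u * α * u⁻¹) * u⁻¹⁻¹ ∈ P
        rw [show u⁻¹ * (u * α * u⁻¹) * u⁻¹⁻¹ = α by group]; exact p.2)
      rwa [show (⟨_, _⟩ : P) = p from Subtype.ext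
        (show u⁻¹ * (u * α * u⁻¹) * u⁻¹⁻¹ = α by group)] at h1
    have hpqM : p * q ∈ zpowers cP := (mul_mem_iff_of_index_two hMi).2 hpq
    have hrr : r * r = ((p * q : P) : Y) := by
      show r * r = α * (u * α * u⁻¹)
      rw [← hru]
      calc α * u * (α * u) = α * (u * α * u⁻¹) * (u * u) := by group
        _ = _ := by rw [hUsq u hu, mul_one]
    rw [hrr] at hro ⊢
    rw [Subgroup.orderOf_coe] at hro
    rw [hinvol (p * q) hpqM (hro ▸ pow_orderOf_eq_one (p * q))
      (fun h => by rw [h, orderOf_one] at hro; exact (show (1 : ℕ) ≠ 2 by norm_num) hro), ← hzg]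
  -- `a` is conjugate to `z`
  obtain ⟨h, hha⟩ : ∃ h : Y, h * a * h⁻¹ = z := by
    have hcomm : commutator A = ⊤ := by
      apply Subgroup.map_injective A.subtype_injective
      rw [_root_.commutator_def, map_commutator, ← MonoidHom.range_eq_map, range_subtype, hperf]
    obtain ⟨Q, hQ⟩ := ((hPp.comap_subtype : IsPGroup 2 (P.subgroupOf A))).exists_le_sylow
    have hQP : (Q : Subgroup A) = P.subgroupOf A := by
      refine (eq_of_le_of_card_ge hQ ?_).symm
      obtain ⟨R₂, hR₂⟩ := (Q.isPGroup'.map A.subtype).exists_le_sylow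
      obtain ⟨s, hs⟩ := MulAction.exists_smul_eq Y R₂ R
      have hle : ((Q : Subgroup A).map A.subtype).map (MulAut.conj s).toMonoidHom ≤ P := by
        rintro _ ⟨y, ⟨q, hq, rfl⟩, rfl⟩
        refine ⟨?_, Normal.conj_mem inferInstance _ q.2 s⟩
        show s * (q : Y) * s⁻¹ ∈ (R : Subgroup Y)
        rw [← hs, Sylow.coe_subgroup_smul]
        exact ⟨(q : Y), hR₂ ⟨q, hq, rfl⟩, rfl⟩
      calc Nat.card (Q : Subgroup A)
          = Nat.card (((Q : Subgroup A).map A.subtype).map (MulAut.conj s).toMonoidHom : Subgroup Y) := by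
            rw [card_map_of_injective (K := (Q : Subgroup A).map A.subtype) (MulAut.conj s).injective,
              card_map_of_injective (K := (Q : Subgroup A)) A.subtype_injective]
        _ ≤ Nat.card P := Nat.le_of_dvd Nat.card_pos (card_dvd_of_le hle)
        _ = Nat.card (P.subgroupOf A) := (Nat.card_congr (subgroupOfEquivOfLe hPA).toEquiv).symm
    set Mc : Subgroup Y := (zpowers cP).map P.subtype with hMcdef
    have hMcP : Mc ≤ P := map_subtype_le _
    have hQi : (Mc.subgroupOf A).relIndex (Q : Subgroup A) = 2 := by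
      rw [hQP, relIndex_subgroupOf hPA, relIndex, hMcdef, subgroupOf,
        comap_map_eq_self_of_injective P.subtype_injective, hMi]
    rcases H6.thompson_transfer Q (Mc.subgroupOf A) (hQP ▸ fun y hy => hMcP hy) hQi ⟨a, hPA haP⟩
      (by rw [Subgroup.orderOf_mk, hao]) with ⟨N, -, hNi, -⟩ | ⟨s, hs⟩
    · exfalso
      have : commutator A ≤ N := by
        rw [_root_.commutator_def, commutator_le]
        exact fun x _ y _ => commutatorElement_mem_of_index_two hNi x y
      rw [hcomm, top_le_iff] at this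
      rw [this, index_top] at hNi
      omega
    · obtain ⟨m, hm, hms⟩ := hs
      refine ⟨(s : Y), ?_⟩
      have hms' : (m : Y) = (s : Y) * a * (s : Y)⁻¹ := hms
      by_contra hne
      refine hnotM (m : Y) m.2 ?_ (fun e => hne (hms'.symm.trans e)) hm
      rw [hms', ← hao]
      exact (MulAut.conj (s : Y)).orderOf_eq a
  -- the contradiction
  set Ca := centralizer ({a} : Set Y)
  set R' : Sylow 2 Y := h⁻¹ • R with hR'
  have hR'mem : ∀ x, x ∈ (R' : Subgroup Y) ↔ h * x * h⁻¹ ∈ (R : Subgroup Y) := by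
    intro x
    rw [hR', Sylow.coe_subgroup_smul]
    constructor
    · rintro ⟨y, hy, rfl⟩
      show h * (h⁻¹ * y * h⁻¹⁻¹) * h⁻¹ ∈ _
      rw [show h * (h⁻¹ * y * h⁻¹⁻¹) * h⁻¹ = y by group]; exact hy
    · intro hx
      exact ⟨_, hx, show h⁻¹ * (h * x * h⁻¹) * h⁻¹⁻¹ = x by group⟩
  have hR'C : (R' : Subgroup Y) ≤ Ca := by
    intro x hx
    rw [mem_centralizer_singleton_iff]
    have h1 := hzc _ ((hR'mem x).1 hx)
    rw [← hha] at h1
    calc x * a = h⁻¹ * ((h * x * h⁻¹) * (h * a * h⁻¹)) * h := by group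
      _ = h⁻¹ * ((h * a * h⁻¹) * (h * x * h⁻¹)) * h := by rw [h1]
      _ = a * x := by group
  have hγR : γ ∈ (R : Subgroup Y) := mul_mem (hR hwU) (hPR g.2)
  have hγC : γ ∈ Ca := mem_centralizer_singleton_iff.2 hγa
  have hγp : IsPGroup 2 (zpowers (⟨γ, hγC⟩ : Ca)) := by
    obtain ⟨j, hj⟩ := IsPGroup.iff_orderOf.1 R.isPGroup' ⟨γ, hγR⟩
    exact IsPGroup.of_card (n := j) (by
      rw [Nat.card_zpowers, Subgroup.orderOf_mk, ← hj, Subgroup.orderOf_mk])
  obtain ⟨S₁, hS₁⟩ := hγp.exists_le_sylow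
  obtain ⟨s, hs⟩ := MulAction.exists_smul_eq Ca S₁ (R'.subtype hR'C)
  set t : Y := h * (s : Y) with ht
  have htγ : t * γ * t⁻¹ ∈ (R : Subgroup Y) := by
    have h1 : s * ⟨γ, hγC⟩ * s⁻¹ ∈ ((R'.subtype hR'C : Sylow 2 Ca) : Subgroup Ca) := by
      rw [← hs, Sylow.coe_subgroup_smul]
      exact ⟨_, hS₁ (mem_zpowers _), rfl⟩
    rw [Sylow.coe_subtype, mem_subgroupOf] at h1
    have h2 := (hR'mem _).1 h1
    rw [ht, show h * (s : Y) * γ * (h * (s : Y))⁻¹ = h * ((s : Y) * γ * (s : Y)⁻¹) * h⁻¹ by group]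
    exact h2
  have htt : t * γ * t⁻¹ * (t * γ * t⁻¹) = t * z * t⁻¹ := by rw [← hγz]; group
  have htz : t * z * t⁻¹ = z := by
    rw [← htt]
    refine hsq _ htγ ?_
    rw [htt, ← hzo]
    exact (MulAut.conj t).orderOf_eq z
  have hta : t * a * t⁻¹ = z := by
    have h2 : (s : Y) * a * (s : Y)⁻¹ = a :=
      mul_inv_eq_iff_eq_mul.2 (mem_centralizer_singleton_iff.1 s.2)
    calc t * a * t⁻¹ = h * ((s : Y) * a * (s : Y)⁻¹) * h⁻¹ := by rw [ht]; group
      _ = z := by rw [h2, hha]
  exact haz (mul_left_cancel (mul_right_cancel (hta.trans htz.symm)))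

end GammaOne

end H89
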