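import Cfsg.Agent.H89.KeyCharts
import Cfsg.Agent.H85.HSaturated2
import Cfsg.Agent.H86.CentralLift.LiftSys

/-!
Automorphisms of a class with charts lie in a subgroup `K` as soon as the extendable ones and the
generating ones do; extension to a large subgroup, after `H85.HSaturated2`.
-/

set_option autoImplicit false
set_option linter.style.haveILetI false

open Cfsg Cfsg.FusionSystem H85

namespace H89.KeyCrit

variable {Ω : Type*} [Group Ω] {S : Subgroup Ω} [Finite S] {p : ℕ} [Fact p.Prime]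

set_option maxHeartbeats 1000000 in
/-- All automorphisms of `P` lie in `K` if those extending to larger subgroups and those coming
from the generators do. -/
theorem autGroup_le_of_ext (hS : IsPGroup p S) (D : FusionSystem S)
    (Gen : ∀ R : Subgroup Ω, Set (R →* Ω)) (hgenSub : ∀ R, Gen R ⊆ D.Hom R)
    (hgenRange : ∀ R, ∀ f ∈ Gen R, f.range = R)
    (hgen : ∀ X : FusionSystem S, (∀ R, Gen R ⊆ X.Hom R) → D ≤ X)
    {P : Subgroup Ω} (hP : P < S)
    (hnm : ∀ Q, D.IsConj P Q →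
      ∃ χ ∈ D.Hom (normalizerIn S Q), (∀ x, χ x ∈ normalizerIn S P) ∧ H85.img χ Q = P)
    (K : Subgroup (MulAut P))
    (hext : ∀ (T : Subgroup Ω) (ψ : T →* Ω) (a : MulAut P), ψ ∈ D.Hom T → ∀ hlt : P < T,
      T ≤ normalizerIn S P → a ∈ D.autGroup P →
      (∀ x : P, ψ (Subgroup.inclusion hlt.le x) = ((a x : P) : Ω)) → a ∈ K)
    (hlevel : ∀ R, ∀ f ∈ Gen R, ∀ a : MulAut R, (∀ x : R, f x = (a x : Ω)) →
      ∀ e : R ≃* P, H85.IsFIso D e → MulAut.congr e a ∈ K) :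
    D.autGroup P ≤ K := by
  classical
  haveI := finite_of_le hP.le
  let R := K
  choose χ hχ hχN hχQ using hnm
  let τ : ∀ U (h : D.IsConj P U), U ≃* P := fun U h =>
    (resIso (χ U h) (D.injective_of_mem (hχ U h)) (le_normalizerIn (isConj_le h).2)).trans
      (MulEquiv.subgroupCongr (hχQ U h))
  have hτ : ∀ U h, IsFIso D (τ U h) := fun U h =>
    hom_congr (restrict (hχ U h) (le_normalizerIn (isConj_le h).2)) (fun _ => rfl)
  let Good : ∀ {T : Subgroup Ω}, (T →* Ω) → Prop := fun {T} φ =>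
    ∀ U (hU : U ≤ T) (hUc : D.IsConj P U) (V : Subgroup Ω) (hVc : D.IsConj P V),
      img φ U = V → ∃ α ∈ R, ∀ (x : U) (h : φ ⟨x, hU x.2⟩ ∈ V),
        α (τ U hUc x) = τ V hVc ⟨φ ⟨x, hU x.2⟩, h⟩
  have hlink : ∀ {T : Subgroup Ω} {φ : T →* Ω}, φ ∈ D.Hom T →
      ∀ U (hU : U < T) (hUc : D.IsConj P U) (V : Subgroup Ω) (hVc : D.IsConj P V),
      img φ U = V → ∃ α ∈ R, ∀ (x : U) (h : φ ⟨x, hU.le x.2⟩ ∈ V),
        α (τ U hUc x) = τ V hVc ⟨φ ⟨x, hU.le x.2⟩, h⟩ := by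
    intro T φ hφ U hU hUc V hVc hUV
    obtain ⟨g, hg, hgN, hgU⟩ := exists_normalizing hS (source_le hφ) hU
    have hUS := (isConj_le hUc).2
    set T' := T ⊓ normalizerIn S U with hT'
    have hUT' : U < T' := SetLike.lt_iff_le_and_exists.2 ⟨le_inf hU.le (le_normalizerIn hUS), g,
      Subgroup.mem_inf.2 ⟨hg, source_le hφ hg, hgN⟩, hgU⟩
    let eUV : U ≃* V :=
      (resIso φ (D.injective_of_mem hφ) hU.le).trans (MulEquiv.subgroupCongr hUV)
    have heUV : IsFIso D eUV := hom_congr (restrict hφ hU.le) (fun _ => rfl)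
    haveI := finite_of_le (isConj_le hVc).2
    have hval : ∀ y : T', φ (Subgroup.inclusion inf_le_left y) ∈ normalizerIn S V := fun y =>
      ⟨map_mem hφ _, extend_maps_normalizer (e := eUV) hU.le (fun _ => rfl) y.2.2.2⟩
    set T'' := img (χ U hUc) T' with hT''
    let ι : T' ≃* T'' := resIso (χ U hUc) (D.injective_of_mem (hχ U hUc)) inf_le_right
    have hι : IsFIso D ι := isFIso_resIso (hχ U hUc) _
    let ψ : T'' →* Ω :=
      ((χ V hVc).comp ((φ.comp (Subgroup.inclusion inf_le_left)).codRestrict _ hval)).comp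
        ι.symm.toMonoidHom
    have hψ : ψ ∈ D.Hom T'' :=
      hom_congr (D.comp_mem hι.symm
        (D.comp_mem (restrict hφ (inf_le_left : T' ≤ _)) (hχ V hVc) hval) fun y => (ι.symm y).2)
        (fun _ => rfl)
    let α : MulAut P := ((τ U hUc).symm.trans eUV).trans (τ V hVc)
    have hPT'' : P ≤ T'' := (hχQ U hUc).ge.trans (img_mono _ hUT'.le)
    have hlt : P < T'' := lt_of_le_of_ne hPT'' fun h => by
      have h1 : Nat.card P = Nat.card T' := by
        rw [Nat.card_congr ι.toEquiv, ← h]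
      rw [isConj_card hUc] at h1
      exact (card_lt_of_lt (inf_le_right.trans (normalizerIn_le U)) hUT').ne h1
    refine ⟨α, hext T'' ψ α hψ hlt ?_ ((mem_autGroup hP.le).2
        (((hτ U hUc).symm.trans heUV).trans (hτ V hVc))) ?_, ?_⟩
    · intro y hy
      obtain ⟨z, -, rfl⟩ := mem_img.1 hy
      exact hχN U hUc z
    · intro x
      have h4 : ι.symm (Subgroup.inclusion hPT'' x) =
          Subgroup.inclusion hUT'.le ((τ U hUc).symm x) := by
        rw [MulEquiv.symm_apply_eq]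
        exact Subtype.ext (congrArg Subtype.val ((τ U hUc).apply_symm_apply x)).symm
      show χ V hVc ⟨φ (Subgroup.inclusion _ (ι.symm (Subgroup.inclusion _ x))), _⟩ =
        χ V hVc ⟨φ (Subgroup.inclusion hU.le ((τ U hUc).symm x)), _⟩
      exact congrArg _ (Subtype.ext (by
        show φ (Subgroup.inclusion inf_le_left (ι.symm (Subgroup.inclusion _ x))) = φ _
        rw [h4]
        rfl))
    · intro x h
      show τ V hVc (eUV ((τ U hUc).symm (τ U hUc x))) = _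
      rw [(τ U hUc).symm_apply_apply]
      rfl
  let E : FusionSystem S :=
    { Hom := fun T => {φ | φ ∈ D.Hom T ∧ Good φ}
      le_of_mem := fun h => D.le_of_mem h.1
      injective_of_mem := fun h => D.injective_of_mem h.1
      conj_mem := by
        intro T g hT hg
        refine ⟨D.conj_mem hT hg, fun U hU hUc V hVc hUV => ?_⟩
        have hUS : U < S := lt_of_le_of_ne (hU.trans hT) fun h => by
          have h1 := isConj_card hUc
          rw [h] at h1
          exact (card_lt_of_lt le_rfl hP).ne h1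
        rw [img_congr (U := U) (ψ := Cfsg.conjHom S g) hU hUS.le (fun x => rfl)] at hUV
        obtain ⟨α, hα, h⟩ := hlink (D.conj_mem le_rfl hg) U hUS hUc V hVc hUV
        exact ⟨α, hα, fun x hx => h x hx⟩
      comp_mem := by
        rintro T T' φ ψ ⟨hφ, hφG⟩ ⟨hψ, hψG⟩ hv
        refine ⟨D.comp_mem hφ hψ hv, fun U hU hUc V hVc hUV => ?_⟩
        rw [img_img hv hφ] at hUV
        have hle : img φ U ≤ T' := fun y hy => by
          obtain ⟨x, -, rfl⟩ := mem_img.1 hy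
          exact hv x
        have hUc' : D.IsConj P (img φ U) := isConj_trans hUc (isConj_img hφ hU)
        obtain ⟨α, hα, h1⟩ := hφG U hU hUc (img φ U) hUc' rfl
        obtain ⟨β, hβ, h2⟩ := hψG (img φ U) hle hUc' V hVc hUV
        refine ⟨β * α, mul_mem hβ hα, fun x hx => ?_⟩
        rw [MulAut.mul_apply, h1 x (apply_mem_img x.2)]
        exact h2 ⟨φ ⟨x, hU x.2⟩, _⟩ hx
      inv_mem := by
        rintro T φ ⟨hφ, hφG⟩
        refine ⟨T.subtype.comp (isoOf φ hφ rfl).symm.toMonoidHom,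
          ⟨(isFIso_isoOf φ hφ rfl).symm, fun U hU hUc V hVc hUV => ?_⟩, fun x => ?_⟩
        · have hV : V ≤ T := fun y hy => by
            rw [← hUV] at hy
            obtain ⟨x, -, rfl⟩ := mem_img.1 hy
            exact ((isoOf φ hφ rfl).symm x).2
          have hVU : img φ V = U := by
            refine le_antisymm ?_ ?_
            · intro y hy
              obtain ⟨x, hx, rfl⟩ := mem_img.1 hy
              rw [← hUV] at hx
              obtain ⟨⟨_, w, rfl⟩, hz, hzx⟩ := mem_img.1 hx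
              have : w = x := Subtype.ext (by
                rw [← hzx]
                exact congrArg Subtype.val (isoOf_symm_apply φ hφ rfl (x := w) rfl).symm)
              exact this ▸ hz
            · intro y hy
              obtain ⟨x, rfl⟩ := hU hy
              refine mem_img.2 ⟨x, hUV ▸ mem_img.2 ⟨⟨φ x, x, rfl⟩, hy, ?_⟩, rfl⟩
              exact congrArg Subtype.val (isoOf_symm_apply φ hφ rfl (x := x) rfl)
          obtain ⟨α, hα, h⟩ := hφG V hV hVc U hUc hVU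
          refine ⟨α⁻¹, inv_mem hα, fun y hy => ?_⟩
          obtain ⟨z, hzy⟩ : (y : Ω) ∈ φ.range := hU y.2
          have h1 : (isoOf φ hφ rfl).symm ⟨(y : Ω), hU y.2⟩ = z :=
            isoOf_symm_apply φ hφ rfl hzy
          have hzV : (z : Ω) ∈ V := by
            have := hy
            rwa [show (T.subtype.comp (isoOf φ hφ rfl).symm.toMonoidHom) ⟨(y : Ω), hU y.2⟩ =
              (z : Ω) from congrArg Subtype.val h1] at this
          have h2 := h ⟨z, hzV⟩ (show φ ⟨(z : Ω), hV hzV⟩ ∈ U from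
            (show φ z = (y : Ω) from hzy) ▸ y.2)
          have h3 : (⟨φ ⟨(z : Ω), hV hzV⟩, (show φ ⟨(z : Ω), hV hzV⟩ ∈ U from
              (show φ z = (y : Ω) from hzy) ▸ y.2)⟩ : U) = y := Subtype.ext hzy
          rw [h3] at h2
          rw [← h2, MulAut.inv_apply_self]
          congr 1
          exact Subtype.ext (congrArg Subtype.val h1).symm
        · exact congrArg Subtype.val (isoOf_symm_apply φ hφ rfl (x := x) rfl) }
  have hFE : D ≤ E := by
    refine hgen E fun T φ hφ => ⟨hgenSub T hφ, fun U hU hUc V hVc hUV => ?_⟩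
    rcases eq_or_lt_of_le hU with heq | hlt
    · subst heq
      have hVU : V = U := by rw [← hUV, img_self, hgenRange U φ hφ]
      subst hVU
      let a : MulAut V := isoOf φ (hgenSub V hφ) (hgenRange V φ hφ)
      refine ⟨MulAut.congr (τ V hVc) a,
        hlevel V φ hφ a (fun x => rfl) (τ V hVc) (hτ V hVc), fun x h => ?_⟩
      show τ V hVc (a ((τ V hVc).symm (τ V hUc x))) = _
      rw [(τ V hVc).symm_apply_apply]
      exact congrArg (τ V hVc) (Subtype.ext rfl)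
    · exact hlink (hgenSub T hφ) U hlt hUc V hVc hUV
  intro a ha
  have hPP : D.IsConj P P := isConj_refl D hP.le
  let t : MulAut P := τ P hPP
  have ht : t ∈ D.autGroup P := (mem_autGroup hP.le).2 (hτ P hPP)
  have haux : ∀ b ∈ D.autGroup P, t * b * t⁻¹ ∈ R := by
    intro b hb
    have hbH := (mem_autGroup hP.le).1 hb
    obtain ⟨α, hα, h⟩ := (hFE P hbH).2 P le_rfl hPP P hPP
      ((img_self _).trans (IsFIso.range_eq b))
    refine (?_ : t * b * t⁻¹ = α) ▸ hα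
    refine MulEquiv.ext fun y => ?_
    have h1 := h (t⁻¹ y) (b (t⁻¹ y)).2
    have h2 : τ P hPP (t⁻¹ y) = y := MulEquiv.apply_symm_apply t y
    rw [h2] at h1
    rw [MulAut.mul_apply, MulAut.mul_apply, h1]
    rfl
  have := haux (t⁻¹ * a * t) (mul_mem (mul_mem (inv_mem ht) ha) ht)
  rwa [show t * (t⁻¹ * a * t) * t⁻¹ = a by group] at this

set_option maxHeartbeats 1000000 in
/-- An automorphism extending to a larger subgroup of the normalizer extends to `W` (after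
`H85.mem_range_of_extend`, with saturation needed only above `P`). -/
theorem mem_coreRange_of_extend (hS : IsPGroup p S)
    {F : FusionSystem S} {P : Subgroup Ω}
    (hnm : ∀ Q, F.IsConj P Q →
      ∃ χ ∈ F.Hom (normalizerIn S Q), (∀ x, χ x ∈ normalizerIn S P) ∧ img χ Q = P)
    (hbig : ∀ T : Subgroup Ω, T ≤ S → P < T → Sat p F T)
    (hW : coreW p F P ≤ S) (hPW : P ≤ coreW p F P)
    {T : Subgroup Ω} {ψ : T →* Ω} (hψ : ψ ∈ F.Hom T) (hlt : P < T) (hTN : T ≤ normalizerIn S P)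
    {a : MulAut P} (ha : a ∈ F.autGroup P)
    (hext : ∀ x : P, ψ (Subgroup.inclusion hlt.le x) = ((a x : P) : Ω)) :
    a ∈ (resAut F hW hPW).range := by
  obtain ⟨n, hn⟩ : ∃ n, Nat.card S - Nat.card T = n := ⟨_, rfl⟩
  induction n using Nat.strong_induction_on generalizing T a with
  | _ n ih =>
  subst hn
  replace ih : ∀ (T' : Subgroup Ω) (ψ' : T' →* Ω), ψ' ∈ F.Hom T' → Nat.card T < Nat.card T' →
      ∀ hlt' : P < T', T' ≤ normalizerIn S P → ∀ a' ∈ F.autGroup P,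
      (∀ x : P, ψ' (Subgroup.inclusion hlt'.le x) = ((a' x : P) : Ω)) →
      a' ∈ (resAut F hW hPW).range := fun T' ψ' hψ' hc hlt' hN' a' ha' hext' => by
    have hT'S := Subgroup.card_le_of_le (source_le hψ')
    exact ih _ (by omega) hψ' hlt' hN' ha' hext' rfl
  have hTS := source_le hψ
  have hP : P ≤ S := hlt.le.trans hTS
  haveI := finite_of_le hP
  by_cases hWT : coreW p F P ≤ T
  · exact mem_range_of_le hW hPW hψ hlt.le hTN hWT ha hext
  have hrN : ψ.range ≤ normalizerIn S P := by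
    rintro _ ⟨x, rfl⟩
    exact ⟨map_mem hψ x, extend_maps_normalizer hlt.le hext (hTN x.2).2⟩
  have hPr : P ≤ ψ.range := fun y hy =>
    ⟨Subgroup.inclusion hlt.le (a⁻¹ ⟨y, hy⟩), by rw [hext, MulAut.apply_inv_self]⟩
  by_cases hWr : coreW p F P ≤ ψ.range
  · refine inv_mem_iff.1 (mem_range_of_le hW hPW (isFIso_isoOf ψ hψ rfl).symm hPr hrN hWr
      (inv_mem ha) fun x => ?_)
    exact congrArg Subtype.val (isoOf_symm_apply ψ hψ rfl
      (x := Subgroup.inclusion hlt.le (a⁻¹ x))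
      (show ψ _ = _ by rw [hext, MulAut.apply_inv_self]; rfl))
  -- move `T`
  have hcard : Nat.card P < Nat.card T := card_lt_of_lt hTS hlt
  obtain ⟨T₀, hT₀, e, Q₀, he, hT₀a, hT₀r, hQ₀T, hmem, hconj⟩ :=
    exists_move (U := P) hTS (hbig T hTS hlt)
  have hQ₀S : Q₀ ≤ S := hQ₀T.trans hT₀
  let eQ := subEquiv e hlt.le hQ₀T hmem
  have heQ : IsFIso F eQ := isFIso_subEquiv he _ _ _
  obtain ⟨χ₀, hχ₀, hχ₀N, hχ₀Q⟩ := hnm Q₀ heQ.isConj
  let φQ : Q₀ ≃* P :=
    (resIso χ₀ (F.injective_of_mem hχ₀) (le_normalizerIn hQ₀S)).trans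
      (MulEquiv.subgroupCongr hχ₀Q)
  have hφQ : IsFIso F φQ := hom_congr (restrict hχ₀ (le_normalizerIn hQ₀S)) (fun _ => rfl)
  let t : pStab F hT₀ Q₀ →* MulAut P :=
    (MulAut.congr φQ).toMonoidHom.comp (resAut F hT₀ hQ₀T)
  have ht : ∀ β, t β ∈ F.autGroup P := fun β => congr_mem_autGroup hφQ (resAut_mem F hT₀ hQ₀T β)
  -- automorphisms induced from `S`
  have htc : ∀ (g : Ω) (hg : g ∈ normalizerIn S T₀) (hgQ : g ∈ normalizerIn S Q₀),
      t ⟨conjAut S T₀ ⟨g, hg⟩, conjAut_mem_pStab hT₀ hg hgQ.2⟩ =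
        conjAut S P ⟨χ₀ ⟨g, hgQ⟩, hχ₀N _⟩ := fun g hg hgQ => by
    show MulAut.congr φQ (resAut F hT₀ hQ₀T _) = _
    rw [resAut_conjAut F hT₀ hQ₀T hg hgQ,
      conjAut_map (e := φQ) (le_normalizerIn hQ₀S) (fun _ => rfl) ⟨g, hgQ⟩ hgQ (hχ₀N _)]
  -- going around through a subgroup corresponding to `T`
  have side : ∀ (T' : Subgroup Ω) (f : T' ≃* T₀), IsFIso F f → ∀ hPT' : P ≤ T',
      ∀ hfm : ∀ x : T', (f x : Ω) ∈ Q₀ ↔ (x : Ω) ∈ P, T' < normalizerIn S P →
      ∃ β : pStab F hT₀ Q₀,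
        t β * (subEquiv f hPT' hQ₀T hfm).trans φQ ∈ (resAut F hW hPW).range ∧
        ∃ (M : Subgroup Ω) (χ : M →* Ω), M = normalizerIn S T' ⊓ normalizerIn S P ∧
          χ ∈ F.Hom M ∧
          (∀ (x : T') (hx : (x : Ω) ∈ M), χ ⟨x, hx⟩ = (((β : MulAut T₀) (f x) : T₀) : Ω)) ∧
          ∀ x, χ x ∈ normalizerIn S Q₀ := by
    intro T' f hf hPT' hfm hlt'
    obtain ⟨g, hg, hgN, hgT⟩ := exists_normalizing hS (normalizerIn_le P) hlt'
    set M := normalizerIn S T' ⊓ normalizerIn S P with hMdef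
    have hT'M : T' ≤ M := le_inf (le_normalizerIn hf.left_le) hlt'.le
    have hlt'' : T' < M := SetLike.lt_iff_le_and_exists.2
      ⟨hT'M, g, Subgroup.mem_inf.2 ⟨⟨hg.1, hgN⟩, hg⟩, hgT⟩
    obtain ⟨β, hβ, χ, hχ, hχe⟩ :=
      exists_extension_stab hS hf hT₀ hT₀r hfm hconj (M := M) inf_le_left inf_le_right
    let j := subEquiv f hPT' hQ₀T hfm
    let k : P ≃* Q₀ := j.trans (resAut F hT₀ hQ₀T ⟨β, hβ⟩)
    have hkext : ∀ x : P, χ (Subgroup.inclusion (hPT'.trans hT'M) x) = (k x : Ω) :=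
      fun x => hχe ⟨x, hPT' x.2⟩ _
    haveI := finite_of_le hQ₀S
    have hχN : ∀ x, χ x ∈ normalizerIn S Q₀ := fun x =>
      ⟨map_mem hχ x, extend_maps_normalizer (hPT'.trans hT'M) hkext x.2.2.2⟩
    refine ⟨⟨β, hβ⟩, ?_, M, χ, rfl, hχ, hχe, hχN⟩
    refine ih M _ (F.comp_mem hχ hχ₀ hχN) ?_ (lt_of_le_of_lt hPT' hlt'') inf_le_right _
      (mul_mem (ht _) ((mem_autGroup hP).2 ((isFIso_subEquiv hf _ _ _).trans hφQ))) fun x => ?_
    · rw [Nat.card_congr e.toEquiv, ← Nat.card_congr f.toEquiv]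
      exact card_lt_of_lt (inf_le_left.trans (normalizerIn_le T')) hlt''
    · show χ₀ ⟨χ (Subgroup.inclusion (hPT'.trans hT'M) x), hχN _⟩ =
        ((φQ (resAut F hT₀ hQ₀T ⟨β, hβ⟩ (φQ.symm (φQ (j x)))) : P) : Ω)
      rw [φQ.symm_apply_apply]
      exact congrArg χ₀ (Subtype.ext (hkext x))
  have hTlt : T < normalizerIn S P :=
    lt_of_le_of_ne hTN fun h => hWT (h ▸ coreW_le p F P)
  have hrlt : ψ.range < normalizerIn S P :=
    lt_of_le_of_ne hrN fun h => hWr (h ▸ coreW_le p F P)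
  let e' : ψ.range ≃* T₀ := (isoOf ψ hψ rfl).symm.trans e
  have hmem' : ∀ x : ψ.range, (e' x : Ω) ∈ Q₀ ↔ (x : Ω) ∈ P := by
    rintro ⟨_, z, rfl⟩
    have h1 : (isoOf ψ hψ rfl).symm ⟨ψ z, z, rfl⟩ = z := isoOf_symm_apply ψ hψ rfl rfl
    show (e ((isoOf ψ hψ rfl).symm ⟨ψ z, z, rfl⟩) : Ω) ∈ Q₀ ↔ _
    rw [h1, hmem]
    refine ⟨fun hz => ?_, fun hz => ?_⟩
    · show ψ z ∈ P
      rw [show z = Subgroup.inclusion hlt.le ⟨z, hz⟩ from rfl, hext]
      exact (a _).2
    · have h2 : z = Subgroup.inclusion hlt.le (a⁻¹ ⟨ψ z, hz⟩) := F.injective_of_mem hψ <| by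
        rw [hext, MulAut.apply_inv_self]
      rw [h2]
      exact (a⁻¹ ⟨ψ z, hz⟩).2
  have he' : IsFIso F e' := (isFIso_isoOf ψ hψ rfl).symm.trans he
  obtain ⟨β₁, h₁, M, χ, hM, hχ, hχe, hχN⟩ := side T e he hlt.le hmem hTlt
  obtain ⟨β₂, h₂, -⟩ := side ψ.range e' he' hPr hmem' hrlt
  let j : MulAut P := eQ.trans φQ
  have hj2 : (subEquiv e' hPr hQ₀T hmem').trans φQ = j * a⁻¹ := by
    refine MulEquiv.ext fun x => ?_
    show φQ (subEquiv e' hPr hQ₀T hmem' x) = φQ (eQ (a⁻¹ x))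
    congr 1
    refine Subtype.ext (congrArg (fun z => (e z : Ω)) ?_)
    exact isoOf_symm_apply ψ hψ rfl
      (x := Subgroup.inclusion hlt.le (a⁻¹ x)) (by rw [hext, MulAut.apply_inv_self])
  rw [hj2] at h₂
  -- the stabilizer of the moved pair
  have key : ∀ κ : pStab F hT₀ Q₀, t κ ∈ (resAut F hW hPW).range := by
    intro κ
    haveI := finite_of_le hT₀
    let B : Subgroup (pStab F hT₀ Q₀) := (coreAut p F P).comap t
    haveI hBn : B.Normal := ⟨fun b hb k => by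
      show t (k * b * k⁻¹) ∈ coreAut p F P
      rw [map_mul, map_mul, map_inv]
      exact coreAut_conj (ht k) hb⟩
    let BS : Subgroup B :=
      (autInducedBy S T₀).comap ((pStab F hT₀ Q₀).subtype.comp B.subtype)
    have hinj : Function.Injective ((pStab F hT₀ Q₀).subtype.comp B.subtype) :=
      Subtype.coe_injective.comp Subtype.coe_injective
    have hBS : IsPGroup p BS := (autInducedBy_isPGroup hS T₀).comap_of_injective _ hinj
    obtain ⟨V, hV⟩ := hBS.exists_le_sylow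
    have hVBS : (V : Subgroup B) = BS := by
      obtain ⟨k, hk, hkV⟩ := hconj ((V : Subgroup B).map
        ((pStab F hT₀ Q₀).subtype.comp B.subtype))
        (by rintro _ ⟨v, -, rfl⟩; exact (v : pStab F hT₀ Q₀).2) (V.2.map _)
      let k' : pStab F hT₀ Q₀ := ⟨k, hk⟩
      have hsub : ∀ v ∈ (V : Subgroup B), (MulAut.conjNormal k' v : B) ∈ BS := fun v hv => by
        have h1 := hkV _ (Subgroup.mem_map_of_mem ((pStab F hT₀ Q₀).subtype.comp B.subtype) hv)
        simpa [BS, Subgroup.mem_comap, MulAut.conjNormal_apply, k'] using h1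
      refine (Subgroup.eq_of_le_of_card_ge hV ?_).symm
      exact Nat.card_le_card_of_injective
        (fun v : (V : Subgroup B) => (⟨MulAut.conjNormal k' (v : B), hsub _ v.2⟩ : BS))
        fun v w hvw => Subtype.ext ((MulAut.conjNormal k').injective (congrArg Subtype.val hvw))
    have hκ : κ ∈ Subgroup.normalizer
        (((V : Subgroup B).map B.subtype : Subgroup _) : Set (pStab F hT₀ Q₀)) ⊔ B := by
      rw [Sylow.normalizer_sup_eq_top]
      trivial
    obtain ⟨ν, hν, b, hb, rfl⟩ := Subgroup.mem_sup_of_normal_right.1 hκ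
    rw [map_mul]
    refine mul_mem ?_ ?_
    · -- the part normalizing the Sylow subgroup
      have hνT : IsFIso F (ν : MulAut T₀) := (mem_autGroup hT₀).1 (mem_pStab.1 ν.2).1
      obtain ⟨θ, hθ, hθext⟩ := receptive_extend hT₀r hνT
      set T₁ := extender S T₀ (T₀.subtype.comp (ν : MulAut T₀).toMonoidHom) ⊓
        normalizerIn S Q₀ with hT₁
      have hT₀ext : T₀ ≤ extender S T₀ (T₀.subtype.comp (ν : MulAut T₀).toMonoidHom) :=
        le_extender hT₀ fun x => map_mem hνT x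
      have hQ₀T₁ : Q₀ ≤ T₁ := le_inf (hQ₀T.trans hT₀ext) (le_normalizerIn hQ₀S)
      have hPN : T ⊔ coreW p F P ≤ normalizerIn S P := sup_le hTN (coreW_le p F P)
      obtain ⟨g, hg, hgN, hgT⟩ := exists_normalizing hS (hPN.trans (normalizerIn_le P))
        (lt_of_le_of_ne le_sup_left fun h => hWT (le_sup_right.trans h.ge))
      rw [← SetLike.mem_coe, Subgroup.coe_mul_of_left_le_normalizer_right T (coreW p F P)
        (fun x hx => (normalizerIn_le_coreW hP (hTN hx)).2)] at hg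
      obtain ⟨x, hx, w, hw, rfl⟩ := hg
      have hwT : w ∈ Subgroup.normalizer (T : Set Ω) := by
        have := mul_mem (inv_mem (Subgroup.le_normalizer hx)) hgN
        rwa [inv_mul_cancel_left] at this
      have hwn : w ∉ T := fun h => hgT (mul_mem hx h)
      obtain ⟨hwN, hwc⟩ := mem_coreW.1 hw
      have hwM : w ∈ M := hM ▸ Subgroup.mem_inf.2 ⟨⟨hwN.1, hwT⟩, hwN⟩
      have hTM : T ≤ M := hM ▸ le_inf (le_normalizerIn hTS) hTN
      haveI := finite_of_le hT₀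
      let g₀ := χ ⟨w, hwM⟩
      have hg₀T : g₀ ∈ normalizerIn S T₀ := ⟨map_mem hχ _,
        extend_maps_normalizer (e := e.trans (β₁ : MulAut T₀)) hTM (fun z => hχe z (hTM z.2))
          hwT⟩
      have hg₀Q : g₀ ∈ normalizerIn S Q₀ := hχN _
      have hg₀n : g₀ ∉ T₀ := by
        intro h
        obtain ⟨z, hz⟩ := (e.trans (β₁ : MulAut T₀)).surjective ⟨g₀, h⟩
        have h1 : χ ⟨z, hTM z.2⟩ = χ ⟨w, hwM⟩ :=
          (hχe z (hTM z.2)).trans (congrArg Subtype.val hz)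
        have h2 : (z : Ω) = w := congrArg Subtype.val (F.injective_of_mem hχ h1)
        exact hwn (h2 ▸ z.2)
      let c : pStab F hT₀ Q₀ :=
        ⟨conjAut S T₀ ⟨g₀, hg₀T⟩, conjAut_mem_pStab hT₀ hg₀T hg₀Q.2⟩
      have hcB : c ∈ B := by
        show t c ∈ coreAut p F P
        rw [htc g₀ hg₀T hg₀Q]
        have hPM : P ≤ M := hlt.le.trans hTM
        let a₁ : MulAut P := t β₁ * j
        have hz : ∀ x : P,
            χ₀ ⟨χ (Subgroup.inclusion hPM x), hχN _⟩ = ((a₁ x : P) : Ω) := fun x => by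
          show _ = ((φQ (resAut F hT₀ hQ₀T β₁ (φQ.symm (φQ (eQ x)))) : P) : Ω)
          rw [φQ.symm_apply_apply]
          exact congrArg χ₀ (Subtype.ext (hχe ⟨x, hlt.le x.2⟩ _))
        have h3 := conjAut_map (e := a₁) (ψ := χ₀.comp (χ.codRestrict _ hχN)) hPM hz
          ⟨w, hwM⟩ hwN (hχ₀N _)
        refine Eq.mpr (congrArg (fun z => z ∈ coreAut p F P) (h3.trans (congr_eq_conj _ _))) ?_
        exact coreAut_conj (mul_mem (ht _) ((mem_autGroup hP).2 (heQ.trans hφQ))) hwc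
      have hcV : (⟨c, hcB⟩ : B) ∈ (V : Subgroup B) :=
        hVBS ▸ (show (c : MulAut T₀) ∈ autInducedBy S T₀ from (conjAut_range S T₀).le ⟨_, rfl⟩)
      have hg₀T₁ : g₀ ∈ T₁ := by
        refine Subgroup.mem_inf.2 ⟨mem_extender.2 ⟨hg₀T.1, hg₀T.2, ?_⟩, hg₀Q⟩
        obtain ⟨v, hv, hve⟩ := (Subgroup.mem_normalizer_iff.1 hν c).1 ⟨_, hcV, rfl⟩
        rw [hVBS] at hv
        obtain ⟨s, hs, hsx⟩ := mem_autInducedBy.1
          (show ((v : pStab F hT₀ Q₀) : MulAut T₀) ∈ autInducedBy S T₀ from hv)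
        refine ⟨s, hs, fun y hy => ?_⟩
        refine Eq.trans ?_ (hsx ((ν : MulAut T₀) y))
        rw [show ((v : pStab F hT₀ Q₀) : MulAut T₀) = (ν : MulAut T₀) * c * (ν : MulAut T₀)⁻¹
          from congrArg Subtype.val hve, MulAut.mul_apply, MulAut.mul_apply,
          MulAut.inv_apply_self]
        rfl
      have hT₀T₁ : T₀ ⊓ normalizerIn S Q₀ ≤ T₁ := inf_le_inf_right _ hT₀ext
      have hT₀N : T₀ ≤ normalizerIn S Q₀ := by
        intro y hy
        obtain ⟨z, hz⟩ := (e.trans (β₁ : MulAut T₀)).surjective ⟨y, hy⟩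
        have h1 := hχN ⟨z, hTM z.2⟩
        rw [hχe z (hTM z.2)] at h1
        have h2 : ((((β₁ : MulAut T₀) (e z)) : T₀) : Ω) = y := congrArg Subtype.val hz
        exact h2 ▸ h1
      have hltT₁ : T₀ < T₁ := SetLike.lt_iff_le_and_exists.2
        ⟨fun y hy => hT₀T₁ ⟨hy, hT₀N hy⟩, g₀, hg₀T₁, hg₀n⟩
      have hT₁S : T₁ ≤ S := inf_le_right.trans (normalizerIn_le Q₀)
      haveI := finite_of_le hQ₀S
      have hθN : ∀ y : T₁, θ (Subgroup.inclusion inf_le_left y) ∈ normalizerIn S Q₀ := fun y =>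
        ⟨map_mem hθ _, extend_maps_normalizer (e := resAut F hT₀ hQ₀T ν)
          (hQ₀T.trans hT₀ext) (fun z => hθext z (hQ₀T z.2) _) y.2.2.2⟩
      set T₂ := img χ₀ T₁ with hT₂
      let ι : T₁ ≃* T₂ := resIso χ₀ (F.injective_of_mem hχ₀) inf_le_right
      have hι : IsFIso F ι := isFIso_resIso hχ₀ _
      let ψ₂ : T₂ →* Ω :=
        (χ₀.comp ((θ.comp (Subgroup.inclusion inf_le_left)).codRestrict _ hθN)).comp
          ι.symm.toMonoidHom
      have hψ₂ : ψ₂ ∈ F.Hom T₂ :=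
        hom_congr (F.comp_mem hι.symm
          (F.comp_mem (restrict hθ (inf_le_left : T₁ ≤ _)) hχ₀ hθN) fun y => (ι.symm y).2)
          (fun _ => rfl)
      have hPT₂ : P ≤ T₂ := hχ₀Q ▸ img_mono χ₀ hQ₀T₁
      have hcard₂ : Nat.card T < Nat.card T₂ := by
        rw [Nat.card_congr e.toEquiv, ← Nat.card_congr ι.toEquiv]
        exact card_lt_of_lt hT₁S hltT₁
      refine ih T₂ ψ₂ hψ₂ hcard₂ (lt_of_le_of_ne hPT₂ fun h => ?_) ?_ _ (ht ν) fun x => ?_
      · rw [h] at hcard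
        omega
      · intro y hy
        obtain ⟨z, -, rfl⟩ := mem_img.1 hy
        exact hχ₀N z
      · have h4 : ι.symm (Subgroup.inclusion hPT₂ x) = Subgroup.inclusion hQ₀T₁ (φQ.symm x) := by
          rw [MulEquiv.symm_apply_eq]
          exact Subtype.ext (congrArg Subtype.val (φQ.apply_symm_apply x)).symm
        show χ₀ ⟨θ (Subgroup.inclusion _ (ι.symm (Subgroup.inclusion _ x))), _⟩ =
          ((φQ (resAut F hT₀ hQ₀T ν (φQ.symm x)) : P) : Ω)
        refine congrArg χ₀ (Subtype.ext ?_)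
        show θ _ = _
        rw [h4]
        exact hθext _ (hQ₀T (φQ.symm x).2) _
    · -- the part inside the core
      let r : B →* coreAut p F P := (t.comp B.subtype).codRestrict _ fun z => z.2
      have hr : Function.Surjective r.rangeRestrict := r.rangeRestrict_surjective
      have hmax := (V.mapSurjective hr).3
        (Q := ⊤) ((((coreAut_isPGroup p F P).to_subgroup r.range)).to_subgroup ⊤) le_top
      rw [Sylow.coe_mapSurjective] at hmax
      obtain ⟨v, hv, hvb⟩ : r.rangeRestrict ⟨b, hb⟩ ∈ (V : Subgroup B).map r.rangeRestrict :=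
        hmax ▸ Subgroup.mem_top _
      have hvb' : t (v : pStab F hT₀ Q₀) = t b := congrArg
        (fun z : r.range => ((z : coreAut p F P) : MulAut P)) hvb
      rw [← hvb']
      refine autInducedBy_le_range hP hW hPW ?_
      rw [hVBS] at hv
      obtain ⟨g, hgS, hgx⟩ := mem_autInducedBy.1
        (show ((v : pStab F hT₀ Q₀) : MulAut T₀) ∈ autInducedBy S T₀ from hv)
      have hgT₀ : g ∈ normalizerIn S T₀ := ⟨hgS, mem_normalizer_of_induced hgx⟩
      have hgQ : g ∈ normalizerIn S Q₀ :=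
        ⟨hgS, mem_normalizer_of_pStab hQ₀T (v : pStab F hT₀ Q₀).2 hgx⟩
      rw [show (v : pStab F hT₀ Q₀) =
          ⟨conjAut S T₀ ⟨g, hgT₀⟩, conjAut_mem_pStab hT₀ hgT₀ hgQ.2⟩ from
        Subtype.ext (MulEquiv.ext fun y => Subtype.ext (hgx y)), htc g hgT₀ hgQ, ← conjAut_range]
      exact ⟨_, rfl⟩
  have hfin : a = (t β₂ * (j * a⁻¹))⁻¹ * t (β₂ * β₁⁻¹) * (t β₁ * j) := by
    rw [map_mul, map_inv]
    group
  rw [hfin]
  exact mul_mem (mul_mem (inv_mem h₂) (key _)) h₁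

set_option maxHeartbeats 1000000 in
/-- If `K` contains the automorphisms induced from `S` and those of order prime to `p`, it
contains every automorphism extending to a larger subgroup of the normalizer. -/
theorem mem_of_extend (hS : IsPGroup p S) {D : FusionSystem S} {P : Subgroup Ω} (hP : P ≤ S)
    (hnm : ∀ Q, D.IsConj P Q →
      ∃ χ ∈ D.Hom (normalizerIn S Q), (∀ x, χ x ∈ normalizerIn S P) ∧ H85.img χ Q = P)
    (hbig : ∀ T : Subgroup Ω, P < T → T ≤ normalizerIn S P → Sat p D T)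
    {K : Subgroup (MulAut P)} (hKS : autInducedBy S P ≤ K)
    (hKp : ∀ a ∈ D.autGroup P, (orderOf a).Coprime p → a ∈ K)
    {T : Subgroup Ω} {ψ : T →* Ω} (hψ : ψ ∈ D.Hom T) (hlt : P < T) (hTN : T ≤ normalizerIn S P)
    {a : MulAut P} (ha : a ∈ D.autGroup P)
    (hext : ∀ x : P, ψ (Subgroup.inclusion hlt.le x) = ((a x : P) : Ω)) : a ∈ K := by
  obtain ⟨n, hn⟩ : ∃ n, Nat.card S - Nat.card T = n := ⟨_, rfl⟩
  induction n using Nat.strong_induction_on generalizing T a with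
  | _ n ih =>
  subst hn
  replace ih : ∀ (T' : Subgroup Ω) (ψ' : T' →* Ω), ψ' ∈ D.Hom T' → Nat.card T < Nat.card T' →
      ∀ hlt' : P < T', T' ≤ normalizerIn S P → ∀ a' ∈ D.autGroup P,
      (∀ x : P, ψ' (Subgroup.inclusion hlt'.le x) = ((a' x : P) : Ω)) →
      a' ∈ K := fun T' ψ' hψ' hc hlt' hN' a' ha' hext' => by
    have hT'S := Subgroup.card_le_of_le (source_le hψ')
    exact ih _ (by omega) hψ' hlt' hN' ha' hext' rfl
  have hTS := source_le hψ
  haveI := finite_of_le hP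
  haveI := finite_of_le hTS
  have hrN : ψ.range ≤ normalizerIn S P := by
    rintro _ ⟨x, rfl⟩
    exact ⟨map_mem hψ x, extend_maps_normalizer hlt.le hext (hTN x.2).2⟩
  have hPr : P ≤ ψ.range := fun y hy =>
    ⟨Subgroup.inclusion hlt.le (a⁻¹ ⟨y, hy⟩), by rw [hext, MulAut.apply_inv_self]⟩
  obtain ⟨T₀, hT₀, e, Q₀, he, hT₀a, hT₀r, hQ₀T, hmem, hconj⟩ :=
    exists_move (U := P) hTS (hbig T hlt hTN)
  have hQ₀S : Q₀ ≤ S := hQ₀T.trans hT₀
  haveI := finite_of_le hT₀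
  let eQ := subEquiv e hlt.le hQ₀T hmem
  have heQ : IsFIso D eQ := isFIso_subEquiv he _ _ _
  obtain ⟨χ₀, hχ₀, hχ₀N, hχ₀Q⟩ := hnm Q₀ heQ.isConj
  let φQ : Q₀ ≃* P :=
    (resIso χ₀ (D.injective_of_mem hχ₀) (le_normalizerIn hQ₀S)).trans
      (MulEquiv.subgroupCongr hχ₀Q)
  have hφQ : IsFIso D φQ := hom_congr (restrict hχ₀ (le_normalizerIn hQ₀S)) (fun _ => rfl)
  let t : pStab D hT₀ Q₀ →* MulAut P :=
    (MulAut.congr φQ).toMonoidHom.comp (resAut D hT₀ hQ₀T)
  have ht : ∀ β, t β ∈ D.autGroup P := fun β => congr_mem_autGroup hφQ (resAut_mem D hT₀ hQ₀T β)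
  haveI : Finite (D.autGroup T₀) := H85.finite_autGroup D hT₀
  haveI : Finite (pStab D hT₀ Q₀) := Finite.of_injective
    (fun y : pStab D hT₀ Q₀ => (⟨(y : MulAut T₀), (mem_pStab.1 y.2).1⟩ : D.autGroup T₀))
    fun _ _ h => Subtype.ext (Subtype.mk.inj h)
  have key : ∀ κ : pStab D hT₀ Q₀, t κ ∈ K := by
    obtain ⟨Y⟩ : Nonempty (Sylow p (pStab D hT₀ Q₀)) := inferInstance
    obtain ⟨k, hk, hkY⟩ := hconj ((Y : Subgroup _).map (pStab D hT₀ Q₀).subtype)
      (Subgroup.map_subtype_le _) (Y.2.map _)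
    let k' : pStab D hT₀ Q₀ := ⟨k, hk⟩
    have hle : ((k' • Y : Sylow p (pStab D hT₀ Q₀)) : Subgroup _) ≤ K.comap t := by
      rintro _ ⟨y, hy, rfl⟩
      have h1 := hkY _ ⟨y, hy, rfl⟩
      obtain ⟨g, hgS, hgx⟩ := mem_autInducedBy.1 h1
      have hst : k' * y * k'⁻¹ ∈ (⊤ : Subgroup (pStab D hT₀ Q₀)) := Subgroup.mem_top _
      have hgT₀ : g ∈ normalizerIn S T₀ := ⟨hgS, mem_normalizer_of_induced hgx⟩
      have hgQ : g ∈ normalizerIn S Q₀ :=
        ⟨hgS, mem_normalizer_of_pStab hQ₀T (k' * y * k'⁻¹).2 hgx⟩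
      show t (k' * y * k'⁻¹) ∈ K
      rw [show k' * y * k'⁻¹ = (⟨conjAut S T₀ ⟨g, hgT₀⟩, conjAut_mem_pStab hT₀ hgT₀ hgQ.2⟩ :
        pStab D hT₀ Q₀) from Subtype.ext (MulEquiv.ext fun x => Subtype.ext (hgx x))]
      show MulAut.congr φQ (resAut D hT₀ hQ₀T _) ∈ K
      rw [resAut_conjAut D hT₀ hQ₀T hgT₀ hgQ,
        ← conjAut_map (e := φQ) (le_normalizerIn hQ₀S) (fun _ => rfl) ⟨g, hgQ⟩ hgQ (hχ₀N _)]
      exact hKS (conjAut_range S P ▸ ⟨_, rfl⟩)
    have htop := H86.CLift.eq_top_of_coprime (K.comap t) (k' • Y) hle fun x hx =>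
      hKp _ (ht x) (Nat.Coprime.of_dvd_left (orderOf_map_dvd t x) hx)
    exact fun κ => htop.ge (Subgroup.mem_top κ)
  have side : ∀ (T' : Subgroup Ω) (f : T' ≃* T₀), IsFIso D f → ∀ hPT' : P ≤ T',
      ∀ hfm : ∀ x : T', (f x : Ω) ∈ Q₀ ↔ (x : Ω) ∈ P, T' < normalizerIn S P →
      ∃ β : pStab D hT₀ Q₀, t β * (subEquiv f hPT' hQ₀T hfm).trans φQ ∈ K := by
    intro T' f hf hPT' hfm hlt'
    obtain ⟨g, hg, hgN, hgT⟩ := exists_normalizing hS (normalizerIn_le P) hlt'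
    set M := normalizerIn S T' ⊓ normalizerIn S P with hMdef
    have hT'M : T' ≤ M := le_inf (le_normalizerIn hf.left_le) hlt'.le
    have hlt'' : T' < M := SetLike.lt_iff_le_and_exists.2
      ⟨hT'M, g, Subgroup.mem_inf.2 ⟨⟨hg.1, hgN⟩, hg⟩, hgT⟩
    obtain ⟨β, hβ, χ, hχ, hχe⟩ :=
      exists_extension_stab hS hf hT₀ hT₀r hfm hconj (M := M) inf_le_left inf_le_right
    let j := subEquiv f hPT' hQ₀T hfm
    let k : P ≃* Q₀ := j.trans (resAut D hT₀ hQ₀T ⟨β, hβ⟩)
    have hkext : ∀ x : P, χ (Subgroup.inclusion (hPT'.trans hT'M) x) = (k x : Ω) :=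
      fun x => hχe ⟨x, hPT' x.2⟩ _
    haveI := finite_of_le hQ₀S
    have hχN : ∀ x, χ x ∈ normalizerIn S Q₀ := fun x =>
      ⟨map_mem hχ x, extend_maps_normalizer (hPT'.trans hT'M) hkext x.2.2.2⟩
    refine ⟨⟨β, hβ⟩, ih M _ (D.comp_mem hχ hχ₀ hχN) ?_ (lt_of_le_of_lt hPT' hlt'') inf_le_right _
      (mul_mem (ht _) ((mem_autGroup hP).2 ((isFIso_subEquiv hf _ _ _).trans hφQ))) fun x => ?_⟩
    · rw [Nat.card_congr e.toEquiv, ← Nat.card_congr f.toEquiv]
      exact card_lt_of_lt (inf_le_left.trans (normalizerIn_le T')) hlt''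
    · show χ₀ ⟨χ (Subgroup.inclusion (hPT'.trans hT'M) x), hχN _⟩ =
        ((φQ (resAut D hT₀ hQ₀T ⟨β, hβ⟩ (φQ.symm (φQ (j x)))) : P) : Ω)
      rw [φQ.symm_apply_apply]
      exact congrArg χ₀ (Subtype.ext (hkext x))
  let e' : ψ.range ≃* T₀ := (isoOf ψ hψ rfl).symm.trans e
  have he' : IsFIso D e' := (isFIso_isoOf ψ hψ rfl).symm.trans he
  let j : MulAut P := eQ.trans φQ
  have hψP : ∀ z : T, ψ z ∈ P ↔ (z : Ω) ∈ P := by
    intro z
    refine ⟨fun hz => ?_, fun hz => ?_⟩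
    · have h2 : z = Subgroup.inclusion hlt.le (a⁻¹ ⟨ψ z, hz⟩) := D.injective_of_mem hψ <| by
        rw [hext, MulAut.apply_inv_self]
      rw [h2]
      exact (a⁻¹ ⟨ψ z, hz⟩).2
    · rw [show z = Subgroup.inclusion hlt.le ⟨z, hz⟩ from rfl, hext]
      exact (a _).2
  rcases eq_or_lt_of_le hTN with hTeq | hTlt
  · -- `T = N_S(P)`: `ψ` is an automorphism of `T`
    subst hTeq
    have hreq : ψ.range = normalizerIn S P := Subgroup.eq_of_le_of_card_ge hrN
      (Nat.card_congr (isoOf ψ hψ rfl).toEquiv).le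
    let b : MulAut (normalizerIn S P) := isoOf ψ hψ hreq
    haveI := H85.finite_autGroup D hTS
    haveI : Finite (pStab D hTS P) := Finite.of_injective
      (fun y : pStab D hTS P =>
        (⟨(y : MulAut (normalizerIn S P)), (mem_pStab.1 y.2).1⟩ : D.autGroup (normalizerIn S P)))
      fun _ _ h => Subtype.ext (Subtype.ext_iff.1 h :)
    have hb : b ∈ pStab D hTS P :=
      mem_pStab.2 ⟨(mem_autGroup hTS).2 (isFIso_isoOf ψ hψ hreq), fun x hx => (hψP x).2 hx⟩
    haveI := finite_of_le hQ₀S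
    have hT₀N : T₀ ≤ normalizerIn S Q₀ := by
      intro y hy
      obtain ⟨x, hx⟩ := e.surjective ⟨y, hy⟩
      have h1 := extend_maps_normalizer (e := eQ) (ψ := T₀.subtype.comp e.toMonoidHom) hlt.le
        (fun _ => rfl) (g := x) x.2.2
      rw [show (T₀.subtype.comp e.toMonoidHom) x = y from congrArg Subtype.val hx] at h1
      exact ⟨hT₀ hy, h1⟩
    have himg : H85.img χ₀ T₀ = normalizerIn S P := by
      refine Subgroup.eq_of_le_of_card_ge ?_ ?_
      · intro y hy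
        obtain ⟨x, -, rfl⟩ := mem_img.1 hy
        exact hχ₀N x
      · rw [← isConj_card (isConj_img hχ₀ hT₀N), ← Nat.card_congr e.toEquiv]
    let φW : T₀ ≃* normalizerIn S P :=
      (resIso χ₀ (D.injective_of_mem hχ₀) hT₀N).trans (MulEquiv.subgroupCongr himg)
    have hφW : IsFIso D φW := hom_congr (restrict hχ₀ hT₀N) (fun _ => rfl)
    let em : pStab D hTS P →* MulAut T₀ :=
      (MulAut.congr e).toMonoidHom.comp (pStab D hTS P).subtype
    have hem : ∀ y, em y ∈ pStab D hT₀ Q₀ := fun y => by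
      refine mem_pStab.2 ⟨congr_mem_autGroup he (mem_pStab.1 y.2).1, fun x hx => ?_⟩
      show (e ((y : MulAut _) (e.symm x)) : Ω) ∈ Q₀
      rw [hmem]
      refine (mem_pStab.1 y.2).2 _ ?_
      rw [← hmem, e.apply_symm_apply]
      exact hx
    obtain ⟨Y⟩ : Nonempty (Sylow p (pStab D hTS P)) := inferInstance
    obtain ⟨k, hk, hkY⟩ := hconj ((Y : Subgroup _).map em)
      (by rintro _ ⟨y, -, rfl⟩; exact hem y) (Y.2.map _)
    let e₁ : MulAut (normalizerIn S P) := (e.trans k).trans φW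
    have he₁ : e₁ ∈ pStab D hTS P := mem_pStab.2
      ⟨(mem_autGroup hTS).2 ((he.trans ((mem_autGroup hT₀).1 (mem_pStab.1 hk).1)).trans hφW),
        fun x hx => by
          have h1 := (mem_pStab.1 hk).2 _ ((hmem x).2 hx)
          show χ₀ ⟨(k (e x) : Ω), _⟩ ∈ P
          exact hχ₀Q.le (apply_mem_img h1)⟩
    let r := resAut D hTS hlt.le
    have hle : (((⟨e₁, he₁⟩ : pStab D hTS P) • Y : Sylow p (pStab D hTS P)) : Subgroup _) ≤
        K.comap r := by
      rintro _ ⟨y, hy, rfl⟩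
      obtain ⟨g, hgS, hgx⟩ := mem_autInducedBy.1 (hkY _ (Subgroup.mem_map_of_mem em hy))
      have hst : k * em y * k⁻¹ ∈ pStab D hT₀ Q₀ := mul_mem (mul_mem hk (hem y)) (inv_mem hk)
      have hgT₀ : g ∈ normalizerIn S T₀ := ⟨hgS, mem_normalizer_of_induced hgx⟩
      have hgQ : g ∈ normalizerIn S Q₀ := ⟨hgS, mem_normalizer_of_pStab hQ₀T hst hgx⟩
      show r (⟨e₁, he₁⟩ * y * ⟨e₁, he₁⟩⁻¹) ∈ K
      have hgN : χ₀ ⟨g, hgQ⟩ ∈ normalizerIn S (normalizerIn S P) :=
        ⟨map_mem hχ₀ _, Subgroup.le_normalizer (hχ₀N ⟨g, hgQ⟩)⟩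
      rw [show (⟨e₁, he₁⟩ * y * ⟨e₁, he₁⟩⁻¹ : pStab D hTS P) =
          ⟨conjAut S _ ⟨_, hgN⟩, conjAut_mem_pStab hTS hgN (hχ₀N ⟨g, hgQ⟩).2⟩ from
        Subtype.ext ?_, resAut_conjAut D hTS hlt.le hgN (hχ₀N ⟨g, hgQ⟩)]
      · exact hKS (conjAut_range S P ▸ ⟨_, rfl⟩)
      show e₁ * (y : MulAut _) * e₁⁻¹ = conjAut S _ ⟨χ₀ ⟨g, hgQ⟩, _⟩
      rw [conjAut_map (e := φW) hT₀N (fun _ => rfl) ⟨g, hgQ⟩ hgT₀,
        show conjAut S T₀ ⟨g, hgT₀⟩ = k * em y * k⁻¹ from
          MulEquiv.ext fun x => Subtype.ext (hgx x).symm]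
      exact MulEquiv.ext fun x => rfl
    have htop := H86.CLift.eq_top_of_coprime (K.comap r) _ hle fun x hx =>
      hKp _ (resAut_mem D hTS hlt.le x) (Nat.Coprime.of_dvd_left (orderOf_map_dvd r x) hx)
    have h3 : r ⟨b, hb⟩ ∈ K := htop.ge (Subgroup.mem_top _)
    rwa [show r ⟨b, hb⟩ = a from MulEquiv.ext fun x => Subtype.ext (hext x)] at h3
  have hcard : Nat.card ψ.range = Nat.card T := (Nat.card_congr (isoOf ψ hψ rfl).toEquiv).symm
  have hrlt : ψ.range < normalizerIn S P := lt_of_le_of_ne hrN fun h => by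
    have h1 := card_lt_of_lt (normalizerIn_le P) hTlt
    rw [← hcard, h] at h1
    exact lt_irrefl _ h1
  have hmem' : ∀ x : ψ.range, (e' x : Ω) ∈ Q₀ ↔ (x : Ω) ∈ P := by
    rintro ⟨_, z, rfl⟩
    show (e ((isoOf ψ hψ rfl).symm ⟨ψ z, z, rfl⟩) : Ω) ∈ Q₀ ↔ _
    rw [isoOf_symm_apply ψ hψ rfl (x := z) rfl, hmem]
    exact (hψP z).symm
  obtain ⟨β₁, h₁⟩ := side T e he hlt.le hmem hTlt
  obtain ⟨β₂, h₂⟩ := side ψ.range e' he' hPr hmem' hrlt
  have hj2 : (subEquiv e' hPr hQ₀T hmem').trans φQ = j * a⁻¹ := by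
    refine MulEquiv.ext fun x => ?_
    show φQ (subEquiv e' hPr hQ₀T hmem' x) = φQ (eQ (a⁻¹ x))
    congr 1
    refine Subtype.ext (congrArg (fun z => (e z : Ω)) ?_)
    exact isoOf_symm_apply ψ hψ rfl
      (x := Subgroup.inclusion hlt.le (a⁻¹ x)) (by rw [hext, MulAut.apply_inv_self])
  rw [hj2] at h₂
  have hfin : a = (t β₂ * (j * a⁻¹))⁻¹ * t (β₂ * β₁⁻¹) * (t β₁ * j) := by
    rw [map_mul, map_inv]
    group
  rw [hfin]
  exact mul_mem (mul_mem (inv_mem h₂) (key _)) h₁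

end H89.KeyCrit
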