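import Cfsg.Agent.H89.LayerExists
import Cfsg.Agent.H89.TransportComponent

/-!
The layer of a normal subsystem is weakly normal; a layer is its own layer.
-/
set_option autoImplicit false
set_option linter.style.haveILetI false
set_option linter.unusedSectionVars false

open Cfsg Cfsg.FusionSystem

namespace H89

universe u

variable {Ω : Type u} [Group Ω] {S T W : Subgroup Ω} [Finite S] {p : ℕ} [Fact p.Prime]

/-- `F` lies in every normal subsystem containing all its components. -/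
def OwnLayer (p : ℕ) (F : FusionSystem S) : Prop :=
  ∀ (R : Subgroup Ω) (D : FusionSystem R), D.IsNormalIn F p →
    (∀ (U : Subgroup Ω) (C : FusionSystem U), C.IsComponentIn F p → C.IsSubsystemOf D) →
      F.IsSubsystemOf D

/-- Automorphisms of a normal subsystem fix its layer. -/
theorem layer_aut_stable (hS : IsPGroup p S) {F : FusionSystem S} {E : FusionSystem T}
    (hE : E.IsNormalIn F p) {L : FusionSystem W} (hL : L.IsLayerOf E p) {a : MulAut T}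
    (ha : a ∈ F.autGroup T) {Q : Subgroup Ω} {χ : Q →* Ω} (hχ : χ ∈ L.Hom Q) :
    ∃ (Q' : Subgroup Ω) (χ' : Q' →* Ω), χ' ∈ L.Hom Q' ∧
      ∀ (q : Q) (hq : (q : Ω) ∈ T) (hχq : χ q ∈ T), ∃ h : (a ⟨q, hq⟩ : Ω) ∈ Q',
        χ' ⟨a ⟨q, hq⟩, h⟩ = (a ⟨χ q, hχq⟩ : Ω) := by
  have hTS := hE.1.2.2.2.1.1
  haveI : Finite T := H85.finite_of_le hTS
  have hTp : IsPGroup p T := hS.to_le hTS
  have hWT := hL.1.1.2.2.2.1.1
  let g : T ≃* T := (a⁻¹ : MulAut T)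
  obtain ⟨L'', hL''⟩ := Tp.exists_tr g L hWT
  have hn : L''.IsNormalIn E p :=
    Tp.Tr.normal hTp hL'' (Tp.tr_self_of_normal hE (inv_mem ha)) hL.1
  have hall : ∀ (U : Subgroup Ω) (C : FusionSystem U), C.IsComponentIn E p →
      C.IsSubsystemOf L'' := fun U C hC => by
    obtain ⟨C₀, hC₀⟩ := Tp.exists_tr (a : T ≃* T) C (Tp.subnormal_le hC.1)
    have hsub := hL.2.1 _ C₀ (Tp.Tr.component hTp hC₀ (Tp.tr_self_of_normal hE ha) hC)
    exact Tp.Tr.subsystem (f := g) hC₀.symm hL'' hsub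
  obtain ⟨ψ, hψ, hA, hψT, hC, he⟩ := hL''.pull Q χ (hL.2.2 _ L'' hn hall Q hχ)
  refine ⟨_, ψ, hψ, fun q hq hχq => ?_⟩
  have hmem : (a ⟨q, hq⟩ : Ω) ∈ preimageAlong (Tp.hom g) Q := by
    refine Tp.mem_pre.2 ⟨(a ⟨q, hq⟩).2, ?_⟩
    show ((a⁻¹ : MulAut T) (a ⟨q, hq⟩) : Ω) ∈ Q
    rw [MulAut.inv_apply_self]
    exact q.2
  refine ⟨hmem, ?_⟩
  have h2 : χ q = ((a⁻¹ : MulAut T) ⟨ψ ⟨_, hmem⟩, hψT ⟨_, hmem⟩⟩ : Ω) := by
    refine (congrArg χ (Subtype.ext ?_)).trans (he ⟨_, hmem⟩)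
    exact (congrArg Subtype.val (MulAut.inv_apply_self _ a ⟨q, hq⟩)).symm
  rw [show (⟨χ q, hχq⟩ : T) = (a⁻¹ : MulAut T) ⟨ψ ⟨_, hmem⟩, hψT ⟨_, hmem⟩⟩ from Subtype.ext h2,
    MulAut.apply_inv_self]

/-- The layer of a normal subsystem is weakly normal. -/
theorem layer_weaklyNormal (hS : IsPGroup p S) {F : FusionSystem S} {E : FusionSystem T}
    (hE : E.IsNormalIn F p) {L : FusionSystem W} (hL : L.IsLayerOf E p) :
    L.IsWeaklyNormalIn F p := by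
  obtain ⟨⟨-, hF, hEF, hTc, -, hfr⟩, -⟩ := id hE
  obtain ⟨hLs, -, hLE, hWc, hLinv, hLfr⟩ := id hL.1.1
  have hTS := hTc.1
  have hWT := hWc.1
  haveI : Finite W := H85.finite_of_le (hWT.trans hTS)
  have haW : ∀ a ∈ F.autGroup T, ∀ (w : Ω) (hw : w ∈ W), (a ⟨w, hWT hw⟩ : Ω) ∈ W := by
    intro a ha w hw
    obtain ⟨Q', χ', hχ', h⟩ := layer_aut_stable hS hE hL ha (H85.id_mem L (le_refl W))
    exact H85.source_le hχ' (h ⟨w, hw⟩ (hWT hw) (hWT hw)).1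
  have hWF : F.StronglyClosed W := ⟨hWT.trans hTS, fun R hR φ hφ x => by
    obtain ⟨a, ha, φ₀, h₀, he⟩ := hfr R (hR.trans hWT) φ hφ
    rw [he x ((E.le_of_mem h₀).2 x)]
    exact haW a ha _ (hWc.2 R hR φ₀ h₀ x)⟩
  refine ⟨hLs, hF, fun P φ hφ => hEF P (hLE P hφ), hWF, fun P hP φ hφ α hα => ?_,
    fun P hP φ hφ => ?_⟩
  · obtain ⟨a, ha, φ₀, h₀, he⟩ := hfr W hWT _ ((H85.mem_autGroup hWF.1).1 hα)
    have hr : φ₀.range = W := H86.range_eq_self_of_le E h₀ (by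
      rintro _ ⟨x, rfl⟩
      exact hWc.2 W le_rfl φ₀ h₀ x)
    let α₀ : MulAut W := H86.autOfHom φ₀ (E.injective_of_mem h₀) hr
    obtain ⟨χ₀, hχ₀, hχ₀e⟩ := hLinv P hP φ hφ α₀ (H86.autOfHom_mem E h₀ hr)
    obtain ⟨Q', χ', hχ', hst⟩ := layer_aut_stable hS hE hL ha hχ₀
    have hval : ∀ w : W, (α w : Ω) = (a ⟨(α₀ w : Ω), hWT (α₀ w).2⟩ : Ω) := fun w =>
      he w (hWT (hWc.2 W le_rfl φ₀ h₀ w))
    have hmem0 : ∀ x : P, (α₀ ⟨x, hP x.2⟩ : Ω) ∈
        (P.subgroupOf W).map (W.subtype.comp α₀.toMonoidHom) := fun x =>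
      ⟨⟨x, hP x.2⟩, x.2, rfl⟩
    have hle : (P.subgroupOf W).map (W.subtype.comp α.toMonoidHom) ≤ Q' := by
      rintro _ ⟨w, hw, rfl⟩
      obtain ⟨h, -⟩ := hst ⟨_, hmem0 ⟨w, hw⟩⟩ (hWT (α₀ _).2) (hWT (H85.map_mem hχ₀ _))
      show (α w : Ω) ∈ Q'
      rw [hval]
      exact h
    refine ⟨_, H85.restrict hχ' hle, fun x hφx hαx => ?_⟩
    obtain ⟨h, h'⟩ := hst ⟨_, hmem0 x⟩ (hWT (α₀ ⟨x, hP x.2⟩).2) (hWT (H85.map_mem hχ₀ _))
    show χ' ⟨_, hle hαx⟩ = (α ⟨φ x, hφx⟩ : Ω)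
    refine ((congrArg χ' (Subtype.ext (hval _))).trans (h'.trans ?_)).trans (hval _).symm
    exact congrArg (fun w : T => (a w : Ω)) (Subtype.ext (hχ₀e x hφx _))
  · obtain ⟨a, ha, φ₀, h₀, he⟩ := hfr P (hP.trans hWT) φ hφ
    obtain ⟨α', hα', φ₁, h₁, he'⟩ := hLfr P hP φ₀ h₀
    have haF := H85.restrict ((H85.mem_autGroup hTS).1 ha) hWT
    have hr : ((T.subtype.comp a.toMonoidHom).comp (Subgroup.inclusion hWT)).range = W :=
      H86.range_eq_self_of_le F haF (by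
        rintro _ ⟨x, rfl⟩
        exact hWF.2 W le_rfl _ haF x)
    refine ⟨H86.autOfHom _ (F.injective_of_mem haF) hr * α',
      mul_mem (H86.autOfHom_mem F haF hr) ((H85.mem_autGroup hWF.1).2
        (hEF _ ((H85.mem_autGroup hWT).1 hα'))), φ₁, h₁, fun x hx => ?_⟩
    rw [he x ((E.le_of_mem h₀).2 x)]
    exact congrArg (fun w : T => (a w : Ω)) (Subtype.ext (he' x hx))

/-- A layer is its own layer. -/
theorem ownLayer_of_layer (hW : HasWedge.{u} p) (hS : IsPGroup p S) {F : FusionSystem S}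
    {E : FusionSystem T} (hE : E.IsLayerOf F p) : OwnLayer p E := by
  have hTS := hE.1.1.2.2.2.1.1
  haveI : Finite T := H85.finite_of_le hTS
  have hTp : IsPGroup p T := hS.to_le hTS
  obtain ⟨W, L, hL⟩ := exists_layer hW hTp hE.1.1.1
  have hn := H86.residual_normal hS (layer_weaklyNormal hS hE.1 hL)
  haveI : Finite W := H85.finite_of_le (hL.1.1.2.2.2.1.1.trans hTS)
  have hle : E.IsSubsystemOf (H86.minSysCl p L) := hE.2.2 _ _ hn fun U C hC => by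
    have hCE : C.IsComponentIn E p := component_of_le_base hW hS hC hE.1
      (H85.source_le (hE.2.1 U C hC U (H85.id_mem C le_rfl)))
    exact subnormal_sub (component_of_le_base hW hS hC hn
      (H85.source_le (hL.2.1 U C hCE U (H85.id_mem C le_rfl)))).1
  intro R D hD hall P φ hφ
  exact hL.2.2 _ _ hD hall P
    ((H86.isPPrimeResidual_minSysCl (hTp.to_le hL.1.1.2.2.2.1.1) hL.1.1.1).2.1.1 P (hle P hφ))

end H89
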