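import Cfsg.Agent.H86.ExtAll
import Cfsg.Agent.H86.Image
import Cfsg.Agent.H88.Morphism
import Cfsg.Agent.S5134
import Cfsg.Agent.S5133
import Cfsg.Agent.H89.CentralEltApps

/-!
Lifting a normal subsystem `D` over `Tb` of a central quotient `F'` of `F` (read through `θ`) to
`F`: basic vocabulary. For `P ≤ S` the subgroup `imageAlong θ P` is the image of `P`; `autA` is the
group of automorphisms of `P` in `F` inducing automorphisms in `D`, `kerA` those inducing the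
identity, and `autB` the candidate group of automorphisms of the lifted system.
-/

set_option autoImplicit false
set_option linter.style.haveILetI false
set_option linter.unusedSectionVars false

open Cfsg Cfsg.FusionSystem

namespace H89.Lift

universe u v

variable {Ω : Type u} [Group Ω] {S : Subgroup Ω} {Ω' : Type v} [Group Ω'] {S' Tb : Subgroup Ω'}

open scoped Classical in
/-- `θ` extended by `1` outside `S`. -/
noncomputable def th (θ : S →* Ω') (x : Ω) : Ω' := if h : x ∈ S then θ ⟨x, h⟩ else 1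

section Th

variable (θ : S →* Ω')

theorem th_of_mem {x : Ω} (hx : x ∈ S) : th θ x = θ ⟨x, hx⟩ := dif_pos hx

theorem th_coe (s : S) : th θ s = θ s := th_of_mem θ s.2

theorem th_one : th θ (1 : Ω) = 1 := (th_of_mem θ S.one_mem).trans (map_one θ)

theorem th_mul {x y : Ω} (hx : x ∈ S) (hy : y ∈ S) : th θ (x * y) = th θ x * th θ y := by
  rw [th_of_mem θ hx, th_of_mem θ hy, th_of_mem θ (S.mul_mem hx hy), ← map_mul]
  rfl

theorem th_inv {x : Ω} (hx : x ∈ S) : th θ x⁻¹ = (th θ x)⁻¹ := by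
  rw [th_of_mem θ hx, th_of_mem θ (S.inv_mem hx), ← map_inv]
  rfl

theorem th_conj {x y : Ω} (hx : x ∈ S) (hy : y ∈ S) :
    th θ (x * y * x⁻¹) = th θ x * th θ y * (th θ x)⁻¹ := by
  rw [th_mul θ (S.mul_mem hx hy) (S.inv_mem hx), th_mul θ hx hy, th_inv θ hx]

theorem th_pow {x : Ω} (hx : x ∈ S) (n : ℕ) : th θ (x ^ n) = th θ x ^ n := by
  rw [th_of_mem θ hx, th_of_mem θ (S.pow_mem hx n), ← map_pow]
  rfl

theorem mem_img {P : Subgroup Ω} {y : Ω'} :
    y ∈ imageAlong θ P ↔ ∃ x ∈ P, x ∈ S ∧ th θ x = y := by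
  rw [H86.mem_imageAlong]
  constructor
  · rintro ⟨s, hs, hy⟩
    exact ⟨s, hs, s.2, (th_coe θ s).trans hy⟩
  · rintro ⟨x, hx, hxS, hy⟩
    exact ⟨⟨x, hxS⟩, hx, (th_of_mem θ hxS).symm.trans hy⟩

theorem th_mem_img {P : Subgroup Ω} (hP : P ≤ S) (x : P) : th θ (x : Ω) ∈ imageAlong θ P :=
  (mem_img θ).2 ⟨x, x.2, hP x.2, rfl⟩

theorem img_mono {P R : Subgroup Ω} (h : P ≤ R) : imageAlong θ P ≤ imageAlong θ R := fun y hy => by
  obtain ⟨x, hx, hxS, rfl⟩ := (mem_img θ).1 hy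
  exact (mem_img θ).2 ⟨x, h hx, hxS, rfl⟩

theorem exists_img {P : Subgroup Ω} (y : imageAlong θ P) :
    ∃ x : P, (x : Ω) ∈ S ∧ th θ (x : Ω) = y := by
  obtain ⟨x, hx, hxS, hy⟩ := (mem_img θ).1 y.2
  exact ⟨⟨x, hx⟩, hxS, hy⟩

/-- `e'` on the images is induced by `e`. -/
def Ind {P R : Subgroup Ω} (e : P ≃* R) (e' : imageAlong θ P ≃* imageAlong θ R) : Prop :=
  ∀ (x : P) (h : th θ (x : Ω) ∈ imageAlong θ P), (e' ⟨_, h⟩ : Ω') = th θ (e x : Ω)

variable {P R U : Subgroup Ω}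

theorem Ind.refl (P : Subgroup Ω) : Ind θ (MulEquiv.refl P) (MulEquiv.refl _) := fun _ _ => rfl

theorem Ind.trans {e : P ≃* R} {e' : imageAlong θ P ≃* imageAlong θ R} {f : R ≃* U}
    {f' : imageAlong θ R ≃* imageAlong θ U} (he : Ind θ e e') (hf : Ind θ f f') :
    Ind θ (e.trans f) (e'.trans f') := by
  intro x hx
  have h1 : th θ (e x : Ω) ∈ imageAlong θ R := he x hx ▸ (e' ⟨_, hx⟩).2
  show (f' (e' ⟨_, hx⟩) : Ω') = th θ (f (e x) : Ω)
  rw [show e' ⟨_, hx⟩ = (⟨_, h1⟩ : imageAlong θ R) from Subtype.ext (he x hx), hf (e x) h1]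

theorem Ind.symm {e : P ≃* R} {e' : imageAlong θ P ≃* imageAlong θ R} (he : Ind θ e e')
    (hP : P ≤ S) : Ind θ e.symm e'.symm := by
  intro y hy
  have h1 := th_mem_img θ hP (e.symm y)
  have h2 : e' ⟨_, h1⟩ = (⟨_, hy⟩ : imageAlong θ R) := Subtype.ext (by
    rw [he (e.symm y) h1, MulEquiv.apply_symm_apply])
  rw [← h2, MulEquiv.symm_apply_apply]

theorem Ind.congr {e : P ≃* R} {a : MulAut P} {e' : imageAlong θ P ≃* imageAlong θ R}
    {a' : MulAut (imageAlong θ P)} (he : Ind θ e e') (ha : Ind θ a a') (hP : P ≤ S) :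
    Ind θ (MulAut.congr e a) (MulAut.congr e' a') :=
  (Ind.trans θ (Ind.trans θ (Ind.symm θ he hP) ha) he :)

theorem Ind.unique {e : P ≃* R} {e' f' : imageAlong θ P ≃* imageAlong θ R} (he : Ind θ e e')
    (hf : Ind θ e f') : e' = f' := by
  refine MulEquiv.ext fun y => Subtype.ext ?_
  obtain ⟨x, -, hy⟩ := exists_img θ y
  have h : th θ (x : Ω) ∈ imageAlong θ P := hy ▸ y.2
  rw [show y = ⟨_, h⟩ from Subtype.ext hy.symm, he x h, hf x h]

end Th

/-- The data of a lifting problem: `F'` is the quotient of `F` by the central subgroup `Q`, read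
through `θ`, and `D` over `Tb` is normal in `F'`. -/
structure LiftCtx (p : ℕ) (F : FusionSystem S) (F' : FusionSystem S') (θ : S →* Ω')
    (Q : Subgroup Ω) (D : FusionSystem Tb) : Prop where
  hS : IsPGroup p S
  hF : F.IsSaturated p
  hQ : F.IsCentral Q
  hfac : F.IsFactorSystem Q θ F'
  hD : D.IsNormalIn F' p

/-- The automorphisms of `P` in `F` inducing automorphisms in `D`. -/
def autA (F : FusionSystem S) (θ : S →* Ω') (D : FusionSystem Tb) (P : Subgroup Ω) :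
    Subgroup (MulAut P) :=
  Subgroup.closure {a | a ∈ F.autGroup P ∧
    ∃ a' ∈ D.autGroup (imageAlong θ P), Ind θ a a'}

/-- The automorphisms of `P` in `F` inducing the identity on the image. -/
def kerA (F : FusionSystem S) (θ : S →* Ω') (P : Subgroup Ω) : Subgroup (MulAut P) where
  carrier := {a | a ∈ F.autGroup P ∧ ∀ x : P, th θ (a x : Ω) = th θ (x : Ω)}
  one_mem' := ⟨one_mem _, fun x => rfl⟩
  mul_mem' := fun {a b} ha hb => ⟨mul_mem ha.1 hb.1, fun x => (ha.2 (b x)).trans (hb.2 x)⟩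
  inv_mem' := fun {a} ha => ⟨inv_mem ha.1, fun x => by
    have h := ha.2 (a⁻¹ x)
    rw [MulAut.apply_inv_self] at h
    exact h.symm⟩

theorem mem_kerA {F : FusionSystem S} {θ : S →* Ω'} {P : Subgroup Ω} {a : MulAut P} :
    a ∈ kerA F θ P ↔ a ∈ F.autGroup P ∧ ∀ x : P, th θ (a x : Ω) = th θ (x : Ω) := Iff.rfl

/-- The automorphisms coming, along an isomorphism of `F`, from conjugation by elements of `T`. -/
def TElt (F : FusionSystem S) (T P : Subgroup Ω) (a : MulAut P) : Prop :=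
  ∃ (P₁ : Subgroup Ω) (e : P₁ ≃* P), H85.IsFIso F e ∧ P₁ ≤ T ∧
    ∃ b ∈ autInducedBy T P₁, a = MulAut.congr e b

/-- The automorphisms of `P` of the lifted system. -/
def autB (p : ℕ) (F : FusionSystem S) (θ : S →* Ω') (D : FusionSystem Tb) (P : Subgroup Ω) :
    Subgroup (MulAut P) :=
  Subgroup.closure {a | (a ∈ autA F θ D P ∧ Nat.Coprime (orderOf a) p) ∨
    TElt F (preimageAlong θ Tb) P a}

/-- The subgroups on which the lifted system is generated. -/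
def Cen (θ : S →* Ω') (Q : Subgroup Ω) (D : FusionSystem Tb) (P : Subgroup Ω) : Prop :=
  Q ≤ P ∧ P ≤ preimageAlong θ Tb ∧ D.IsCentric (imageAlong θ P)

variable [Finite S] {p : ℕ} [Fact p.Prime] {F : FusionSystem S} {F' : FusionSystem S'}
  {θ : S →* Ω'} {Q : Subgroup Ω} {D : FusionSystem Tb}

theorem mem_T {x : Ω} : x ∈ preimageAlong θ Tb ↔ x ∈ S ∧ th θ x ∈ Tb := by
  rw [H86.mem_preimageAlong]
  exact ⟨fun ⟨hx, h⟩ => ⟨hx, th_of_mem θ hx ▸ h⟩, fun ⟨hx, h⟩ => ⟨hx, th_of_mem θ hx ▸ h⟩⟩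

theorem mem_pre {P' : Subgroup Ω'} {x : Ω} :
    x ∈ preimageAlong θ P' ↔ x ∈ S ∧ th θ x ∈ P' := mem_T (Tb := P')

theorem pre_le (P' : Subgroup Ω') : preimageAlong θ P' ≤ S := fun _ h => (mem_pre.1 h).1

theorem pre_mono {P' R' : Subgroup Ω'} (h : P' ≤ R') :
    preimageAlong θ P' ≤ preimageAlong θ R' :=
  fun _ hx => mem_pre.2 ⟨(mem_pre.1 hx).1, h (mem_pre.1 hx).2⟩

theorem img_le_of_le {P : Subgroup Ω} {P' : Subgroup Ω'} (h : P ≤ preimageAlong θ P') :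
    imageAlong θ P ≤ P' := fun y hy => by
  obtain ⟨x, hx, -, rfl⟩ := (mem_img θ).1 hy
  exact (mem_pre.1 (h hx)).2

variable (h : LiftCtx p F F' θ Q D)
include h

theorem LiftCtx.hQS : Q ≤ S := h.hQ.1

theorem LiftCtx.hker (s : S) : θ s = 1 ↔ (s : Ω) ∈ Q := h.hfac.2.1 s

theorem LiftCtx.th_eq_one {x : Ω} (hx : x ∈ S) : th θ x = 1 ↔ x ∈ Q := by
  rw [th_of_mem θ hx]
  exact h.hker ⟨x, hx⟩

theorem LiftCtx.th_eq {x y : Ω} (hx : x ∈ S) (hy : y ∈ S) :
    th θ x = th θ y ↔ x⁻¹ * y ∈ Q := by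
  rw [← h.th_eq_one (S.mul_mem (S.inv_mem hx) hy), th_mul θ (S.inv_mem hx) hy, th_inv θ hx,
    inv_mul_eq_one]

theorem LiftCtx.sc_Q : F.StronglyClosed Q := by
  refine ⟨h.hQS, fun P hP φ hφ x => ?_⟩
  obtain ⟨ψ, -, hψP, hψQ⟩ := h.hQ.2 P φ hφ
  rw [← hψP x, show Subgroup.inclusion le_sup_left x =
    Subgroup.inclusion le_sup_right (⟨(x : Ω), hP x.2⟩ : Q) from Subtype.ext rfl, hψQ]
  exact hP x.2

theorem LiftCtx.fix_Q {P : Subgroup Ω} {φ : P →* Ω} (hφ : φ ∈ F.Hom P) (x : P)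
    (hx : (x : Ω) ∈ Q) : φ x = x :=
  center_fix hφ x.2 (show (x : Ω) ∈ F.center from le_sSup (a := Q) h.hQ hx)

theorem LiftCtx.comm_Q {z x : Ω} (hz : z ∈ Q) (hx : x ∈ S) : x * z = z * x :=
  Subgroup.mem_centralizer_iff.1 (F.center_le_centralizer
    (show z ∈ F.center from le_sSup (a := Q) h.hQ hz)) x hx

theorem LiftCtx.surj : F.IsSurjectiveMorphism F' θ :=
  Cfsg.Agent.S5134.result p h.hS F h.hF Q h.sc_Q θ F' h.hfac

theorem LiftCtx.hF' : F'.IsSaturated p := h.hD.1.2.1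

theorem LiftCtx.finite_S' : Finite S' :=
  h.surj.2.1 ▸ Finite.of_surjective _ θ.rangeRestrict_surjective

theorem LiftCtx.hS' : IsPGroup p S' :=
  h.surj.2.1 ▸ h.hS.of_surjective _ θ.rangeRestrict_surjective

theorem LiftCtx.finite_Tb : Finite Tb :=
  haveI := h.finite_S'
  H85.finite_of_le h.hD.1.2.2.2.1.1

theorem LiftCtx.hTb : IsPGroup p Tb := h.hS'.to_le h.hD.1.2.2.2.1.1

theorem LiftCtx.th_mem (x : Ω) : th θ x ∈ S' := by
  by_cases hx : x ∈ S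
  · exact th_of_mem θ hx ▸ h.surj.1.1 _
  · rw [th, dif_neg hx]; exact one_mem _

theorem LiftCtx.exists_th {y : Ω'} (hy : y ∈ S') : ∃ x ∈ S, th θ x = y := by
  obtain ⟨s, rfl⟩ : y ∈ θ.range := h.surj.2.1 ▸ hy
  exact ⟨s, s.2, th_coe θ s⟩

theorem LiftCtx.Q_le_pre (P' : Subgroup Ω') : Q ≤ preimageAlong θ P' := fun x hx =>
  mem_pre.2 ⟨h.hQS hx, (h.th_eq_one (h.hQS hx)).2 hx ▸ one_mem _⟩

theorem LiftCtx.img_pre {P' : Subgroup Ω'} (hP' : P' ≤ S') :
    imageAlong θ (preimageAlong θ P') = P' :=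
  H86.imageAlong_preimageAlong h.surj.2.1 hP'

theorem LiftCtx.img_le (P : Subgroup Ω) : imageAlong θ P ≤ S' := fun y hy => by
  obtain ⟨x, -, -, rfl⟩ := (mem_img θ).1 hy
  exact h.th_mem x

theorem LiftCtx.mem_of_th_mem {P : Subgroup Ω} (hQP : Q ≤ P) {x : Ω} (hx : x ∈ S)
    (hx' : th θ x ∈ imageAlong θ P) : x ∈ P := by
  obtain ⟨y, hy, hyS, he⟩ := (mem_img θ).1 hx'
  have := P.mul_mem hy (hQP ((h.th_eq hyS hx).1 he))
  rwa [mul_inv_cancel_left] at this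

theorem LiftCtx.pre_img {P : Subgroup Ω} (hQP : Q ≤ P) (hP : P ≤ S) :
    preimageAlong θ (imageAlong θ P) = P :=
  le_antisymm (fun _ hx => h.mem_of_th_mem hQP (mem_pre.1 hx).1 (mem_pre.1 hx).2)
    (fun x hx => mem_pre.2 ⟨hP hx, th_mem_img θ hP ⟨x, hx⟩⟩)

/-- A map of `F` induces one of `F'` on the image. -/
theorem LiftCtx.ind_hom {P : Subgroup Ω} {φ : P →* Ω} (hφ : φ ∈ F.Hom P) :
    ∃ φ' ∈ F'.Hom (imageAlong θ P), ∀ (x : P) (hx : th θ (x : Ω) ∈ imageAlong θ P),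
      φ' ⟨_, hx⟩ = th θ (φ x) := by
  obtain ⟨φ', hφ', hP, hφS, hP', he⟩ := h.surj.1.2 P φ hφ
  refine ⟨φ', hφ', fun x hx => ?_⟩
  rw [show (⟨_, hx⟩ : imageAlong θ P) = ⟨θ ⟨x, hP x.2⟩, hP' x⟩ from
    Subtype.ext (th_of_mem θ (hP x.2)), he x, th_of_mem θ (hφS x)]

/-- A map of `F'` is induced on the preimage of its source. -/
theorem LiftCtx.lift_hom {P' : Subgroup Ω'} {φ' : P' →* Ω'} (hφ' : φ' ∈ F'.Hom P') :
    ∃ φ ∈ F.Hom (preimageAlong θ P'), ∀ (x : preimageAlong θ P'),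
      φ' ⟨th θ (x : Ω), (mem_pre.1 x.2).2⟩ = th θ (φ x) := by
  obtain ⟨φ, hφ, hP, hφS, hP', he⟩ := h.surj.2.2 P' (F'.le_of_mem hφ').1 φ' hφ'
  refine ⟨φ, hφ, fun x => ?_⟩
  rw [show (⟨th θ (x : Ω), (mem_pre.1 x.2).2⟩ : P') = ⟨θ ⟨x, hP x.2⟩, hP' x⟩ from
    Subtype.ext (th_of_mem θ (hP x.2)), he x, th_of_mem θ (hφS x)]

theorem LiftCtx.stronglyClosed_T : F.StronglyClosed (preimageAlong θ Tb) := by
  refine ⟨pre_le Tb, fun P hP φ hφ x => ?_⟩
  obtain ⟨φ', hφ', he⟩ := h.ind_hom hφ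
  have h1 := h.hD.1.2.2.2.1.2 _ (img_le_of_le hP) φ' hφ'
    ⟨_, th_mem_img θ (hP.trans (pre_le Tb)) x⟩
  rw [he] at h1
  exact mem_T.2 ⟨H85.map_mem hφ x, h1⟩

/-- An isomorphism of `F` induces one of `F'` on the images. -/
theorem LiftCtx.ind_iso {P R : Subgroup Ω} {e : P ≃* R} (he : H85.IsFIso F e) :
    ∃ e' : imageAlong θ P ≃* imageAlong θ R, H85.IsFIso F' e' ∧ Ind θ e e' := by
  obtain ⟨φ', hφ', hi⟩ := h.ind_hom he
  have hP := he.left_le
  have hR := he.right_le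
  have hr : φ'.range = imageAlong θ R := by
    refine le_antisymm ?_ ?_
    · rintro _ ⟨y, rfl⟩
      obtain ⟨x, -, hy⟩ := exists_img θ y
      rw [show y = ⟨_, th_mem_img θ hP x⟩ from Subtype.ext hy.symm, hi]
      exact th_mem_img θ hR (e x)
    · intro y hy
      obtain ⟨z, hz, -, rfl⟩ := (mem_img θ).1 hy
      refine ⟨⟨_, th_mem_img θ hP (e.symm ⟨z, hz⟩)⟩, ?_⟩
      rw [hi]
      show th θ ((e (e.symm ⟨z, hz⟩) : R) : Ω) = th θ z
      rw [MulEquiv.apply_symm_apply]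
  exact ⟨H85.isoOf φ' hφ' hr, H85.isFIso_isoOf φ' hφ' hr, fun x hx => hi x hx⟩

theorem LiftCtx.mem_autA {P : Subgroup Ω} (hP : P ≤ S) {a : MulAut P} :
    a ∈ autA F θ D P ↔ a ∈ F.autGroup P ∧ ∃ a' ∈ D.autGroup (imageAlong θ P), Ind θ a a' := by
  refine ⟨fun ha => ?_, fun ha => Subgroup.subset_closure ha⟩
  induction ha using Subgroup.closure_induction with
  | mem x hx => exact hx
  | one => exact ⟨one_mem _, 1, one_mem _, Ind.refl θ P⟩
  | mul x y _ _ hx hy =>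
    obtain ⟨hx, x', hx', hxi⟩ := hx
    obtain ⟨hy, y', hy', hyi⟩ := hy
    exact ⟨mul_mem hx hy, x' * y', mul_mem hx' hy', Ind.trans θ hyi hxi⟩
  | inv x _ hx =>
    obtain ⟨hx, x', hx', hxi⟩ := hx
    exact ⟨inv_mem hx, x'⁻¹, inv_mem hx', Ind.symm θ hxi hP⟩

theorem LiftCtx.autA_le {P : Subgroup Ω} : autA F θ D P ≤ F.autGroup P := by
  rw [autA, Subgroup.closure_le]
  exact fun a ha => ha.1

theorem LiftCtx.autA_congr {P R : Subgroup Ω} {e : P ≃* R} (he : H85.IsFIso F e)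
    (hP : P ≤ preimageAlong θ Tb) {a : MulAut P} (ha : a ∈ autA F θ D P) :
    MulAut.congr e a ∈ autA F θ D R := by
  haveI := h.finite_S'
  obtain ⟨haF, a', ha', hai⟩ := (h.mem_autA he.left_le).1 ha
  obtain ⟨e', he', hei⟩ := h.ind_iso he
  have hR : R ≤ preimageAlong θ Tb := fun y hy => by
    simpa using h.stronglyClosed_T.2 P hP _ he (e.symm ⟨y, hy⟩)
  refine (h.mem_autA he.right_le).2 ⟨(H85.mem_autGroup he.right_le).2
    (((he.symm.trans ((H85.mem_autGroup he.left_le).1 haF)).trans he).congr fun _ => rfl),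
    MulAut.congr e' a', ?_, Ind.congr θ hei hai he.left_le⟩
  exact H86.autGroup_transport h.hD.1 (img_le_of_le hP) (img_le_of_le hR) he' ha'

omit [Fact p.Prime] in
theorem TElt.congr {T P R : Subgroup Ω} {e : P ≃* R} (he : H85.IsFIso F e) {a : MulAut P}
    (ha : TElt F T P a) : TElt F T R (MulAut.congr e a) := by
  obtain ⟨P₁, f, hf, hP₁, b, hb, rfl⟩ := ha
  exact ⟨P₁, f.trans e, hf.trans he, hP₁, b, hb, MulEquiv.ext fun _ => rfl⟩

theorem LiftCtx.autB_congr {P R : Subgroup Ω} {e : P ≃* R} (he : H85.IsFIso F e)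
    (hP : P ≤ preimageAlong θ Tb) {a : MulAut P} (ha : a ∈ autB p F θ D P) :
    MulAut.congr e a ∈ autB p F θ D R := by
  induction ha using Subgroup.closure_induction with
  | mem x hx =>
    refine Subgroup.subset_closure ?_
    rcases hx with ⟨hxA, hxo⟩ | hx
    · refine Or.inl ⟨h.autA_congr he hP hxA, ?_⟩
      rwa [show orderOf (MulAut.congr e x) = orderOf x from MulEquiv.orderOf_eq (MulAut.congr e) x]
    · exact Or.inr (TElt.congr h he hx)
  | one => rw [map_one]; exact one_mem _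
  | mul x y _ _ hx hy => rw [map_mul]; exact mul_mem hx hy
  | inv x _ hx => rw [map_inv]; exact inv_mem hx

/-- Conjugation by an element of `T` induces an automorphism in `D`. -/
theorem LiftCtx.autInducedBy_le_autA {P : Subgroup Ω} (hP : P ≤ preimageAlong θ Tb) :
    autInducedBy (preimageAlong θ Tb) P ≤ autA F θ D P := by
  haveI := h.finite_S'
  intro a ha
  obtain ⟨t, ht, hte⟩ := H85.mem_autInducedBy.1 ha
  have hPS : P ≤ S := hP.trans (pre_le Tb)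
  obtain ⟨htS, htTb⟩ := mem_T.1 ht
  have haF : a ∈ F.autGroup P := H85.autInducedBy_le_autGroup F hPS
    (H85.mem_autInducedBy.2 ⟨t, htS, hte⟩)
  obtain ⟨a', -, hai⟩ := h.ind_iso ((H85.mem_autGroup hPS).1 haF)
  refine (h.mem_autA hPS).2 ⟨haF, a', ?_, hai⟩
  refine H85.autInducedBy_le_autGroup D (img_le_of_le hP)
    (H85.mem_autInducedBy.2 ⟨th θ t, htTb, fun y => ?_⟩)
  obtain ⟨x, hxS, hy⟩ := exists_img θ y
  rw [show y = ⟨_, th_mem_img θ hPS x⟩ from Subtype.ext hy.symm, hai, hte x, th_conj θ htS hxS]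

theorem LiftCtx.autB_le {P : Subgroup Ω} (hP : P ≤ preimageAlong θ Tb) :
    autB p F θ D P ≤ autA F θ D P := by
  rw [autB, Subgroup.closure_le]
  rintro a (ha | ⟨P₁, e, he, hP₁, b, hb, rfl⟩)
  · exact ha.1
  · exact h.autA_congr he hP₁ (h.autInducedBy_le_autA hP₁ hb)

theorem LiftCtx.cen_T : Cen θ Q D (preimageAlong θ Tb) := by
  haveI := h.finite_Tb
  refine ⟨h.Q_le_pre Tb, le_rfl, ?_⟩
  rw [h.img_pre h.hD.1.2.2.2.1.1]
  exact H85.centric_top D

theorem LiftCtx.cen_mono {P R : Subgroup Ω} (hP : Cen θ Q D P) (hPR : P ≤ R)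
    (hR : R ≤ preimageAlong θ Tb) : Cen θ Q D R :=
  ⟨hP.1.trans hPR, hR, H85.centric_mono hP.2.2 (img_mono θ hPR) (img_le_of_le hR)⟩

theorem LiftCtx.cen_conj {P R : Subgroup Ω} (hP : Cen θ Q D P) {e : P ≃* R}
    (he : H85.IsFIso F e) : Cen θ Q D R := by
  haveI := h.finite_S'
  have hR : R ≤ preimageAlong θ Tb := fun y hy => by
    simpa using h.stronglyClosed_T.2 P hP.2.1 _ he (e.symm ⟨y, hy⟩)
  refine ⟨fun z hz => ?_, hR, ?_⟩
  · have h1 : ((e ⟨z, hP.1 hz⟩ : R) : Ω) = z := h.fix_Q he ⟨z, hP.1 hz⟩ hz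
    rw [← h1]
    exact (e ⟨z, hP.1 hz⟩).2
  · obtain ⟨e', he', -⟩ := h.ind_iso he
    exact H86.centric_of_conj h.hD.1 hP.2.2 he'.isConj

end H89.Lift
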