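import Cfsg.Agent.H89.LiftKernel
import Cfsg.Agent.H85.Alperin
import Cfsg.Agent.H85.LocalSystems

/-!
The system generated by the groups `autB`, and the fact that its automorphism groups on the
subgroups in `Cen` are exactly these groups.
-/

set_option autoImplicit false
set_option linter.style.haveILetI false
set_option linter.unusedSectionVars false

open Cfsg Cfsg.FusionSystem

namespace H89.Lift

universe u v

variable {Ω : Type u} [Group Ω] {S : Subgroup Ω} {Ω' : Type v} [Group Ω'] {S' Tb : Subgroup Ω'}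

/-- The maps of the lifted system: composites of restrictions of elements of `autB`. -/
inductive Gen (p : ℕ) (F : FusionSystem S) (θ : S →* Ω') (Q : Subgroup Ω) (D : FusionSystem Tb) :
    ∀ P : Subgroup Ω, (P →* Ω) → Prop
  | step {P R : Subgroup Ω} (hR : Cen θ Q D R) (hPR : P ≤ R) {b : MulAut R}
      (hb : b ∈ autB p F θ D R) {φ : P →* Ω}
      (he : ∀ x : P, φ x = (b (Subgroup.inclusion hPR x) : Ω)) : Gen p F θ Q D P φ
  | comp {P R : Subgroup Ω} {φ χ : P →* Ω} {ψ : R →* Ω} (h1 : Gen p F θ Q D P φ)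
      (h2 : Gen p F θ Q D R ψ) (hm : ∀ x : P, φ x ∈ R) (he : ∀ x : P, χ x = ψ ⟨φ x, hm x⟩) :
      Gen p F θ Q D P χ

variable [Finite S] {p : ℕ} [Fact p.Prime] {F : FusionSystem S} {F' : FusionSystem S'}
  {θ : S →* Ω'} {Q : Subgroup Ω} {D : FusionSystem Tb}
variable (h : LiftCtx p F F' θ Q D)
include h

theorem LiftCtx.gen_mem {P : Subgroup Ω} {φ : P →* Ω} (hφ : Gen p F θ Q D P φ) :
    φ ∈ F.Hom P := by
  induction hφ with
  | step hR hPR hb he =>
    have hbF := (H85.mem_autGroup (hR.2.1.trans (pre_le Tb))).1 (h.autA_le (h.autB_le hR.2.1 hb))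
    exact H85.hom_congr (H85.restrict hbF hPR) fun x => (he x).symm
  | comp h1 h2 hm he ih1 ih2 =>
    exact H85.hom_congr (F.comp_mem ih1 ih2 hm) fun x => (he x).symm

theorem LiftCtx.gen_source_le {P : Subgroup Ω} {φ : P →* Ω} (hφ : Gen p F θ Q D P φ) :
    P ≤ preimageAlong θ Tb := by
  induction hφ with
  | step hR hPR _ _ => exact hPR.trans hR.2.1
  | comp _ _ _ _ ih1 _ => exact ih1

theorem LiftCtx.gen_map_mem {P : Subgroup Ω} {φ : P →* Ω} (hφ : Gen p F θ Q D P φ) (x : P) :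
    φ x ∈ preimageAlong θ Tb :=
  h.stronglyClosed_T.2 P (h.gen_source_le hφ) φ (h.gen_mem hφ) x

theorem LiftCtx.gen_restrict {P R : Subgroup Ω} {φ : R →* Ω} (hφ : Gen p F θ Q D R φ)
    (hPR : P ≤ R) : Gen p F θ Q D P (φ.comp (Subgroup.inclusion hPR)) := by
  induction hφ generalizing P with
  | step hR hP hb he =>
    exact Gen.step hR (hPR.trans hP) hb fun x => he (Subgroup.inclusion hPR x)
  | comp h1 h2 hm he ih1 ih2 =>
    exact Gen.comp (ih1 hPR) h2 (fun x => hm (Subgroup.inclusion hPR x))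
      fun x => he (Subgroup.inclusion hPR x)

theorem LiftCtx.gen_congr {P : Subgroup Ω} {φ φ' : P →* Ω} (hφ : Gen p F θ Q D P φ)
    (he : ∀ x, φ x = φ' x) : Gen p F θ Q D P φ' := MonoidHom.ext he ▸ hφ

theorem LiftCtx.gen_inv {P : Subgroup Ω} {φ : P →* Ω} (hφ : Gen p F θ Q D P φ) :
    ∃ ψ : φ.range →* Ω, Gen p F θ Q D φ.range ψ ∧ ∀ x : P, ψ ⟨φ x, x, rfl⟩ = x := by
  induction hφ with
  | @step P R hR hPR b hb φ he =>
    have hle : φ.range ≤ R := by
      rintro _ ⟨x, rfl⟩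
      rw [he]
      exact SetLike.coe_mem _
    refine ⟨(R.subtype.comp (b⁻¹ : MulAut R).toMonoidHom).comp (Subgroup.inclusion hle),
      Gen.step hR hle (inv_mem hb) (fun y => rfl), fun x => ?_⟩
    show ((b⁻¹ : MulAut R) (Subgroup.inclusion hle ⟨φ x, x, rfl⟩) : Ω) = x
    rw [show Subgroup.inclusion hle ⟨φ x, x, rfl⟩ = b (Subgroup.inclusion hPR x) from
      Subtype.ext (he x), MulAut.inv_apply_self]
    rfl
  | @comp P R φ χ ψ h1 h2 hm he ih1 ih2 =>
    obtain ⟨f1, hf1, hfe1⟩ := ih1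
    obtain ⟨f2, hf2, hfe2⟩ := ih2
    have hle : χ.range ≤ ψ.range := by
      rintro _ ⟨x, rfl⟩
      exact ⟨⟨φ x, hm x⟩, (he x).symm⟩
    have hval : ∀ x : P, f2 (Subgroup.inclusion hle ⟨χ x, x, rfl⟩) = φ x := fun x => by
      rw [show Subgroup.inclusion hle ⟨χ x, x, rfl⟩ = ⟨ψ ⟨φ x, hm x⟩, _, rfl⟩ from
        Subtype.ext (he x), hfe2]
    have hm2 : ∀ y : χ.range, (f2.comp (Subgroup.inclusion hle)) y ∈ φ.range := by
      rintro ⟨_, x, rfl⟩
      exact ⟨x, (hval x).symm⟩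
    let f : χ.range →* Ω := f1.comp ((f2.comp (Subgroup.inclusion hle)).codRestrict _ hm2)
    refine ⟨f, Gen.comp (h.gen_restrict hf2 hle) hf1 hm2 (fun y => rfl), fun x => ?_⟩
    show f1 ⟨f2 (Subgroup.inclusion hle ⟨χ x, x, rfl⟩), _⟩ = x
    refine (congrArg f1 (Subtype.ext (hval x))).trans (hfe1 x)

theorem LiftCtx.gen_inn {P : Subgroup Ω} (hP : P ≤ preimageAlong θ Tb) {t : Ω}
    (ht : t ∈ preimageAlong θ Tb) : Gen p F θ Q D P (Cfsg.conjHom P t) := by
  refine Gen.step h.cen_T hP (b := H85.conjAut (preimageAlong θ Tb) (preimageAlong θ Tb)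
    ⟨t, ht, Subgroup.le_normalizer ht⟩) ?_ fun x => rfl
  exact h.induced_le_autB le_rfl (H85.conjAut_range (preimageAlong θ Tb) _ ▸ ⟨_, rfl⟩)

/-- The lifted system. -/
noncomputable def LiftCtx.genSys : FusionSystem (preimageAlong θ Tb) where
  Hom P := {φ | Gen p F θ Q D P φ}
  le_of_mem hφ := ⟨h.gen_source_le hφ, h.gen_map_mem hφ⟩
  injective_of_mem hφ := F.injective_of_mem (h.gen_mem hφ)
  conj_mem hP hg := h.gen_inn hP hg
  comp_mem hφ hψ hm := Gen.comp hφ hψ hm fun _ => rfl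
  inv_mem := by
    intro P φ hφ
    obtain ⟨ψ, hψ, he⟩ := h.gen_inv hφ
    exact ⟨ψ, hψ, he⟩

/-- Maps of the lifted system induce maps of `D`. -/
theorem LiftCtx.gen_ind {P : Subgroup Ω} {φ : P →* Ω} (hφ : Gen p F θ Q D P φ) :
    ∃ φ' ∈ D.Hom (imageAlong θ P), ∀ (x : P) (hx : th θ (x : Ω) ∈ imageAlong θ P),
      φ' ⟨_, hx⟩ = th θ (φ x) := by
  induction hφ with
  | @step P R hR hPR b hb φ he =>
    obtain ⟨-, b', hb', hbi⟩ := (h.mem_autA (hR.2.1.trans (pre_le Tb))).1 (h.autB_le hR.2.1 hb)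
    refine ⟨_, H85.restrict ((H85.mem_autGroup hR.2.2.1).1 hb') (img_mono θ hPR), fun x hx => ?_⟩
    rw [he]
    exact hbi (Subgroup.inclusion hPR x) (img_mono θ hPR hx)
  | @comp P R φ χ ψ h1 h2 hm he ih1 ih2 =>
    obtain ⟨f1, hf1, hfe1⟩ := ih1
    obtain ⟨f2, hf2, hfe2⟩ := ih2
    have hPS : P ≤ S := (h.gen_source_le h1).trans (pre_le Tb)
    have hRS : R ≤ S := (h.gen_source_le h2).trans (pre_le Tb)
    have hm' : ∀ y, f1 y ∈ imageAlong θ R := by
      intro y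
      obtain ⟨x, -, hy⟩ := exists_img θ y
      rw [show y = ⟨_, th_mem_img θ hPS x⟩ from Subtype.ext hy.symm, hfe1]
      exact th_mem_img θ hRS ⟨φ x, hm x⟩
    refine ⟨_, D.comp_mem hf1 hf2 hm', fun x hx => ?_⟩
    show f2 ⟨f1 ⟨_, hx⟩, _⟩ = th θ (χ x)
    rw [show (⟨f1 ⟨_, hx⟩, hm' _⟩ : imageAlong θ R) = ⟨th θ (φ x), th_mem_img θ hRS ⟨_, hm x⟩⟩
      from Subtype.ext (hfe1 x hx), hfe2 ⟨φ x, hm x⟩, he]

theorem LiftCtx.gen_autA {P : Subgroup Ω} (hQP : Q ≤ P) {a : MulAut P}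
    (ha : Gen p F θ Q D P (P.subtype.comp a.toMonoidHom)) : a ∈ autA F θ D P := by
  haveI := h.finite_S'
  haveI := h.finite_Tb
  have hPT := h.gen_source_le ha
  have hPS : P ≤ S := hPT.trans (pre_le Tb)
  have haF : a ∈ F.autGroup P := (H85.mem_autGroup hPS).2 (h.gen_mem ha)
  obtain ⟨a', -, hai⟩ := h.ind_iso ((H85.mem_autGroup hPS).1 haF)
  obtain ⟨φ', hφ', he⟩ := h.gen_ind ha
  refine (h.mem_autA hPS).2 ⟨haF, a', (H85.mem_autGroup (img_le_of_le hPT)).2
    (H85.hom_congr hφ' fun y => ?_), hai⟩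
  obtain ⟨x, -, hy⟩ := exists_img θ y
  rw [show y = ⟨_, th_mem_img θ hPS x⟩ from Subtype.ext hy.symm, he]
  exact (hai x _).symm

theorem LiftCtx.gen_of_B {P : Subgroup Ω} (hP : Cen θ Q D P) {a : MulAut P}
    (ha : a ∈ autB p F θ D P) : Gen p F θ Q D P (P.subtype.comp a.toMonoidHom) :=
  Gen.step hP le_rfl ha fun _ => rfl

/-- Every map of `D` is induced by a map of the lifted system. -/
theorem LiftCtx.lift_gen {P' : Subgroup Ω'} {χ : P' →* Ω'} (hχ : χ ∈ D.Hom P') :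
    ∃ φ : preimageAlong θ P' →* Ω, Gen p F θ Q D (preimageAlong θ P') φ ∧
      ∀ x : preimageAlong θ P', χ ⟨th θ (x : Ω), (mem_pre.1 x.2).2⟩ = th θ (φ x) := by
  haveI := h.finite_S'
  haveI := h.finite_Tb
  let E : FusionSystem Tb :=
    { Hom := fun P' => {χ | χ ∈ D.Hom P' ∧ ∃ φ : preimageAlong θ P' →* Ω,
        Gen p F θ Q D (preimageAlong θ P') φ ∧
        ∀ x : preimageAlong θ P', χ ⟨th θ (x : Ω), (mem_pre.1 x.2).2⟩ = th θ (φ x)}
      le_of_mem := fun hh => D.le_of_mem hh.1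
      injective_of_mem := fun hh => D.injective_of_mem hh.1
      conj_mem := by
        intro P' g hP' hg
        obtain ⟨t, htS, rfl⟩ := h.exists_th (h.hD.1.2.2.2.1.1 hg)
        refine ⟨D.conj_mem hP' hg, _,
          h.gen_inn (pre_mono hP') (mem_T.2 ⟨htS, hg⟩), fun x => ?_⟩
        exact (th_conj θ htS (mem_pre.1 x.2).1).symm
      comp_mem := by
        rintro P' R' φ' ψ' ⟨hφ', φ, hφ, hφe⟩ ⟨hψ', ψ, hψ, hψe⟩ hm
        have hm1 : ∀ x, φ x ∈ preimageAlong θ R' := fun x =>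
          mem_pre.2 ⟨(mem_T.1 (h.gen_map_mem hφ x)).1, hφe x ▸ hm _⟩
        refine ⟨D.comp_mem hφ' hψ' hm, ψ.comp (φ.codRestrict _ hm1),
          Gen.comp hφ hψ hm1 (fun _ => rfl), fun x => ?_⟩
        refine Eq.trans ?_ (hψe ⟨φ x, hm1 x⟩)
        exact congrArg ψ' (Subtype.ext (hφe x))
      inv_mem := by
        rintro P' φ' ⟨hφ', φ, hφ, hφe⟩
        obtain ⟨ψ', hψ', hψe'⟩ := D.inv_mem hφ'
        obtain ⟨ψ, hψ, hψe⟩ := h.gen_inv hφ
        have hle : preimageAlong θ φ'.range ≤ φ.range := by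
          intro y hy
          obtain ⟨hyS, y', hy'⟩ := mem_pre.1 hy
          obtain ⟨x, hxS, hx⟩ := h.exists_th ((D.le_of_mem hφ').1.trans h.hD.1.2.2.2.1.1 y'.2)
          have hxP : x ∈ preimageAlong θ P' := mem_pre.2 ⟨hxS, hx ▸ y'.2⟩
          have he : th θ y = th θ (φ ⟨x, hxP⟩) := by
            rw [← hy', ← hφe ⟨x, hxP⟩]
            exact congrArg φ' (Subtype.ext hx.symm)
          have hφS := (mem_T.1 (h.gen_map_mem hφ ⟨x, hxP⟩)).1
          have hq : (φ ⟨x, hxP⟩)⁻¹ * y ∈ Q := (h.th_eq hφS hyS).1 he.symm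
          have hq' := h.Q_le_pre P' hq
          refine ⟨⟨x, hxP⟩ * ⟨_, hq'⟩, ?_⟩
          rw [map_mul, h.fix_Q (h.gen_mem hφ) ⟨_, hq'⟩ hq, mul_inv_cancel_left]
        refine ⟨ψ', ⟨hψ', _, h.gen_restrict hψ hle, fun y => ?_⟩, hψe'⟩
        obtain ⟨x, hx⟩ := hle y.2
        have e1 : (⟨th θ (y : Ω), (mem_pre.1 y.2).2⟩ : φ'.range) =
            ⟨φ' ⟨th θ (x : Ω), (mem_pre.1 x.2).2⟩, _, rfl⟩ :=
          Subtype.ext ((congrArg (th θ) hx.symm).trans (hφe x).symm)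
        rw [e1, hψe']
        show th θ (x : Ω) = th θ (ψ (Subgroup.inclusion hle y))
        rw [show Subgroup.inclusion hle y = ⟨φ x, x, rfl⟩ from Subtype.ext hx.symm, hψe] }
  have hDE : D ≤ E := by
    refine H85.le_of_essential h.hTb h.hD.1.1 E fun P' hP' a' ha' => ?_
    have hcen : D.IsCentric P' := by
      rcases hP' with rfl | hess
      · exact H85.centric_top D
      · exact hess.1
    have hP'S : P' ≤ S' := hcen.1.trans h.hD.1.2.2.2.1.1
    have himg := h.img_pre hP'S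
    have hc : Cen θ Q D (preimageAlong θ P') :=
      ⟨h.Q_le_pre P', pre_mono hcen.1, himg.symm ▸ hcen⟩
    have haF' : a' ∈ F'.autGroup P' :=
      (H85.mem_autGroup hP'S).2 (h.hD.1.2.2.1 _ ((H85.mem_autGroup hcen.1).1 ha'))
    obtain ⟨φ, hφ, hφe⟩ := h.lift_hom ((H85.mem_autGroup hP'S).1 haF')
    haveI : Finite (preimageAlong θ P') := H85.finite_of_le (pre_le P')
    have hr : φ.range = preimageAlong θ P' := H86.range_eq_self_of_le F hφ (by
      rintro _ ⟨x, rfl⟩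
      refine mem_pre.2 ⟨H85.map_mem hφ x, ?_⟩
      rw [← hφe x]
      exact SetLike.coe_mem _)
    let a : MulAut ↥(preimageAlong θ P') := H85.isoOf φ hφ hr
    let ι : imageAlong θ (preimageAlong θ P') ≃* P' := MulEquiv.subgroupCongr himg
    let c' : MulAut (imageAlong θ (preimageAlong θ P')) := MulAut.congr ι.symm a'
    have hai : Ind θ a c' := fun x hx => hφe x
    have hc' : c' ∈ D.autGroup (imageAlong θ (preimageAlong θ P')) := by
      refine (H85.mem_autGroup hc.2.2.1).2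
        (H85.hom_congr (H85.restrict ((H85.mem_autGroup hcen.1).1 ha') himg.le) fun y => ?_)
      rfl
    have haA : a ∈ autA F θ D (preimageAlong θ P') := (h.mem_autA (pre_le P')).2
      ⟨(H85.mem_autGroup (pre_le P')).2 (H85.isFIso_isoOf φ hφ hr), c', hc', hai⟩
    obtain ⟨b, hb, hk⟩ := h.exists_B_ker hc haA
    refine Subgroup.subset_closure (show _ ∈ E.Hom P' from
      ⟨(H85.mem_autGroup hcen.1).1 ha', _, h.gen_of_B hc hb, fun x => ?_⟩)
    obtain ⟨-, b', -, hbi⟩ :=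
      (h.mem_autA (pre_le P')).1 (h.autB_le hc.2.1 hb)
    have h2 := hk.2 x
    have h3 : th θ ((b⁻¹ * a) x : Ω) = th θ (x : Ω) := h2
    have h4 := hbi ((b⁻¹ * a) x) (th_mem_img θ (pre_le P') _)
    rw [← MulAut.mul_apply, mul_inv_cancel_left] at h4
    have h5 : th θ (b x : Ω) = th θ (a x : Ω) := by
      rw [← h4, ← hbi x (th_mem_img θ (pre_le P') x)]
      exact congrArg (fun w => (b' w : Ω')) (Subtype.ext h3.symm)
    show (a' _ : Ω') = th θ (b x : Ω)
    rw [h5]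
    exact hφe x
  exact ((hDE P') hχ).2

/-- An automorphism in `autB` stabilizing a smaller subgroup restricts into `autB`. -/
theorem LiftCtx.res_B {R M : Subgroup Ω} (hR : Cen θ Q D R) (hM : Cen θ Q D M) (hMR : M ≤ R)
    {b : MulAut R} (hb : b ∈ autB p F θ D R)
    (hbM : ∀ x : R, (x : Ω) ∈ M → (b x : Ω) ∈ M) :
    ∃ a ∈ autB p F θ D M, ∀ x : M, (a x : Ω) = b (Subgroup.inclusion hMR x) := by
  classical
  have hMS : M ≤ S := hM.2.1.trans (pre_le Tb)
  have hRS : R ≤ S := hR.2.1.trans (pre_le Tb)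
  haveI : Finite M := H85.finite_of_le hMS
  haveI : Finite R := H85.finite_of_le hRS
  haveI : Finite (MulAut M) := Finite.of_injective (fun e => (e : M → M)) DFunLike.coe_injective
  haveI : Finite (MulAut R) := Finite.of_injective (fun e => (e : R → R)) DFunLike.coe_injective
  set φ := (R.subtype.comp b.toMonoidHom).comp (Subgroup.inclusion hMR) with hφdef
  have hgφ : Gen p F θ Q D M φ := h.gen_restrict (h.gen_of_B hR hb) hMR
  have hφ := h.gen_mem hgφ
  have hr : φ.range = M := H86.range_eq_self_of_le F hφ (by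
    rintro _ ⟨x, rfl⟩
    exact hbM _ x.2)
  let a : MulAut M := H85.isoOf φ hφ hr
  have hval : ∀ x : M, (a x : Ω) = b (Subgroup.inclusion hMR x) := fun x => rfl
  refine ⟨a, ?_, hval⟩
  have hpow : ∀ (n : ℕ) (x : M), ((a ^ n) x : Ω) = (b ^ n) (Subgroup.inclusion hMR x) := by
    intro n
    induction n with
    | zero => intro x; rfl
    | succ n ih =>
      intro x
      rw [pow_succ', pow_succ', MulAut.mul_apply, MulAut.mul_apply, hval]
      exact congrArg (fun w => (b w : Ω)) (Subtype.ext (ih x))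
  have hA : a ∈ autA F θ D M := h.gen_autA hM.1 (h.gen_congr hgφ fun x => (hval x).symm)
  obtain ⟨k, m, hm, hkm⟩ := Nat.exists_eq_pow_mul_and_not_dvd (orderOf_pos b).ne' p
    (Fact.out : p.Prime).ne_one
  have hb1 : b ^ (p ^ k * m) = 1 := by rw [← hkm]; exact pow_orderOf_eq_one b
  have ha1 : a ^ (p ^ k * m) = 1 := MulEquiv.ext fun x => Subtype.ext (by
    rw [hpow, hb1]; rfl)
  -- the part of order prime to `p`
  have h1 : a ^ p ^ k ∈ autB p F θ D M := by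
    refine Subgroup.subset_closure (Or.inl ⟨pow_mem hA _, ?_⟩)
    have hd : orderOf (a ^ p ^ k) ∣ m :=
      orderOf_dvd_of_pow_eq_one (by rw [← pow_mul, ha1])
    exact Nat.Coprime.of_dvd_left hd ((Fact.out : p.Prime).coprime_iff_not_dvd.2 hm).symm
  -- the part of `p`-power order
  have h2 : a ^ m ∈ autB p F θ D M := by
    obtain ⟨R₁, e, he, hR₁, c, hc, hce⟩ := h.telt_of_pElement hR (pow_mem hb m)
      ⟨k, by rw [← pow_mul, mul_comm, hb1]⟩
    obtain ⟨t, ht, hte⟩ := H85.mem_autInducedBy.1 hc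
    set ψ := R₁.subtype.comp e.symm.toMonoidHom with hψdef
    let e₁ : M ≃* H85.img ψ M := H85.resIso ψ (F.injective_of_mem he.symm) hMR
    have he₁ : H85.IsFIso F e₁ := H85.isFIso_resIso he.symm hMR
    have hM₁ : H85.img ψ M ≤ R₁ := by
      intro y hy
      obtain ⟨x, -, rfl⟩ := H85.mem_img.1 hy
      exact (e.symm x).2
    have hval₁ : ∀ (w : M), (e₁ w : Ω) = e.symm (Subgroup.inclusion hMR w) := fun w => rfl
    have hconj : ∀ w : M, t * (e₁ w : Ω) * t⁻¹ = (e₁ ((a ^ m) w) : Ω) := by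
      intro w
      rw [hval₁, hval₁, ← hte]
      refine congrArg Subtype.val ?_
      rw [MulEquiv.eq_symm_apply]
      refine Eq.trans ?_ (Subtype.ext (hpow m w).symm)
      rw [hce]
      rfl
    haveI : Finite (H85.img ψ M) := H85.finite_of_le he₁.right_le
    have htN : t ∈ Subgroup.normalizer (H85.img ψ M : Set Ω) := by
      refine H85.mem_normalizer_of_conj fun y hy => ?_
      obtain ⟨w, hw⟩ := e₁.surjective ⟨y, hy⟩
      have h3 := hconj w
      rw [hw] at h3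
      exact h3 ▸ (e₁ _).2
    refine Subgroup.subset_closure (Or.inr ⟨H85.img ψ M, e₁.symm, he₁.symm, hM₁.trans hR₁,
      H85.conjAut (preimageAlong θ Tb) (H85.img ψ M) ⟨t, ht, htN⟩,
      H85.conjAut_range (preimageAlong θ Tb) (H85.img ψ M) ▸ ⟨_, rfl⟩, MulEquiv.ext fun w => ?_⟩)
    show (a ^ m) w = e₁.symm (H85.conjAut _ _ ⟨t, ht, htN⟩ (e₁.symm.symm w))
    rw [MulEquiv.symm_symm, MulEquiv.eq_symm_apply]
    exact Subtype.ext (hconj w).symm
  have hcop : Nat.gcd (p ^ k) m = 1 :=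
    Nat.Coprime.pow_left _ ((Fact.out : p.Prime).coprime_iff_not_dvd.2 hm)
  have hbez := Nat.gcd_eq_gcd_ab (p ^ k) m
  rw [hcop] at hbez
  have : a = (a ^ p ^ k) ^ (Nat.gcdA (p ^ k) m) * (a ^ m) ^ (Nat.gcdB (p ^ k) m) := by
    rw [← zpow_natCast a (p ^ k), ← zpow_natCast a m, ← zpow_mul, ← zpow_mul, ← zpow_add, ← hbez]
    simp
  rw [this]
  exact mul_mem (zpow_mem h1 _) (zpow_mem h2 _)

/-- Normalizers correspond under taking images. -/
theorem LiftCtx.normalizerIn_pre {U' : Subgroup Ω'} {P : Subgroup Ω} (hQP : Q ≤ P) (hP : P ≤ S)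
    (hU : U' ≤ S') : normalizerIn (preimageAlong θ U') P =
      preimageAlong θ (normalizerIn U' (imageAlong θ P)) := by
  haveI := h.finite_S'
  haveI : Finite P := H85.finite_of_le hP
  haveI : Finite (imageAlong θ P) := H85.finite_of_le (h.img_le P)
  ext g
  constructor
  · intro hg
    obtain ⟨hgS, hgU⟩ := mem_pre.1 hg.1
    refine mem_pre.2 ⟨hgS, hgU, H85.mem_normalizer_of_conj fun y hy => ?_⟩
    obtain ⟨x, hx, hxS, rfl⟩ := (mem_img θ).1 hy
    rw [← th_conj θ hgS hxS]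
    exact th_mem_img θ hP ⟨_, H85.conj_mem_of_mem_normalizer hg.2 hx⟩
  · intro hg
    obtain ⟨hgS, hgU, hgN⟩ := mem_pre.1 hg
    refine ⟨mem_pre.2 ⟨hgS, hgU⟩, H85.mem_normalizer_of_conj fun x hx => ?_⟩
    refine h.mem_of_th_mem hQP (S.mul_mem (S.mul_mem hgS (hP hx)) (S.inv_mem hgS)) ?_
    rw [th_conj θ hgS (hP hx)]
    exact H85.conj_mem_of_mem_normalizer hgN (th_mem_img θ hP ⟨x, hx⟩)

/-- A map of the lifted system to `M` defined on the normalizer. -/
def Move (p : ℕ) (F : FusionSystem S) (θ : S →* Ω') (Q : Subgroup Ω) (D : FusionSystem Tb)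
    (M P : Subgroup Ω) (g : normalizerIn (preimageAlong θ Tb) P →* Ω) : Prop :=
  Gen p F θ Q D _ g ∧ (∀ x, g x ∈ normalizerIn (preimageAlong θ Tb) M) ∧ H85.img g P = M

theorem LiftCtx.exists_move {M P : Subgroup Ω} (hM : Cen θ Q D M)
    (hMn : D.IsFullyNormalized (imageAlong θ M)) (hP : Cen θ Q D P)
    (hc : D.IsConj (imageAlong θ P) (imageAlong θ M)) :
    ∃ g, Move p F θ Q D M P g := by
  haveI := h.finite_S'
  haveI := h.finite_Tb
  have hTbS := h.hD.1.2.2.2.1.1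
  have hPS : P ≤ S := hP.2.1.trans (pre_le Tb)
  have hMS : M ≤ S := hM.2.1.trans (pre_le Tb)
  obtain ⟨m, hm, hmv, himg⟩ :=
    H85.exists_map_to_fullyNormalized h.hTb h.hD.1.1 hMn hc
  obtain ⟨φ, hφ, hφe⟩ := h.lift_gen hm
  have heq := h.normalizerIn_pre hP.1 hPS hTbS
  set g := φ.comp (Subgroup.inclusion heq.le) with hgdef
  have hg := h.gen_restrict hφ heq.le
  have hth : ∀ x, th θ (g x) = m ⟨th θ (x : Ω), (mem_pre.1 (heq.le x.2)).2⟩ := fun x =>
    (hφe (Subgroup.inclusion heq.le x)).symm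
  refine ⟨g, hg, fun x => ?_, ?_⟩
  · rw [h.normalizerIn_pre hM.1 hMS hTbS]
    refine mem_pre.2 ⟨(mem_T.1 (h.gen_map_mem hg x)).1, ?_⟩
    rw [hth]
    exact hmv _
  · have hPN : P ≤ normalizerIn (preimageAlong θ Tb) P := H85.le_normalizerIn hP.2.1
    have h1 : H85.img g P ≤ M := by
      intro y hy
      obtain ⟨x, hx, rfl⟩ := H85.mem_img.1 hy
      refine h.mem_of_th_mem hM.1 (mem_T.1 (h.gen_map_mem hg x)).1 ?_
      rw [hth, ← himg]
      exact H85.mem_img.2 ⟨_, th_mem_img θ hPS ⟨x, hx⟩, rfl⟩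
    refine le_antisymm h1 fun y hy => ?_
    have h2 : th θ y ∈ H85.img m (imageAlong θ P) := himg.symm ▸ th_mem_img θ hMS ⟨y, hy⟩
    obtain ⟨w, hw, hwy⟩ := H85.mem_img.1 h2
    obtain ⟨x, hx, hxS, hxe⟩ := (mem_img θ).1 hw
    let x' : normalizerIn (preimageAlong θ Tb) P := ⟨x, hPN hx⟩
    have h3 : th θ (g x') = th θ y := by
      rw [hth, ← hwy]
      exact congrArg m (Subtype.ext hxe)
    have hgS := (mem_T.1 (h.gen_map_mem hg x')).1
    have hq : (g x')⁻¹ * y ∈ Q := (h.th_eq hgS (hMS hy)).1 h3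
    have hqP : (g x')⁻¹ * y ∈ P := hP.1 hq
    refine H85.mem_img.2 ⟨x' * ⟨_, hPN hqP⟩, P.mul_mem hx hqP, ?_⟩
    rw [map_mul, h.fix_Q (h.gen_mem hg) ⟨_, hPN hqP⟩ hq, mul_inv_cancel_left]

/-- The automorphism groups of the lifted system at subgroups above a given order. -/
def UniqAbove (p : ℕ) (F : FusionSystem S) (θ : S →* Ω') (Q : Subgroup Ω) (D : FusionSystem Tb)
    (n : ℕ) : Prop :=
  ∀ P : Subgroup Ω, Cen θ Q D P → n < Nat.card P → ∀ a : MulAut P,
    Gen p F θ Q D P (P.subtype.comp a.toMonoidHom) → a ∈ autB p F θ D P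

/-- A map of the lifted system fixing `M` setwise restricts into `autB` of `M`. -/
theorem LiftCtx.res_mem_B {M : Subgroup Ω} (hM : Cen θ Q D M)
    (hMn : D.IsFullyNormalized (imageAlong θ M))
    (IH : UniqAbove p F θ Q D (Nat.card M)) :
    ∀ (R : Subgroup Ω) (hMR : M ≤ R) (φ : R →* Ω), M < R →
      R ≤ normalizerIn (preimageAlong θ Tb) M → Gen p F θ Q D R φ →
      (∀ x, φ x ∈ normalizerIn (preimageAlong θ Tb) M) → (∀ x : R, (x : Ω) ∈ M → φ x ∈ M) →
      ∃ a ∈ autB p F θ D M, ∀ x : M, φ (Subgroup.inclusion hMR x) = a x := by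
  haveI := h.finite_S'
  haveI := h.finite_Tb
  classical
  set T := preimageAlong θ Tb with hTdef
  set N := normalizerIn T M with hNdef
  have hTS : T ≤ S := pre_le Tb
  have hMS : M ≤ S := hM.2.1.trans hTS
  have hNT : N ≤ T := H85.normalizerIn_le M
  haveI : Finite N := H85.finite_of_le (hNT.trans hTS)
  suffices H : ∀ (n : ℕ) (R : Subgroup Ω) (hMR : M ≤ R) (φ : R →* Ω),
      Nat.card N - Nat.card R ≤ n → M < R →
      R ≤ N → Gen p F θ Q D R φ → (∀ x, φ x ∈ N) → (∀ x : R, (x : Ω) ∈ M → φ x ∈ M) →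
      ∃ a ∈ autB p F θ D M, ∀ x : M, φ (Subgroup.inclusion hMR x) = a x from
    fun R hMR φ => H _ R hMR φ le_rfl
  intro n
  induction n using Nat.strong_induction_on with
  | _ n ih =>
  intro R hMR φ hn hlt hRN hφ hφN hφM
  have hRS : R ≤ S := hRN.trans (hNT.trans hTS)
  haveI : Finite R := H85.finite_of_le hRS
  have hcard : Nat.card M < Nat.card R := by
    by_contra hc
    exact hlt.ne (Subgroup.eq_of_le_of_card_ge hMR (not_lt.1 hc))
  have hφF := h.gen_mem hφ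
  rcases eq_or_lt_of_le hRN with hRe | hRlt
  · have hr : φ.range = R := H86.range_eq_self_of_le F hφF (by
      rintro _ ⟨x, rfl⟩
      exact hRe.ge (hφN x))
    have hcR : Cen θ Q D R := h.cen_mono hM hMR (hRN.trans hNT)
    have hb := IH R hcR hcard (H85.isoOf φ hφF hr) (h.gen_congr hφ fun _ => rfl)
    obtain ⟨a, ha, hae⟩ := h.res_B hcR hM hMR hb hφM
    exact ⟨a, ha, fun x => (hae x).symm⟩
  -- the normalizer system of the image of `M`
  set Mb := imageAlong θ M with hMbdef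
  have hMbT : Mb ≤ Tb := hM.2.2.1
  let NS : FusionSystem (normalizerIn Tb Mb) := H85.normalizerSystem D Mb hMbT
  have hNSsat : NS.IsSaturated p :=
    H85.isSaturated_normalizerSystem h.hTb h.hD.1.1 hMn NS (H85.normalizerSystem_spec D Mb hMbT)
  have hNbT : (normalizerIn Tb Mb) ≤ Tb := H85.normalizerIn_le Mb
  haveI : Finite (normalizerIn Tb Mb) := H85.finite_of_le hNbT
  have hNbp : IsPGroup p (normalizerIn Tb Mb) := h.hTb.to_le hNbT
  have hNpre : N = preimageAlong θ (normalizerIn Tb Mb) :=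
    h.normalizerIn_pre hM.1 hMS h.hD.1.2.2.2.1.1
  set R' := φ.range with hR'def
  have hR'N : R' ≤ N := by
    rintro _ ⟨x, rfl⟩
    exact hφN x
  have hR'S : R' ≤ S := hR'N.trans (hNT.trans hTS)
  have hMR' : M ≤ R' := by
    have hres := H85.restrict hφF hMR
    haveI : Finite M := H85.finite_of_le hMS
    have := H86.range_eq_self_of_le F hres (by
      rintro _ ⟨x, rfl⟩
      exact hφM _ x.2)
    intro y hy
    rw [← this] at hy
    obtain ⟨x, rfl⟩ := hy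
    exact ⟨Subgroup.inclusion hMR x, rfl⟩
  have hQR : Q ≤ R := hM.1.trans hMR
  have hQR' : Q ≤ R' := hM.1.trans hMR'
  have hRb : imageAlong θ R ≤ (normalizerIn Tb Mb) := img_le_of_le (hRN.trans hNpre.le)
  -- the image of `φ` in the normalizer system
  obtain ⟨φ', hφ', hφe'⟩ := h.gen_ind hφ
  have hφ'NS : φ' ∈ NS.Hom (imageAlong θ R) := by
    refine ⟨hφ', hRb, fun y => ?_, φ'.comp (Subgroup.inclusion (sup_le le_rfl (img_mono θ hMR))),
      H85.restrict hφ' _, fun y => rfl, le_antisymm ?_ ?_⟩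
    · obtain ⟨x, -, hy⟩ := exists_img θ y
      rw [show y = ⟨_, th_mem_img θ hRS x⟩ from Subtype.ext hy.symm, hφe']
      exact (mem_pre.1 (hNpre.le (hφN x))).2
    · rintro _ ⟨w, hw, rfl⟩
      obtain ⟨x, hx, hxS, hxe⟩ := (mem_img θ).1 (Subgroup.mem_subgroupOf.1 hw)
      show φ' _ ∈ Mb
      rw [show Subgroup.inclusion (sup_le le_rfl (img_mono θ hMR)) w =
        ⟨_, th_mem_img θ hRS (⟨x, hMR hx⟩ : R)⟩ from Subtype.ext hxe.symm, hφe']
      exact th_mem_img θ hMS ⟨_, hφM ⟨x, hMR hx⟩ hx⟩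
    · intro y hy
      obtain ⟨z, hz, -, rfl⟩ := (mem_img θ).1 hy
      obtain ⟨x, hxz⟩ := hMR' hz
      have hxM : (x : Ω) ∈ M := by
        haveI : Finite M := H85.finite_of_le hMS
        have := H86.range_eq_self_of_le F (H85.restrict hφF hMR) (by
          rintro _ ⟨w, rfl⟩
          exact hφM _ w.2)
        rw [← this] at hz
        obtain ⟨w, hw⟩ := hz
        have : x = Subgroup.inclusion hMR w := F.injective_of_mem hφF (hxz.trans hw.symm)
        rw [this]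
        exact w.2
      refine ⟨⟨_, Subgroup.mem_sup_right (th_mem_img θ hMS ⟨_, hxM⟩)⟩,
        Subgroup.mem_subgroupOf.2 (th_mem_img θ hMS ⟨_, hxM⟩), ?_⟩
      show φ' _ = th θ z
      rw [← hxz]
      exact hφe' x _
  have hφ'r : φ'.range = imageAlong θ R' := by
    refine le_antisymm ?_ ?_
    · rintro _ ⟨y, rfl⟩
      obtain ⟨x, -, hy⟩ := exists_img θ y
      rw [show y = ⟨_, th_mem_img θ hRS x⟩ from Subtype.ext hy.symm, hφe']
      exact th_mem_img θ hR'S ⟨_, x, rfl⟩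
    · intro y hy
      obtain ⟨_, ⟨x, rfl⟩, -, rfl⟩ := (mem_img θ).1 hy
      exact ⟨_, hφe' x (th_mem_img θ hRS x)⟩
  obtain ⟨Rs, hRRs, hRs⟩ := H85.exists_fullyNormalized NS hRb
  -- lifts of the maps to the fully normalized conjugate
  have hmove : ∀ R₀ : Subgroup Ω, M ≤ R₀ → R₀ ≤ N → Nat.card R₀ = Nat.card R →
      NS.IsConj (imageAlong θ R₀) Rs →
      ∃ g : R₀ →* Ω, Gen p F θ Q D R₀ g ∧ g.range = preimageAlong θ Rs ∧
        ∃ hMR₀ : M ≤ R₀, ∃ a ∈ autB p F θ D M,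
          ∀ x : M, g (Subgroup.inclusion hMR₀ x) = a x := by
    intro R₀ hMR₀ hR₀N hc₀ hconj
    have hR₀S : R₀ ≤ S := hR₀N.trans (hNT.trans hTS)
    have hQR₀ : Q ≤ R₀ := hM.1.trans hMR₀
    obtain ⟨m, hm, hmv, himg⟩ := H85.exists_map_to_fullyNormalized hNbp hNSsat hRs hconj
    obtain ⟨hmD, -, hmN, ψ, -, hψe, hψM⟩ := hm
    set R₁ := preimageAlong θ (normalizerIn (normalizerIn Tb Mb) (imageAlong θ R₀)) with hR₁def
    obtain ⟨g, hg, hge⟩ := h.lift_gen hmD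
    have hR₀R₁ : R₀ ≤ R₁ := fun x hx => mem_pre.2 ⟨hR₀S hx,
      H85.le_normalizerIn (img_le_of_le (hR₀N.trans hNpre.le)) (th_mem_img θ hR₀S ⟨x, hx⟩)⟩
    have hR₁N : R₁ ≤ N := (pre_mono inf_le_left).trans hNpre.ge
    haveI : Finite R₁ := H85.finite_of_le (hR₁N.trans (hNT.trans hTS))
    have hbig : Nat.card R₀ < Nat.card R₁ := by
      have hne : R₀ < N := by
        refine lt_of_le_of_ne hR₀N ?_
        rintro rfl
        exact hRlt.ne (Subgroup.eq_of_le_of_card_ge hRN hc₀.le)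
      refine (H86.card_lt_card_normalizerIn h.hS (hNT.trans hTS) hne).trans_le
        (Subgroup.card_le_of_le ?_)
      rw [hR₁def, hNpre, h.normalizerIn_pre hQR₀ hR₀S
        (hNbT.trans h.hD.1.2.2.2.1.1)]
    have hgN : ∀ x, g x ∈ N := fun x => by
      refine hNpre.ge (mem_pre.2 ⟨(mem_T.1 (h.gen_map_mem hg x)).1, ?_⟩)
      rw [← hge]
      exact hmN _
    have hgM : ∀ x : R₁, (x : Ω) ∈ M → g x ∈ M := by
      intro x hx
      refine h.mem_of_th_mem hM.1 (mem_T.1 (h.gen_map_mem hg x)).1 ?_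
      rw [← hge, ← hψe]
      exact hψM.le ⟨_, Subgroup.mem_subgroupOf.2 (th_mem_img θ hMS ⟨x, hx⟩), rfl⟩
    have hMR₁ : M ≤ R₁ := hMR₀.trans hR₀R₁
    have hcard₀ : Nat.card M < Nat.card R₁ := lt_trans (hc₀ ▸ hcard) hbig
    have hltR₁ : M < R₁ := lt_of_le_of_ne hMR₁ fun e => by
      rw [← e] at hcard₀
      exact lt_irrefl _ hcard₀
    have hR₁le : Nat.card R₁ ≤ Nat.card N := Subgroup.card_le_of_le hR₁N
    obtain ⟨a, ha, hae⟩ := ih (Nat.card N - Nat.card R₁) (by omega) R₁ hMR₁ g le_rfl hltR₁ hR₁N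
      hg hgN hgM
    refine ⟨g.comp (Subgroup.inclusion hR₀R₁), h.gen_restrict hg hR₀R₁, ?_, hMR₀, a, ha,
      fun x => hae x⟩
    apply le_antisymm
    · rintro _ ⟨x, rfl⟩
      refine mem_pre.2 ⟨(mem_T.1 (h.gen_map_mem hg _)).1, ?_⟩
      show th θ (g (Subgroup.inclusion hR₀R₁ x)) ∈ Rs
      rw [← hge, ← himg]
      exact H85.mem_img.2 ⟨_, th_mem_img θ hR₀S x, rfl⟩
    · intro y hy
      obtain ⟨hyS, hy'⟩ := mem_pre.1 hy
      rw [← himg] at hy'
      obtain ⟨w, hw, hwy⟩ := H85.mem_img.1 hy'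
      obtain ⟨x, hx, hxS, hxe⟩ := (mem_img θ).1 hw
      let x' : R₁ := Subgroup.inclusion hR₀R₁ ⟨x, hx⟩
      have h3 : th θ (g x') = th θ y := by
        rw [← hge, ← hwy]
        exact congrArg m (Subtype.ext hxe)
      have hq : (g x')⁻¹ * y ∈ Q := (h.th_eq (mem_T.1 (h.gen_map_mem hg x')).1 hyS).1 h3
      have hqR : (g x')⁻¹ * y ∈ R₀ := hQR₀ hq
      refine ⟨⟨x, hx⟩ * ⟨_, hqR⟩, ?_⟩
      rw [map_mul]
      show g x' * g (Subgroup.inclusion hR₀R₁ ⟨_, hqR⟩) = y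
      rw [h.fix_Q (h.gen_mem hg) (Subgroup.inclusion hR₀R₁ ⟨_, hqR⟩) hq]
      exact mul_inv_cancel_left _ _
  obtain ⟨g₁, hg₁, hr₁, hM₁, a₁, ha₁, hae₁⟩ := hmove R hMR hRN rfl hRRs
  obtain ⟨g₂, hg₂, hr₂, hM₂, a₂, ha₂, hae₂⟩ := hmove R' hMR' hR'N
    (H85.isConj_card ⟨φ, hφF, rfl⟩).symm
    (H85.isConj_trans (H85.isConj_symm ⟨φ', hφ'NS, hφ'r⟩) hRRs)
  -- the loop at `Rs`
  set Rp := preimageAlong θ Rs with hRpdef
  obtain ⟨f, hf, hfe⟩ := h.gen_inv hg₁
  have hle : Rp ≤ g₁.range := hr₁.ge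
  have hfR : ∀ y : Rp, (f.comp (Subgroup.inclusion hle)) y ∈ R := fun y => by
    obtain ⟨x, hx⟩ := hle y.2
    rw [show f.comp (Subgroup.inclusion hle) y = f ⟨g₁ x, x, rfl⟩ from
      congrArg f (Subtype.ext hx.symm), hfe]
    exact x.2
  let l1 : Rp →* Ω := φ.comp ((f.comp (Subgroup.inclusion hle)).codRestrict R hfR)
  have hl1 : Gen p F θ Q D Rp l1 := Gen.comp (h.gen_restrict hf hle) hφ hfR fun _ => rfl
  have hl1R : ∀ y, l1 y ∈ R' := fun y => ⟨_, rfl⟩
  let l2 : Rp →* Ω := g₂.comp (l1.codRestrict R' hl1R)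
  have hl2 : Gen p F θ Q D Rp l2 := Gen.comp hl1 hg₂ hl1R fun _ => rfl
  have hRpT : Rp ≤ T := h.gen_source_le hl2
  haveI : Finite Rp := H85.finite_of_le (hRpT.trans hTS)
  have hl2r : l2.range = Rp := H86.range_eq_self_of_le F (h.gen_mem hl2) (by
    rintro _ ⟨y, rfl⟩
    exact hr₂.le ⟨_, rfl⟩)
  have hMRp : M ≤ Rp := by
    intro y hy
    obtain ⟨x, hx⟩ := a₁.surjective ⟨y, hy⟩
    exact hr₁.le ⟨_, (hae₁ x).trans (congrArg Subtype.val hx)⟩
  have hcRp : Cen θ Q D Rp := h.cen_mono hM hMRp hRpT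
  have hcardRp : Nat.card Rp = Nat.card R :=
    (H85.isConj_card (F := F) ⟨g₁, h.gen_mem hg₁, hr₁⟩).symm
  have hb := IH Rp hcRp (hcardRp ▸ hcard) (H85.isoOf l2 (h.gen_mem hl2) hl2r)
    (h.gen_congr hl2 fun _ => rfl)
  have hl2val : ∀ x : M, l2 (Subgroup.inclusion hMRp (a₁ x)) =
      g₂ ⟨φ (Subgroup.inclusion hMR x), _, rfl⟩ := by
    intro x
    show g₂ _ = g₂ _
    refine congrArg g₂ (Subtype.ext (congrArg φ (Subtype.ext ?_)))
    show f (Subgroup.inclusion hle (Subgroup.inclusion hMRp (a₁ x))) = x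
    rw [show Subgroup.inclusion hle (Subgroup.inclusion hMRp (a₁ x)) =
      ⟨g₁ (Subgroup.inclusion hM₁ x), _, rfl⟩ from Subtype.ext (hae₁ x).symm, hfe]
    rfl
  have hbM : ∀ y : Rp, (y : Ω) ∈ M → l2 y ∈ M := by
    intro y hy
    obtain ⟨x, hx⟩ := a₁.surjective ⟨y, hy⟩
    rw [show y = Subgroup.inclusion hMRp (a₁ x) from
      Subtype.ext (congrArg Subtype.val hx).symm, hl2val,
      show (⟨φ (Subgroup.inclusion hMR x), _, rfl⟩ : R') =
        Subgroup.inclusion hM₂ ⟨φ (Subgroup.inclusion hMR x), hφM _ x.2⟩ from rfl, hae₂]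
    exact SetLike.coe_mem _
  obtain ⟨c, hc, hce⟩ := h.res_B hcRp hM hMRp hb hbM
  refine ⟨a₂⁻¹ * c * a₁, mul_mem (mul_mem (inv_mem ha₂) hc) ha₁, fun x => ?_⟩
  have h1 : (c (a₁ x) : Ω) = a₂ ⟨φ (Subgroup.inclusion hMR x), hφM _ x.2⟩ := by
    rw [hce, ← hae₂]
    exact hl2val x
  have h2 : c (a₁ x) = a₂ ⟨φ (Subgroup.inclusion hMR x), hφM _ x.2⟩ := Subtype.ext h1
  rw [MulAut.mul_apply, MulAut.mul_apply, h2, MulAut.inv_apply_self]

/-- The automorphism groups of the lifted system on `Cen` are the groups `autB`. -/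
theorem LiftCtx.gen_aut_mem_B {P : Subgroup Ω} (hP : Cen θ Q D P) {a : MulAut P}
    (ha : Gen p F θ Q D P (P.subtype.comp a.toMonoidHom)) : a ∈ autB p F θ D P := by
  haveI := h.finite_S'
  haveI := h.finite_Tb
  classical
  set T := preimageAlong θ Tb with hTdef
  have hTS : T ≤ S := pre_le Tb
  haveI : Finite T := H85.finite_of_le hTS
  suffices H : ∀ (n : ℕ) (P : Subgroup Ω), Cen θ Q D P → Nat.card T - Nat.card P ≤ n →
      ∀ a : MulAut P, Gen p F θ Q D P (P.subtype.comp a.toMonoidHom) → a ∈ autB p F θ D P from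
    H _ P hP le_rfl a ha
  intro n
  induction n using Nat.strong_induction_on with
  | _ n ih =>
  clear hP ha a P
  intro P hP hn a ha
  have IH : UniqAbove p F θ Q D (Nat.card P) := by
    intro R hR hlt
    have : Nat.card R ≤ Nat.card T := Subgroup.card_le_of_le hR.2.1
    exact ih (Nat.card T - Nat.card R) (by omega) R hR le_rfl
  rcases eq_or_lt_of_le hP.2.1 with hPe | hPlt
  · -- automorphisms of `T`
    subst hPe
    have key : ∀ (R : Subgroup Ω) (φ : R →* Ω), Gen p F θ Q D R φ → ∀ (hTR : T ≤ R),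
        ∃ b ∈ autB p F θ D T, ∀ x : T, φ (Subgroup.inclusion hTR x) = b x := by
      intro R φ hφ
      induction hφ with
      | @step P R hR hPR b hb φ he =>
        intro hTR
        obtain rfl : R = T := le_antisymm hR.2.1 (hTR.trans hPR)
        exact ⟨b, hb, fun x => he _⟩
      | @comp P R φ χ ψ h1 h2 hm he ih1 ih2 =>
        intro hTR
        obtain ⟨b, hb, hbe⟩ := ih1 hTR
        have hTR' : T ≤ R := fun y hy => by
          obtain ⟨x, hx⟩ := b.surjective ⟨y, hy⟩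
          have h3 := hm (Subgroup.inclusion hTR x)
          rw [hbe, hx] at h3
          exact h3
        obtain ⟨c, hc, hce⟩ := ih2 hTR'
        refine ⟨c * b, mul_mem hc hb, fun x => ?_⟩
        rw [he, MulAut.mul_apply, ← hce]
        exact congrArg ψ (Subtype.ext (hbe x))
    obtain ⟨b, hb, hbe⟩ := key T _ ha le_rfl
    rwa [show a = b from MulEquiv.ext fun x => Subtype.ext (hbe x)]
  have hPS : P ≤ S := hP.2.1.trans hTS
  haveI : Finite P := H85.finite_of_le hPS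
  obtain ⟨Mb, hPM, hMn⟩ := H85.exists_fullyNormalized D hP.2.2.1
  set M := preimageAlong θ Mb with hMdef
  have hMbT : Mb ≤ Tb := hMn.1
  have hMbS : Mb ≤ S' := hMbT.trans h.hD.1.2.2.2.1.1
  have himgM : imageAlong θ M = Mb := h.img_pre hMbS
  have hMc : D.IsCentric Mb := ⟨hMbT, fun R hR => hP.2.2.2 R (H85.isConj_trans hPM hR)⟩
  have hM : Cen θ Q D M := ⟨h.Q_le_pre Mb, pre_mono hMbT, himgM.symm ▸ hMc⟩
  have hMn' : D.IsFullyNormalized (imageAlong θ M) := himgM.symm ▸ hMn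
  let InCl : Subgroup Ω → Prop := fun P₀ => Cen θ Q D P₀ ∧ D.IsConj (imageAlong θ P₀) Mb
  have hcardM : ∀ P₀, InCl P₀ → Nat.card P₀ = Nat.card M := by
    intro P₀ hP₀
    obtain ⟨g, hg, hgv, himg⟩ := h.exists_move hM hMn' hP₀.1 (himgM.symm ▸ hP₀.2)
    exact H85.isConj_card (F := F) (himg ▸ H85.isConj_img (h.gen_mem hg)
      (H85.le_normalizerIn hP₀.1.2.1))
  have hInP : InCl P := ⟨hP, hPM⟩
  have hPM' : Nat.card P = Nat.card M := hcardM P hInP
  have IHM : UniqAbove p F θ Q D (Nat.card M) := hPM' ▸ IH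
  have hMlt : Nat.card M < Nat.card T := by
    rw [← hPM']
    by_contra hc
    exact hPlt.ne (Subgroup.eq_of_le_of_card_ge hP.2.1 (not_lt.1 hc))
  have hbig : ∀ P₀, InCl P₀ → ∀ R : Subgroup Ω, P₀ < R → R ≤ T →
      Nat.card M < Nat.card (normalizerIn R P₀) := by
    intro P₀ hP₀ R hlt hR
    rw [← hcardM P₀ hP₀]
    exact H86.card_lt_card_normalizerIn h.hS (hR.trans hTS) hlt
  -- a map on `R ≤ N_T(P₀)` compared with moves
  have hcompare : ∀ (P₀ P₁ R : Subgroup Ω) (hPR : P₀ ≤ R)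
      (hRN : R ≤ normalizerIn T P₀) (φ : R →* Ω) (_ : Gen p F θ Q D R φ)
      (hφN : ∀ x, φ x ∈ normalizerIn T P₁) (_ : ∀ x : R, (x : Ω) ∈ P₀ → φ x ∈ P₁)
      (g : normalizerIn T P₀ →* Ω) (g' : normalizerIn T P₁ →* Ω),
      InCl P₀ → InCl P₁ → Move p F θ Q D M P₀ g → Move p F θ Q D M P₁ g' →
      Nat.card M < Nat.card R →
      ∃ c ∈ autB p F θ D M, ∀ (x : P₀) (hm : g (Subgroup.inclusion (hPR.trans hRN) x) ∈ M),
        g' ⟨φ (Subgroup.inclusion hPR x), hφN _⟩ = c ⟨_, hm⟩ := by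
    rintro P₀ P₁ R hPR hRN φ hφ hφN hφP g g' hP₀ hP₁ ⟨hg, hgv, hgi⟩ ⟨hg', hg'v, hg'i⟩ hR
    set g0 := g.comp (Subgroup.inclusion hRN) with hg0def
    have hg0 : Gen p F θ Q D R g0 := h.gen_restrict hg hRN
    obtain ⟨f, hf, hfe⟩ := h.gen_inv hg0
    have hMg : M ≤ g0.range := by
      intro y hy
      rw [← hgi] at hy
      obtain ⟨x, hx, rfl⟩ := H85.mem_img.1 hy
      exact ⟨⟨x, hPR hx⟩, rfl⟩
    have hfR : ∀ y, f y ∈ R := by
      rintro ⟨_, x, rfl⟩
      rw [hfe]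
      exact x.2
    let l1 : g0.range →* Ω := φ.comp (f.codRestrict R hfR)
    have hl1 : Gen p F θ Q D g0.range l1 := Gen.comp hf hφ hfR fun _ => rfl
    have hl1N : ∀ y, l1 y ∈ normalizerIn T P₁ := fun y => hφN _
    let l2 : g0.range →* Ω := g'.comp (l1.codRestrict _ hl1N)
    have hl2 : Gen p F θ Q D g0.range l2 := Gen.comp hl1 hg' hl1N fun _ => rfl
    have hsrc : g0.range ≤ normalizerIn T M := by
      rintro _ ⟨x, rfl⟩
      exact hgv _
    have hcr : Nat.card M < Nat.card g0.range :=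
      lt_of_lt_of_eq hR (H85.isConj_card (F := F) ⟨g0, h.gen_mem hg0, rfl⟩)
    have hlt : M < g0.range := lt_of_le_of_ne hMg fun e => by
      rw [← e] at hcr
      exact lt_irrefl _ hcr
    have hM2 : ∀ y : g0.range, (y : Ω) ∈ M → l2 y ∈ M := by
      rintro ⟨y, x, hxy⟩ hy
      have hy' : y ∈ H85.img g P₀ := hgi.symm ▸ hy
      obtain ⟨z, hz, hzy⟩ := H85.mem_img.1 hy'
      have hxz : Subgroup.inclusion hRN x = z :=
        F.injective_of_mem (h.gen_mem hg) (hxy.trans hzy.symm)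
      subst hxy
      have hxP : (x : Ω) ∈ P₀ := by
        have := congrArg Subtype.val hxz
        rw [show ((x : Ω)) = (z : Ω) from this]
        exact hz
      show g' ⟨φ ⟨f ⟨g0 x, x, rfl⟩, _⟩, _⟩ ∈ M
      rw [← hg'i]
      refine H85.mem_img.2 ⟨_, ?_, rfl⟩
      show φ ⟨f ⟨g0 x, x, rfl⟩, _⟩ ∈ P₁
      refine hφP _ ?_
      show f ⟨g0 x, x, rfl⟩ ∈ P₀
      rw [hfe]
      exact hxP
    obtain ⟨c, hc, hce⟩ := h.res_mem_B hM hMn' IHM g0.range hMg l2 hlt hsrc hl2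
      (fun y => hg'v _) hM2
    refine ⟨c, hc, fun x hm => ?_⟩
    rw [← hce ⟨_, hm⟩]
    show g' _ = g' _
    refine congrArg g' (Subtype.ext (congrArg φ (Subtype.ext ?_)))
    show (x : Ω) = f (Subgroup.inclusion hMg ⟨_, hm⟩)
    exact (hfe (Subgroup.inclusion hPR x)).symm
  -- moves are unique up to `autB`
  have hindep : ∀ (P₀ : Subgroup Ω) (g g' : normalizerIn T P₀ →* Ω), InCl P₀ →
      Move p F θ Q D M P₀ g → Move p F θ Q D M P₀ g' →
      ∃ c ∈ autB p F θ D M, ∀ (x : normalizerIn T P₀) (hm : g x ∈ M), (x : Ω) ∈ P₀ →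
        g' x = c ⟨g x, hm⟩ := by
    intro P₀ g g' hP₀ hg hg'
    have hle := H85.le_normalizerIn hP₀.1.2.1
    have hlt : P₀ < T := lt_of_le_of_ne hP₀.1.2.1 fun e => by
      have := hcardM P₀ hP₀
      rw [e] at this
      exact hMlt.ne this.symm
    obtain ⟨c, hc, hce⟩ := hcompare P₀ P₀ (normalizerIn T P₀) hle le_rfl
      (normalizerIn T P₀).subtype
      (Gen.step h.cen_T (H85.normalizerIn_le P₀) (one_mem _) fun _ => rfl)
      (fun x => x.2) (fun x hx => hx) g g' hP₀ hP₀ hg hg' (hbig P₀ hP₀ T hlt le_rfl)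
    exact ⟨c, hc, fun x hm hx => (congrArg g' (Subtype.ext rfl)).trans (hce ⟨x, hx⟩ hm)⟩
  -- every map is good
  let Good : ∀ P₀ : Subgroup Ω, (P₀ →* Ω) → Prop := fun P₀ φ =>
    ∀ g g', Move p F θ Q D M P₀ g → Move p F θ Q D M φ.range g' →
      ∃ c ∈ autB p F θ D M, ∀ (x : P₀) (hx : (x : Ω) ∈ normalizerIn T P₀)
        (hx' : φ x ∈ normalizerIn T φ.range) (hm : g ⟨x, hx⟩ ∈ M),
        g' ⟨φ x, hx'⟩ = c ⟨_, hm⟩
  have hall : ∀ (R : Subgroup Ω) (φ : R →* Ω), Gen p F θ Q D R φ → ∀ (P₀ : Subgroup Ω)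
      (hPR : P₀ ≤ R), InCl P₀ → InCl (φ.comp (Subgroup.inclusion hPR)).range ∧
        Good P₀ (φ.comp (Subgroup.inclusion hPR)) := by
    intro R φ hφ
    induction hφ with
    | @step P₂ R hR hPR₂ b hb φ he =>
      intro P₀ hP₀R hP₀
      have hP₀R' : P₀ ≤ R := hP₀R.trans hPR₂
      have hgen : Gen p F θ Q D P₀ (φ.comp (Subgroup.inclusion hP₀R)) :=
        Gen.step hR hP₀R' hb fun x => he _
      set φ₀ := φ.comp (Subgroup.inclusion hP₀R) with hφ₀def
      have hin : InCl φ₀.range := by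
        let e := H85.isoOf φ₀ (h.gen_mem hgen) rfl
        refine ⟨h.cen_conj hP₀.1 (H85.isFIso_isoOf φ₀ (h.gen_mem hgen) rfl : H85.IsFIso F e), ?_⟩
        obtain ⟨f', hf', hfe'⟩ := h.gen_ind hgen
        have hP₀S : P₀ ≤ S := hP₀.1.2.1.trans hTS
        have hrS : φ₀.range ≤ S := H85.range_le (h.gen_mem hgen)
        refine H85.isConj_trans (H85.isConj_symm ⟨f', hf', le_antisymm ?_ ?_⟩) hP₀.2
        · rintro _ ⟨y, rfl⟩
          obtain ⟨x, -, hy⟩ := exists_img θ y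
          rw [show y = ⟨_, th_mem_img θ hP₀S x⟩ from Subtype.ext hy.symm, hfe']
          exact th_mem_img θ hrS ⟨_, x, rfl⟩
        · intro y hy
          obtain ⟨_, ⟨x, rfl⟩, -, rfl⟩ := (mem_img θ).1 hy
          exact ⟨_, hfe' x (th_mem_img θ hP₀S x)⟩
      refine ⟨hin, fun g g' hg hg' => ?_⟩
      have hle₀ := H85.le_normalizerIn hP₀.1.2.1
      rcases eq_or_lt_of_le hP₀R' with hEq | hLt
      · subst hEq
        have hbv : ∀ x : P₀, φ₀ x = (b x : Ω) := fun x => he _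
        have hreq : φ₀.range = P₀ := by
          refine le_antisymm ?_ fun y hy => ?_
          · rintro _ ⟨x, rfl⟩
            rw [hbv]
            exact SetLike.coe_mem _
          · obtain ⟨x, hx⟩ := b.surjective ⟨y, hy⟩
            exact ⟨x, (hbv x).trans (congrArg Subtype.val hx)⟩
        -- the two moves of `P₀`
        have hcast : ∃ g'' : normalizerIn T P₀ →* Ω, Move p F θ Q D M P₀ g'' ∧
            ∀ (y : Ω) (hy : y ∈ normalizerIn T φ₀.range) (hy' : y ∈ normalizerIn T P₀),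
              g' ⟨y, hy⟩ = g'' ⟨y, hy'⟩ := by
          generalize φ₀.range = X at hreq g' hg'
          subst hreq
          exact ⟨g', hg', fun _ _ _ => rfl⟩
        obtain ⟨g'', hg'', hgg⟩ := hcast
        obtain ⟨c, hc, hce⟩ := hindep P₀ g g'' hP₀ hg hg''
        let e : P₀ ≃* M := (H85.resIso g (F.injective_of_mem (h.gen_mem hg.1)) hle₀).trans
          (MulEquiv.subgroupCongr hg.2.2)
        have he' : H85.IsFIso F e :=
          H85.hom_congr (H85.restrict (h.gen_mem hg.1) hle₀) fun _ => rfl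
        refine ⟨c * MulAut.congr e b, mul_mem hc (h.autB_congr he' hP₀.1.2.1 hb),
          fun x hx hx' hm => ?_⟩
        have hbx : (b x : Ω) ∈ normalizerIn T P₀ := hle₀ (b x).2
        have h1 : g ⟨b x, hbx⟩ ∈ M := hg.2.2 ▸ H85.mem_img.2 ⟨_, (b x).2, rfl⟩
        rw [hgg _ _ ((hbv x).symm ▸ hbx), MulAut.mul_apply]
        refine Eq.trans (congrArg g'' (Subtype.ext (hbv x) :
          (⟨φ₀ x, _⟩ : normalizerIn T P₀) = ⟨b x, hbx⟩)) ((hce _ h1 (b x).2).trans ?_)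
        refine congrArg (fun w => (c w : Ω)) (Subtype.ext ?_)
        show g ⟨b x, hbx⟩ = (e (b (e.symm ⟨_, hm⟩)) : Ω)
        rw [show e.symm ⟨_, hm⟩ = x from (MulEquiv.symm_apply_eq e).2 (Subtype.ext rfl)]
        rfl
      · set R₁ := normalizerIn R P₀ with hR₁def
        have hR₁R : R₁ ≤ R := H85.normalizerIn_le P₀
        have hle₁ : P₀ ≤ R₁ := H85.le_normalizerIn hP₀R'
        have hR₁N : R₁ ≤ normalizerIn T P₀ := inf_le_inf_right _ hR.2.1
        set φ₁ : R₁ →* Ω := (R.subtype.comp b.toMonoidHom).comp (Subgroup.inclusion hR₁R)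
          with hφ₁def
        have hφ₁ : Gen p F θ Q D R₁ φ₁ := Gen.step hR hR₁R hb fun _ => rfl
        have hcomm : ∀ x : P₀, φ₁ (Subgroup.inclusion hle₁ x) = φ₀ x := fun x =>
          (he (Subgroup.inclusion hP₀R x)).symm
        have hφ₁N : ∀ y, φ₁ y ∈ normalizerIn T φ₀.range := by
          intro y
          refine ⟨h.gen_map_mem hφ₁ y, ?_⟩
          haveI : Finite φ₀.range := H85.finite_of_le (hin.1.2.1.trans hTS)
          refine H85.mem_normalizer_of_conj fun z hz => ?_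
          obtain ⟨x, rfl⟩ := hz
          have hyx : (y : Ω) * x * (y : Ω)⁻¹ ∈ P₀ :=
            H85.conj_mem_of_mem_normalizer y.2.2 x.2
          refine ⟨⟨_, hyx⟩, ?_⟩
          rw [← hcomm, ← hcomm, ← map_inv, ← map_mul, ← map_mul]
          exact congrArg φ₁ (Subtype.ext rfl)
        obtain ⟨c, hc, hce⟩ := hcompare P₀ φ₀.range R₁ hle₁ hR₁N φ₁ hφ₁ hφ₁N
          (fun y hy => ⟨⟨y, hy⟩, (hcomm ⟨y, hy⟩).symm⟩) g g' hP₀ hin hg hg'
          (hbig P₀ hP₀ R hLt hR.2.1)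
        refine ⟨c, hc, fun x hx hx' hm => ?_⟩
        refine Eq.trans ?_ (hce x hm)
        exact congrArg g' (Subtype.ext (hcomm x).symm)
    | @comp P₂ R φ χ ψ h1 h2 hm he ih1 ih2 =>
      intro P₀ hP₀ hInP₀
      obtain ⟨hin1, hgood1⟩ := ih1 P₀ hP₀ hInP₀
      set φ₀ := φ.comp (Subgroup.inclusion hP₀) with hφ₀def
      set χ₀ := χ.comp (Subgroup.inclusion hP₀) with hχ₀def
      have hle : φ₀.range ≤ R := by
        rintro _ ⟨x, rfl⟩
        exact hm _
      obtain ⟨hin2, hgood2⟩ := ih2 φ₀.range hle hin1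
      set ψ₀ := ψ.comp (Subgroup.inclusion hle) with hψ₀def
      have hr : χ₀.range = ψ₀.range := by
        ext y
        constructor
        · rintro ⟨x, rfl⟩
          exact ⟨⟨φ₀ x, x, rfl⟩, (he _).symm⟩
        · rintro ⟨⟨_, x, rfl⟩, rfl⟩
          exact ⟨x, he _⟩
      refine ⟨hr ▸ hin2, fun g g' hg hg' => ?_⟩
      obtain ⟨gm, hgm⟩ := h.exists_move hM hMn' hin1.1 (himgM.symm ▸ hin1.2)
      obtain ⟨c1, hc1, hce1⟩ := hgood1 g gm hg hgm
      have hcast : ∃ g'' : normalizerIn T ψ₀.range →* Ω, Move p F θ Q D M ψ₀.range g'' ∧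
          ∀ (y : Ω) (hy : y ∈ normalizerIn T χ₀.range) (hy' : y ∈ normalizerIn T ψ₀.range),
            g' ⟨y, hy⟩ = g'' ⟨y, hy'⟩ := by
        generalize χ₀.range = X at hr g' hg'
        subst hr
        exact ⟨g', hg', fun _ _ _ => rfl⟩
      obtain ⟨g'', hg'', hgg⟩ := hcast
      obtain ⟨c2, hc2, hce2⟩ := hgood2 gm g'' hgm hg''
      refine ⟨c2 * c1, mul_mem hc2 hc1, fun x hx hx' hmem => ?_⟩
      have hx1 : φ₀ x ∈ normalizerIn T φ₀.range := H85.le_normalizerIn hin1.1.2.1 ⟨x, rfl⟩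
      have h1' := hce1 x hx hx1 hmem
      have hm1 : gm ⟨φ₀ x, hx1⟩ ∈ M := h1' ▸ SetLike.coe_mem _
      let y : φ₀.range := ⟨φ₀ x, x, rfl⟩
      have hval : χ₀ x = ψ₀ y := he _
      have hy2 : ψ₀ y ∈ normalizerIn T ψ₀.range := H85.le_normalizerIn hin2.1.2.1 ⟨y, rfl⟩
      have h2' := hce2 y hx1 hy2 hm1
      rw [hgg _ _ (hval.symm ▸ hy2), MulAut.mul_apply]
      refine Eq.trans (congrArg g'' (Subtype.ext hval :
        (⟨χ₀ x, _⟩ : normalizerIn T ψ₀.range) = ⟨ψ₀ y, hy2⟩)) (h2'.trans ?_)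
      exact congrArg (fun w => (c2 w : Ω)) (Subtype.ext h1')
  -- conclusion
  obtain ⟨-, hgood⟩ := hall P _ ha P le_rfl hInP
  obtain ⟨g, hg⟩ := h.exists_move hM hMn' hP (himgM.symm ▸ hPM)
  have hle₀ := H85.le_normalizerIn hP.2.1
  set φ₀ := (P.subtype.comp a.toMonoidHom).comp (Subgroup.inclusion (le_refl P)) with hφ₀def
  have hreq : φ₀.range = P := by
    refine le_antisymm ?_ fun y hy => ?_
    · rintro _ ⟨x, rfl⟩
      exact SetLike.coe_mem _
    · exact ⟨a.symm ⟨y, hy⟩, congrArg Subtype.val (a.apply_symm_apply ⟨y, hy⟩)⟩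
  have hcast : ∃ g' : normalizerIn T φ₀.range →* Ω, Move p F θ Q D M φ₀.range g' ∧
      ∀ (y : Ω) (hy : y ∈ normalizerIn T φ₀.range) (hy' : y ∈ normalizerIn T P),
        g' ⟨y, hy⟩ = g ⟨y, hy'⟩ := by
    generalize φ₀.range = X at hreq
    subst hreq
    exact ⟨g, hg, fun _ _ _ => rfl⟩
  obtain ⟨g', hg', hgg⟩ := hcast
  obtain ⟨c, hc, hce⟩ := hgood g g' hg hg'
  let e : P ≃* M := (H85.resIso g (F.injective_of_mem (h.gen_mem hg.1)) hle₀).trans
    (MulEquiv.subgroupCongr hg.2.2)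
  have he : H85.IsFIso F e := H85.hom_congr (H85.restrict (h.gen_mem hg.1) hle₀) fun _ => rfl
  have haeq : a = MulAut.congr e.symm c := by
    refine MulEquiv.ext fun x => ?_
    show a x = e.symm (c (e x))
    rw [MulEquiv.eq_symm_apply]
    refine Subtype.ext ?_
    have hx' : φ₀ x ∈ normalizerIn T φ₀.range := by
      rw [hreq]
      exact hle₀ (a x).2
    have h1 := hce x (hle₀ x.2) hx' (e x).2
    rw [hgg _ hx' (hle₀ (a x).2)] at h1
    exact h1
  rw [haeq]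
  exact h.autB_congr he.symm hM.2.1 hc

end H89.Lift
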