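import Cfsg.Agent.H89.LiftBasic
import Cfsg.Agent.H86.Hyperfocal
import Mathlib.GroupTheory.Transfer

/-!
The kernel of `autA` meets `autB` in inner automorphisms, and the two generate `autA`: the kernel
is central modulo inner automorphisms (by the extension property of a normal subsystem), and the
transfer into it vanishes on `autB` since the images of elements of `T` are strongly closed.
-/

set_option autoImplicit false
set_option linter.style.haveILetI false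
set_option linter.unusedSectionVars false

open Cfsg Cfsg.FusionSystem

namespace H89.Lift

universe u v

/-- Transfer at an element all whose relevant conjugates of powers have the same value. -/
theorem transfer_eq_pow_index {G A : Type*} [Group G] [CommGroup A] {H : Subgroup G}
    [H.FiniteIndex] (φ : H →* A) (g : G) (hg : g ∈ H)
    (key : ∀ (n : ℕ) (g₀ : G) (h : g₀⁻¹ * g ^ n * g₀ ∈ H), φ ⟨_, h⟩ = φ ⟨g, hg⟩ ^ n) :
    MonoidHom.transfer φ g = φ ⟨g, hg⟩ ^ H.index := by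
  classical
  let := H.fintypeQuotientOfFiniteIndex
  rw [MonoidHom.transfer_eq_prod_quotient_orbitRel_zpowers_quot]
  simp only [key, Finset.prod_pow_eq_pow_sum]
  congr 1
  exact (Subgroup.index_eq_sum_minimalPeriod H g).symm

/-- Transfer at an element all whose relevant conjugates of powers are killed. -/
theorem transfer_eq_one {G A : Type*} [Group G] [CommGroup A] {H : Subgroup G}
    [H.FiniteIndex] (φ : H →* A) (g : G)
    (key : ∀ (n : ℕ) (g₀ : G) (h : g₀⁻¹ * g ^ n * g₀ ∈ H), φ ⟨_, h⟩ = 1) :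
    MonoidHom.transfer φ g = 1 := by
  classical
  let := H.fintypeQuotientOfFiniteIndex
  rw [MonoidHom.transfer_eq_prod_quotient_orbitRel_zpowers_quot]
  exact Finset.prod_eq_one fun q _ => key _ _ _

variable {Ω : Type u} [Group Ω] {S : Subgroup Ω} {Ω' : Type v} [Group Ω'] {S' Tb : Subgroup Ω'}
variable [Finite S] {p : ℕ} [Fact p.Prime] {F : FusionSystem S} {F' : FusionSystem S'}
  {θ : S →* Ω'} {Q : Subgroup Ω} {D : FusionSystem Tb}

omit [Finite S] in
theorem Ind.pow {P : Subgroup Ω} {a : MulAut P} {a' : MulAut (imageAlong θ P)}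
    (ha : Ind θ a a') : ∀ n : ℕ, Ind θ (a ^ n : MulAut P) (a' ^ n : MulAut (imageAlong θ P)) := by
  intro n
  induction n with
  | zero => exact Ind.refl θ P
  | succ n ih =>
    rw [pow_succ', pow_succ']
    exact Ind.trans θ ih ha

theorem inn_congr {P R : Subgroup Ω} (e : P ≃* R) {a : MulAut P} (ha : a ∈ Cfsg.Inn P) :
    MulAut.congr e a ∈ Cfsg.Inn R := by
  obtain ⟨q, rfl⟩ := ha
  refine ⟨e q, MulEquiv.ext fun x => ?_⟩
  show e q * x * (e q)⁻¹ = e (q * e.symm x * q⁻¹)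
  rw [map_mul, map_mul, map_inv, MulEquiv.apply_symm_apply]

variable (h : LiftCtx p F F' θ Q D)
include h

theorem LiftCtx.kerA_isPGroup {P : Subgroup Ω} (hP : P ≤ S) : IsPGroup p (kerA F θ P) := by
  haveI : Finite Q := H85.finite_of_le h.hQS
  obtain ⟨n, hn⟩ := IsPGroup.iff_card.1 (h.hS.to_le h.hQS)
  rintro ⟨a, ha⟩
  refine ⟨n, Subtype.ext (MulEquiv.ext fun x => ?_)⟩
  let z : P := x⁻¹ * a x
  have hz : (z : Ω) ∈ Q := (h.th_eq (hP x.2) (hP (a x).2)).1 (ha.2 x).symm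
  have hfix : a z = z := Subtype.ext (h.fix_Q ((H85.mem_autGroup hP).1 ha.1) z hz)
  have hpow : ∀ k : ℕ, (a ^ k) x = x * z ^ k := by
    intro k
    induction k with
    | zero => simp
    | succ k ih =>
      rw [pow_succ', MulAut.mul_apply, ih, map_mul, map_pow, hfix, pow_succ' z k]
      show a x * z ^ k = x * (z * z ^ k)
      rw [← mul_assoc, mul_inv_cancel_left]
  have h1 : z ^ p ^ n = 1 := by
    have := pow_card_eq_one' (x := (⟨(z : Ω), hz⟩ : Q))
    rw [hn] at this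
    exact Subtype.ext (congrArg (fun w : Q => (w : Ω)) this)
  show (a ^ p ^ n) x = x
  rw [hpow, h1, mul_one]

theorem LiftCtx.kerA_comm {P : Subgroup Ω} (hP : P ≤ S) {a b : MulAut P} (ha : a ∈ kerA F θ P)
    (hb : b ∈ kerA F θ P) : a * b = b * a := by
  refine MulEquiv.ext fun x => ?_
  obtain ⟨za, hza, h1⟩ : ∃ za : P, (za : Ω) ∈ Q ∧ a x = x * za :=
    ⟨x⁻¹ * a x, (h.th_eq (hP x.2) (hP (a x).2)).1 (ha.2 x).symm,
      (mul_inv_cancel_left _ _).symm⟩
  obtain ⟨zb, hzb, h2⟩ : ∃ zb : P, (zb : Ω) ∈ Q ∧ b x = x * zb :=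
    ⟨x⁻¹ * b x, (h.th_eq (hP x.2) (hP (b x).2)).1 (hb.2 x).symm,
      (mul_inv_cancel_left _ _).symm⟩
  have h3 : a zb = zb := Subtype.ext (h.fix_Q ((H85.mem_autGroup hP).1 ha.1) zb hzb)
  have h4 : b za = za := Subtype.ext (h.fix_Q ((H85.mem_autGroup hP).1 hb.1) za hza)
  show a (b x) = b (a x)
  rw [h1, h2, map_mul, map_mul, h3, h4, h1, h2, mul_assoc, mul_assoc]
  exact congrArg (x * ·) (Subtype.ext (h.comm_Q hzb (hP za.2)))

theorem LiftCtx.kerA_congr {P R : Subgroup Ω} {e : P ≃* R} (he : H85.IsFIso F e) {a : MulAut P}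
    (ha : a ∈ kerA F θ P) : MulAut.congr e a ∈ kerA F θ R := by
  refine ⟨(H85.mem_autGroup he.right_le).2
    (((he.symm.trans ((H85.mem_autGroup he.left_le).1 ha.1)).trans he).congr fun _ => rfl),
    fun y => ?_⟩
  obtain ⟨e', -, hei⟩ := h.ind_iso he
  show th θ (e (a (e.symm y)) : Ω) = _
  conv_rhs => rw [← e.apply_symm_apply y]
  rw [← hei _ (th_mem_img θ he.left_le _), ← hei _ (th_mem_img θ he.left_le _)]
  exact congrArg (fun w => (e' w : Ω')) (Subtype.ext (ha.2 _))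

theorem LiftCtx.kerA_le_induced {P : Subgroup Ω} (hP : F.IsFullyNormalized P) :
    kerA F θ P ≤ autInducedBy S P := by
  obtain ⟨β, hβ, hc⟩ := H85.fullyAutomized_conj
    (H85.fullyAutomized_of_fullyNormalized h.hS h.hF hP)
    (fun a ha => (ha : a ∈ kerA F θ P).1) (h.kerA_isPGroup hP.1)
  intro a ha
  have hβF := (H85.mem_autGroup hP.1).1 hβ
  have h1 : MulAut.congr β.symm a ∈ kerA F θ P := h.kerA_congr hβF.symm ha
  have h2 := hc _ h1
  rwa [show β * MulAut.congr β.symm a * β⁻¹ = a from MulEquiv.ext fun x => by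
    show β (β.symm (a (β (β.symm x)))) = a x
    rw [MulEquiv.apply_symm_apply, MulEquiv.apply_symm_apply]] at h2

/-- Images of elements of `T` that are induced by elements of `S` are induced by elements of
`T`. -/
theorem LiftCtx.telt_induced {P : Subgroup Ω} (hP : F.IsReceptive P) {a : MulAut P}
    (ha : TElt F (preimageAlong θ Tb) P a) (haS : a ∈ autInducedBy S P) :
    a ∈ autInducedBy (preimageAlong θ Tb) P := by
  obtain ⟨P₁, e, he, hP₁, b, hb, rfl⟩ := ha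
  obtain ⟨t, ht, hte⟩ := H85.mem_autInducedBy.1 hb
  obtain ⟨s, hs, hse⟩ := H85.mem_autInducedBy.1 haS
  have hP₁S : P₁ ≤ S := he.left_le
  haveI : Finite P₁ := H85.finite_of_le hP₁S
  have htS : t ∈ S := (mem_T.1 ht).1
  have htN := H85.mem_normalizer_of_induced hte
  obtain ⟨ψ, hψ, hext⟩ := H85.receptive_extend hP he
  have hin : t ∈ extender S P₁ (P.subtype.comp e.toMonoidHom) := by
    refine H85.mem_extender.2 ⟨htS, htN, s, hs, fun x hx => ?_⟩
    show (e ⟨t * x * t⁻¹, hx⟩ : Ω) = s * (e x : Ω) * s⁻¹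
    rw [← hse]
    show _ = (e (b (e.symm (e x))) : Ω)
    rw [MulEquiv.symm_apply_apply]
    exact congrArg (fun w => (e w : Ω)) (Subtype.ext (hte x).symm)
  have hψT : ψ ⟨t, hin⟩ ∈ preimageAlong θ Tb :=
    H86.map_mem_of_stronglyClosed h.stronglyClosed_T hψ ht
  refine H85.mem_autInducedBy.2 ⟨_, hψT, fun y => ?_⟩
  obtain ⟨x, rfl⟩ := e.surjective y
  show (e (b (e.symm (e x))) : Ω) = _
  rw [MulEquiv.symm_apply_apply]
  have hle : P₁ ≤ extender S P₁ (P.subtype.comp e.toMonoidHom) :=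
    H85.le_extender hP₁S fun x => H85.map_mem he x
  have hxN : t * (x : Ω) * t⁻¹ ∈ P₁ := H85.conj_mem_of_mem_normalizer htN x.2
  rw [show b x = ⟨t * x * t⁻¹, hxN⟩ from Subtype.ext (hte x)]
  exact H85.extend_conj hle (fun z => hext z z.2 _) (g := ⟨t, hin⟩) (x := x) hxN

omit [Fact p.Prime] in
theorem TElt.pow {T P : Subgroup Ω} {a : MulAut P} (ha : TElt F T P a) (n : ℕ) :
    TElt F T P (a ^ n) := by
  obtain ⟨P₁, e, he, hP₁, b, hb, rfl⟩ := ha
  exact ⟨P₁, e, he, hP₁, b ^ n, pow_mem hb n, (map_pow _ _ _).symm⟩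

omit [Fact p.Prime] in
theorem TElt.conj {T P : Subgroup Ω} (hP : P ≤ S) {a g : MulAut P} (hg : g ∈ F.autGroup P)
    (ha : TElt F T P a) : TElt F T P (g⁻¹ * a * g) := by
  have := TElt.congr h ((H85.mem_autGroup hP).1 (inv_mem hg)) ha
  exact this

/-- The kernel is central modulo inner automorphisms. -/
theorem LiftCtx.conj_ker {P : Subgroup Ω} (hPF : F.IsFullyNormalized P) (hP : Cen θ Q D P)
    {a k : MulAut P} (ha : a ∈ autA F θ D P) (hk : k ∈ kerA F θ P) :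
    k⁻¹ * (a * k * a⁻¹) ∈ Cfsg.Inn P := by
  haveI := h.finite_S'
  have hPS : P ≤ S := hPF.1
  obtain ⟨haF, a', ha', hai⟩ := (h.mem_autA hPS).1 ha
  obtain ⟨s, hs, hse⟩ := H85.mem_autInducedBy.1 (h.kerA_le_induced hPF hk)
  obtain ⟨b, hb, hbt, hbe⟩ := H86.extAt_normal h.hS' h.hD hP.2.2 a' ha'
  have hX : H86.pc S' (imageAlong θ P) ≤ S' := H86.pc_le (h.img_le P)
  obtain ⟨ψ, hψ, hψe⟩ := h.lift_hom ((H85.mem_autGroup hX).1 hb)
  have hsC : th θ s ∈ centralizerIn S' (imageAlong θ P) := by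
    refine H85.mem_centralizerIn.2 ⟨h.th_mem s, fun y hy => ?_⟩
    obtain ⟨x, hx, hxS, rfl⟩ := (mem_img θ).1 hy
    have h1 := hk.2 ⟨x, hx⟩
    rw [hse, th_conj θ hs hxS] at h1
    exact (mul_inv_eq_iff_eq_mul.1 h1).symm
  have hPX : P ≤ preimageAlong θ (H86.pc S' (imageAlong θ P)) := fun x hx =>
    mem_pre.2 ⟨hPS hx, Subgroup.mem_sup_left (th_mem_img θ hPS ⟨x, hx⟩)⟩
  have hsX : s ∈ preimageAlong θ (H86.pc S' (imageAlong θ P)) :=
    mem_pre.2 ⟨hs, Subgroup.mem_sup_right hsC⟩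
  set ψP := ψ.comp (Subgroup.inclusion hPX) with hψPdef
  have hψPF : ψP ∈ F.Hom P := H85.restrict hψ hPX
  have hψth : ∀ x : P, th θ (ψP x) = (a' ⟨_, th_mem_img θ hPS x⟩ : Ω') := by
    intro x
    rw [← hbe]
    refine (hψe (Subgroup.inclusion hPX x)).symm.trans ?_
    exact congrArg (fun w => (b w : Ω')) (Subtype.ext rfl)
  haveI : Finite P := H85.finite_of_le hPS
  have hψr : ψP.range = P := H86.range_eq_self_of_le F hψPF (by
    rintro _ ⟨x, rfl⟩
    exact h.mem_of_th_mem hP.1 (H85.map_mem hψPF x) (hψth x ▸ (a' _).2))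
  let a₂ : MulAut P := H85.isoOf ψP hψPF hψr
  have ha₂ : a₂ ∈ F.autGroup P := (H85.mem_autGroup hPS).2 (H85.isFIso_isoOf ψP hψPF hψr)
  have hk₂ : a⁻¹ * a₂ ∈ kerA F θ P := by
    refine ⟨mul_mem (inv_mem haF) ha₂, fun x => ?_⟩
    have h1 := Ind.symm θ hai hPS (a₂ x) (th_mem_img θ hPS _)
    refine h1.symm.trans ?_
    rw [show (⟨th θ (a₂ x : Ω), th_mem_img θ hPS _⟩ : imageAlong θ P) =
      a' ⟨_, th_mem_img θ hPS x⟩ from Subtype.ext (hψth x), MulEquiv.symm_apply_apply]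
  have hconj : a * k * a⁻¹ = a₂ * k * a₂⁻¹ := by
    have hc : a⁻¹ * a₂ * k = k * (a⁻¹ * a₂) := h.kerA_comm hPS hk₂ hk
    calc a * k * a⁻¹ = a * (k * (a⁻¹ * a₂)) * a₂⁻¹ := by group
      _ = a * (a⁻¹ * a₂ * k) * a₂⁻¹ := by rw [hc]
      _ = a₂ * k * a₂⁻¹ := by group
  -- `ψ s = s q` with `q ∈ P`
  have hq : s⁻¹ * ψ ⟨s, hsX⟩ ∈ P := by
    refine h.mem_of_th_mem hP.1 (S.mul_mem (S.inv_mem hs) (H85.map_mem hψ _)) ?_
    rw [th_mul θ (S.inv_mem hs) (H85.map_mem hψ _), th_inv θ hs, ← hψe ⟨s, hsX⟩]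
    exact hbt ⟨th θ s, _⟩
  let q : P := ⟨_, hq⟩
  refine ⟨q, ?_⟩
  rw [hconj, eq_inv_mul_iff_mul_eq]
  refine MulEquiv.ext fun y => ?_
  obtain ⟨x, rfl⟩ := a₂.surjective y
  refine Subtype.ext ?_
  show (k (q * a₂ x * q⁻¹) : Ω) = (a₂ (k (a₂.symm (a₂ x))) : Ω)
  rw [MulEquiv.symm_apply_apply, hse]
  show s * ((q * a₂ x * q⁻¹ : P) : Ω) * s⁻¹ = ψ (Subgroup.inclusion hPX (k x))
  have e : Subgroup.inclusion hPX (k x) =
      (⟨s, hsX⟩ : preimageAlong θ (H86.pc S' (imageAlong θ P))) * Subgroup.inclusion hPX x * ⟨s, hsX⟩⁻¹ :=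
    Subtype.ext (hse x)
  rw [e, map_mul, map_mul, map_inv]
  show s * (s⁻¹ * ψ ⟨s, hsX⟩ * (ψ (Subgroup.inclusion hPX x)) *
    (s⁻¹ * ψ ⟨s, hsX⟩)⁻¹) * s⁻¹ = _
  group

theorem LiftCtx.img_fullyNormalized {P : Subgroup Ω} (hPF : F.IsFullyNormalized P) (hQP : Q ≤ P) :
    F'.IsFullyNormalized (imageAlong θ P) := by
  have hPS := hPF.1
  refine ⟨h.img_le P, fun R' hR' => ?_⟩
  obtain ⟨φ', hφ', rfl⟩ := hR'
  obtain ⟨φ, hφ, hφe⟩ := h.lift_hom hφ'
  have hpre := h.pre_img hQP hPS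
  have hle : P ≤ preimageAlong θ (imageAlong θ P) := hpre.ge
  set φP := φ.comp (Subgroup.inclusion hle) with hφPdef
  have hφP : φP ∈ F.Hom P := H85.restrict hφ hle
  have hR : φP.range ≤ S := H85.range_le hφP
  have hQR : Q ≤ φP.range := fun z hz => ⟨⟨z, hQP hz⟩, h.fix_Q hφP ⟨z, hQP hz⟩ hz⟩
  have hnorm : ∀ {U : Subgroup Ω}, Q ≤ U → U ≤ S →
      normalizerIn S U = preimageAlong θ (normalizerIn S' (imageAlong θ U)) := by
    intro U hQU hUS
    haveI : Finite U := H85.finite_of_le hUS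
    ext g
    constructor
    · intro hg
      refine mem_pre.2 ⟨hg.1, ?_⟩
      haveI := h.finite_S'
      haveI : Finite (imageAlong θ U) := H85.finite_of_le (h.img_le U)
      refine ⟨h.th_mem g, H85.mem_normalizer_of_conj fun y hy => ?_⟩
      obtain ⟨x, hx, hxS, rfl⟩ := (mem_img θ).1 hy
      rw [← th_conj θ hg.1 hxS]
      exact th_mem_img θ hUS ⟨_, H85.conj_mem_of_mem_normalizer hg.2 hx⟩
    · intro hg
      obtain ⟨hgS, hgN⟩ := mem_pre.1 hg
      refine ⟨hgS, H85.mem_normalizer_of_conj fun x hx => ?_⟩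
      refine h.mem_of_th_mem hQU (S.mul_mem (S.mul_mem hgS (hUS hx)) (S.inv_mem hgS)) ?_
      rw [th_conj θ hgS (hUS hx)]
      exact H85.conj_mem_of_mem_normalizer hgN.2 (th_mem_img θ hUS ⟨x, hx⟩)
  have hcard : ∀ {U' : Subgroup Ω'}, U' ≤ S' →
      Nat.card (preimageAlong θ U') = Nat.card Q * Nat.card U' := by
    intro U' hU'
    let f : ↥(preimageAlong θ U') →* Ω' := θ.comp (Subgroup.inclusion (pre_le U'))
    have hk : Nat.card f.ker = Nat.card Q := by
      refine Nat.card_congr ⟨fun x => ⟨(x : preimageAlong θ U'), (h.hker _).1 x.2⟩,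
        fun x => ⟨⟨x, h.Q_le_pre U' x.2⟩, (h.hker ⟨(x : Ω), _⟩).2 x.2⟩, fun x => rfl, fun x => rfl⟩
    have hr : f.range = U' := by
      refine le_antisymm ?_ ?_
      · rintro _ ⟨x, rfl⟩
        show θ ⟨(x : Ω), _⟩ ∈ U'
        rw [← th_of_mem θ (pre_le U' x.2)]
        exact (mem_pre.1 x.2).2
      · intro y hy
        obtain ⟨x, hxS, rfl⟩ := h.exists_th (hU' hy)
        exact ⟨⟨x, mem_pre.2 ⟨hxS, hy⟩⟩, (th_of_mem θ hxS).symm⟩
    rw [← Subgroup.card_mul_index f.ker, Subgroup.index_ker, hk, hr]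
  have himg : imageAlong θ φP.range = φ'.range := by
    refine le_antisymm ?_ ?_
    · intro y hy
      obtain ⟨_, ⟨x, rfl⟩, -, rfl⟩ := (mem_img θ).1 hy
      exact ⟨_, hφe (Subgroup.inclusion hle x)⟩
    · rintro _ ⟨y, rfl⟩
      obtain ⟨x, -, hy⟩ := exists_img θ y
      rw [show y = ⟨th θ (x : Ω), th_mem_img θ hPS x⟩ from Subtype.ext hy.symm]
      exact (hφe (Subgroup.inclusion hle x)) ▸ th_mem_img θ hR ⟨_, x, rfl⟩
  have hmax := hPF.2 φP.range ⟨φP, hφP, rfl⟩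
  rw [hnorm hQR hR, hnorm hQP hPS, hcard (H85.normalizerIn_le _), hcard (H85.normalizerIn_le _),
    himg] at hmax
  exact Nat.le_of_mul_le_mul_left hmax
    (haveI : Finite Q := H85.finite_of_le h.hQS; Nat.card_pos)

theorem LiftCtx.img_fnD {P : Subgroup Ω} (hPF : F.IsFullyNormalized P) (hP : Cen θ Q D P) :
    D.IsFullyNormalized (imageAlong θ P) :=
  haveI := h.finite_S'
  H86.fullyNormalized_weaklyNormal h.hS' h.hD.1 hP.2.2.1 (h.img_fullyNormalized hPF hP.1)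

/-- Every element of `Aut_{Tb}` of the image is induced by an element of `Aut_T`. -/
theorem LiftCtx.lift_induced {P : Subgroup Ω} (hP : Cen θ Q D P)
    {d : MulAut (imageAlong θ P)} (hd : d ∈ autInducedBy Tb (imageAlong θ P)) :
    ∃ u ∈ autInducedBy (preimageAlong θ Tb) P, Ind θ u d := by
  obtain ⟨τ, hτ, hτe⟩ := H85.mem_autInducedBy.1 hd
  obtain ⟨t, htS, rfl⟩ := h.exists_th (h.hD.1.2.2.2.1.1 hτ)
  have hPS : P ≤ S := hP.2.1.trans (pre_le Tb)
  haveI : Finite P := H85.finite_of_le hPS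
  have htN : t ∈ Subgroup.normalizer (P : Set Ω) := H85.mem_normalizer_of_conj fun x hx => by
    refine h.mem_of_th_mem hP.1 (S.mul_mem (S.mul_mem htS (hPS hx)) (S.inv_mem htS)) ?_
    rw [th_conj θ htS (hPS hx), ← hτe ⟨_, th_mem_img θ hPS ⟨x, hx⟩⟩]
    exact (d _).2
  refine ⟨H85.conjAut (preimageAlong θ Tb) P ⟨t, mem_T.2 ⟨htS, hτ⟩, htN⟩,
    H85.conjAut_range (preimageAlong θ Tb) P ▸ ⟨_, rfl⟩, fun x hx => ?_⟩
  rw [hτe]
  exact (th_conj θ htS (hPS x.2)).symm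

/-- The induced automorphisms of a subgroup of `autA` form a group. -/
theorem LiftCtx.exists_imgGroup {P : Subgroup Ω} (hP : P ≤ S) {K : Subgroup (MulAut P)}
    (hK : K ≤ autA F θ D P) : ∃ K' : Subgroup (MulAut (imageAlong θ P)),
      K' ≤ D.autGroup (imageAlong θ P) ∧ (∀ a' ∈ K', ∃ a ∈ K, Ind θ a a') ∧
      (∀ a ∈ K, ∃ a' ∈ K', Ind θ a a') ∧ ∀ q : ℕ, IsPGroup q K → IsPGroup q K' := by
  refine ⟨⟨⟨⟨{a' | ∃ a ∈ K, Ind θ a a'}, ?_⟩, ⟨1, one_mem _, Ind.refl θ P⟩⟩, ?_⟩, ?_, fun a' ha' => ha',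
    fun a ha => ?_, fun q hq => ?_⟩
  · rintro a' b' ⟨a, ha, hai⟩ ⟨b, hb, hbi⟩
    exact ⟨a * b, mul_mem ha hb, Ind.trans θ hbi hai⟩
  · rintro a' ⟨a, ha, hai⟩
    exact ⟨a⁻¹, inv_mem ha, Ind.symm θ hai hP⟩
  · rintro a' ⟨a, ha, hai⟩
    obtain ⟨-, b', hb', hbi⟩ := (h.mem_autA hP).1 (hK ha)
    exact Ind.unique θ hai hbi ▸ hb'
  · obtain ⟨-, b', hb', hbi⟩ := (h.mem_autA hP).1 (hK ha)
    exact ⟨b', ⟨a, ha, hbi⟩, hbi⟩
  · rintro ⟨a', a, ha, hai⟩
    obtain ⟨k, hk⟩ := hq ⟨a, ha⟩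
    refine ⟨k, Subtype.ext ?_⟩
    have h1 : a ^ q ^ k = 1 := congrArg Subtype.val hk
    have h2 := Ind.pow hai (q ^ k)
    rw [h1] at h2
    exact Ind.unique θ h2 (Ind.refl θ P)

/-- An element inducing the same automorphism as an element of `Aut_T` differs from it by an
element of the kernel. -/
theorem LiftCtx.inv_mul_ker {P : Subgroup Ω} (hP : P ≤ S) {a b : MulAut P}
    {d : MulAut (imageAlong θ P)} (ha : a ∈ F.autGroup P) (hb : b ∈ F.autGroup P)
    (hai : Ind θ a d) (hbi : Ind θ b d) : a⁻¹ * b ∈ kerA F θ P := by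
  refine ⟨mul_mem (inv_mem ha) hb, fun x => ?_⟩
  have h1 := Ind.symm θ hai hP (b x) (th_mem_img θ hP _)
  refine h1.symm.trans ?_
  have h2 : (⟨th θ (b x : Ω), th_mem_img θ hP _⟩ : imageAlong θ P) =
      d ⟨_, th_mem_img θ hP x⟩ := Subtype.ext (hbi x _).symm
  rw [h2, MulEquiv.symm_apply_apply]

/-- An element of the kernel induced by an element of `T` is inner. -/
theorem LiftCtx.ker_induced_inn {P : Subgroup Ω} (hP : Cen θ Q D P) {k : MulAut P}
    (hk : k ∈ kerA F θ P) (hkT : k ∈ autInducedBy (preimageAlong θ Tb) P) :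
    k ∈ Cfsg.Inn P := by
  obtain ⟨t, ht, hte⟩ := H85.mem_autInducedBy.1 hkT
  obtain ⟨htS, htTb⟩ := mem_T.1 ht
  have hPS : P ≤ S := hP.2.1.trans (pre_le Tb)
  have h1 : th θ t ∈ centralizerIn Tb (imageAlong θ P) := by
    refine H85.mem_centralizerIn.2 ⟨htTb, fun y hy => ?_⟩
    obtain ⟨x, hx, hxS, rfl⟩ := (mem_img θ).1 hy
    have h1 := hk.2 ⟨x, hx⟩
    rw [hte, th_conj θ htS hxS] at h1
    exact (mul_inv_eq_iff_eq_mul.1 h1).symm
  have htP := h.mem_of_th_mem hP.1 htS (H85.centric_self hP.2.2 h1)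
  exact ⟨⟨t, htP⟩, MulEquiv.ext fun x => Subtype.ext (hte x).symm⟩

theorem LiftCtx.inn_le_induced {P : Subgroup Ω} (hP : P ≤ preimageAlong θ Tb) :
    Cfsg.Inn P ≤ autInducedBy (preimageAlong θ Tb) P := H85.inn_le_autInducedBy hP

theorem LiftCtx.induced_le_autB {P : Subgroup Ω} (hP : P ≤ preimageAlong θ Tb) :
    autInducedBy (preimageAlong θ Tb) P ≤ autB p F θ D P := fun a ha =>
  Subgroup.subset_closure (Or.inr ⟨P, MulEquiv.refl P,
    H85.IsFIso.refl F (hP.trans (pre_le Tb)), hP, a, ha, MulEquiv.ext fun _ => rfl⟩)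

/-- At a fully normalized subgroup the kernel meets `autB` in inner automorphisms. -/
theorem LiftCtx.ker_inf_B_fn {P : Subgroup Ω} (hPF : F.IsFullyNormalized P) (hP : Cen θ Q D P)
    {k : MulAut P} (hk : k ∈ kerA F θ P) (hkB : k ∈ autB p F θ D P) : k ∈ Cfsg.Inn P := by
  classical
  haveI := h.finite_S'
  haveI := h.finite_Tb
  have hPS : P ≤ S := hPF.1
  set T := preimageAlong θ Tb with hT
  haveI : Finite P := H85.finite_of_le hPS
  set A := autA F θ D P with hA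
  have hAF : A ≤ F.autGroup P := h.autA_le
  set H : Subgroup A := (autInducedBy S P).subgroupOf A with hH
  set V : Subgroup H := ((autInducedBy T P).subgroupOf A).subgroupOf H with hV
  have hVn : V.Normal := by
    refine ⟨fun n hn g => ?_⟩
    obtain ⟨t, ht, hte⟩ := H85.mem_autInducedBy.1 (Subgroup.mem_subgroupOf.1
      (Subgroup.mem_subgroupOf.1 hn))
    obtain ⟨s, hs, hse⟩ := H85.mem_autInducedBy.1 (Subgroup.mem_subgroupOf.1 g.2)
    refine Subgroup.mem_subgroupOf.2 (Subgroup.mem_subgroupOf.2 (H85.mem_autInducedBy.2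
      ⟨s * t * s⁻¹, H86.normal_of_stronglyClosed F h.stronglyClosed_T hs ht, fun x => ?_⟩))
    show ((((g : A) : MulAut P) * ((n : A) : MulAut P) * ((g : A) : MulAut P)⁻¹) x : Ω) = _
    obtain ⟨y, rfl⟩ := ((g : A) : MulAut P).surjective x
    rw [MulAut.mul_apply, MulAut.mul_apply, MulAut.inv_apply_self, hse, hte, hse]
    group
  have hfnD := h.img_fnD hPF hP
  -- decomposition
  have hdec : ∀ a ∈ A, a ∈ autInducedBy S P →
      ∃ u ∈ autInducedBy T P, u⁻¹ * a ∈ kerA F θ P := by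
    intro a ha haS
    obtain ⟨haF, a', ha', hai⟩ := (h.mem_autA hPS).1 ha
    obtain ⟨s, hs, hse⟩ := H85.mem_autInducedBy.1 haS
    set K'' : Subgroup (MulAut (imageAlong θ P)) :=
      D.autGroup (imageAlong θ P) ⊓ autInducedBy S' (imageAlong θ P) with hK''
    have haK : a' ∈ K'' := by
      refine ⟨ha', H85.mem_autInducedBy.2 ⟨th θ s, h.th_mem s, fun y => ?_⟩⟩
      obtain ⟨x, hxS, hy⟩ := exists_img θ y
      rw [show y = ⟨_, th_mem_img θ hPS x⟩ from Subtype.ext hy.symm, hai, hse x, th_conj θ hs hxS]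
    have hKp : IsPGroup p K'' :=
      (H85.autInducedBy_isPGroup h.hS' (imageAlong θ P)).to_le inf_le_right
    have hTK : autInducedBy Tb (imageAlong θ P) ≤ K'' := fun d hd => by
      obtain ⟨τ, hτ, hτe⟩ := H85.mem_autInducedBy.1 hd
      exact ⟨H85.autInducedBy_le_autGroup D hP.2.2.1 hd,
        H85.mem_autInducedBy.2 ⟨τ, h.hD.1.2.2.2.1.1 hτ, hτe⟩⟩
    have heq := ((H85.isFullyAutomized_iff h.hTb).1
      (H85.fullyAutomized_of_fullyNormalized h.hTb h.hD.1.1 hfnD)).2 K'' inf_le_left hKp hTK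
    rw [heq] at haK
    obtain ⟨u, hu, hui⟩ := h.lift_induced hP haK
    exact ⟨u, hu, h.inv_mul_ker hPS (hAF (h.autInducedBy_le_autA hP.2.1 hu)) haF hui hai⟩
  have hcomm : ∀ x y : H, x * y * x⁻¹ * y⁻¹ ∈ V := by
    intro x y
    obtain ⟨u, hu, hux⟩ := hdec _ (x : A).2 (Subgroup.mem_subgroupOf.1 x.2)
    obtain ⟨w, hw, hwy⟩ := hdec _ (y : A).2 (Subgroup.mem_subgroupOf.1 y.2)
    have huA := h.autInducedBy_le_autA hP.2.1 hu
    have hwA := h.autInducedBy_le_autA hP.2.1 hw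
    have hTS : ∀ {z : MulAut P}, z ∈ autInducedBy T P → z ∈ autInducedBy S P := fun {z} hz => by
      obtain ⟨t, ht, hte⟩ := H85.mem_autInducedBy.1 hz
      exact H85.mem_autInducedBy.2 ⟨t, (mem_T.1 ht).1, hte⟩
    let uH : H := ⟨⟨u, huA⟩, Subgroup.mem_subgroupOf.2 (hTS hu)⟩
    let wH : H := ⟨⟨w, hwA⟩, Subgroup.mem_subgroupOf.2 (hTS hw)⟩
    have huV : uH ∈ V := Subgroup.mem_subgroupOf.2 (Subgroup.mem_subgroupOf.2 hu)
    have hwV : wH ∈ V := Subgroup.mem_subgroupOf.2 (Subgroup.mem_subgroupOf.2 hw)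
    have hkl : (uH⁻¹ * x) * (wH⁻¹ * y) = (wH⁻¹ * y) * (uH⁻¹ * x) :=
      Subtype.ext (Subtype.ext (h.kerA_comm hPS hux hwy))
    rw [← QuotientGroup.eq_one_iff]
    have h1 : ((uH : H) : H ⧸ V) = 1 := (QuotientGroup.eq_one_iff _).2 huV
    have h2 : ((wH : H) : H ⧸ V) = 1 := (QuotientGroup.eq_one_iff _).2 hwV
    have h3 := congrArg (QuotientGroup.mk : H → H ⧸ V) hkl
    simp only [QuotientGroup.mk_mul, QuotientGroup.mk_inv, h1, h2, inv_one, one_mul] at h3
    simp only [QuotientGroup.mk_mul, QuotientGroup.mk_inv]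
    rw [h3]
    group
  letI : CommGroup (H ⧸ V) :=
    { (inferInstance : Group (H ⧸ V)) with
      mul_comm := fun a b => by
        obtain ⟨x, rfl⟩ := QuotientGroup.mk'_surjective V a
        obtain ⟨y, rfl⟩ := QuotientGroup.mk'_surjective V b
        have h3 := (QuotientGroup.eq_one_iff (N := V) _).2 (hcomm x y)
        simp only [QuotientGroup.mk_mul, QuotientGroup.mk_inv] at h3
        exact mul_inv_eq_iff_eq_mul.1 (mul_inv_eq_one.1 h3) }
  let φ : H →* H ⧸ V := QuotientGroup.mk' V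
  haveI : Finite A := by
    haveI : Finite (MulAut P) := Finite.of_injective (fun e => (e : P → P)) DFunLike.coe_injective
    infer_instance
  -- vanishing on `autB`
  have hvan : ∀ b, ∀ hb : b ∈ autB p F θ D P,
      MonoidHom.transfer φ (⟨b, h.autB_le hP.2.1 hb⟩ : A) = 1 := by
    intro b hb
    induction hb using Subgroup.closure_induction with
    | mem x hx =>
      rcases id hx with ⟨-, hxo⟩ | hx'
      · have hxA : x ∈ A := h.autB_le hP.2.1 (Subgroup.subset_closure hx)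
        have h1 := orderOf_map_dvd (MonoidHom.transfer φ) (⟨x, hxA⟩ : A)
        rw [Subgroup.orderOf_mk] at h1
        have hHp : IsPGroup p H :=
          (H85.autInducedBy_isPGroup h.hS P).comap_of_injective A.subtype A.subtype_injective
        obtain ⟨j, hj⟩ := (hHp.to_quotient V) (MonoidHom.transfer φ (⟨x, hxA⟩ : A))
        exact orderOf_eq_one_iff.1 (Nat.eq_one_of_dvd_coprimes (hxo.pow_right j) h1
          (orderOf_dvd_of_pow_eq_one hj))
      · refine transfer_eq_one φ _ fun n g₀ hg => (QuotientGroup.eq_one_iff _).2 ?_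
        refine Subgroup.mem_subgroupOf.2 (Subgroup.mem_subgroupOf.2 ?_)
        refine h.telt_induced (H85.receptive_of_fullyNormalized h.hS h.hF hPF) ?_
          (Subgroup.mem_subgroupOf.1 hg)
        exact TElt.conj h hPS (hAF g₀.2) (TElt.pow h hx' n)
    | one => exact map_one _
    | mul x y hx hy ihx ihy =>
      rw [show (⟨x * y, _⟩ : A) = ⟨x, h.autB_le hP.2.1 hx⟩ * ⟨y, h.autB_le hP.2.1 hy⟩ from rfl,
        map_mul, ihx, ihy, mul_one]
    | inv x hx ihx =>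
      rw [show (⟨x⁻¹, _⟩ : A) = (⟨x, h.autB_le hP.2.1 hx⟩ : A)⁻¹ from rfl, map_inv, ihx, inv_one]
  -- evaluation on the kernel
  have hkA : k ∈ A := h.autB_le hP.2.1 hkB
  have hkH : (⟨k, hkA⟩ : A) ∈ H := Subgroup.mem_subgroupOf.2 (h.kerA_le_induced hPF hk)
  have hval : MonoidHom.transfer φ (⟨k, hkA⟩ : A) = φ ⟨_, hkH⟩ ^ H.index := by
    refine transfer_eq_pow_index φ _ hkH fun n g₀ hg => ?_
    rw [← map_pow]
    refine (QuotientGroup.eq.2 ?_).symm
    refine Subgroup.mem_subgroupOf.2 (Subgroup.mem_subgroupOf.2 ?_)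
    have h1 := h.conj_ker hPF hP (inv_mem g₀.2) (pow_mem hk n)
    rw [inv_inv] at h1
    exact h.inn_le_induced hP.2.1 h1
  rw [hvan k hkB] at hval
  -- `H` has index prime to `p`
  have hidx : ¬ p ∣ H.index := by
    have hHp : IsPGroup p H :=
      (H85.autInducedBy_isPGroup h.hS P).comap_of_injective A.subtype A.subtype_injective
    obtain ⟨R, hR⟩ := hHp.exists_le_sylow
    obtain ⟨β, hβ, hβR⟩ := H85.fullyAutomized_conj
      (H85.fullyAutomized_of_fullyNormalized h.hS h.hF hPF)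
      (K := (R : Subgroup A).map A.subtype)
      (fun a ha => by obtain ⟨r, -, rfl⟩ := ha; exact hAF r.2) (R.isPGroup'.map _)
    let f : R → H := fun r => ⟨⟨β * ((r : A) : MulAut P) * β⁻¹, by
      exact h.autA_congr ((H85.mem_autGroup hPS).1 hβ) hP.2.1 (r : A).2⟩,
      Subgroup.mem_subgroupOf.2 (hβR _ ⟨r, r.2, rfl⟩)⟩
    have hf : Function.Injective f := by
      intro a b hab
      have h1 : β * ((a : A) : MulAut P) * β⁻¹ = β * ((b : A) : MulAut P) * β⁻¹ :=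
        congrArg (fun z : H => ((z : A) : MulAut P)) hab
      exact Subtype.ext (Subtype.ext (mul_left_cancel (mul_right_cancel h1)))
    have heq : H = (R : Subgroup A) :=
      Subgroup.eq_of_le_of_card_ge hR (Nat.card_le_card_of_injective f hf)
    rw [heq]
    exact R.not_dvd_index
  have h2 : φ ⟨_, hkH⟩ = 1 := by
    have hHp : IsPGroup p H :=
      (H85.autInducedBy_isPGroup h.hS P).comap_of_injective A.subtype A.subtype_injective
    obtain ⟨j, hj⟩ := (hHp.to_quotient V) (φ ⟨_, hkH⟩)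
    exact orderOf_eq_one_iff.1 (Nat.eq_one_of_dvd_coprimes
      (((Nat.Prime.coprime_iff_not_dvd Fact.out).2 hidx).pow_left j)
      (orderOf_dvd_of_pow_eq_one hj) (orderOf_dvd_of_pow_eq_one hval.symm))
  exact h.ker_induced_inn hP hk (Subgroup.mem_subgroupOf.1
    (Subgroup.mem_subgroupOf.1 ((QuotientGroup.eq_one_iff _).1 h2)))

/-- The kernel meets `autB` in inner automorphisms. -/
theorem LiftCtx.ker_inf_B {P : Subgroup Ω} (hP : Cen θ Q D P)
    {k : MulAut P} (hk : k ∈ kerA F θ P) (hkB : k ∈ autB p F θ D P) : k ∈ Cfsg.Inn P := by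
  obtain ⟨R, hPR, hR⟩ := H85.exists_fullyNormalized F (hP.2.1.trans (pre_le Tb))
  obtain ⟨e, he⟩ := H85.isConj_iff.1 hPR
  have h1 := h.ker_inf_B_fn hR (h.cen_conj hP he) (h.kerA_congr he hk)
    (h.autB_congr he hP.2.1 hkB)
  have h2 := inn_congr e.symm h1
  rwa [show MulAut.congr e.symm (MulAut.congr e k) = k from MulEquiv.ext fun x => by
    show e.symm (e (k (e.symm (e x)))) = k x
    rw [MulEquiv.symm_apply_apply, MulEquiv.symm_apply_apply]] at h2

/-- `autA` is generated by `autB` and the kernel. -/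
theorem LiftCtx.exists_B_ker {P : Subgroup Ω} (hP : Cen θ Q D P) {a : MulAut P}
    (ha : a ∈ autA F θ D P) : ∃ b ∈ autB p F θ D P, b⁻¹ * a ∈ kerA F θ P := by
  haveI := h.finite_S'
  haveI := h.finite_Tb
  obtain ⟨R, hPR, hR⟩ := H85.exists_fullyNormalized F (hP.2.1.trans (pre_le Tb))
  obtain ⟨e, he⟩ := H85.isConj_iff.1 hPR
  have hcR := h.cen_conj hP he
  suffices hfn : ∀ a ∈ autA F θ D R, ∃ b ∈ autB p F θ D R, b⁻¹ * a ∈ kerA F θ R by
    obtain ⟨b, hb, hk⟩ := hfn _ (h.autA_congr he hP.2.1 ha)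
    refine ⟨MulAut.congr e.symm b, h.autB_congr he.symm hcR.2.1 hb, ?_⟩
    have h1 := h.kerA_congr he.symm hk
    rwa [map_mul, map_inv, show MulAut.congr e.symm (MulAut.congr e a) = a from
      MulEquiv.ext fun x => by
        show e.symm (e (a (e.symm (e x)))) = a x
        rw [MulEquiv.symm_apply_apply, MulEquiv.symm_apply_apply]] at h1
  clear ha a
  intro a ha
  have hRS : R ≤ S := hR.1
  have hBA : autB p F θ D R ≤ autA F θ D R := h.autB_le hcR.2.1
  obtain ⟨W, hWD, hW1, hW2, -⟩ := h.exists_imgGroup hRS hBA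
  obtain ⟨haF, a', ha', hai⟩ := (h.mem_autA hRS).1 ha
  suffices hall : D.autGroup (imageAlong θ R) ≤ W by
    obtain ⟨b, hb, hbi⟩ := hW1 a' (hall ha')
    exact ⟨b, hb, h.inv_mul_ker hRS (h.autA_le (hBA hb)) haF hbi hai⟩
  haveI : Finite (D.autGroup (imageAlong θ R)) := H85.finite_autGroup D hcR.2.2.1
  obtain ⟨-, Sy, hSy⟩ := H85.fullyAutomized_of_fullyNormalized h.hTb h.hD.1.1 (h.img_fnD hR hcR)
  intro d hd
  have h0 : (⟨d, hd⟩ : D.autGroup (imageAlong θ R)) ∈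
      W.subgroupOf (D.autGroup (imageAlong θ R)) := by
    refine (?_ : pResidual p (D.autGroup (imageAlong θ R)) ⊔ (Sy : Subgroup _) ≤ _)
      (H86.pResidual_sup_sylow Sy ▸ Subgroup.mem_top _)
    refine sup_le ((Subgroup.closure_le _).2 fun c hc => ?_) (hSy ▸ fun c hc => ?_)
    · -- an automorphism of order prime to `p`
      have hcF : (c : MulAut (imageAlong θ R)) ∈ F'.autGroup (imageAlong θ R) :=
        (H85.mem_autGroup (h.img_le R)).2 (h.hD.1.2.2.1 _ ((H85.mem_autGroup hcR.2.2.1).1 c.2))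
      obtain ⟨φ, hφ, hφe⟩ := h.lift_hom ((H85.mem_autGroup (h.img_le R)).1 hcF)
      have hle : R ≤ preimageAlong θ (imageAlong θ R) := (h.pre_img hcR.1 hRS).ge
      have hφR := H85.restrict hφ hle
      haveI : Finite R := H85.finite_of_le hRS
      have hr : (φ.comp (Subgroup.inclusion hle)).range = R := H86.range_eq_self_of_le F hφR (by
        rintro _ ⟨x, rfl⟩
        refine h.mem_of_th_mem hcR.1 (H85.map_mem hφR x) ?_
        rw [show th θ ((φ.comp (Subgroup.inclusion hle)) x) = _ from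
          (hφe (Subgroup.inclusion hle x)).symm]
        exact SetLike.coe_mem _)
      let a₁ : MulAut R := H85.isoOf _ hφR hr
      have ha₁i : Ind θ a₁ (c : MulAut (imageAlong θ R)) := fun x hx =>
        hφe (Subgroup.inclusion hle x)
      have ha₁ : a₁ ∈ autA F θ D R :=
        (h.mem_autA hRS).2 ⟨(H85.mem_autGroup hRS).2 (H85.isFIso_isoOf _ hφR hr), _, c.2, ha₁i⟩
      haveI : Finite (MulAut R) :=
        Finite.of_injective (fun e => (e : R → R)) DFunLike.coe_injective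
      obtain ⟨n, hn, hcn⟩ := H86.exists_exp_coprime a₁ (c : MulAut (imageAlong θ R))
        (by rw [Subgroup.orderOf_coe]; exact hc)
      obtain ⟨b', hb', hbi⟩ := hW2 _ (Subgroup.subset_closure (Or.inl ⟨pow_mem ha₁ n, hn⟩))
      have := Ind.unique θ hbi (Ind.pow ha₁i n)
      rw [hcn] at this
      exact Subgroup.mem_subgroupOf.2 (this ▸ hb')
    · obtain ⟨u, hu, hui⟩ := h.lift_induced hcR (Subgroup.mem_subgroupOf.1 hc)
      obtain ⟨b', hb', hbi⟩ := hW2 u (h.induced_le_autB hcR.2.1 hu)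
      exact Subgroup.mem_subgroupOf.2 (Ind.unique θ hbi hui ▸ hb')
  exact Subgroup.mem_subgroupOf.1 h0

/-- Elements of `autB` of `p`-power order are images of elements of `T`. -/
theorem LiftCtx.telt_of_pElement {P : Subgroup Ω} (hP : Cen θ Q D P) {b : MulAut P}
    (hb : b ∈ autB p F θ D P) (hk : ∃ n : ℕ, b ^ p ^ n = 1) :
    TElt F (preimageAlong θ Tb) P b := by
  haveI := h.finite_S'
  haveI := h.finite_Tb
  obtain ⟨R, hPR, hR⟩ := H85.exists_fullyNormalized F (hP.2.1.trans (pre_le Tb))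
  obtain ⟨e, he⟩ := H85.isConj_iff.1 hPR
  have hcR := h.cen_conj hP he
  have hRS : R ≤ S := hR.1
  set c := MulAut.congr e b with hc
  have hcB : c ∈ autB p F θ D R := h.autB_congr he hP.2.1 hb
  have hcA := h.autB_le hcR.2.1 hcB
  obtain ⟨hcF, c', hc', hci⟩ := (h.mem_autA hRS).1 hcA
  obtain ⟨n, hn⟩ := hk
  have hcn : c ^ p ^ n = 1 := by rw [hc, ← map_pow, hn, map_one]
  have hc'n : c' ^ p ^ n = 1 := by
    have h2 := Ind.pow hci (p ^ n)
    rw [hcn] at h2
    exact Ind.unique θ h2 (Ind.refl θ R)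
  obtain ⟨δ', hδ', hδc⟩ := H85.fullyAutomized_conj
    (H85.fullyAutomized_of_fullyNormalized h.hTb h.hD.1.1 (h.img_fnD hR hcR))
    (Subgroup.zpowers_le.2 hc')
    (H86.isPGroup_zpowers (by
      obtain ⟨j, -, hj⟩ := (Nat.dvd_prime_pow Fact.out).1 (orderOf_dvd_of_pow_eq_one hc'n)
      exact ⟨j, hj⟩))
  obtain ⟨u, hu, hui⟩ := h.lift_induced hcR (hδc _ (Subgroup.mem_zpowers c'))
  -- a lift of the conjugating automorphism
  have hδF : δ' ∈ F'.autGroup (imageAlong θ R) :=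
    (H85.mem_autGroup (h.img_le R)).2 (h.hD.1.2.2.1 _ ((H85.mem_autGroup hcR.2.2.1).1 hδ'))
  obtain ⟨φ, hφ, hφe⟩ := h.lift_hom ((H85.mem_autGroup (h.img_le R)).1 hδF)
  have hle : R ≤ preimageAlong θ (imageAlong θ R) := (h.pre_img hcR.1 hRS).ge
  have hφR := H85.restrict hφ hle
  haveI : Finite R := H85.finite_of_le hRS
  have hr : (φ.comp (Subgroup.inclusion hle)).range = R := H86.range_eq_self_of_le F hφR (by
    rintro _ ⟨x, rfl⟩
    refine h.mem_of_th_mem hcR.1 (H85.map_mem hφR x) ?_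
    rw [show th θ ((φ.comp (Subgroup.inclusion hle)) x) = _ from
      (hφe (Subgroup.inclusion hle x)).symm]
    exact SetLike.coe_mem _)
  let δ : MulAut R := H85.isoOf _ hφR hr
  have hδFI : H85.IsFIso F δ := H85.isFIso_isoOf _ hφR hr
  have hδi : Ind θ δ δ' := fun x hx => hφe (Subgroup.inclusion hle x)
  have h1 : δ * c * δ⁻¹ ∈ autB p F θ D R := h.autB_congr hδFI hcR.2.1 hcB
  have h2i : Ind θ (δ * c * δ⁻¹ : MulAut R) (δ' * c' * δ'⁻¹ : MulAut (imageAlong θ R)) :=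
    (show (MulAut.congr δ c : MulAut R) = δ * c * δ⁻¹ from MulEquiv.ext fun _ => rfl) ▸
      (show (MulAut.congr δ' c' : MulAut (imageAlong θ R)) = δ' * c' * δ'⁻¹ from
        MulEquiv.ext fun _ => rfl) ▸ Ind.congr θ hδi hci hRS
  have h3 := h.inv_mul_ker hRS (h.autA_le (h.autInducedBy_le_autA hcR.2.1 hu))
    (h.autA_le (h.autB_le hcR.2.1 h1)) hui h2i
  have h4 := h.ker_inf_B hcR h3 (mul_mem (inv_mem (h.induced_le_autB hcR.2.1 hu)) h1)
  have h5 : δ * c * δ⁻¹ ∈ autInducedBy (preimageAlong θ Tb) R := by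
    have := mul_mem hu (h.inn_le_induced hcR.2.1 h4)
    rwa [mul_inv_cancel_left] at this
  refine ⟨R, δ.symm.trans e.symm, hδFI.symm.trans he.symm, hcR.2.1, _, h5, MulEquiv.ext fun x => ?_⟩
  show b x = e.symm (δ.symm (δ (e (b (e.symm (δ.symm (δ (e x))))))))
  simp

end H89.Lift
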