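import Cfsg.Agent.H89.EmbedTwo
import Cfsg.Agent.H50.Center

/-!
The `2`-fusion system of `PSU₃(q)`, `q` odd, is simple.
-/

set_option autoImplicit false

namespace H89

section

variable {F : Type*} [Field F] [Fintype F] {q : ℕ} (hF : Fintype.card F = q ^ 2)

theorem psu3_block_unitary (A : Cfsg.GU 2 F q) :
    H51.adj hF (!![((A : GL (Fin 2) F) : Matrix (Fin 2) (Fin 2) F) 0 0,
        ((A : GL (Fin 2) F) : Matrix (Fin 2) (Fin 2) F) 0 1, 0;
      ((A : GL (Fin 2) F) : Matrix (Fin 2) (Fin 2) F) 1 0,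
        ((A : GL (Fin 2) F) : Matrix (Fin 2) (Fin 2) F) 1 1, 0;
      0, 0, (((A : GL (Fin 2) F) : Matrix (Fin 2) (Fin 2) F).det)⁻¹] : Matrix (Fin 3) (Fin 3) F) *
      !![((A : GL (Fin 2) F) : Matrix (Fin 2) (Fin 2) F) 0 0,
        ((A : GL (Fin 2) F) : Matrix (Fin 2) (Fin 2) F) 0 1, 0;
      ((A : GL (Fin 2) F) : Matrix (Fin 2) (Fin 2) F) 1 0,
        ((A : GL (Fin 2) F) : Matrix (Fin 2) (Fin 2) F) 1 1, 0;
      0, 0, (((A : GL (Fin 2) F) : Matrix (Fin 2) (Fin 2) F).det)⁻¹] = 1 := by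
  have h := (H51.mem_GU_iff hF _).mp A.2
  have hd := H51.det_norm_GU hF h
  have hd' : ((((A : GL (Fin 2) F) : Matrix (Fin 2) (Fin 2) F).det)⁻¹) ^ q *
      (((A : GL (Fin 2) F) : Matrix (Fin 2) (Fin 2) F).det)⁻¹ = 1 := by
    rw [inv_pow, ← mul_inv, hd, inv_one]
  have e00 := congrFun (congrFun h 0) 0
  have e01 := congrFun (congrFun h 0) 1
  have e10 := congrFun (congrFun h 1) 0
  have e11 := congrFun (congrFun h 1) 1
  simp [Matrix.mul_apply, Fin.sum_univ_two] at e00 e01 e10 e11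
  have hqpos : q ≠ 0 := (H51.q_pos hF).ne'
  ext i j
  fin_cases i <;> fin_cases j <;>
    simp [Matrix.mul_apply, Fin.sum_univ_three, zero_pow hqpos, e00, e01, e10, e11]
  simpa [inv_pow] using hd'

/-- The block embedding of `GU₂` into `SU₃`. -/
noncomputable def gu2ToSU3 : Cfsg.GU 2 F q →* Cfsg.SU 3 F q :=
  MonoidHom.codRestrict ((gl2ToSL3 F).comp (Cfsg.GU 2 F q).subtype) (Cfsg.SU 3 F q) (fun A => by
    have h := H51.mkGL_mem hF _ (psu3_block_unitary hF A)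
    exact h)

/-- The composite into `PSU₃`. -/
noncomputable def gu2ToPSU3 : Cfsg.GU 2 F q →* Cfsg.PSU 3 F q :=
  (QuotientGroup.mk' _).comp (gu2ToSU3 hF)

theorem gu2ToPSU3_injOn (P : Sylow 2 ↥(Cfsg.GU 2 F q)) :
    Function.Injective ((gu2ToPSU3 hF).comp (P : Subgroup ↥(Cfsg.GU 2 F q)).subtype) := by
  rw [injective_iff_map_eq_one]
  intro A hA
  have hc : gu2ToSU3 hF (A : Cfsg.GU 2 F q) ∈ Subgroup.center (Cfsg.SU 3 F q) :=
    (QuotientGroup.eq_one_iff _).mp hA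
  obtain ⟨l, -, hl⟩ := H50.scalar_of_mem_center hF (by norm_num) hc
  have hl' : ((gl2ToSL3 F ((A : Cfsg.GU 2 F q) : GL (Fin 2) F)) : Matrix (Fin 3) (Fin 3) F) =
      l • (1 : Matrix (Fin 3) (Fin 3) F) := hl
  rw [gl2ToSL3_val] at hl'
  have hcen : gl2ToPSL3 F ((A : Cfsg.GU 2 F q) : GL (Fin 2) F) = 1 := by
    refine (QuotientGroup.eq_one_iff _).mpr (Matrix.SpecialLinearGroup.mem_center_iff.mpr
      ⟨l, ?_, ?_⟩)
    · have hd : ((gl2ToSL3 F ((A : Cfsg.GU 2 F q) : GL (Fin 2) F)) :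
          Matrix (Fin 3) (Fin 3) F).det = 1 := Matrix.SpecialLinearGroup.det_coe _
      rw [gl2ToSL3_val, hl', Matrix.det_smul, Matrix.det_one, mul_one, Fintype.card_fin] at hd
      rw [Fintype.card_fin]
      exact hd
    · rw [gl2ToSL3_val, hl', Matrix.scalar_apply, ← Matrix.smul_one_eq_diagonal]
  have h3 : A ^ 3 = 1 := Subtype.ext (Subtype.ext (by simpa using gl2ToPSL3_eq_one hcen))
  obtain ⟨k, hk⟩ := P.2 A
  have hg := pow_gcd_eq_one.2 ⟨h3, hk⟩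
  rwa [Nat.Coprime.gcd_eq_one (Nat.Coprime.pow_right k (by norm_num)), pow_one] at hg

include hF in
theorem card_gu2 : Nat.card (Cfsg.GU 2 F q) = q * ((q + 1) * (q + 1) * (q - 1)) := by
  have hq1 : 1 < q := H51.one_lt_q hF
  obtain ⟨r, hr⟩ : ∃ r, q = r + 1 := ⟨q - 1, by omega⟩
  rw [H50.card_GU hF, Finset.prod_range_succ, Finset.prod_range_one]
  simp only [show Even 0 from ⟨0, rfl⟩, show ¬ Even 1 from Nat.not_even_one, if_true, if_false]
  rw [hr, Nat.add_sub_cancel, show (r + 1) ^ (1 + 1) - 1 = r * (r + 2) from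
    Nat.sub_eq_of_eq_add (by ring)]
  norm_num
  ring

theorem psu3_odd_index (hq : Odd q) (P : Sylow 2 ↥(Cfsg.GU 2 F q)) :
    Odd ((P : Subgroup ↥(Cfsg.GU 2 F q)).map (gu2ToPSU3 hF)).index := by
  have hq1 : 1 < q := H51.one_lt_q hF
  obtain ⟨r, hr⟩ : ∃ r, q = r + 1 := ⟨q - 1, by omega⟩
  refine odd_index_map_of _ P (gu2ToPSU3_injOn hF P) (Nat.gcd 3 (q + 1))
    (q ^ 2 * (r * r + r + 1)) (hq.pow.mul ?_) ?_
  · exact (Nat.even_mul_succ_self r).add_one |> fun h => by rwa [mul_add, mul_one] at h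
  · refine Nat.eq_of_mul_eq_mul_left (show 0 < q + 1 by omega) ?_
    have h := H50.card_PSU_mul hF (n := 3) (by norm_num)
    rw [H50.card_GU hF, Finset.prod_range_succ, Finset.prod_range_succ, Finset.prod_range_one] at h
    simp only [show Even 0 from ⟨0, rfl⟩, show ¬ Even 1 from Nat.not_even_one,
      show Even 2 from ⟨1, rfl⟩, if_true, if_false] at h
    rw [card_gu2 hF]
    rw [hr] at h ⊢
    rw [show (r + 1) ^ (1 + 1) - 1 = r * (r + 2) from Nat.sub_eq_of_eq_add (by ring)] at h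
    rw [Nat.add_sub_cancel]
    norm_num at h
    linear_combination h

/-- A unitary monomial matrix. -/
noncomputable def su3Mono (hq : Odd q) (M : Matrix (Fin 3) (Fin 3) F)
    (h : H51.adj hF M * M = 1) (hd : M.det = 1) : Cfsg.SU 3 F q :=
  ⟨⟨M, hd⟩, H51.mkGL_mem hF M h⟩

/-- All involutions of `GU₂` are conjugate in `SU₃`. -/
theorem psu3_involution_conj (hq : Odd q) {A : Cfsg.GU 2 F q} (hA : A ^ 2 = 1) (hA1 : A ≠ 1) :
    ∃ g : Cfsg.SU 3 F q, ((g * gu2ToSU3 hF A * g⁻¹ : Cfsg.SU 3 F q) :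
      Matrix.SpecialLinearGroup (Fin 3) F) = stdInv F := by
  have hodd : Odd (Fintype.card F) := by rw [hF]; exact hq.pow
  have h2 := H67.two_ne_zero_of_odd_card (F := F) hodd
  have hA' : (A : GL (Fin 2) F) ^ 2 = 1 := by rw [← SubgroupClass.coe_pow, hA, Subgroup.coe_one]
  have hqpos : q ≠ 0 := (H51.q_pos hF).ne'
  rcases gl2_involution h2 hA' (fun e => hA1 (Subtype.ext e)) with e | ⟨h, he⟩
  · refine ⟨su3Mono hF hq !![0, 0, 1; 0, -1, 0; 1, 0, 0] ?_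
      (by rw [Matrix.det_fin_three]; simp), ?_⟩
    · ext i j
      fin_cases i <;> fin_cases j <;>
        simp [Matrix.mul_apply, Fin.sum_univ_three, zero_pow hqpos, hq.neg_one_pow]
    · rw [Subgroup.coe_mul, Subgroup.coe_mul, InvMemClass.coe_inv]
      refine mul_inv_eq_iff_eq_mul.mpr (Subtype.ext ?_)
      change (!![0, 0, 1; 0, -1, 0; 1, 0, 0] : Matrix (Fin 3) (Fin 3) F) *
          (gl2ToSL3 F (A : GL (Fin 2) F) : Matrix (Fin 3) (Fin 3) F) =
        (stdInv F : Matrix (Fin 3) (Fin 3) F) * !![0, 0, 1; 0, -1, 0; 1, 0, 0]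
      ext i j
      fin_cases i <;> fin_cases j <;>
        simp [gl2ToSL3_val, stdInv, e, Matrix.mul_apply, Fin.sum_univ_three,
          Matrix.det_fin_two]
  · set D : GL (Fin 2) F := Matrix.GeneralLinearGroup.mkOfDetNeZero !![1, 0; 0, -1] (by simp)
      with hD
    have hDm : D ∈ Cfsg.GU 2 F q := by
      rw [H51.mem_GU_iff hF]
      ext i j
      fin_cases i <;> fin_cases j <;>
        simp [hD, Matrix.GeneralLinearGroup.mkOfDetNeZero, Matrix.mul_apply, Fin.sum_univ_two,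
          zero_pow hqpos, hq.neg_one_pow]
    have hc : IsConj (A : GL (Fin 2) F) D := isConj_iff.mpr ⟨h⁻¹, by
      rw [inv_inv, mul_assoc, show (A : GL (Fin 2) F) * h = h * D from Units.ext he,
        inv_mul_cancel_left]⟩
    obtain ⟨u, hu, hua⟩ := H51.gu_conj_of_gl_conj hF A.2 hDm hc
    refine ⟨gu2ToSU3 hF ⟨u, hu⟩, ?_⟩
    rw [← map_inv, ← map_mul, ← map_mul]
    show gl2ToSL3 F (u * (A : GL (Fin 2) F) * u⁻¹) = stdInv F
    rw [hua]
    apply Subtype.ext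
    ext i j
    fin_cases i <;> fin_cases j <;>
      simp [gl2ToSL3_val, stdInv, hD, Matrix.GeneralLinearGroup.mkOfDetNeZero, Matrix.det_fin_two]

theorem psu3_conj_inv (hq : Odd q) {P : Sylow 2 ↥(Cfsg.GU 2 F q)}
    (u w : (P : Subgroup ↥(Cfsg.GU 2 F q))) (hu : orderOf u = 2) (hw : orderOf w = 2) :
    ∃ g, g * gu2ToPSU3 hF (u : Cfsg.GU 2 F q) * g⁻¹ = gu2ToPSU3 hF (w : Cfsg.GU 2 F q) := by
  have key : ∀ v : (P : Subgroup ↥(Cfsg.GU 2 F q)), orderOf v = 2 →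
      ∃ g : Cfsg.SU 3 F q, ((g * gu2ToSU3 hF (v : Cfsg.GU 2 F q) * g⁻¹ : Cfsg.SU 3 F q) :
        Matrix.SpecialLinearGroup (Fin 3) F) = stdInv F := by
    intro v hv
    refine psu3_involution_conj hF hq (orderOf_dvd_iff_pow_eq_one.mp
      (by rw [Subgroup.orderOf_coe, hv])) fun e => ?_
    rw [← Subgroup.orderOf_coe, e, orderOf_one] at hv
    omega
  obtain ⟨g, hg⟩ := key u hu
  obtain ⟨k, hk⟩ := key w hw
  have e : g * gu2ToSU3 hF (u : Cfsg.GU 2 F q) * g⁻¹ = k * gu2ToSU3 hF (w : Cfsg.GU 2 F q) * k⁻¹ :=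
    Subtype.ext (hg.trans hk.symm)
  refine ⟨QuotientGroup.mk' _ (k⁻¹ * g), ?_⟩
  rw [gu2ToPSU3, MonoidHom.comp_apply, MonoidHom.comp_apply, ← map_inv, ← map_mul, ← map_mul]
  congr 1
  calc k⁻¹ * g * gu2ToSU3 hF (u : Cfsg.GU 2 F q) * (k⁻¹ * g)⁻¹
      = k⁻¹ * (g * gu2ToSU3 hF (u : Cfsg.GU 2 F q) * g⁻¹) * k := by group
    _ = gu2ToSU3 hF (w : Cfsg.GU 2 F q) := by rw [e]; group

include hF in
/-- Square roots of `-1` in `GU₂` are conjugate, `q ≡ 1 (mod 4)`. -/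
theorem gu2_sq_neg_one (h1 : q % 4 = 1) {A : Cfsg.GU 2 F q}
    (hA : ((A : GL (Fin 2) F) : Matrix (Fin 2) (Fin 2) F) *
      ((A : GL (Fin 2) F) : Matrix (Fin 2) (Fin 2) F) = -1) :
    ∃ J : GL (Fin 2) F, (J : Matrix (Fin 2) (Fin 2) F) = !![0, -1; 1, 0] ∧
      IsConj (A : GL (Fin 2) F) J := by
  have hodd : Odd (Fintype.card F) := by rw [hF]; exact (Nat.odd_iff.mpr (by omega)).pow
  have h2 := H67.two_ne_zero_of_odd_card (F := F) hodd
  have hns : ((A : GL (Fin 2) F) : Matrix (Fin 2) (Fin 2) F) 1 0 ≠ 0 ∨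
      ((A : GL (Fin 2) F) : Matrix (Fin 2) (Fin 2) F) 0 1 ≠ 0 := by
    by_contra hno
    push Not at hno
    obtain ⟨hc, hb⟩ := hno
    have e := congrFun (congrFun ((H51.mem_GU_iff hF _).mp A.2) 0) 0
    have e' := congrFun (congrFun hA 0) 0
    simp [Matrix.mul_apply, Fin.sum_univ_two, hc, hb, zero_pow (H51.q_pos hF).ne'] at e e'
    obtain ⟨r, hr⟩ : ∃ r, q + 1 = 2 * (2 * r + 1) := ⟨q / 4, by omega⟩
    rw [← pow_succ, hr, pow_mul, pow_two, e', Odd.neg_one_pow ⟨r, rfl⟩] at e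
    exact h2 (by linear_combination -e)
  obtain ⟨h, he⟩ := gl2_sq_neg_one' hA hns
  refine ⟨Matrix.GeneralLinearGroup.mkOfDetNeZero !![0, -1; 1, 0] (by simp), rfl,
    isConj_iff.mpr ⟨h⁻¹, ?_⟩⟩
  rw [inv_inv, mul_assoc, show (A : GL (Fin 2) F) * h =
    h * Matrix.GeneralLinearGroup.mkOfDetNeZero !![0, -1; 1, 0] (by simp) from Units.ext he,
    inv_mul_cancel_left]

include hF in
theorem psu3_isSimple_qd (h1 : q % 4 = 1) (S : Sylow 2 (Cfsg.PSU 3 F q)) :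
    (Cfsg.groupFusionSystem (S : Subgroup (Cfsg.PSU 3 F q))).IsSimple 2 := by
  classical
  haveI : Fact (Nat.Prime 2) := ⟨Nat.prime_two⟩
  have hq : Odd q := Nat.odd_iff.mpr (by omega)
  have hodd : Odd (Fintype.card F) := by rw [hF]; exact hq.pow
  have h2 := H67.two_ne_zero_of_odd_card (F := F) hodd
  obtain ⟨P⟩ : Nonempty (Sylow 2 ↥(Cfsg.GU 2 F q)) := inferInstance
  obtain ⟨n, x, y, h⟩ := H67.exists_QD ((H67.gu2_sylow q hF hq P).1 h1)
  refine isSimple_two_of_embed (gu2ToPSU3 hF) P (gu2ToPSU3_injOn hF P) (psu3_odd_index hF hq P)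
    ?_ (oddRigid_qd h) (psu3_conj_inv hF hq) (fun T hinv hfus => ?_) S
  · exact nontrivial_of_ne y 1 fun hy => by
      have := h.ordy
      rw [hy, orderOf_one] at this
      omega
  have hnegG : (-1 : GL (Fin 2) F) ∈ Cfsg.GU 2 F q := by
    rw [H51.mem_GU_iff hF, Units.val_neg, Units.val_one, H51.adj_neg, H51.adj_one]
    simp
  set e : Cfsg.GU 2 F q := ⟨-1, hnegG⟩ with he
  have heord : orderOf e = 2 := by
    rw [he, Subgroup.orderOf_mk]
    refine orderOf_eq_prime (by simp) fun e1 => ?_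
    have e' := congrArg (fun g : GL (Fin 2) F => (g : Matrix (Fin 2) (Fin 2) F) 0 0) e1
    simp at e'
    exact h2 (by linear_combination -e')
  have heP : e ∈ (P : Subgroup ↥(Cfsg.GU 2 F q)) :=
    mem_sylow_of_central_involution P e heord fun g => Subtype.ext (by simp [he])
  have hc := qd_center_neg_one ((Cfsg.GU 2 F q).subtype.comp (P : Subgroup ↥(Cfsg.GU 2 F q)).subtype)
    (fun a b hab => Subtype.ext (Subtype.ext hab)) h2 ⟨e, heP⟩ rfl h
  refine qd_generation h T hinv fun u v hu hv huT => hfus u huT v ?_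
  have hsq : ∀ w : (P : Subgroup ↥(Cfsg.GU 2 F q)), w ^ 2 = x ^ (2 * H67.qdQ n) →
      (((w : Cfsg.GU 2 F q) : GL (Fin 2) F) : Matrix (Fin 2) (Fin 2) F) *
        (((w : Cfsg.GU 2 F q) : GL (Fin 2) F) : Matrix (Fin 2) (Fin 2) F) = -1 := by
    intro w hw
    rw [hc] at hw
    have e' := congrArg (fun v : (P : Subgroup ↥(Cfsg.GU 2 F q)) =>
      (((v : Cfsg.GU 2 F q) : GL (Fin 2) F) : Matrix (Fin 2) (Fin 2) F)) hw
    simpa [pow_two, he] using e'
  obtain ⟨J, hJ, hcu⟩ := gu2_sq_neg_one hF h1 (hsq u hu)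
  obtain ⟨J', hJ', hcv⟩ := gu2_sq_neg_one hF h1 (hsq v hv)
  rw [show J' = J from Units.ext (hJ'.trans hJ.symm)] at hcv
  obtain ⟨g, hg, hgu⟩ := H51.gu_conj_of_gl_conj hF (u : Cfsg.GU 2 F q).2 (v : Cfsg.GU 2 F q).2
    (hcu.trans hcv.symm)
  refine ⟨gu2ToPSU3 hF ⟨g, hg⟩, ?_⟩
  rw [← map_inv, ← map_mul, ← map_mul]
  exact congrArg _ (Subtype.ext hgu)

include hF in
theorem psu3_isSimple_wr (h3 : q % 4 = 3) (S : Sylow 2 (Cfsg.PSU 3 F q)) :
    (Cfsg.groupFusionSystem (S : Subgroup (Cfsg.PSU 3 F q))).IsSimple 2 := by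
  classical
  haveI : Fact (Nat.Prime 2) := ⟨Nat.prime_two⟩
  have hq : Odd q := Nat.odd_iff.mpr (by omega)
  have hqpos : q ≠ 0 := (H51.q_pos hF).ne'
  obtain ⟨b, m, hm, hbm⟩ := Nat.exists_eq_two_pow_mul_odd (show q + 1 ≠ 0 by omega)
  have hb : 2 ≤ b := by
    rcases b with _ | _ | b
    · rw [pow_zero, one_mul] at hbm; obtain ⟨r, hr⟩ := hm; omega
    · rw [zero_add, pow_one] at hbm; obtain ⟨r, hr⟩ := hm; omega
    · omega
  obtain ⟨r', hr', hr'odd⟩ : ∃ r', q - 1 = 2 * r' ∧ Odd r' :=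
    ⟨(q - 1) / 2, by omega, Nat.odd_iff.mpr (by omega)⟩
  have hcardF : Nat.card F - 1 = (q - 1) * (q + 1) := by
    obtain ⟨r, hr⟩ : ∃ r, q = r + 1 := ⟨q - 1, by omega⟩
    rw [Nat.card_eq_fintype_card, hF, hr, Nat.add_sub_cancel]
    exact Nat.sub_eq_of_eq_add (by ring)
  obtain ⟨ω, hω⟩ := H67.exists_unit_of_order (K := F) (2 ^ b)
    (by rw [hcardF, hbm]; exact ⟨(q - 1) * m, by ring⟩)
  have hnorm : ∀ u ∈ Subgroup.zpowers ω, (u : F) ^ q * (u : F) = 1 := by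
    intro u hu
    have h1 : orderOf u ∣ q + 1 := by
      rw [hbm]
      exact ((orderOf_dvd_of_mem_zpowers hu).trans (dvd_of_eq hω)).mul_right m
    rw [← pow_succ, ← Units.val_pow_eq_pow_val, orderOf_dvd_iff_pow_eq_one.mp h1, Units.val_one]
  have hdiag : ∀ u ∈ Subgroup.zpowers ω, ∀ v ∈ Subgroup.zpowers ω,
      H67.diagHom F (u, v) ∈ Cfsg.GU 2 F q := by
    intro u hu v hv
    rw [H51.mem_GU_iff hF]
    ext i j
    fin_cases i <;> fin_cases j <;>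
      simp [H67.diagHom_val, Matrix.mul_apply, Fin.sum_univ_two, zero_pow hqpos, hnorm u hu,
        hnorm v hv]
  have hs : H67.swapGL F ∈ Cfsg.GU 2 F q := by
    rw [H51.mem_GU_iff hF]
    ext i j
    fin_cases i <;> fin_cases j <;>
      simp [H67.swapGL, Matrix.mul_apply, Fin.sum_univ_two, zero_pow hqpos]
  obtain ⟨P, x, y, z, h, hx, hy⟩ := exists_wr_sylow (Cfsg.GU 2 F q) b (q * m * m * r') hb
    (((hq.mul hm).mul hm).mul hr'odd)
    (by rw [card_gu2 hF, hbm, hr', pow_succ, two_mul b, pow_add 2 b b]; ring) ω hω hdiag hs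
  refine isSimple_two_of_embed (gu2ToPSU3 hF) P (gu2ToPSU3_injOn hF P) (psu3_odd_index hF hq P)
    ?_ (oddRigid_wr h) (psu3_conj_inv hF hq) (fun T hinv hfus => ?_) S
  · exact nontrivial_of_ne z 1 fun e => by
      have := h.ordz
      rw [e, orderOf_one] at this
      omega
  refine wr_generation h T hinv fun hxy => hfus _ hxy x ?_
  refine ⟨QuotientGroup.mk' _ (su3Mono hF hq !![1, 0, 0; 0, 0, 1; 0, -1, 0] ?_
    (by rw [Matrix.det_fin_three]; simp)), ?_⟩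
  · ext i j
    fin_cases i <;> fin_cases j <;>
      simp [Matrix.mul_apply, Fin.sum_univ_three, zero_pow hqpos, hq.neg_one_pow]
  rw [mul_inv_eq_iff_eq_mul, gu2ToPSU3, MonoidHom.comp_apply, MonoidHom.comp_apply]
  refine (map_mul _ _ _).symm.trans ((congrArg _ (Subtype.ext (Subtype.ext ?_))).trans (map_mul _ _ _))
  have e : (((x * y⁻¹ : (P : Subgroup ↥(Cfsg.GU 2 F q))) : Cfsg.GU 2 F q) : GL (Fin 2) F) =
      H67.diagHom F (ω, ω⁻¹) := by
    rw [Subgroup.coe_mul, InvMemClass.coe_inv, Subgroup.coe_mul, InvMemClass.coe_inv, hx, hy,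
      ← map_inv, ← map_mul]
    simp
  change (!![1, 0, 0; 0, 0, 1; 0, -1, 0] : Matrix (Fin 3) (Fin 3) F) *
      (gl2ToSL3 F (((x * y⁻¹ : (P : Subgroup ↥(Cfsg.GU 2 F q))) : Cfsg.GU 2 F q) : GL (Fin 2) F) :
        Matrix (Fin 3) (Fin 3) F) =
    (gl2ToSL3 F ((x : Cfsg.GU 2 F q) : GL (Fin 2) F) : Matrix (Fin 3) (Fin 3) F) *
      !![1, 0, 0; 0, 0, 1; 0, -1, 0]
  rw [e, hx]
  ext i j
  fin_cases i <;> fin_cases j <;>
    simp [gl2ToSL3_val, H67.diagHom_val, Matrix.mul_apply, Fin.sum_univ_three]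

include hF in
/-- **The `2`-fusion system of `PSU₃(q)`, `q` odd, is simple.** -/
theorem psu3_isSimple (hodd : q % 2 = 1) (S : Sylow 2 (Cfsg.PSU 3 F q)) :
    (Cfsg.groupFusionSystem (S : Subgroup (Cfsg.PSU 3 F q))).IsSimple 2 := by
  rcases (show q % 4 = 1 ∨ q % 4 = 3 by omega) with h | h
  · exact psu3_isSimple_qd hF h S
  · exact psu3_isSimple_wr hF h S

end

end H89
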