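import Cfsg.Agent.H37.SylowTwo
import Cfsg.Agent.H86.AutDihedral
import Cfsg.Agent.H40.TwoByTwo
import Cfsg.Agent.H70.SolvableQuotTwo
import Cfsg.Agent.H89.EmbedTwo

/-!
Sylow `2`-subgroups of `SL₂(q)`, `q` odd: square roots of `-1` and normalisers.
-/

set_option autoImplicit false

namespace H89

section

variable {F : Type*} [Field F]

local notation "S2" => Matrix.SpecialLinearGroup (Fin 2) F

theorem s2_val_sq_neg_one {x : S2} (hx : x * x = -1) :
    (x : Matrix (Fin 2) (Fin 2) F) * (x : Matrix (Fin 2) (Fin 2) F) = -1 := by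
  simpa using congrArg (fun g : S2 => (g : Matrix (Fin 2) (Fin 2) F)) hx

theorem s2_neg_one_ne_one (h2 : (2 : F) ≠ 0) : (-1 : S2) ≠ 1 := fun e => by
  have e' := congrArg (fun g : S2 => (g : Matrix (Fin 2) (Fin 2) F) 0 0) e
  simp at e'
  exact h2 (by linear_combination -e')

theorem s2_root_ne_pm (h2 : (2 : F) ≠ 0) {x : S2} (hx : x * x = -1) : x ≠ 1 ∧ x ≠ -1 := by
  constructor <;> rintro rfl <;> simp at hx <;> exact s2_neg_one_ne_one h2 hx.symm

theorem s2_root_inv {x : S2} (hx : x * x = -1) : x⁻¹ = -x := by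
  rw [inv_eq_iff_mul_eq_one, mul_neg, hx, neg_neg]

theorem s2_scalar_pm {a : S2} (h : H40.IsScalar2 (a : Matrix (Fin 2) (Fin 2) F)) :
    a = 1 ∨ a = -1 := by
  obtain ⟨h01, h10, hdd⟩ := h
  have hd : (a : Matrix (Fin 2) (Fin 2) F).det = 1 := a.2
  rw [Matrix.det_fin_two, h01, h10, ← hdd, mul_zero, sub_zero] at hd
  rcases mul_self_eq_one_iff.mp hd with e | e
  · left
    apply Subtype.ext
    ext i j
    fin_cases i <;> fin_cases j <;> simp [h01, h10, ← hdd, e]
  · right
    apply Subtype.ext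
    ext i j
    fin_cases i <;> fin_cases j <;> simp [h01, h10, ← hdd, e]

/-- Two anticommuting roots of `-1` have only `±1` as common centraliser. -/
theorem s2_centralizer_pair (h2 : (2 : F) ≠ 0) {i j c : S2} (hi : i * i = -1) (hj : j * j = -1)
    (hij : i * j = -(j * i)) (hci : c * i = i * c) (hcj : c * j = j * c) : c = 1 ∨ c = -1 := by
  apply s2_scalar_pm
  set I := (i : Matrix (Fin 2) (Fin 2) F) with hI
  set J := (j : Matrix (Fin 2) (Fin 2) F) with hJ
  have hns : ¬ H40.IsScalar2 I := fun h => by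
    rcases s2_scalar_pm h with e | e
    · exact (s2_root_ne_pm h2 hi).1 e
    · exact (s2_root_ne_pm h2 hi).2 e
  obtain ⟨a, b, hab⟩ := H40.comm_eq_poly (M := I) (A := (c : Matrix (Fin 2) (Fin 2) F)) hns
    (by simpa using congrArg (fun g : S2 => (g : Matrix (Fin 2) (Fin 2) F)) hci)
  have e1 : ((c : Matrix (Fin 2) (Fin 2) F)) * J = J * c := by
    simpa using congrArg (fun g : S2 => (g : Matrix (Fin 2) (Fin 2) F)) hcj
  have e2 : I * J = -(J * I) := by
    simpa using congrArg (fun g : S2 => (g : Matrix (Fin 2) (Fin 2) F)) hij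
  rw [hab, add_mul, mul_add, Matrix.smul_mul, Matrix.smul_mul, Matrix.mul_smul, Matrix.mul_smul,
    one_mul, mul_one, add_right_inj, e2] at e1
  have e3 : (2 * b) • (J * I) = 0 := by
    rw [two_mul, add_smul]
    nth_rw 1 [← e1]
    rw [smul_neg, neg_add_cancel]
  have hb : b = 0 := by
    rcases smul_eq_zero.mp e3 with h | h
    · exact (mul_eq_zero.mp h).resolve_left h2
    · exfalso
      have hd := congrArg Matrix.det h
      rw [Matrix.det_mul, hI, hJ, i.2, j.2, Matrix.det_zero, mul_one] at hd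
      exact one_ne_zero hd
  rw [hab, hb, zero_smul, add_zero]
  exact ⟨by simp, by simp, by simp⟩

/-- An element fixing two anticommuting roots up to sign lies in any subgroup containing them. -/
theorem s2_sign_centralizer (h2 : (2 : F) ≠ 0) {Q : Subgroup S2} (hneg : (-1 : S2) ∈ Q) {i j c : S2}
    (hiQ : i ∈ Q) (hjQ : j ∈ Q) (hi : i * i = -1) (hj : j * j = -1) (hij : i * j = -(j * i))
    (hci : c * i = i * c ∨ c * i = -(i * c)) (hcj : c * j = j * c ∨ c * j = -(j * c)) : c ∈ Q := by
  have hji : j * i = -(i * j) := by rw [hij, neg_neg]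
  have fin : ∀ r : S2, r ∈ Q → (c * r) * i = i * (c * r) → (c * r) * j = j * (c * r) → c ∈ Q := by
    intro r hr h1 h3
    have hm : c * r ∈ Q := by
      rcases s2_centralizer_pair h2 hi hj hij h1 h3 with e | e
      · exact e ▸ Q.one_mem
      · exact e ▸ hneg
    simpa using Q.mul_mem hm (Q.inv_mem hr)
  rcases hci with hci | hci <;> rcases hcj with hcj | hcj
  · exact fin 1 Q.one_mem (by simpa using hci) (by simpa using hcj)
  · refine fin i hiQ ?_ ?_
    · rw [mul_assoc, ← mul_assoc i c, ← hci, mul_assoc]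
    · rw [mul_assoc, hij, mul_neg, ← mul_assoc, hcj, neg_mul, neg_neg, mul_assoc]
  · refine fin j hjQ ?_ ?_
    · rw [mul_assoc, hji, mul_neg, ← mul_assoc, hci, neg_mul, neg_neg, mul_assoc]
    · rw [mul_assoc, ← mul_assoc j c, ← hcj, mul_assoc]
  · refine fin (i * j) (Q.mul_mem hiQ hjQ) ?_ ?_
    · rw [show c * (i * j) * i = c * i * (j * i) by simp only [mul_assoc], hci, hji]
      simp only [neg_mul, mul_neg, neg_neg, mul_assoc]
    · rw [show c * (i * j) * j = c * (i * (j * j)) by simp only [mul_assoc], hj,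
        show j * (c * (i * j)) = (j * c) * (i * j) by simp only [mul_assoc],
        show j * c = -(c * j) by rw [hcj, neg_neg]]
      rw [neg_mul, mul_assoc c j, ← mul_assoc j i, hji]
      simp [mul_assoc, hj]

/-- Roots of `-1` in `SL₂` are conjugate. -/
theorem s2_root_conj [Fintype F] (hodd : Odd (Fintype.card F)) {x y : S2} (hx : x * x = -1)
    (hy : y * y = -1) : ∃ g : S2, g * x * g⁻¹ = y := by
  have h2 := H67.two_ne_zero_of_odd_card (F := F) hodd
  let J : Matrix (Fin 2) (Fin 2) F := !![0, -1; 1, 0]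
  have key : ∀ z : S2, z * z = -1 → ∃ g : S2,
      (z : Matrix (Fin 2) (Fin 2) F) * g = (g : Matrix (Fin 2) (Fin 2) F) * J := by
    intro z hz
    set M := (z : Matrix (Fin 2) (Fin 2) F) with hM
    obtain ⟨h, hd, he⟩ : ∃ h : Matrix (Fin 2) (Fin 2) F, h.det ≠ 0 ∧ M * h = h * J := by
      by_cases hns : M 1 0 ≠ 0 ∨ M 0 1 ≠ 0
      · obtain ⟨h, he⟩ := gl2_sq_neg_one' (A := Matrix.SpecialLinearGroup.toGL z)
          (s2_val_sq_neg_one hz) hns
        exact ⟨h, gl2_det_ne_zero h, he⟩
      · push Not at hns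
        obtain ⟨hc, hb⟩ := hns
        have e00 := congrFun (congrFun (s2_val_sq_neg_one hz) 0) 0
        have hd : M.det = 1 := z.2
        rw [Matrix.det_fin_two, hc, hb, mul_zero, sub_zero] at hd
        simp [Matrix.mul_apply, Fin.sum_univ_two, ← hM, hc, hb] at e00
        have hdd : M 1 1 = -M 0 0 := by
          linear_combination -(M 0 0) * hd + (M 1 1) * e00
        refine ⟨!![1, M 0 0; 1, -M 0 0], ?_, ?_⟩
        · rw [Matrix.det_fin_two_of]
          intro h0
          have ha : M 0 0 = 0 := by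
            have : (2 : F) * M 0 0 = 0 := by linear_combination -h0
            exact (mul_eq_zero.mp this).resolve_left h2
          rw [ha] at hd
          simp at hd
        · ext i j
          fin_cases i <;> fin_cases j <;>
            simp [J, Matrix.mul_apply, Fin.sum_univ_two, hc, hb, hdd] <;>
            linear_combination e00
    obtain ⟨a, b, hab⟩ := FiniteField.exists_root_sum_quadratic (R := F)
      (f := Polynomial.X ^ 2) (g := Polynomial.X ^ 2 - Polynomial.C (h.det)⁻¹)
      (Polynomial.degree_X_pow 2) (Polynomial.degree_X_pow_sub_C (by norm_num) _)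
      (Nat.odd_iff.mp hodd)
    simp at hab
    refine ⟨⟨h * !![a, -b; b, a], ?_⟩, ?_⟩
    · rw [Matrix.det_mul, Matrix.det_fin_two_of]
      have : a * a - -b * b = h.det⁻¹ := by linear_combination hab
      rw [this, mul_inv_cancel₀ hd]
    · have hJ : J * !![a, -b; b, a] = !![a, -b; b, a] * J := by
        ext i j
        fin_cases i <;> fin_cases j <;> simp [J, Matrix.mul_apply, Fin.sum_univ_two]
      show M * (h * !![a, -b; b, a]) = h * !![a, -b; b, a] * J
      rw [← mul_assoc, he, mul_assoc, hJ, mul_assoc]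
  obtain ⟨g, hg⟩ := key x hx
  obtain ⟨k, hk⟩ := key y hy
  let Js : S2 := ⟨J, by simp [J, Matrix.det_fin_two_of]⟩
  have hg' : x * g = g * Js := Subtype.ext (by simpa using hg)
  have hk' : y * k = k * Js := Subtype.ext (by simpa using hk)
  refine ⟨k * g⁻¹, ?_⟩
  rw [eq_mul_inv_of_mul_eq hg', eq_mul_inv_of_mul_eq hk']
  group

/-- The properties of a Sylow `2`-subgroup of `SL₂(q)` used below. -/
structure RootQ (Q : Subgroup (Matrix.SpecialLinearGroup (Fin 2) F)) : Prop where
  neg_mem : (-1 : Matrix.SpecialLinearGroup (Fin 2) F) ∈ Q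
  gen : Q ≤ Subgroup.closure {x | x ∈ Q ∧ x * x = -1}
  pair : ∃ i ∈ Q, ∃ j ∈ Q, i * i = -1 ∧ j * j = -1 ∧ i * j = -(j * i)
  dicho : (∀ b ∈ Subgroup.normalizer (Q : Set (Matrix.SpecialLinearGroup (Fin 2) F)), ∀ n : ℕ,
      Odd n → b ^ n = 1 → ∀ q ∈ Q, b * q * b⁻¹ = q) ∨
    ∀ q ∈ Q, q = 1 ∨ q = -1 ∨ q * q = -1

theorem quaternion_two_sq : ∀ z : QuaternionGroup 2,
    z = 1 ∨ z = QuaternionGroup.a 2 ∨ z * z = QuaternionGroup.a 2 := by decide

theorem rootQ_of_sylow [Fintype F] (hodd : Odd (Fintype.card F)) (P : Sylow 2 S2) :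
    RootQ (P : Subgroup S2) := by
  classical
  haveI : Fact (Nat.Prime 2) := ⟨Nat.prime_two⟩
  have h2 := H67.two_ne_zero_of_odd_card (F := F) hodd
  obtain ⟨p, hp⟩ := CharP.exists F
  haveI : Fact p.Prime := ⟨CharP.char_is_prime F p⟩
  have hp2 : p ≠ 2 := fun e => h2 (by subst e; exact CharTwo.two_eq_zero)
  obtain ⟨k, hk, ⟨e⟩⟩ := H37.sylow_two_quaternion p hp2 P
  haveI : NeZero (2 ^ k) := ⟨by positivity⟩
  obtain ⟨l, hl⟩ : ∃ l, 2 ^ k = l + l := ⟨2 ^ (k - 1), by
    rw [← two_mul, ← pow_succ', show k - 1 + 1 = k by omega]⟩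
  have hneg : (-1 : S2) ∈ (P : Subgroup S2) :=
    mem_sylow_of_central_involution P (-1) (orderOf_eq_prime (by simp) (s2_neg_one_ne_one h2))
      fun g => by simp
  -- the central involution
  set n' : ZMod (2 * 2 ^ k) := ((2 ^ k : ℕ) : ZMod (2 * 2 ^ k)) with hn'
  have hnn : n' + n' = 0 := by
    rw [hn', ← Nat.cast_add, show 2 ^ k + 2 ^ k = 2 * 2 ^ k by omega, ZMod.natCast_self]
  have hz : e ⟨-1, hneg⟩ = QuaternionGroup.a n' := by
    refine H70.quaternion_involution_eq ?_
    rw [MulEquiv.orderOf_eq, Subgroup.orderOf_mk]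
    exact orderOf_eq_prime (by simp) (s2_neg_one_ne_one h2)
  have hroot : ∀ w : QuaternionGroup (2 ^ k), w * w = QuaternionGroup.a n' →
      (e.symm w : S2) ∈ (P : Subgroup S2) ∧ (e.symm w : S2) * (e.symm w : S2) = -1 := by
    intro w hw
    refine ⟨(e.symm w).2, ?_⟩
    rw [← Subgroup.coe_mul, ← map_mul, hw, ← hz, MulEquiv.symm_apply_apply]
  have hxa : ∀ i, QuaternionGroup.xa i * QuaternionGroup.xa i =
      (QuaternionGroup.a n' : QuaternionGroup (2 ^ k)) := by
    intro i
    rw [QuaternionGroup.xa_mul_xa]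
    congr 1
    rw [hn']
    push_cast
    ring
  have ha : (QuaternionGroup.a (l : ZMod (2 * 2 ^ k)) : QuaternionGroup (2 ^ k)) *
      QuaternionGroup.a (l : ZMod (2 * 2 ^ k)) = QuaternionGroup.a n' := by
    rw [QuaternionGroup.a_mul_a, ← Nat.cast_add, ← hl]
  refine ⟨hneg, ?_, ?_, ?_⟩
  · intro q hq
    obtain ⟨w, hw⟩ := e.symm.surjective ⟨q, hq⟩
    have key : ∀ i, (e.symm (QuaternionGroup.xa i) : S2) ∈
        Subgroup.closure {x | x ∈ (P : Subgroup S2) ∧ x * x = -1} := fun i =>
      Subgroup.subset_closure (hroot _ (hxa i))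
    rw [show q = (e.symm w : S2) by rw [hw]]
    rcases w with i | i
    · have : (QuaternionGroup.a i : QuaternionGroup (2 ^ k)) =
          QuaternionGroup.xa 0 * QuaternionGroup.xa (i - n') := by
        rw [QuaternionGroup.xa_mul_xa]
        congr 1
        rw [hn']
        push_cast
        ring
      rw [this, map_mul, Subgroup.coe_mul]
      exact Subgroup.mul_mem _ (key _) (key _)
    · exact key i
  · obtain ⟨h1, h1'⟩ := hroot _ ha
    obtain ⟨h3, h3'⟩ := hroot _ (hxa 0)
    refine ⟨_, h1, _, h3, h1', h3', ?_⟩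
    have : (QuaternionGroup.a (l : ZMod (2 * 2 ^ k)) : QuaternionGroup (2 ^ k)) * QuaternionGroup.xa 0 =
        QuaternionGroup.a n' * (QuaternionGroup.xa 0 * QuaternionGroup.a (l : ZMod (2 * 2 ^ k))) := by
      rw [QuaternionGroup.a_mul_xa, QuaternionGroup.xa_mul_a, QuaternionGroup.a_mul_xa]
      congr 1
      have hl' : (l : ZMod (2 * 2 ^ k)) + l = n' := by rw [← Nat.cast_add, ← hl]
      linear_combination -hl'
    rw [← Subgroup.coe_mul, ← map_mul, this, map_mul, Subgroup.coe_mul, ← hz,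
      MulEquiv.symm_apply_apply, map_mul, Subgroup.coe_mul]
    simp
  · by_cases hk2 : 2 ≤ k
    · left
      intro b hb n hn hbn q hq
      let b' : Subgroup.normalizer ((P : Subgroup S2) : Set S2) := ⟨b, hb⟩
      set φ := (P : Subgroup S2).normalizerMonoidHom b' with hφ
      have h1 : φ ^ n = 1 := by rw [hφ, ← map_pow, show b' ^ n = 1 from Subtype.ext hbn, map_one]
      obtain ⟨j, hj⟩ := H86.isPGroup_two_mulAut_quaternion k hk2 (MulAut.congr e φ)
      have h3 : φ ^ 2 ^ j = 1 := (MulAut.congr e).injective (by rw [map_pow, hj, map_one])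
      have h4 := pow_gcd_eq_one.2 ⟨h3, h1⟩
      rw [Nat.Coprime.gcd_eq_one ((Nat.coprime_two_left.2 hn).pow_left j), pow_one] at h4
      exact congrArg Subtype.val (DFunLike.congr_fun h4 ⟨q, hq⟩)
    · right
      obtain rfl : k = 1 := by omega
      intro q hq
      have hn2 : n' = 2 := by simp [hn']
      rw [hn2] at hz
      rcases quaternion_two_sq (e ⟨q, hq⟩) with h | h | h
      · exact Or.inl (congrArg Subtype.val (e.injective (h.trans (map_one e).symm)))
      · exact Or.inr (Or.inl (congrArg Subtype.val (e.injective (h.trans hz.symm))))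
      · refine Or.inr (Or.inr ?_)
        rw [← map_mul] at h
        exact congrArg Subtype.val (e.injective (h.trans hz.symm))

/-- Conjugating by `1 + x` turns an odd-order normaliser element of `Q₈` into its inverse modulo `Q`. -/
theorem s2_odd_normalizer_inverted [Fintype F] (hodd : Odd (Fintype.card F)) {Q : Subgroup S2}
    (hQ : RootQ Q) (hsq : ∀ q ∈ Q, q = 1 ∨ q = -1 ∨ q * q = -1)
    {b : S2} (hb : b ∈ Subgroup.normalizer (Q : Set S2)) {n : ℕ} (hn : Odd n) (hbn : b ^ n = 1) :
    b ∈ Q ∨ ∃ x c : S2, x ∈ Q ∧ x * x = -1 ∧ c * b ∈ Q ∧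
      (c : Matrix (Fin 2) (Fin 2) F) = (2 : F)⁻¹ •
        ((1 + (x : Matrix (Fin 2) (Fin 2) F)) * (b : Matrix (Fin 2) (Fin 2) F) *
          (1 - (x : Matrix (Fin 2) (Fin 2) F))) := by
  have h2 := H67.two_ne_zero_of_odd_card (F := F) hodd
  obtain ⟨i, hiQ, j, hjQ, hi, hj, hij⟩ := hQ.pair
  have hroot : ∀ x : S2, x * x = -1 → (b * x * b⁻¹) * (b * x * b⁻¹) = -1 := by
    intro x hx
    rw [show b * x * b⁻¹ * (b * x * b⁻¹) = b * (x * x) * b⁻¹ by group, hx]
    simp
  have hmem : ∀ x ∈ Q, b * x * b⁻¹ ∈ Q := fun x hx => (Subgroup.mem_normalizer_iff.mp hb x).mp hx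
  have hanti : ∀ x ∈ Q, ∀ y ∈ Q, x * x = -1 → y * y = -1 → y ≠ x → y ≠ -x →
      x * y = -(y * x) ∧ (x * y) * (x * y) = -1 := by
    intro x hx y hy hxx hyy hne hne'
    rcases hsq _ (Q.mul_mem hx hy) with e | e | e
    · exact absurd ((eq_inv_of_mul_eq_one_right e).trans (s2_root_inv hxx)) hne'
    · refine absurd ?_ hne
      rw [eq_inv_mul_of_mul_eq e, s2_root_inv hxx]
      simp
    · refine ⟨?_, e⟩
      have h0 : (x * y)⁻¹ = -(x * y) := s2_root_inv e
      have h1 : x * y = -((x * y)⁻¹) := by rw [h0, neg_neg]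
      rw [mul_inv_rev, s2_root_inv hxx, s2_root_inv hyy] at h1
      simpa using h1
  by_cases hfix : ∀ x ∈ Q, x * x = -1 → b * x * b⁻¹ = x ∨ b * x * b⁻¹ = -x
  · left
    have conv : ∀ x ∈ Q, x * x = -1 → b * x = x * b ∨ b * x = -(x * b) := fun x hx hxx =>
      (hfix x hx hxx).imp (fun e => by rwa [mul_inv_eq_iff_eq_mul] at e)
        (fun e => by rw [mul_inv_eq_iff_eq_mul, neg_mul] at e; exact e)
    exact s2_sign_centralizer h2 hQ.neg_mem hiQ hjQ hi hj hij (conv i hiQ hi) (conv j hjQ hj)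
  · right
    push Not at hfix
    obtain ⟨x, hxQ, hxx, hne, hne'⟩ := hfix
    obtain ⟨y, hydef⟩ : ∃ y, y = b * x * b⁻¹ := ⟨_, rfl⟩
    rw [← hydef] at hne hne'
    have hyQ : y ∈ Q := hydef ▸ hmem x hxQ
    have hyy : y * y = -1 := hydef ▸ hroot x hxx
    obtain ⟨hxy, hxyxy⟩ := hanti x hxQ y hyQ hxx hyy hne hne'
    obtain ⟨z, hzdef⟩ : ∃ z, z = b * y * b⁻¹ := ⟨_, rfl⟩
    have hzy : z ≠ y ∧ z ≠ -y := by
      constructor <;> intro e
      · exact hne (mul_left_cancel (mul_right_cancel (show b * y * b⁻¹ = b * x * b⁻¹ from hzdef.symm.trans (e.trans hydef))))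
      · refine hne' (mul_left_cancel (a := b) (mul_right_cancel (b := b⁻¹) ?_))
        rw [mul_neg, neg_mul]
        exact hzdef.symm.trans (e.trans (congrArg Neg.neg hydef))
    have hzx : z ≠ x ∧ z ≠ -x := by
      have key : ∀ s : S2, s = x ∨ s = -x → z = s → False := by
        intro s hs hz
        have hpow : ∀ m : ℕ, b ^ (2 * m) * x * (b ^ (2 * m))⁻¹ = x ∨
            b ^ (2 * m) * x * (b ^ (2 * m))⁻¹ = -x := by
          intro m
          induction m with
          | zero => left; simp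
          | succ m ih =>
            rw [show b ^ (2 * (m + 1)) * x * (b ^ (2 * (m + 1)))⁻¹ =
              b * (b * (b ^ (2 * m) * x * (b ^ (2 * m))⁻¹) * b⁻¹) * b⁻¹ by
                rw [show 2 * (m + 1) = 1 + (1 + 2 * m) by ring, pow_add, pow_add, pow_one]; group]
            rcases ih with e | e <;> rw [e]
            · rw [← hydef, ← hzdef, hz]; exact hs
            · rw [mul_neg, neg_mul, mul_neg, neg_mul, ← hydef, ← hzdef, hz]
              rcases hs with rfl | rfl
              · exact Or.inr rfl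
              · exact Or.inl (neg_neg x)
        obtain ⟨r, rfl⟩ := hn
        have hb2 : b ^ (2 * (r + 1)) = b := by
          rw [show 2 * (r + 1) = 2 * r + 1 + 1 by ring, pow_succ, hbn, one_mul]
        have := hpow (r + 1)
        rw [hb2, ← hydef] at this
        exact this.elim hne hne'
      exact ⟨fun e => key _ (Or.inl rfl) e, fun e => key _ (Or.inr rfl) e⟩
    have hzQ : z ∈ Q := hzdef ▸ hmem y hyQ
    have hzz : z * z = -1 := hzdef ▸ hroot y hyy
    have hz : z = x * y ∨ z = -(x * y) := by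
      obtain ⟨h1, -⟩ := hanti x hxQ z hzQ hxx hzz hzx.1 hzx.2
      obtain ⟨h3, -⟩ := hanti y hyQ z hzQ hyy hzz hzy.1 hzy.2
      have hc1 : (x * y) * z = z * (x * y) := by
        rw [mul_assoc, h3, mul_neg, ← mul_assoc, h1, neg_mul, neg_neg, mul_assoc]
      rcases hsq _ (Q.mul_mem (Q.mul_mem hxQ hyQ) hzQ) with e | e | e
      · right
        rw [eq_inv_of_mul_eq_one_right e, s2_root_inv hxyxy]
      · left
        rw [eq_inv_mul_of_mul_eq e, s2_root_inv hxyxy]
        simp
      · exfalso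
        have e' : x * y * z * (x * y * z) = x * y * (x * y) * (z * z) := by
          rw [mul_assoc (x * y) z, ← mul_assoc z (x * y) z, ← hc1, mul_assoc (x * y) z z,
            ← mul_assoc (x * y) (x * y)]
        rw [e', hxyxy, hzz, neg_mul_neg, one_mul] at e
        exact s2_neg_one_ne_one h2 e.symm
    -- conjugation by `1 + x`
    set X := (x : Matrix (Fin 2) (Fin 2) F) with hX
    set B := (b : Matrix (Fin 2) (Fin 2) F) with hB
    have hXX : X * X = -1 := s2_val_sq_neg_one hxx
    have hPM : (1 + X) * (1 - X) = (2 : F) • (1 : Matrix (Fin 2) (Fin 2) F) := by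
      rw [add_mul, one_mul, mul_sub, mul_one, hXX, two_smul]; abel
    have hMP : (1 - X) * (1 + X) = (2 : F) • (1 : Matrix (Fin 2) (Fin 2) F) := by
      rw [sub_mul, one_mul, mul_add, mul_one, hXX, two_smul]; abel
    have hdet : ((2 : F)⁻¹ • ((1 + X) * B * (1 - X))).det = 1 := by
      rw [Matrix.det_smul, Matrix.det_mul, Matrix.det_mul, hB, b.2, mul_one, ← Matrix.det_mul, hPM,
        Matrix.det_smul, Matrix.det_one, mul_one, Fintype.card_fin, ← mul_pow, inv_mul_cancel₀ h2,
        one_pow]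
    set c : S2 := ⟨_, hdet⟩ with hc
    refine ⟨x, c, hxQ, hxx, ?_, rfl⟩
    -- transport of a relation along `1 + x`
    have trans' : ∀ u v u' v' : S2, b * u = v * b →
        (1 + X) * (u : Matrix (Fin 2) (Fin 2) F) = (u' : Matrix (Fin 2) (Fin 2) F) * (1 + X) →
        (1 + X) * (v : Matrix (Fin 2) (Fin 2) F) = (v' : Matrix (Fin 2) (Fin 2) F) * (1 + X) →
        c * u' = v' * c := by
      intro u v u' v' h hu hv
      have hu2 : (1 - X) * (u' : Matrix (Fin 2) (Fin 2) F) =
          (u : Matrix (Fin 2) (Fin 2) F) * (1 - X) := by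
        have := congrArg (fun M : Matrix (Fin 2) (Fin 2) F => (1 - X) * M * (1 - X)) hu
        simp only [← mul_assoc, hMP] at this
        simp only [mul_assoc, hPM] at this
        simp only [Matrix.smul_mul, Matrix.mul_smul, one_mul, mul_one] at this
        exact (smul_right_injective _ h2 this).symm
      have h' : B * (u : Matrix (Fin 2) (Fin 2) F) = (v : Matrix (Fin 2) (Fin 2) F) * B := by
        simpa [hB] using congrArg (fun g : S2 => (g : Matrix (Fin 2) (Fin 2) F)) h
      apply Subtype.ext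
      show ((2 : F)⁻¹ • ((1 + X) * B * (1 - X))) * (u' : Matrix (Fin 2) (Fin 2) F) =
        (v' : Matrix (Fin 2) (Fin 2) F) * ((2 : F)⁻¹ • ((1 + X) * B * (1 - X)))
      rw [Matrix.smul_mul, Matrix.mul_smul]
      congr 1
      rw [mul_assoc, hu2, ← mul_assoc, mul_assoc (1 + X), h', ← mul_assoc, hv]
      simp only [mul_assoc]
    have hy' : (1 + X) * (y : Matrix (Fin 2) (Fin 2) F) =
        ((x * y : S2) : Matrix (Fin 2) (Fin 2) F) * (1 + X) := by
      have e : X * (y : Matrix (Fin 2) (Fin 2) F) = -((y : Matrix (Fin 2) (Fin 2) F) * X) := by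
        simpa [hX] using congrArg (fun g : S2 => (g : Matrix (Fin 2) (Fin 2) F)) hxy
      rw [Matrix.SpecialLinearGroup.coe_mul, ← hX, add_mul, one_mul, mul_add, mul_one, mul_assoc X,
        show (y : Matrix (Fin 2) (Fin 2) F) * X = -(X * (y : Matrix (Fin 2) (Fin 2) F)) by
          rw [e, neg_neg], mul_neg, ← mul_assoc, hXX]
      simp only [neg_mul, one_mul, neg_neg]
      abel
    have hxy' : (1 + X) * ((x * y : S2) : Matrix (Fin 2) (Fin 2) F) =
        ((-y : S2) : Matrix (Fin 2) (Fin 2) F) * (1 + X) := by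
      have e : X * (y : Matrix (Fin 2) (Fin 2) F) = -((y : Matrix (Fin 2) (Fin 2) F) * X) := by
        simpa [hX] using congrArg (fun g : S2 => (g : Matrix (Fin 2) (Fin 2) F)) hxy
      rw [Matrix.SpecialLinearGroup.coe_mul, Matrix.SpecialLinearGroup.coe_neg, ← hX, add_mul,
        one_mul, ← mul_assoc, hXX, neg_mul, one_mul, neg_mul, mul_add, mul_one, e]
      abel
    have hx' : (1 + X) * (x : Matrix (Fin 2) (Fin 2) F) =
        ((x : S2) : Matrix (Fin 2) (Fin 2) F) * (1 + X) := by
      rw [← hX, add_mul, mul_add, one_mul, mul_one]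
    have bx : b * x = y * b := by rw [hydef]; group
    have bz : b * y = z * b := by rw [hzdef]; group
    have bxy : b * (x * y) = y * z * b := by rw [← mul_assoc, bx, mul_assoc, bz, mul_assoc]
    -- `c` undoes `b`
    refine s2_sign_centralizer h2 hQ.neg_mem hxQ hyQ hxx hyy hxy ?_ ?_
    · -- `cb` fixes `x` up to sign
      have cy : c * (x * y) = -y * c ∨ c * (x * y) = y * c := by
        rcases hz with e | e
        · exact Or.inl (trans' y (x * y) (x * y) (-y) (e ▸ bz) hy' hxy')
        · refine Or.inr (trans' y (-(x * y)) (x * y) y (e ▸ bz) hy' ?_)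
          rw [Matrix.SpecialLinearGroup.coe_neg, mul_neg, hxy', Matrix.SpecialLinearGroup.coe_neg,
            neg_mul, neg_neg]
      have cy2 : c * y = x * c ∨ c * y = -(x * c) := by
        have hyz : y * z = x ∨ y * z = -x := by
          have e5 : y * (x * y) = x := by
            rw [hxy, mul_neg, ← mul_assoc, hyy]
            simp
          rcases hz with e | e
          · exact Or.inl (by rw [e, e5])
          · exact Or.inr (by rw [e, mul_neg, e5])
        rcases hyz with e | e
        · refine Or.inr ?_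
          have := trans' (x * y) x (-y) x (e ▸ bxy) hxy' hx'
          rw [mul_neg] at this
          rw [← this, neg_neg]
        · refine Or.inl ?_
          have := trans' (x * y) (-x) (-y) (-x) (e ▸ bxy) hxy'
            (by rw [Matrix.SpecialLinearGroup.coe_neg, mul_neg, hx', neg_mul])
          simpa using this
      rw [mul_assoc c, bx, ← mul_assoc]
      rcases cy2 with e | e
      · left; rw [e, mul_assoc]
      · right; rw [e, neg_mul, mul_assoc]
    · rw [mul_assoc c, bz, ← mul_assoc]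
      have cy : c * (x * y) = -y * c ∨ c * (x * y) = y * c := by
        rcases hz with e | e
        · exact Or.inl (trans' y (x * y) (x * y) (-y) (e ▸ bz) hy' hxy')
        · refine Or.inr (trans' y (-(x * y)) (x * y) y (e ▸ bz) hy' ?_)
          rw [Matrix.SpecialLinearGroup.coe_neg, mul_neg, hxy', Matrix.SpecialLinearGroup.coe_neg,
            neg_mul, neg_neg]
      rcases hz with e | e <;> rw [e] <;> rcases cy with e' | e'
      · right; rw [e', neg_mul, neg_mul, mul_assoc]
      · left; rw [e', mul_assoc]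
      · left; rw [mul_neg, e']; simp [mul_assoc]
      · right; rw [mul_neg, e']; simp [mul_assoc]

end

end H89
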