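import Cfsg.Agent.H48.Form
import Cfsg.Agent.H89.TwoRootSylow

/-!
`Sp₄` as `2 × 2` matrices of `2 × 2` blocks along two orthogonal hyperbolic planes.
-/

set_option autoImplicit false

namespace H89.Sp4

section

variable {F : Type*} [Field F]

local notation "M2" => Matrix (Fin 2) (Fin 2) F
local notation "S2" => Matrix.SpecialLinearGroup (Fin 2) F
local notation "Sp" => Matrix.symplecticGroup (Fin 2) F

/-- The matrix with plane blocks `A B C D`. -/
def blk (A B C D : M2) : Matrix (Fin 2 ⊕ Fin 2) (Fin 2 ⊕ Fin 2) F :=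
  Matrix.fromBlocks !![A 0 0, B 0 0; C 0 0, D 0 0] !![A 0 1, B 0 1; C 0 1, D 0 1]
    !![A 1 0, B 1 0; C 1 0, D 1 0] !![A 1 1, B 1 1; C 1 1, D 1 1]

theorem blk_mul (A B C D A' B' C' D' : M2) :
    blk A B C D * blk A' B' C' D' =
      blk (A * A' + B * C') (A * B' + B * D') (C * A' + D * C') (C * B' + D * D') := by
  rw [blk, blk, blk, Matrix.fromBlocks_multiply]
  congr 1 <;> ext i j <;> fin_cases i <;> fin_cases j <;>
    simp [Matrix.mul_apply, Fin.sum_univ_two] <;> ring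

theorem blk_one : blk (1 : M2) 0 0 1 = 1 := by
  rw [← Matrix.fromBlocks_one, blk]
  congr 1 <;> ext i j <;> fin_cases i <;> fin_cases j <;> simp

theorem blk_neg (A B C D : M2) : -blk A B C D = blk (-A) (-B) (-C) (-D) := by
  rw [blk, blk, Matrix.fromBlocks_neg]
  congr 1 <;> ext i j <;> fin_cases i <;> fin_cases j <;> simp

theorem blk_transpose (A B C D : M2) :
    (blk A B C D).transpose = blk A.transpose C.transpose B.transpose D.transpose := by
  rw [blk, blk, Matrix.fromBlocks_transpose]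
  congr 1 <;> ext i j <;> fin_cases i <;> fin_cases j <;> simp

theorem blk_inj {A B C D A' B' C' D' : M2} (h : blk A B C D = blk A' B' C' D') :
    A = A' ∧ B = B' ∧ C = C' ∧ D = D' := by
  rw [blk, blk, Matrix.fromBlocks_inj] at h
  obtain ⟨h1, h2, h3, h4⟩ := h
  refine ⟨?_, ?_, ?_, ?_⟩ <;> ext i j <;> fin_cases i <;> fin_cases j <;>
    first
      | simpa using congrFun (congrFun h1 0) 0 | simpa using congrFun (congrFun h2 0) 0
      | simpa using congrFun (congrFun h3 0) 0 | simpa using congrFun (congrFun h4 0) 0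
      | simpa using congrFun (congrFun h1 0) 1 | simpa using congrFun (congrFun h2 0) 1
      | simpa using congrFun (congrFun h3 0) 1 | simpa using congrFun (congrFun h4 0) 1
      | simpa using congrFun (congrFun h1 1) 0 | simpa using congrFun (congrFun h2 1) 0
      | simpa using congrFun (congrFun h3 1) 0 | simpa using congrFun (congrFun h4 1) 0
      | simpa using congrFun (congrFun h1 1) 1 | simpa using congrFun (congrFun h2 1) 1
      | simpa using congrFun (congrFun h3 1) 1 | simpa using congrFun (congrFun h4 1) 1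

theorem exists_blk (M : Matrix (Fin 2 ⊕ Fin 2) (Fin 2 ⊕ Fin 2) F) :
    ∃ A B C D : M2, M = blk A B C D := by
  refine ⟨!![M (.inl 0) (.inl 0), M (.inl 0) (.inr 0); M (.inr 0) (.inl 0), M (.inr 0) (.inr 0)],
    !![M (.inl 0) (.inl 1), M (.inl 0) (.inr 1); M (.inr 0) (.inl 1), M (.inr 0) (.inr 1)],
    !![M (.inl 1) (.inl 0), M (.inl 1) (.inr 0); M (.inr 1) (.inl 0), M (.inr 1) (.inr 0)],
    !![M (.inl 1) (.inl 1), M (.inl 1) (.inr 1); M (.inr 1) (.inl 1), M (.inr 1) (.inr 1)], ?_⟩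
  rw [blk]
  ext (i | i) (j | j) <;> fin_cases i <;> fin_cases j <;> simp

/-- The plane form. -/
def w : M2 := !![0, -1; 1, 0]

theorem J_eq_blk : Matrix.J (Fin 2) F = blk (w (F := F)) 0 0 w := by
  rw [Matrix.J, blk]
  congr 1 <;> ext i j <;> fin_cases i <;> fin_cases j <;> simp [w]

theorem w_conj (A : M2) : A * w * A.transpose = A.det • (w : M2) := by
  ext i j
  fin_cases i <;> fin_cases j <;>
    simp [w, Matrix.mul_apply, Fin.sum_univ_two, Matrix.det_fin_two] <;> ring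

theorem blk_mem_iff (A B C D : M2) :
    blk A B C D ∈ Sp ↔ (A.det + B.det) • (w : M2) = w ∧
      A * w * C.transpose + B * w * D.transpose = 0 ∧
      C * w * A.transpose + D * w * B.transpose = 0 ∧ (C.det + D.det) • (w : M2) = w := by
  rw [SymplecticGroup.mem_iff, J_eq_blk, blk_transpose, blk_mul, blk_mul]
  simp only [mul_zero, add_zero, zero_add, w_conj, ← add_smul]
  constructor
  · intro h; exact blk_inj h
  · rintro ⟨h1, h2, h3, h4⟩; rw [h1, h2, h3, h4]

theorem diag_mem {A D : M2} (hA : A.det = 1) (hD : D.det = 1) : blk A 0 0 D ∈ Sp := by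
  rw [blk_mem_iff]
  simp [hA, hD, Matrix.det_fin_two]

/-- The embedding of `SL₂ × SL₂`. -/
def dp : S2 × S2 →* Sp where
  toFun p := ⟨blk (p.1 : M2) 0 0 (p.2 : M2), diag_mem p.1.2 p.2.2⟩
  map_one' := Subtype.ext (by
    show blk ((1 : S2) : M2) 0 0 ((1 : S2) : M2) = 1
    rw [Matrix.SpecialLinearGroup.coe_one, blk_one])
  map_mul' p r := Subtype.ext (by
    show blk ((p.1 * r.1 : S2) : M2) 0 0 ((p.2 * r.2 : S2) : M2) = blk _ 0 0 _ * blk _ 0 0 _
    rw [blk_mul]
    simp)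

theorem dp_val (p : S2 × S2) :
    ((dp p : Sp) : Matrix (Fin 2 ⊕ Fin 2) (Fin 2 ⊕ Fin 2) F) = blk (p.1 : M2) 0 0 (p.2 : M2) := rfl

theorem dp_injective : Function.Injective (dp (F := F)) := by
  intro p r h
  obtain ⟨h1, -, -, h4⟩ := blk_inj (congrArg Subtype.val h)
  exact Prod.ext (Subtype.ext h1) (Subtype.ext h4)

/-- The interchange of the two planes. -/
def sw : Sp := ⟨blk 0 1 1 0, by rw [blk_mem_iff]; simp [Matrix.det_fin_two]⟩

theorem sw_sq : (sw : Sp) * sw = 1 := Subtype.ext (by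
  show blk (0 : M2) 1 1 0 * blk 0 1 1 0 = 1
  rw [blk_mul]; simp [blk_one])

theorem sw_inv : (sw : Sp)⁻¹ = sw := inv_eq_of_mul_eq_one_right sw_sq

theorem sw_dp (a b : S2) : sw * dp (a, b) = dp (b, a) * sw := Subtype.ext (by
  show blk (0 : M2) 1 1 0 * blk _ 0 0 _ = blk _ 0 0 _ * blk 0 1 1 0
  rw [blk_mul, blk_mul]; simp)

theorem dp_mul_sw_val (a b : S2) :
    ((dp (a, b) * sw : Sp) : Matrix (Fin 2 ⊕ Fin 2) (Fin 2 ⊕ Fin 2) F) =
      blk 0 (a : M2) (b : M2) 0 := by
  show blk (a : M2) 0 0 (b : M2) * blk 0 1 1 0 = _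
  rw [blk_mul]; simp

theorem dp_ne_dp_sw (a b c d : S2) : dp (a, b) ≠ dp (c, d) * sw := by
  intro h
  have h' := congrArg Subtype.val h
  rw [dp_mul_sw_val, dp_val] at h'
  have h1 := congrArg Matrix.det (blk_inj h').1
  rw [a.2, Matrix.det_zero] at h1
  exact one_ne_zero h1

theorem dp_sw_inj {a b c d : S2} (h : dp (a, b) * sw = dp (c, d) * sw) : a = c ∧ b = d := by
  have := dp_injective (mul_right_cancel h)
  exact ⟨congrArg Prod.fst this, congrArg Prod.snd this⟩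

/-- The element `(D D; D -D)`. -/
def mix (D : M2) (hD : D.det * 2 = 1) : Sp := ⟨blk D D D (-D), by
  have h : (-D).det = D.det := by
    rw [Matrix.det_neg, Fintype.card_fin]
    norm_num
  rw [blk_mem_iff, h, show D.det + D.det = 1 by linear_combination hD]
  simp⟩

theorem mix_mul_z (D : M2) (hD : D.det * 2 = 1) :
    mix D hD * dp (-1, 1) = dp (-1, -1) * sw * mix D hD := Subtype.ext (by
  show blk D D D (-D) * blk ((-1 : S2) : M2) 0 0 ((1 : S2) : M2) =
    blk ((-1 : S2) : M2) 0 0 ((-1 : S2) : M2) * blk 0 1 1 0 * blk D D D (-D)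
  simp only [blk_mul]
  simp)

theorem mix_mul_sw (D : M2) (hD : D.det * 2 = 1) :
    mix D hD * sw = dp (1, -1) * mix D hD := Subtype.ext (by
  show blk D D D (-D) * blk 0 1 1 0 =
    blk ((1 : S2) : M2) 0 0 ((-1 : S2) : M2) * blk D D D (-D)
  simp only [blk_mul]
  simp)

theorem mix_mul_dp (D : M2) (hD : D.det * 2 = 1) (a b : S2) (h : D * (a : M2) = (b : M2) * D) :
    mix D hD * dp (a, a) = dp (b, b) * mix D hD := Subtype.ext (by
  show blk D D D (-D) * blk (a : M2) 0 0 (a : M2) = blk (b : M2) 0 0 (b : M2) * blk D D D (-D)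
  simp only [blk_mul]
  simp [h])

theorem mix_sq (D : M2) (hD : D.det * 2 = 1) (x : S2) (hx : D * D + D * D = (x : M2)) :
    mix D hD * mix D hD = dp (x, x) := Subtype.ext (by
  show blk D D D (-D) * blk D D D (-D) = blk (x : M2) 0 0 (x : M2)
  simp only [blk_mul]
  simp [hx])

theorem dp_neg_one_val :
    ((dp ((-1 : S2), (-1 : S2)) : Sp) : Matrix (Fin 2 ⊕ Fin 2) (Fin 2 ⊕ Fin 2) F) = -1 := by
  rw [dp_val, ← blk_one, blk_neg]
  simp

theorem neg_central (g : Sp) : g * dp (-1, -1) = dp (-1, -1) * g := Subtype.ext (by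
  show (g : Matrix (Fin 2 ⊕ Fin 2) (Fin 2 ⊕ Fin 2) F) * _ = _ * _
  rw [dp_neg_one_val]
  simp)

/-- The centre of `Sp₄`. -/
theorem mem_center {g : Sp} : g ∈ Subgroup.center Sp ↔ g = 1 ∨ g = dp (-1, -1) := by
  constructor
  · intro hg
    obtain ⟨a, ha, hv⟩ := (H48.mem_center_iff g).mp hg
    have hM : (g : Matrix (Fin 2 ⊕ Fin 2) (Fin 2 ⊕ Fin 2) F) = a • 1 := by
      refine Matrix.ext_iff_mulVec.2 fun v => ?_
      rw [Matrix.smul_mulVec, Matrix.one_mulVec]
      exact hv v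
    rcases mul_self_eq_one_iff.mp ha with rfl | rfl
    · exact Or.inl (Subtype.ext (by rw [hM, one_smul]; rfl))
    · exact Or.inr (Subtype.ext (by rw [hM, dp_neg_one_val, neg_smul, one_smul]))
  · rintro (rfl | rfl)
    · exact Subgroup.one_mem _
    · exact Subgroup.mem_center_iff.mpr neg_central

/-- Elements commuting with `z` up to sign permute the planes. -/
theorem cases_of_comm_z (h2 : (2 : F) ≠ 0) {g : Sp}
    (h : g * dp (-1, 1) = dp (-1, 1) * g ∨ g * dp (-1, 1) = dp (-1, 1) * g * dp (-1, -1)) :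
    ∃ a b : S2, g = dp (a, b) ∨ g = dp (a, b) * sw := by
  obtain ⟨A, B, C, D, hg⟩ := exists_blk (g : Matrix (Fin 2 ⊕ Fin 2) (Fin 2 ⊕ Fin 2) F)
  have hmem := g.2
  rw [hg] at hmem
  have hmem' := (blk_mem_iff A B C D).mp hmem
  have half : ∀ {M : M2}, M = -M → M = 0 := fun {M} hM => by
    have : (2 : F) • M = 0 := by rw [two_smul]; nth_rw 1 [hM]; exact neg_add_cancel M
    exact (smul_eq_zero.mp this).resolve_left h2
  have hw1 : ∀ {c : F}, c • (w : M2) = w → c = 1 := fun {c} hc => by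
    simpa [w] using congrFun (congrFun hc 1) 0
  rcases h with h | h
  · have h' := congrArg Subtype.val h
    change (g : Matrix (Fin 2 ⊕ Fin 2) (Fin 2 ⊕ Fin 2) F) * blk ((-1 : S2) : M2) 0 0 ((1 : S2) : M2)
      = blk ((-1 : S2) : M2) 0 0 ((1 : S2) : M2) * (g : Matrix (Fin 2 ⊕ Fin 2) (Fin 2 ⊕ Fin 2) F) at h'
    rw [hg, blk_mul, blk_mul] at h'
    simp at h'
    obtain ⟨-, hB, hC, -⟩ := blk_inj h'
    obtain rfl : B = 0 := half hB
    obtain rfl : C = 0 := half hC.symm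
    simp [Matrix.det_zero] at hmem'
    refine ⟨⟨A, hw1 hmem'.1⟩, ⟨D, hw1 hmem'.2⟩, Or.inl (Subtype.ext hg)⟩
  · have h' := congrArg Subtype.val h
    change (g : Matrix (Fin 2 ⊕ Fin 2) (Fin 2 ⊕ Fin 2) F) * blk ((-1 : S2) : M2) 0 0 ((1 : S2) : M2)
      = blk ((-1 : S2) : M2) 0 0 ((1 : S2) : M2) * (g : Matrix (Fin 2 ⊕ Fin 2) (Fin 2 ⊕ Fin 2) F) *
        blk ((-1 : S2) : M2) 0 0 ((-1 : S2) : M2) at h'
    rw [hg, blk_mul, blk_mul, blk_mul] at h'
    simp at h'
    obtain ⟨hA, -, -, hD⟩ := blk_inj h'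
    obtain rfl : A = 0 := half hA.symm
    obtain rfl : D = 0 := half hD
    simp [Matrix.det_zero] at hmem'
    refine ⟨⟨B, hw1 hmem'.1⟩, ⟨C, hw1 hmem'.2⟩, Or.inr (Subtype.ext ?_)⟩
    exact hg.trans (dp_mul_sw_val ⟨B, hw1 hmem'.1⟩ ⟨C, hw1 hmem'.2⟩).symm

end

end H89.Sp4
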