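import Cfsg.Agent.H48.Count
import Cfsg.Agent.H40.GL2Count
import Cfsg.Agent.H73.KSeq
import Cfsg.Agent.H89.Sp4Blocks
import Cfsg.Agent.H89.TwoAutCrit

/-!
The `2`-fusion system of `PSp₄(q)`, `q` odd, is simple.
-/

set_option autoImplicit false

namespace H89.Sp4

section

variable {F : Type*} [Field F] {Q : Subgroup (Matrix.SpecialLinearGroup (Fin 2) F)}

local notation "S2" => Matrix.SpecialLinearGroup (Fin 2) F
local notation "M2" => Matrix (Fin 2) (Fin 2) F
local notation "Sp" => Matrix.symplecticGroup (Fin 2) F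
local notation "G" => Cfsg.PSp 2 F

/-- The projection. -/
def pi : Sp →* G := QuotientGroup.mk' _

theorem pi_surjective : Function.Surjective (pi (F := F)) := QuotientGroup.mk'_surjective _

theorem pi_eq_iff {g h : Sp} : pi g = pi h ↔ h = g ∨ h = g * dp (-1, -1) := by
  rw [pi, QuotientGroup.mk'_apply, QuotientGroup.mk'_apply, QuotientGroup.eq, mem_center,
    inv_mul_eq_iff_eq_mul, inv_mul_eq_iff_eq_mul, mul_one]

theorem pi_eq_one {g : Sp} : pi g = 1 ↔ g = 1 ∨ g = dp (-1, -1) := by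
  rw [pi, QuotientGroup.mk'_apply, QuotientGroup.eq_one_iff, mem_center]

theorem dp_mul (a b c d : S2) : dp (a, b) * dp (c, d) = dp (a * c, b * d) := by
  rw [← map_mul, Prod.mk_mul_mk]

theorem dp_inv (a b : S2) : (dp (a, b))⁻¹ = dp (a⁻¹, b⁻¹) := by
  rw [← map_inv, Prod.inv_mk]

theorem dp_one : dp ((1 : S2), (1 : S2)) = 1 := map_one dp

theorem dp_conj (a b c d : S2) :
    dp (a, b) * dp (c, d) * (dp (a, b))⁻¹ = dp (a * c * a⁻¹, b * d * b⁻¹) := by
  rw [dp_inv, dp_mul, dp_mul]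

theorem dp_conj_sw (a b : S2) :
    dp (a, b) * sw * (dp (a, b))⁻¹ = dp (a * b⁻¹, b * a⁻¹) * sw := by
  rw [dp_inv, mul_assoc, sw_dp, ← mul_assoc, dp_mul]

theorem sw_conj (a b : S2) : sw * dp (a, b) * sw⁻¹ = dp (b, a) := by
  rw [sw_dp, mul_inv_cancel_right]

/-- The wreathed product of `Q` with the interchange. -/
def wQ (Q : Subgroup S2) : Subgroup Sp where
  carrier := {g | ∃ a ∈ Q, ∃ b ∈ Q, g = dp (a, b) ∨ g = dp (a, b) * sw}
  one_mem' := ⟨1, Q.one_mem, 1, Q.one_mem, Or.inl dp_one.symm⟩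
  mul_mem' := by
    rintro g h ⟨a, ha, b, hb, hg⟩ ⟨c, hc, d, hd, hh⟩
    rcases hg with rfl | rfl <;> rcases hh with rfl | rfl
    · exact ⟨a * c, Q.mul_mem ha hc, b * d, Q.mul_mem hb hd, Or.inl (dp_mul a b c d)⟩
    · exact ⟨a * c, Q.mul_mem ha hc, b * d, Q.mul_mem hb hd,
        Or.inr (by rw [← mul_assoc, dp_mul])⟩
    · exact ⟨a * d, Q.mul_mem ha hd, b * c, Q.mul_mem hb hc,
        Or.inr (by rw [mul_assoc, sw_dp, ← mul_assoc, dp_mul])⟩
    · exact ⟨a * d, Q.mul_mem ha hd, b * c, Q.mul_mem hb hc, Or.inl (by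
        rw [mul_assoc, ← mul_assoc sw, sw_dp, mul_assoc (dp (d, c)), sw_sq, mul_one, dp_mul])⟩
  inv_mem' := by
    rintro g ⟨a, ha, b, hb, hg⟩
    rcases hg with rfl | rfl
    · exact ⟨a⁻¹, Q.inv_mem ha, b⁻¹, Q.inv_mem hb, Or.inl (dp_inv a b)⟩
    · exact ⟨b⁻¹, Q.inv_mem hb, a⁻¹, Q.inv_mem ha,
        Or.inr (by rw [mul_inv_rev, dp_inv, sw_inv, sw_dp])⟩

theorem dp_mem_wQ {a b : S2} : dp (a, b) ∈ wQ Q ↔ a ∈ Q ∧ b ∈ Q := by
  constructor
  · rintro ⟨c, hc, d, hd, h | h⟩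
    · have := dp_injective h
      rw [Prod.mk.injEq] at this
      exact ⟨this.1 ▸ hc, this.2 ▸ hd⟩
    · exact absurd h (dp_ne_dp_sw _ _ _ _)
  · rintro ⟨ha, hb⟩
    exact ⟨a, ha, b, hb, Or.inl rfl⟩

theorem dp_sw_mem_wQ {a b : S2} : dp (a, b) * sw ∈ wQ Q ↔ a ∈ Q ∧ b ∈ Q := by
  constructor
  · rintro ⟨c, hc, d, hd, h | h⟩
    · exact absurd h.symm (dp_ne_dp_sw _ _ _ _)
    · obtain ⟨rfl, rfl⟩ := dp_sw_inj h
      exact ⟨hc, hd⟩
  · rintro ⟨ha, hb⟩
    exact ⟨a, ha, b, hb, Or.inr rfl⟩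

theorem sw_mem_wQ : sw ∈ wQ Q := ⟨1, Q.one_mem, 1, Q.one_mem, Or.inr (by rw [dp_one, one_mul])⟩

/-- The elements of `Q` along the diagonal with signs, and the interchange. -/
def diagR (Q : Subgroup S2) : Subgroup Sp :=
  Subgroup.closure ({g | ∃ q ∈ Q, g = dp (q, q)} ∪ {dp (1, -1), sw})

theorem dp_diag_mem_diagR {q : S2} (h : q ∈ Q) : dp (q, q) ∈ diagR Q :=
  Subgroup.subset_closure (Or.inl ⟨q, h, rfl⟩)

theorem dp_sign_mem_diagR : dp (1, -1) ∈ diagR Q := Subgroup.subset_closure (Or.inr (Or.inl rfl))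

theorem sw_mem_diagR : sw ∈ diagR Q := Subgroup.subset_closure (Or.inr (Or.inr rfl))

theorem dp_neg_mem_diagR {q : S2} (h : q ∈ Q) : dp (q, -q) ∈ diagR Q := by
  have := (diagR Q).mul_mem (dp_diag_mem_diagR h) dp_sign_mem_diagR
  rwa [dp_mul, mul_one, mul_neg, mul_one] at this

theorem diagR_le (hQ : RootQ Q) : diagR Q ≤ wQ Q := by
  rw [diagR, Subgroup.closure_le]
  rintro g (⟨q, hq, rfl⟩ | rfl | rfl)
  · exact dp_mem_wQ.mpr ⟨hq, hq⟩
  · exact dp_mem_wQ.mpr ⟨Q.one_mem, hQ.neg_mem⟩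
  · exact sw_mem_wQ

variable [Fintype F]

theorem isPGroup_wQ (hQp : IsPGroup 2 Q) : IsPGroup 2 (wQ Q) := by
  rintro ⟨g, a, ha, b, hb, hg⟩
  have key : ∀ c ∈ Q, ∀ d ∈ Q, ∃ k, (dp (c, d) : Sp) ^ 2 ^ k = 1 := by
    intro c hc d hd
    obtain ⟨k, hk⟩ := hQp ⟨c, hc⟩
    obtain ⟨l, hl⟩ := hQp ⟨d, hd⟩
    have hk' : c ^ 2 ^ k = 1 := congrArg Subtype.val hk
    have hl' : d ^ 2 ^ l = 1 := congrArg Subtype.val hl
    refine ⟨k + l, ?_⟩
    rw [← map_pow, Prod.pow_mk, pow_add, pow_mul, hk', one_pow, mul_comm, pow_mul, hl', one_pow]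
    exact dp_one
  rcases hg with rfl | rfl
  · obtain ⟨k, hk⟩ := key a ha b hb
    exact ⟨k, Subtype.ext hk⟩
  · obtain ⟨k, hk⟩ := key (a * b) (Q.mul_mem ha hb) (b * a) (Q.mul_mem hb ha)
    refine ⟨k + 1, Subtype.ext ?_⟩
    show (dp (a, b) * sw) ^ 2 ^ (k + 1) = 1
    rw [pow_succ', pow_mul, pow_two, mul_assoc, ← mul_assoc sw, sw_dp, mul_assoc (dp (b, a)),
      sw_sq, mul_one, dp_mul]
    exact hk

theorem card_wQ : Nat.card (wQ Q) = 2 * (Nat.card Q * Nat.card Q) := by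
  classical
  let f : Fin 2 × (Q × Q) → wQ Q := fun p =>
    if p.1 = 0 then ⟨dp ((p.2.1 : S2), (p.2.2 : S2)), dp_mem_wQ.mpr ⟨p.2.1.2, p.2.2.2⟩⟩
    else ⟨dp ((p.2.1 : S2), (p.2.2 : S2)) * sw, dp_sw_mem_wQ.mpr ⟨p.2.1.2, p.2.2.2⟩⟩
  have hf : Function.Bijective f := by
    constructor
    · rintro ⟨i, ⟨a, ha⟩, ⟨b, hb⟩⟩ ⟨j, ⟨c, hc⟩, ⟨d, hd⟩⟩ h
      have h' := congrArg Subtype.val h
      simp only [f] at h'
      fin_cases i <;> fin_cases j <;> simp at h'
      · have := dp_injective h'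
        rw [Prod.mk.injEq] at this
        obtain ⟨rfl, rfl⟩ := this
        rfl
      · exact absurd h' (dp_ne_dp_sw _ _ _ _)
      · exact absurd h'.symm (dp_ne_dp_sw _ _ _ _)
      · have := dp_injective h'
        rw [Prod.mk.injEq] at this
        obtain ⟨rfl, rfl⟩ := this
        rfl
    · rintro ⟨g, a, ha, b, hb, hg⟩
      rcases hg with rfl | rfl
      · exact ⟨(0, ⟨a, ha⟩, ⟨b, hb⟩), Subtype.ext (by simp [f])⟩
      · exact ⟨(1, ⟨a, ha⟩, ⟨b, hb⟩), Subtype.ext (by simp [f])⟩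
  rw [← Nat.card_congr (Equiv.ofBijective f hf), Nat.card_prod, Nat.card_prod,
    Nat.card_eq_fintype_card, Fintype.card_fin]

theorem odd_index_wQ (hodd : Odd (Fintype.card F)) (P : Sylow 2 S2) :
    Odd (wQ (P : Subgroup S2)).index := by
  haveI : Fact (Nat.Prime 2) := ⟨Nat.prime_two⟩
  set q := Fintype.card F with hq
  have h1 := Subgroup.card_mul_index (P : Subgroup S2)
  rw [H40.card_SL2, ← hq] at h1
  have h2 := Subgroup.card_mul_index (wQ (P : Subgroup S2))
  rw [card_wQ, H48.card_sp, Fintype.card_fin, Finset.prod_range_succ, Finset.prod_range_one,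
    ← hq] at h2
  have hi : Odd (P : Subgroup S2).index :=
    Nat.not_even_iff_odd.mp fun he => P.not_dvd_index he.two_dvd
  obtain ⟨s, hs⟩ := hodd
  set c := Nat.card (P : Subgroup S2)
  set i := (P : Subgroup S2).index
  set I := (wQ (P : Subgroup S2)).index
  have hc : 0 < c := Nat.card_pos
  obtain ⟨t, ht⟩ : ∃ t, q ^ 2 = t + 1 := ⟨q ^ 2 - 1, by
    have : 0 < q ^ 2 := pow_pos Fintype.card_pos 2
    omega⟩
  rw [ht, Nat.add_sub_cancel] at h1
  rw [show 2 * (0 + 1) = 2 from rfl, show 2 * (1 + 1) = 4 from rfl, ht,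
    show q ^ 4 = t * (t + 2) + 1 by rw [show q ^ 4 = (q ^ 2) ^ 2 by ring, ht]; ring,
    Nat.add_sub_cancel, Nat.add_sub_cancel, show q ^ 2 ^ 2 = (q ^ 2) ^ 2 by ring, ht] at h2
  have key : 2 * I = (t + 1) * (i * i) * (t + 2) := by
    refine Nat.eq_of_mul_eq_mul_left (Nat.mul_pos hc hc) ?_
    calc c * c * (2 * I) = 2 * (c * c) * I := by ring
      _ = (t + 1) ^ 2 * (t * (t * (t + 2))) := h2
      _ = (t + 1) * ((q * t) * (q * t)) * (t + 2) := by
          rw [show (q * t) * (q * t) = q ^ 2 * (t * t) by ring, ht]; ring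
      _ = c * c * ((t + 1) * (i * i) * (t + 2)) := by rw [← h1]; ring
  have e : t + 2 = 2 * (2 * (s * s + s) + 1) := by
    rw [show t + 2 = q ^ 2 + 1 by omega, hs]; ring
  have h3 : I = (t + 1) * (i * i) * (2 * (s * s + s) + 1) := by
    refine Nat.eq_of_mul_eq_mul_left two_pos ?_
    rw [key, e]; ring
  rw [h3, ← ht]
  exact ((Odd.pow ⟨s, hs⟩).mul (hi.mul hi)).mul (odd_two_mul_add_one _)

omit [Fintype F] in
theorem mem_map_wQ (hQ : RootQ Q) {g : Sp} (h : pi g ∈ (wQ Q).map pi) : g ∈ wQ Q := by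
  obtain ⟨x, hx, he⟩ := h
  rcases pi_eq_iff.mp he with rfl | rfl
  · exact hx
  · exact (wQ Q).mul_mem hx (dp_mem_wQ.mpr ⟨hQ.neg_mem, hQ.neg_mem⟩)

/-- No proper nontrivial subgroup of the Sylow subgroup is strongly closed. -/
theorem noClosed (hodd : Odd (Fintype.card F)) (hQp : IsPGroup 2 Q) (hQ : RootQ Q) :
    H87.NoClosedSubgroup ((wQ Q).map pi) := by
  haveI : Fact (Nat.Prime 2) := ⟨Nat.prime_two⟩
  have h2 := H67.two_ne_zero_of_odd_card (F := F) hodd
  intro T hT hcl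
  by_cases hT1 : T = ⊥
  · exact Or.inl hT1
  refine Or.inr (le_antisymm hT ?_)
  set T' := T.comap pi with hT'
  have hm1 : dp (-1, -1) ∈ T' := by
    rw [hT', Subgroup.mem_comap, pi_eq_one.mpr (Or.inr rfl)]
    exact T.one_mem
  have cl : ∀ x ∈ T', ∀ g : Sp, g * x * g⁻¹ ∈ wQ Q → g * x * g⁻¹ ∈ T' := by
    intro x hx g hg
    rw [hT', Subgroup.mem_comap, map_mul, map_mul, map_inv]
    refine hcl _ hx _ ?_
    rw [← map_inv, ← map_mul, ← map_mul]
    exact ⟨_, hg, rfl⟩
  obtain ⟨i, hiQ, j, hjQ, hi, hj, hij⟩ := hQ.pair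
  -- the central involution
  have hz : dp (-1, 1) ∈ T' := by
    set S0 := (wQ Q).map pi with hS0
    have hn : (T.subgroupOf S0).Normal := ⟨fun u hu v => hcl _ hu (v : G) (v * u * v⁻¹).2⟩
    have hU : T.subgroupOf S0 ≠ ⊥ := by
      intro h
      refine hT1 (le_antisymm (fun t ht => ?_) bot_le)
      have : (⟨t, hT ht⟩ : S0) ∈ T.subgroupOf S0 := ht
      rw [h, Subgroup.mem_bot] at this
      exact Subgroup.mem_bot.mpr (congrArg Subtype.val this)
    haveI := hn
    obtain ⟨u, hu⟩ := Subgroup.ne_bot_iff_exists_ne_one.mp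
      (H73.inf_center_ne_bot ((isPGroup_wQ hQp).map pi) hU)
    obtain ⟨⟨⟨t, ht⟩, htT, htZ⟩, hu⟩ : ∃ u : ↥(T.subgroupOf S0 ⊓ Subgroup.center S0), u ≠ 1 :=
      ⟨u, hu⟩
    obtain ⟨g, hg, rfl⟩ := ht
    have hgne : g ≠ 1 ∧ g ≠ dp (-1, -1) := by
      constructor <;> intro e <;> refine hu (Subtype.ext (Subtype.ext ?_))
      · exact pi_eq_one.mpr (Or.inl e)
      · exact pi_eq_one.mpr (Or.inr e)
    have hcomm : ∀ a ∈ Q, ∀ b ∈ Q,
        dp (a, b) * g = g * dp (a, b) ∨ dp (a, b) * g = g * dp (a, b) * dp (-1, -1) := by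
      intro a ha b hb
      have e := congrArg Subtype.val (Subgroup.mem_center_iff.mp htZ
        ⟨pi (dp (a, b)), ⟨_, dp_mem_wQ.mpr ⟨ha, hb⟩, rfl⟩⟩)
      change pi (dp (a, b)) * pi g = pi g * pi (dp (a, b)) at e
      rw [← map_mul, ← map_mul] at e
      exact pi_eq_iff.mp e.symm
    obtain ⟨a, ha, b, hb, rfl | rfl⟩ := hg
    · have left : ∀ x ∈ Q, x * x = -1 → a * x = x * a := by
        intro x hx _
        rcases hcomm x hx 1 Q.one_mem with e | e
        · rw [dp_mul, dp_mul] at e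
          exact (congrArg Prod.fst (dp_injective e)).symm
        · rw [dp_mul, dp_mul, dp_mul] at e
          exfalso
          have := congrArg Prod.snd (dp_injective e)
          simp only [mul_one, one_mul, mul_neg] at this
          have hM := congrArg (fun g : S2 => (g : M2)) this
          simp only [Matrix.SpecialLinearGroup.coe_neg] at hM
          have hz' : (2 : F) • (b : M2) = 0 := by
            rw [two_smul]; nth_rw 1 [hM]; exact neg_add_cancel _
          have hd := congrArg Matrix.det ((smul_eq_zero.mp hz').resolve_left h2)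
          rw [b.2, Matrix.det_zero] at hd
          exact one_ne_zero hd
      have right : ∀ x ∈ Q, x * x = -1 → b * x = x * b := by
        intro x hx _
        rcases hcomm 1 Q.one_mem x hx with e | e
        · rw [dp_mul, dp_mul] at e
          exact (congrArg Prod.snd (dp_injective e)).symm
        · rw [dp_mul, dp_mul, dp_mul] at e
          exfalso
          have := congrArg Prod.fst (dp_injective e)
          simp only [mul_one, one_mul, mul_neg] at this
          have hM := congrArg (fun g : S2 => (g : M2)) this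
          simp only [Matrix.SpecialLinearGroup.coe_neg] at hM
          have hz' : (2 : F) • (a : M2) = 0 := by
            rw [two_smul]; nth_rw 1 [hM]; exact neg_add_cancel _
          have hd := congrArg Matrix.det ((smul_eq_zero.mp hz').resolve_left h2)
          rw [a.2, Matrix.det_zero] at hd
          exact one_ne_zero hd
      rcases s2_centralizer_pair h2 hi hj hij (left i hiQ hi) (left j hjQ hj) with rfl | rfl <;>
        rcases s2_centralizer_pair h2 hi hj hij (right i hiQ hi) (right j hjQ hj) with rfl | rfl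
      · exact absurd dp_one hgne.1
      · have := T'.mul_mem (show dp (1, -1) ∈ T' from htT) hm1
        simpa [dp_mul] using this
      · exact htT
      · exact absurd rfl hgne.2
    · exfalso
      rcases hcomm i hiQ 1 Q.one_mem with e | e
      · rw [← mul_assoc, dp_mul, mul_assoc, sw_dp, ← mul_assoc, dp_mul] at e
        have := (dp_sw_inj e).1
        rw [mul_one] at this
        exact (s2_root_ne_pm h2 hi).1 (mul_eq_right.mp this)
      · rw [← mul_assoc, dp_mul, mul_assoc (dp (a, b)), sw_dp, ← mul_assoc, dp_mul,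
          mul_assoc, sw_dp, ← mul_assoc, dp_mul] at e
        have := (dp_sw_inj e).1
        simp only [mul_one, mul_neg] at this
        exact (s2_root_ne_pm h2 hi).2
          (mul_right_cancel (this.trans (neg_one_mul _).symm))
  -- the interchange
  have hsw : sw ∈ T' := by
    have hd : (!![(1 : F), 0; 0, (2 : F)⁻¹] : M2).det * 2 = 1 := by
      rw [Matrix.det_fin_two_of]
      field_simp
      ring
    have e := mul_inv_eq_iff_eq_mul.mpr (mix_mul_z _ hd)
    have := cl _ hz (mix _ hd) (e ▸ dp_sw_mem_wQ.mpr ⟨hQ.neg_mem, hQ.neg_mem⟩)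
    rw [e] at this
    simpa using T'.mul_mem (T'.inv_mem hm1) this
  have hanti : ∀ c ∈ Q, dp (c, c⁻¹) ∈ T' := by
    intro c hc
    have h1 : dp (c, 1) * sw * (dp (c, 1))⁻¹ = dp (c, c⁻¹) * sw := by
      rw [dp_conj_sw]; simp
    have := cl _ hsw (dp (c, 1)) (h1 ▸ dp_sw_mem_wQ.mpr ⟨hc, Q.inv_mem hc⟩)
    rw [h1] at this
    simpa using T'.mul_mem this (T'.inv_mem hsw)
  have hii : dp (i, i) ∈ T' := by
    have := T'.mul_mem (T'.mul_mem (hanti i hiQ) hz) hm1
    rwa [dp_mul, dp_mul, s2_root_inv hi, show i * -1 * -1 = i by simp,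
      show -i * 1 * -1 = i by simp] at this
  have hroots : ∀ a ∈ Q, ∀ b ∈ Q, a * a = -1 → b * b = -1 → dp (a, b) ∈ T' := by
    intro a ha b hb haa hbb
    obtain ⟨g1, hg1⟩ := s2_root_conj hodd hi haa
    obtain ⟨g2, hg2⟩ := s2_root_conj hodd hi hbb
    have h1 : dp (g1, g2) * dp (i, i) * (dp (g1, g2))⁻¹ = dp (a, b) := by
      rw [dp_conj, hg1, hg2]
    have := cl _ hii (dp (g1, g2)) (h1 ▸ dp_mem_wQ.mpr ⟨ha, hb⟩)
    rwa [h1] at this
  set K := T'.comap (dp.comp (MonoidHom.inr S2 S2)) with hK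
  have hKmem : ∀ c, c ∈ K ↔ dp (1, c) ∈ T' := fun c => Iff.rfl
  have hprod : ∀ a ∈ Q, ∀ b ∈ Q, a * a = -1 → b * b = -1 → a⁻¹ * b ∈ K := by
    intro a ha b hb haa hbb
    have := T'.mul_mem (T'.inv_mem (hroots i hiQ a ha hi haa)) (hroots i hiQ b hb hi hbb)
    rw [dp_inv, dp_mul, inv_mul_cancel] at this
    exact this
  have hQK : Q ≤ K := by
    refine hQ.gen.trans ((Subgroup.closure_le _).mpr ?_)
    rintro b ⟨hb, hbb⟩
    have hm : (-1 : S2) ∈ K := by
      rw [hKmem]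
      simpa [dp_mul] using T'.mul_mem hz hm1
    have hk : i * j ∈ K := by
      have := K.mul_mem hm (hprod i hiQ j hjQ hi hj)
      simpa [s2_root_inv hi] using this
    have hkk : (i * j) * (i * j) = -1 := by
      rw [mul_assoc, ← mul_assoc j i j, show j * i = -(i * j) by rw [hij, neg_neg], neg_mul,
        mul_assoc i j j, hj]
      simp [hi]
    have := K.mul_mem hk (hprod (i * j) (Q.mul_mem hiQ hjQ) b hb hkk hbb)
    rwa [mul_inv_cancel_left] at this
  have hleft : ∀ c ∈ Q, dp (c, 1) ∈ T' := by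
    intro c hc
    have h1 : sw * dp (1, c) * sw⁻¹ = dp (c, 1) := sw_conj 1 c
    have := cl _ ((hKmem c).mp (hQK hc)) sw (h1 ▸ dp_mem_wQ.mpr ⟨hc, Q.one_mem⟩)
    rwa [h1] at this
  rintro _ ⟨g, ⟨a, ha, b, hb, hg⟩, rfl⟩
  have hab : dp (a, b) ∈ T' := by
    have := T'.mul_mem (hleft a ha) ((hKmem b).mp (hQK hb))
    rwa [dp_mul, mul_one, one_mul] at this
  rcases hg with rfl | rfl
  · exact hab
  · exact T'.mul_mem hab hsw

omit [Fintype F] in
theorem mem_normalizer_of_gens [Finite F] {g : Sp}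
    (h : ∀ y ∈ ({g | ∃ q ∈ Q, g = dp (q, q)} ∪ {dp (1, -1), sw} : Set Sp),
      g * y * g⁻¹ ∈ diagR Q) :
    pi g ∈ Subgroup.normalizer (((diagR Q).map pi : Subgroup G) : Set G) := by
  have h1 : diagR Q ≤ (diagR Q).comap (MulAut.conj g).toMonoidHom := by
    conv_lhs => rw [diagR]
    rw [Subgroup.closure_le]
    exact h
  rw [Subgroup.mem_normalizer_iff_map_conj_eq]
  refine Subgroup.eq_of_le_of_card_ge ?_ (le_of_eq (Subgroup.card_map_of_injective
    (MulAut.conj (pi g)).injective).symm)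
  rintro _ ⟨_, ⟨x, hx, rfl⟩, rfl⟩
  exact ⟨_, h1 hx, by simp⟩

omit [Fintype F] in
theorem conj_pm (hQ : ∀ q ∈ Q, q = 1 ∨ q = -1 ∨ q * q = -1) {c q : S2} (hc : c ∈ Q) (hq : q ∈ Q) :
    c * q * c⁻¹ = q ∨ c * q * c⁻¹ = -q := by
  rcases hQ c hc with rfl | rfl | hcc
  · left; simp
  · left; simp [inv_neg_one]
  rcases hQ q hq with rfl | rfl | hqq
  · left; simp
  · left; simp
  rcases hQ _ (Q.mul_mem hc hq) with e | e | e
  · left
    rw [e, one_mul, ← eq_inv_of_mul_eq_one_right e]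
  · left
    rw [e, s2_root_inv hcc, neg_mul_neg, one_mul, eq_inv_mul_of_mul_eq e, s2_root_inv hcc,
      neg_mul_neg, mul_one]
  · right
    have h0 := s2_root_inv e
    rw [mul_inv_rev, s2_root_inv hcc, s2_root_inv hqq, neg_mul_neg] at h0
    rw [show c * q = -(q * c) by rw [h0, neg_neg], neg_mul, mul_inv_cancel_right]

omit [Fintype F] in
theorem wQ_le_normalizer [Finite F] (hQ : RootQ Q)
    (hsq : ∀ q ∈ Q, q = 1 ∨ q = -1 ∨ q * q = -1) :
    (wQ Q).map pi ≤ Subgroup.normalizer (((diagR Q).map pi : Subgroup G) : Set G) := by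
  have _ := hQ
  rintro _ ⟨v, ⟨c, hc, d, hd, hv⟩, rfl⟩
  have mem2 : ∀ p ∈ Q, ∀ r : S2, r = p ∨ r = -p → dp (p, r) ∈ diagR Q := by
    rintro p hp r (rfl | rfl)
    · exact dp_diag_mem_diagR hp
    · exact dp_neg_mem_diagR hp
  have hsw : pi sw ∈ Subgroup.normalizer (((diagR Q).map pi : Subgroup G) : Set G) :=
    Subgroup.le_normalizer ⟨sw, sw_mem_diagR, rfl⟩
  have hdp : pi (dp (c, d)) ∈ Subgroup.normalizer (((diagR Q).map pi : Subgroup G) : Set G) := by
    refine mem_normalizer_of_gens ?_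
    rintro y (⟨q, hq, rfl⟩ | rfl | rfl)
    · rw [dp_conj]
      refine mem2 _ ((Q.mul_mem (Q.mul_mem hc hq) (Q.inv_mem hc))) _ ?_
      rcases conj_pm hsq hc hq with e1 | e1 <;> rcases conj_pm hsq hd hq with e2 | e2 <;>
        rw [e1, e2] <;> simp
    · rw [dp_conj]
      simp only [mul_one, mul_inv_cancel, mul_neg, neg_mul]
      exact dp_sign_mem_diagR
    · rw [dp_conj_sw]
      refine (diagR Q).mul_mem (mem2 _ (Q.mul_mem hc (Q.inv_mem hd)) _ ?_) sw_mem_diagR
      rw [show d * c⁻¹ = (c * d⁻¹)⁻¹ by group]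
      rcases hsq _ (Q.mul_mem hc (Q.inv_mem hd)) with e | e | e
      · left; simp [e]
      · left; rw [e, inv_neg_one]
      · exact Or.inr (s2_root_inv e)
  rcases hv with rfl | rfl
  · exact hdp
  · rw [map_mul]
    exact Subgroup.mul_mem _ hdp hsw

omit [Fintype F] in
theorem centralizer_diagR_le (h2 : (2 : F) ≠ 0) (hQ : RootQ Q) :
    Subgroup.centralizer (((diagR Q).map pi : Subgroup G) : Set G) ≤ (diagR Q).map pi := by
  intro y hy
  obtain ⟨v, rfl⟩ := pi_surjective y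
  refine ⟨v, ?_, rfl⟩
  have hc : ∀ x ∈ diagR Q, v * x = x * v ∨ v * x = x * v * dp (-1, -1) := by
    intro x hx
    have e := Subgroup.mem_centralizer_iff.mp hy (pi x) ⟨x, hx, rfl⟩
    rw [← map_mul, ← map_mul] at e
    exact pi_eq_iff.mp e
  obtain ⟨i, hiQ, j, hjQ, hi, hj, hij⟩ := hQ.pair
  have hneg : dp ((-1 : S2), (1 : S2)) = dp (1, -1) * dp (-1, -1) := by rw [dp_mul]; simp
  obtain ⟨c, d, hv⟩ := cases_of_comm_z h2 (hc _ (by
    rw [hneg]
    exact (diagR Q).mul_mem dp_sign_mem_diagR (dp_diag_mem_diagR hQ.neg_mem)))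
  have hq : ∀ q ∈ Q, (c * q = q * c ∧ d * q = q * d) ∨
      (c * q = -(q * c) ∧ d * q = -(q * d)) := by
    intro q hq
    have h1 := hc _ (dp_diag_mem_diagR hq)
    have h1' : dp (c, d) * dp (q, q) = dp (q, q) * dp (c, d) ∨
        dp (c, d) * dp (q, q) = dp (q, q) * dp (c, d) * dp (-1, -1) := by
      rcases hv with rfl | rfl
      · exact h1
      · rw [mul_assoc, sw_dp, ← mul_assoc, ← mul_assoc] at h1
        rw [mul_assoc (dp (q, q) * dp (c, d)) sw, sw_dp, ← mul_assoc] at h1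
        exact h1.imp mul_right_cancel mul_right_cancel
    rw [dp_mul, dp_mul, dp_mul] at h1'
    refine h1'.imp (fun e => ?_) (fun e => ?_)
    · exact ⟨congrArg Prod.fst (dp_injective e), congrArg Prod.snd (dp_injective e)⟩
    · exact ⟨by simpa using congrArg Prod.fst (dp_injective e),
        by simpa using congrArg Prod.snd (dp_injective e)⟩
  have hcQ : c ∈ Q := s2_sign_centralizer h2 hQ.neg_mem hiQ hjQ hi hj hij
    ((hq i hiQ).imp And.left And.left) ((hq j hjQ).imp And.left And.left)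
  have hcd : d = c ∨ d = -c := by
    have h1 := hc _ sw_mem_diagR
    rcases hv with rfl | rfl
    · rw [sw_dp] at h1
      rcases h1 with e | e
      · exact Or.inl (congrArg Prod.snd (dp_injective (mul_right_cancel e)))
      · rw [mul_assoc _ sw, sw_dp, ← mul_assoc, dp_mul] at e
        exact Or.inr (by simpa using congrArg Prod.snd (dp_injective (mul_right_cancel e)))
    · rw [← mul_assoc sw, sw_dp] at h1
      rcases h1 with e | e
      · exact Or.inl (congrArg Prod.snd (dp_injective (mul_right_cancel (mul_right_cancel e))))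
      · rw [mul_assoc (dp (d, c)) sw sw, mul_assoc (dp (c, d)) sw sw, sw_sq, mul_one, mul_one,
          dp_mul] at e
        exact Or.inr (by
          simpa using congrArg Prod.snd (dp_injective e))
  have hdp : dp (c, d) ∈ diagR Q := by
    rcases hcd with rfl | rfl
    · exact dp_diag_mem_diagR hcQ
    · exact dp_neg_mem_diagR hcQ
  rcases hv with rfl | rfl
  · exact hdp
  · exact (diagR Q).mul_mem hdp sw_mem_diagR

/-- The `3`-element is generated by `2`-elements. -/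
theorem diag_mem_twoNormClosure (hodd : Odd (Fintype.card F)) (hQp : IsPGroup 2 Q) (hQ : RootQ Q)
    (hsq : ∀ q ∈ Q, q = 1 ∨ q = -1 ∨ q * q = -1)
    {b : S2} (hb : b ∈ Subgroup.normalizer (Q : Set S2)) {n : ℕ} (hn : Odd n) (hbn : b ^ n = 1) :
    pi (dp (b, b)) ∈ twoNormClosure ((diagR Q).map pi) := by
  haveI : Fact (Nat.Prime 2) := ⟨Nat.prime_two⟩
  have h2 := H67.two_ne_zero_of_odd_card (F := F) hodd
  set R := (diagR Q).map pi with hR
  set K := twoNormClosure R with hK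
  have hRK : R ≤ K := by
    intro r hr
    refine Subgroup.subset_closure ⟨Subgroup.le_normalizer hr, ?_⟩
    obtain ⟨k, hk⟩ := IsPGroup.iff_orderOf.mp ((isPGroup_wQ hQp).map pi)
      ⟨r, Subgroup.map_mono (diagR_le hQ) hr⟩
    exact ⟨k, by rw [← hk, Subgroup.orderOf_mk]⟩
  have hdiag : ∀ q ∈ Q, pi (dp (q, q)) ∈ K := fun q hq =>
    hRK ⟨_, dp_diag_mem_diagR hq, rfl⟩
  rcases s2_odd_normalizer_inverted hodd hQ hsq hb hn hbn with hbQ | ⟨x, c, hxQ, hxx, hcb, hc⟩
  · exact hdiag b hbQ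
  set X := (x : M2) with hX
  have hXX : X * X = -1 := s2_val_sq_neg_one hxx
  have hdetX : (1 + X).det = 2 := by
    have hd : X.det = 1 := x.2
    have e00 := congrFun (congrFun hXX 0) 0
    have e11 := congrFun (congrFun hXX 1) 1
    simp [Matrix.mul_apply, Fin.sum_univ_two] at e00 e11
    rw [Matrix.det_fin_two] at hd
    have htr : (X 0 0 + X 1 1) * (X 0 0 + X 1 1) = 0 := by linear_combination e00 + e11 + 2 * hd
    have htr' := mul_self_eq_zero.mp htr
    rw [Matrix.det_fin_two]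
    simp
    linear_combination htr' + hd
  set W : M2 := (2 : F)⁻¹ • (1 + X) with hWdef
  have hW : W.det * 2 = 1 := by
    rw [hWdef, Matrix.det_smul, hdetX, Fintype.card_fin]
    field_simp
  set u := mix W hW with hu
  have hMP : (1 - X) * (1 + X) = (2 : F) • (1 : M2) := by
    rw [sub_mul, one_mul, mul_add, mul_one, hXX, two_smul]; abel
  have huu : u * u = dp (x, x) := by
    refine mix_sq W hW x ?_
    rw [hWdef, Matrix.smul_mul, Matrix.mul_smul, smul_smul, ← add_smul,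
      show (2 : F)⁻¹ * 2⁻¹ + 2⁻¹ * 2⁻¹ = 2⁻¹ by field_simp; ring]
    rw [show (1 + X) * (1 + X) = (2 : F) • X by
      rw [add_mul, one_mul, mul_add, mul_one, hXX, two_smul]; abel]
    rw [smul_smul, inv_mul_cancel₀ h2, one_smul]
  have hub : u * dp (b, b) = dp (c, c) * u := by
    refine mix_mul_dp W hW b c ?_
    rw [hc, hWdef]
    simp only [Matrix.smul_mul, Matrix.mul_smul, smul_smul, ← hX, mul_assoc, hMP, mul_one]
    congr 1
    field_simp
  have huN : pi u ∈ Subgroup.normalizer (R : Set G) := by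
    refine mem_normalizer_of_gens ?_
    have conv : ∀ y y' : Sp, u * y = y' * u → u * y * u⁻¹ = y' := fun y y' e =>
      mul_inv_eq_iff_eq_mul.mpr e
    rintro y (⟨q, hq, rfl⟩ | rfl | rfl)
    · obtain ⟨q', hq', he⟩ : ∃ q' ∈ Q, (1 + X) * (q : M2) = (q' : M2) * (1 + X) := by
        have hcom : ∀ s : S2, X * (s : M2) = (s : M2) * X →
            (1 + X) * (s : M2) = (s : M2) * (1 + X) := fun s hs => by
          rw [add_mul, one_mul, mul_add, mul_one, hs]
        rcases hsq _ (Q.mul_mem hxQ hq) with e | e | e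
        · refine ⟨q, hq, hcom q ?_⟩
          rw [eq_inv_of_mul_eq_one_right e, s2_root_inv hxx, Matrix.SpecialLinearGroup.coe_neg,
            ← hX, mul_neg, neg_mul]
        · refine ⟨q, hq, hcom q ?_⟩
          rw [show q = x by rw [eq_inv_mul_of_mul_eq e, s2_root_inv hxx, neg_mul_neg, mul_one]]
        · rcases hsq q hq with rfl | rfl | hqq
          · exact ⟨1, hq, hcom 1 (by simp)⟩
          · exact ⟨-1, hq, hcom (-1) (by simp)⟩
          refine ⟨x * q, Q.mul_mem hxQ hq, ?_⟩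
          have h0 := s2_root_inv e
          rw [mul_inv_rev, s2_root_inv hxx, s2_root_inv hqq, neg_mul_neg] at h0
          have h0' : (q : M2) * X = -(X * (q : M2)) := by
            simpa [← hX] using congrArg (fun g : S2 => (g : M2)) h0
          rw [Matrix.SpecialLinearGroup.coe_mul, ← hX, add_mul, one_mul, mul_add, mul_one,
            mul_assoc X, h0', mul_neg, ← mul_assoc, hXX, neg_mul, one_mul, neg_neg, add_comm]
      have h3 := mix_mul_dp W hW q q' (by
        rw [hWdef, Matrix.smul_mul, Matrix.mul_smul, he])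
      rw [conv _ _ h3]
      exact dp_diag_mem_diagR hq'
    · have h3 : u * dp (1, -1) = sw * u := by
        rw [hu, show dp ((1 : S2), (-1 : S2)) = dp (-1, 1) * dp (-1, -1) by rw [dp_mul]; simp,
          ← mul_assoc, mix_mul_z, mul_assoc, neg_central, mul_assoc, ← mul_assoc sw,
          sw_dp, ← mul_assoc, ← mul_assoc, dp_mul]
        simp [dp_one]
      rw [conv _ _ h3]
      exact sw_mem_diagR
    · rw [conv _ _ (mix_mul_sw W hW)]
      exact dp_sign_mem_diagR
  have huK : pi u ∈ K := by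
    refine Subgroup.subset_closure ⟨huN, ?_⟩
    have hx4 : x ^ 4 = 1 := by
      rw [show 4 = 2 * 2 by norm_num, pow_mul, pow_two x, hxx]
      simp
    have h8 : u ^ 2 ^ 3 = 1 := by
      rw [show (2 : ℕ) ^ 3 = 2 * 4 by norm_num, pow_mul, pow_two u, huu, ← map_pow, Prod.pow_mk,
        hx4]
      exact dp_one
    obtain ⟨k, -, hk⟩ := (Nat.dvd_prime_pow Nat.prime_two).mp
      (orderOf_dvd_of_pow_eq_one (show pi u ^ 2 ^ 3 = 1 by rw [← map_pow, h8, map_one]))
    exact ⟨k, hk⟩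
  set β := pi (dp (b, b)) with hβ
  have hβN : β ∈ Subgroup.normalizer (R : Set G) := by
    refine mem_normalizer_of_gens ?_
    rintro y (⟨q, hq, rfl⟩ | rfl | rfl)
    · rw [dp_conj]
      exact dp_diag_mem_diagR ((Subgroup.mem_normalizer_iff.mp hb q).mp hq)
    · rw [dp_conj]
      simp only [mul_one, mul_inv_cancel, mul_neg, neg_mul]
      exact dp_sign_mem_diagR
    · rw [dp_conj_sw, mul_inv_cancel, dp_one, one_mul]
      exact sw_mem_diagR
  have hconj : ∀ k ∈ K, β * k * β⁻¹ ∈ K := by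
    intro k hk
    have h : K ≤ K.comap (MulAut.conj β).toMonoidHom := by
      conv_lhs => rw [hK, twoNormClosure]
      rw [Subgroup.closure_le]
      rintro g ⟨hg, m, hm⟩
      refine Subgroup.subset_closure ⟨?_, m, ?_⟩
      · exact Subgroup.mul_mem _ (Subgroup.mul_mem _ hβN hg) (Subgroup.inv_mem _ hβN)
      · rw [← hm]
        exact MulEquiv.orderOf_eq (MulAut.conj β) g
    exact h hk
  have hcomm : pi u * (β * (pi u)⁻¹ * β⁻¹) ∈ K := K.mul_mem huK (hconj _ (K.inv_mem huK))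
  have hval : pi u * (β * (pi u)⁻¹ * β⁻¹) = pi (dp (c, c)) * β⁻¹ := by
    rw [← mul_assoc, ← mul_assoc, hβ, ← map_mul, hub, map_mul, mul_assoc (pi (dp (c, c))),
      mul_inv_cancel, mul_one]
  rw [hval] at hcomm
  have hsq2 : β * β ∈ K := by
    have := K.mul_mem (K.inv_mem hcomm) (hdiag _ hcb)
    rw [← dp_mul, map_mul, ← hβ, mul_inv_rev, inv_inv, mul_assoc, inv_mul_cancel_left] at this
    exact this
  obtain ⟨r, rfl⟩ := hn
  have hβn : β ^ (2 * r + 1) = 1 := by
    rw [hβ, ← map_pow, ← map_pow, Prod.pow_mk, hbn, dp_one, map_one]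
  have e : β = (β * β) ^ (r + 1) := by
    rw [← pow_two, ← pow_mul, show 2 * (r + 1) = 2 * r + 1 + 1 by ring, pow_succ, hβn, one_mul]
  exact e ▸ K.pow_mem hsq2 _

/-- Odd normalising elements come from centric normal subgroups. -/
theorem oddGenerated (hodd : Odd (Fintype.card F)) (hQp : IsPGroup 2 Q) (hQ : RootQ Q) :
    OddNormalizerGenerated ((wQ Q).map pi) := by
  have h2 := H67.two_ne_zero_of_odd_card (F := F) hodd
  obtain ⟨i, hiQ, j, hjQ, hi, hj, hij⟩ := hQ.pair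
  set S0 := (wQ Q).map pi with hS0
  intro g hg n hn hgn
  obtain ⟨g₁, rfl⟩ := pi_surjective g
  -- a lift of odd order
  obtain ⟨g₀, hg₀, hg₀n⟩ : ∃ g₀ : Sp, pi g₀ = pi g₁ ∧ g₀ ^ n = 1 := by
    rcases pi_eq_one.mp (show pi (g₁ ^ n) = 1 by rw [map_pow, hgn]) with e | e
    · exact ⟨g₁, rfl, e⟩
    · refine ⟨g₁ * dp (-1, -1), (pi_eq_iff.mpr (Or.inr rfl)).symm, ?_⟩
      rw [(show Commute g₁ (dp (-1, -1)) from neg_central g₁).mul_pow, e, ← map_pow, Prod.pow_mk,
        hn.neg_one_pow, dp_mul]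
      simp [dp_one]
  rw [← hg₀] at hg hgn ⊢
  clear hg₀ g₁
  have hnorm : ∀ x ∈ wQ Q, g₀ * x * g₀⁻¹ ∈ wQ Q := by
    intro x hx
    refine mem_map_wQ hQ ?_
    rw [map_mul, map_mul, map_inv]
    exact (Subgroup.mem_normalizer_iff.mp hg _).mp ⟨x, hx, rfl⟩
  have hnorm' : ∀ x ∈ wQ Q, g₀⁻¹ * x * g₀ ∈ wQ Q := by
    intro x hx
    refine mem_map_wQ hQ ?_
    rw [map_mul, map_mul, map_inv]
    exact (Subgroup.mem_normalizer_iff''.mp hg _).mp ⟨x, hx, rfl⟩
  have hone : ∀ c : S2, c = -c → False := by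
    intro c hc
    have hM := congrArg (fun g : S2 => (g : M2)) hc
    simp only [Matrix.SpecialLinearGroup.coe_neg] at hM
    have hz' : (2 : F) • (c : M2) = 0 := by
      rw [two_smul]; nth_rw 1 [hM]; exact neg_add_cancel _
    have hd := congrArg Matrix.det ((smul_eq_zero.mp hz').resolve_left h2)
    rw [c.2, Matrix.det_zero] at hd
    exact one_ne_zero hd
  -- the image of `z`
  have hzfix : g₀ * dp (-1, 1) = dp (-1, 1) * g₀ ∨
      g₀ * dp (-1, 1) = dp (-1, 1) * g₀ * dp (-1, -1) := by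
    have hcomm : ∀ y ∈ wQ Q, g₀ * dp (-1, 1) * g₀⁻¹ * y = y * (g₀ * dp (-1, 1) * g₀⁻¹) ∨
        g₀ * dp (-1, 1) * g₀⁻¹ * y = y * (g₀ * dp (-1, 1) * g₀⁻¹) * dp (-1, -1) := by
      intro y hy
      have hy' : g₀⁻¹ * y * g₀ ∈ wQ Q := hnorm' y hy
      obtain ⟨a, ha, b, hb, e | e⟩ := hy'
      · left
        have : dp (-1, 1) * (g₀⁻¹ * y * g₀) = g₀⁻¹ * y * g₀ * dp (-1, 1) := by
          rw [e, dp_mul, dp_mul]; simp
        calc g₀ * dp (-1, 1) * g₀⁻¹ * y = g₀ * (dp (-1, 1) * (g₀⁻¹ * y * g₀)) * g₀⁻¹ := by group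
          _ = _ := by rw [this]; group
      · right
        have : dp (-1, 1) * (g₀⁻¹ * y * g₀) = g₀⁻¹ * y * g₀ * dp (-1, 1) * dp (-1, -1) := by
          rw [e, mul_assoc (dp (a, b)) sw, sw_dp, ← mul_assoc, dp_mul, ← mul_assoc, dp_mul,
            mul_assoc, sw_dp, ← mul_assoc, dp_mul]
          simp
        calc g₀ * dp (-1, 1) * g₀⁻¹ * y = g₀ * (dp (-1, 1) * (g₀⁻¹ * y * g₀)) * g₀⁻¹ := by group
          _ = y * (g₀ * dp (-1, 1)) * (dp (-1, -1) * g₀⁻¹) := by rw [this]; group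
          _ = _ := by rw [← neg_central g₀⁻¹]; group
    obtain ⟨a, ha, b, hb, e | e⟩ := hnorm _ (dp_mem_wQ.mpr ⟨hQ.neg_mem, Q.one_mem⟩)
    · have ca : ∀ x ∈ Q, a * x = x * a := by
        intro x hx
        rcases hcomm _ (dp_mem_wQ.mpr ⟨hx, Q.one_mem⟩) with h | h <;> rw [e, dp_mul, dp_mul] at h
        · exact congrArg Prod.fst (dp_injective h)
        · rw [dp_mul] at h
          have := congrArg Prod.snd (dp_injective h)
          simp only [mul_one, one_mul, mul_neg] at this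
          exact (hone b this).elim
      have cb : ∀ x ∈ Q, b * x = x * b := by
        intro x hx
        rcases hcomm _ (dp_mem_wQ.mpr ⟨Q.one_mem, hx⟩) with h | h <;> rw [e, dp_mul, dp_mul] at h
        · exact congrArg Prod.snd (dp_injective h)
        · rw [dp_mul] at h
          have := congrArg Prod.fst (dp_injective h)
          simp only [mul_one, one_mul, mul_neg] at this
          exact (hone a this).elim
      have e' := mul_inv_eq_iff_eq_mul.mp e
      rcases s2_centralizer_pair h2 hi hj hij (ca i hiQ) (ca j hjQ) with rfl | rfl <;>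
        rcases s2_centralizer_pair h2 hi hj hij (cb i hiQ) (cb j hjQ) with rfl | rfl
      · rw [dp_one, one_mul] at e'
        exfalso
        have := dp_injective ((mul_eq_left.mp e').trans (map_one dp).symm)
        exact s2_neg_one_ne_one h2 (congrArg Prod.fst this)
      · right
        rw [e', show dp ((1 : S2), (-1 : S2)) = dp (-1, 1) * dp (-1, -1) by rw [dp_mul]; simp,
          mul_assoc, ← neg_central, ← mul_assoc]
      · exact Or.inl e'
      · exfalso
        rw [← neg_central] at e'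
        exact s2_neg_one_ne_one h2 (congrArg Prod.snd (dp_injective (mul_left_cancel e'))).symm
    · exfalso
      rcases hcomm _ (dp_mem_wQ.mpr ⟨hiQ, Q.one_mem⟩) with h | h <;>
        rw [e, mul_assoc, sw_dp, ← mul_assoc, dp_mul, ← mul_assoc, dp_mul] at h
      · have := (dp_sw_inj h).1
        rw [mul_one] at this
        exact (s2_root_ne_pm h2 hi).1 (mul_eq_right.mp this.symm)
      · rw [mul_assoc, sw_dp, ← mul_assoc, dp_mul] at h
        have := (dp_sw_inj h).1
        simp only [mul_one, mul_neg] at this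
        exact (s2_root_ne_pm h2 hi).2 (mul_right_cancel (b := a) (by
          rw [neg_mul, one_mul]
          exact (neg_eq_iff_eq_neg.mpr this).symm))
  obtain ⟨a, b, hab⟩ := cases_of_comm_z h2 hzfix
  obtain ⟨a, b, rfl⟩ : ∃ a b : S2, g₀ = dp (a, b) := by
    rcases hab with e | e
    · exact ⟨a, b, e⟩
    · obtain ⟨r, rfl⟩ := hn
      have h1 : g₀ ^ 2 = dp (a * b, b * a) := by
        rw [e, pow_two, mul_assoc, ← mul_assoc sw, sw_dp, mul_assoc (dp (b, a)), sw_sq, mul_one,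
          dp_mul]
      refine ⟨((a * b, b * a) ^ (r + 1)).1, ((a * b, b * a) ^ (r + 1)).2, ?_⟩
      rw [Prod.mk.eta, map_pow, ← h1, ← pow_mul, show 2 * (r + 1) = 2 * r + 1 + 1 by ring,
        pow_succ, hg₀n, one_mul]
  clear hab
  rw [← map_pow, Prod.pow_mk, ← dp_one] at hg₀n
  have hbn : b ^ n = 1 := congrArg Prod.snd (dp_injective hg₀n)
  have hbN : b ∈ Subgroup.normalizer (Q : Set S2) := by
    rw [Subgroup.mem_normalizer_iff]
    intro x
    constructor
    · intro hx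
      have := hnorm _ (dp_mem_wQ.mpr ⟨Q.one_mem, hx⟩)
      rw [dp_conj] at this
      exact (dp_mem_wQ.mp this).2
    · intro hx
      have := hnorm' _ (dp_mem_wQ.mpr ⟨Q.one_mem, hx⟩)
      rw [dp_inv, dp_mul, dp_mul] at this
      simpa [mul_assoc] using (dp_mem_wQ.mp this).2
  have hba : b * a⁻¹ ∈ Q := by
    have := hnorm _ sw_mem_wQ
    rw [dp_conj_sw] at this
    exact (dp_sw_mem_wQ.mp this).2
  refine ⟨pi (dp (b * a⁻¹, 1)), ⟨_, dp_mem_wQ.mpr ⟨hba, Q.one_mem⟩, rfl⟩, ?_⟩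
  rw [← map_mul, dp_mul, inv_mul_cancel_right, one_mul]
  rcases hQ.dicho with hd | hsq
  · left
    rintro _ ⟨x, ⟨c, hc, d, hdQ, hx⟩, rfl⟩
    rw [← map_inv, ← map_mul, ← map_mul]
    congr 1
    have hc' := hd b hbN n hn hbn c hc
    have hd' := hd b hbN n hn hbn d hdQ
    rcases hx with rfl | rfl
    · rw [dp_conj, hc', hd']
    · rw [show dp (b, b) * (dp (c, d) * sw) * (dp (b, b))⁻¹ =
          dp (b, b) * dp (c, d) * (dp (b, b))⁻¹ * (dp (b, b) * sw * (dp (b, b))⁻¹) by group,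
        dp_conj, hc', hd', dp_conj_sw, mul_inv_cancel, dp_one, one_mul]
  · exact Or.inr ⟨(diagR Q).map pi, Subgroup.map_mono (diagR_le hQ), wQ_le_normalizer hQ hsq,
      centralizer_diagR_le h2 hQ, diag_mem_twoNormClosure hodd hQp hQ hsq hbN hn hbn⟩

/-- **The `2`-fusion system of `PSp₄(q)`, `q` odd, is simple.** -/
theorem psp4_isSimple (hodd : Fintype.card F % 2 = 1) (S : Sylow 2 G) :
    (Cfsg.groupFusionSystem (S : Subgroup G)).IsSimple 2 := by
  haveI : Fact (Nat.Prime 2) := ⟨Nat.prime_two⟩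
  have hodd' : Odd (Fintype.card F) := Nat.odd_iff.mpr hodd
  obtain ⟨P⟩ : Nonempty (Sylow 2 S2) := inferInstance
  have hQ := rootQ_of_sylow hodd' P
  refine isSimple_two_of_generated_sylow _ ((isPGroup_wQ P.2).map pi) ?_ ?_
    (oddGenerated hodd' P.2 hQ) (noClosed hodd' P.2 hQ) S
  · rw [Subgroup.index_map_eq _ pi_surjective]
    · exact odd_index_wQ hodd' P
    · intro g hg
      rcases pi_eq_one.mp hg with rfl | rfl
      · exact (wQ _).one_mem
      · exact dp_mem_wQ.mpr ⟨hQ.neg_mem, hQ.neg_mem⟩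
  · intro h
    have h1 : pi (sw (F := F)) ∈ (⊥ : Subgroup G) := h ▸ ⟨sw, sw_mem_wQ, rfl⟩
    rw [Subgroup.mem_bot, pi_eq_one] at h1
    rcases h1 with e | e
    · exact dp_ne_dp_sw (1 : S2) 1 1 1 (by rw [dp_one, one_mul, e])
    · exact dp_ne_dp_sw (-1 : S2) (-1) 1 1 (by rw [dp_one, one_mul, e])

end

end H89.Sp4
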