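import Cfsg.Agent.H89.CompBasic
import Cfsg.Agent.H87.Simplicity
import Cfsg.Agent.H87.QuasisimpleBasic
import Cfsg.Agent.H86.WeaklyNormalResidual
import Cfsg.Agent.H75.ResidualSeries
import Cfsg.Agent.S5132
import Cfsg.Agent.S5134

/-!
A quasisimple system has no proper weakly normal subsystem over its whole base.
-/
set_option autoImplicit false
set_option linter.style.haveILetI false
set_option linter.unusedSectionVars false

open Cfsg Cfsg.FusionSystem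

namespace H89

universe u v

variable {Ω : Type u} [Group Ω] {S : Subgroup Ω} [Finite S] {p : ℕ} [Fact p.Prime]

/-- The factor system of a weakly normal subsystem over the whole base is weakly normal in the
factor system. -/
theorem factor_weaklyNormal_top (hS : IsPGroup p S) {F D : FusionSystem S}
    (hD : D.IsWeaklyNormalIn F p) {Z : Subgroup Ω} (hZ : F.StronglyClosed Z) {Ω' : Type v}
    [Group Ω'] [Finite Ω'] {θ : S →* Ω'} {E E₀ : FusionSystem (⊤ : Subgroup Ω')}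
    (hE : F.IsFactorSystem Z θ E) (hE₀ : D.IsFactorSystem Z θ E₀) :
    E₀.IsWeaklyNormalIn E p := by
  obtain ⟨hDs, hF, hsub, -, hinv, hfr⟩ := hD
  have hZ₀ : D.StronglyClosed Z := ⟨hZ.1, fun P hP φ hφ x => hZ.2 P hP φ (hsub P hφ) x⟩
  have hsm := Cfsg.Agent.S5134.result p hS F hF Z hZ θ E hE
  have hsm₀ := Cfsg.Agent.S5134.result p hS D hDs Z hZ₀ θ E₀ hE₀
  haveI : Finite (⊤ : Subgroup Ω') := Subtype.finite
  have hEs₀ := H86.isSaturated_image hS hDs hsm₀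
  have hEs := H86.isSaturated_image hS hF hsm
  have hpre : preimageAlong θ (⊤ : Subgroup Ω') = S :=
    le_antisymm (by rintro _ ⟨s, -, rfl⟩; exact s.2)
      fun s hs => ⟨⟨s, hs⟩, Subgroup.mem_top _, rfl⟩
  refine ⟨hEs₀, hEs, fun P' φ' hφ' => ?_, ⟨le_rfl, fun _ _ _ _ _ => Subgroup.mem_top _⟩,
    fun P' _ φ' hφ' α' hα' => ?_, fun P' _ φ' hφ' => ?_⟩
  · obtain ⟨hP', φ, hφ, hi⟩ := (hE₀.2.2.2 P' φ').1 hφ'
    exact (hE.2.2.2 P' φ').2 ⟨hP', φ, hsub _ hφ, hi⟩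
  · obtain ⟨-, φ, hφ, hA, hB, hC, he⟩ := (hE₀.2.2.2 P' φ').1 hφ'
    obtain ⟨-, γ, hγ, hA₁, hB₁, hC₁, he₁⟩ :=
      (hE.2.2.2 ⊤ _).1 ((H85.mem_autGroup le_rfl).1 hα')
    have hγS := H85.restrict hγ hpre.ge
    have hr : (γ.comp (Subgroup.inclusion hpre.ge)).range = S :=
      H86.range_eq_self_of_le F hγS (by rintro _ ⟨x, rfl⟩; exact H85.map_mem hγ _)
    set a := H86.autOfHom _ (F.injective_of_mem hγS) hr
    have ha : a ∈ F.autGroup S := H86.autOfHom_mem F hγS hr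
    have hat : ∀ s : S, ((α' ⟨θ s, Subgroup.mem_top _⟩ : (⊤ : Subgroup Ω')) : Ω') = θ (a s) :=
      fun s => (he₁ (Subgroup.inclusion hpre.ge s)).trans (congrArg θ (Subtype.ext rfl))
    obtain ⟨χ, hχ, hχe⟩ := hinv _ hA φ hφ a ha
    obtain ⟨χ', hχ', hA₂, hB₂, hC₂, he₂⟩ := hsm₀.1.2 _ _ hχ
    have hmem : ∀ (s : S) (hs : θ s ∈ P'),
        ((a s : S) : Ω) ∈ ((preimageAlong θ P').subgroupOf S).map
          (S.subtype.comp a.toMonoidHom) :=
      fun s hs => ⟨s, ⟨s, hs, rfl⟩, rfl⟩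
    have hle : (P'.subgroupOf ⊤).map ((⊤ : Subgroup Ω').subtype.comp α'.toMonoidHom) ≤
        imageAlong θ (((preimageAlong θ P').subgroupOf S).map
          (S.subtype.comp a.toMonoidHom)) := by
      rintro _ ⟨w, hw, rfl⟩
      obtain ⟨s, hs⟩ := hE₀.2.2.1.ge w.2
      refine H86.mem_imageAlong.2 ⟨a s, hmem s (hs ▸ hw), ?_⟩
      show θ (a s) = (α' w : Ω')
      rw [← hat]
      exact congrArg (fun z => (α' z : Ω')) (Subtype.ext hs)
    refine ⟨_, H85.restrict hχ' hle, fun y hy hαy => ?_⟩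
    obtain ⟨s, hs⟩ := hE₀.2.2.1.ge (Subgroup.mem_top (y : Ω'))
    have hsP : (s : Ω) ∈ preimageAlong θ P' :=
      ⟨s, show θ s ∈ P' by rw [hs]; exact y.2, rfl⟩
    have hw := hmem s (hs ▸ y.2)
    have h1 : Subgroup.inclusion hle ⟨_, hαy⟩ = ⟨θ ⟨(a s : S), hA₂ hw⟩, hC₂ ⟨_, hw⟩⟩ := by
      refine Subtype.ext ?_
      show (α' _ : Ω') = θ (a s)
      rw [← hat]
      exact congrArg (fun z => (α' z : Ω')) (Subtype.ext hs.symm)
    rw [MonoidHom.comp_apply, h1, he₂ ⟨_, hw⟩]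
    have h2 : φ' y = θ ⟨φ ⟨s, hsP⟩, hB ⟨s, hsP⟩⟩ := by
      rw [show y = ⟨θ ⟨(s : Ω), hA hsP⟩, hC ⟨s, hsP⟩⟩ from Subtype.ext hs.symm]
      exact he ⟨s, hsP⟩
    rw [show (⟨φ' y, hy⟩ : (⊤ : Subgroup Ω')) = ⟨_, Subgroup.mem_top _⟩ from Subtype.ext h2, hat]
    exact congrArg θ (Subtype.ext (hχe ⟨s, hsP⟩ _ hw))
  · obtain ⟨hP', φ, hφ, hA, hB, hC, he⟩ := (hE.2.2.2 P' φ').1 hφ'
    obtain ⟨a, ha, φ₀, hφ₀, hdec⟩ := hfr _ hA φ hφ
    obtain ⟨γ', hγ', hA₁, hB₁, hC₁, he₁⟩ := hsm.1.2 _ _ ((H85.mem_autGroup le_rfl).1 ha)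
    have hle : (⊤ : Subgroup Ω') ≤ imageAlong θ S := by
      intro w _
      obtain ⟨s, hs⟩ := hE.2.2.1.ge (Subgroup.mem_top w)
      exact H86.mem_imageAlong.2 ⟨s, s.2, hs⟩
    have hγT := H85.restrict hγ' hle
    have hr : (γ'.comp (Subgroup.inclusion hle)).range = ⊤ :=
      H86.range_eq_self_of_le E hγT le_top
    obtain ⟨χ, hχ, hA₂, hB₂, hC₂, he₂⟩ := hsm₀.1.2 _ _ hφ₀
    have hle' : P' ≤ imageAlong θ (preimageAlong θ P') :=
      (H86.imageAlong_preimageAlong hE.2.2.1 hP').ge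
    refine ⟨_, H86.autOfHom_mem E hγT hr, _, H85.restrict hχ hle', fun y hy => ?_⟩
    obtain ⟨s, hs⟩ := hE.2.2.1.ge (hP' y.2)
    have hsP : (s : Ω) ∈ preimageAlong θ P' :=
      ⟨s, show θ s ∈ P' by rw [hs]; exact y.2, rfl⟩
    have hyv : y = ⟨θ ⟨(s : Ω), hA hsP⟩, hC ⟨s, hsP⟩⟩ := Subtype.ext hs.symm
    have h2 : χ (Subgroup.inclusion hle' y) = θ ⟨φ₀ ⟨s, hsP⟩, hB₂ ⟨s, hsP⟩⟩ := by
      rw [show Subgroup.inclusion hle' y = ⟨θ ⟨(s : Ω), hA₂ hsP⟩, hC₂ ⟨s, hsP⟩⟩ from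
        Subtype.ext hs.symm]
      exact he₂ ⟨s, hsP⟩
    rw [H86.autOfHom_apply, MonoidHom.comp_apply]
    rw [show Subgroup.inclusion hle ⟨χ.comp (Subgroup.inclusion hle') y, hy⟩ =
      ⟨θ ⟨φ₀ ⟨s, hsP⟩, hA₁ (hB₂ ⟨s, hsP⟩)⟩, hC₁ ⟨_, hB₂ ⟨s, hsP⟩⟩⟩ from Subtype.ext h2,
      he₁ ⟨_, hB₂ ⟨s, hsP⟩⟩, hyv, he ⟨s, hsP⟩]
    exact congrArg θ (Subtype.ext (hdec ⟨s, hsP⟩ (hB₂ ⟨s, hsP⟩)))

/-- A quasisimple system equals each of its weakly normal subsystems over the whole base. -/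
theorem eq_of_weaklyNormal_top (hS : IsPGroup p S) {F D : FusionSystem S} (hq : F.Quasisimple p)
    (hD : D.IsWeaklyNormalIn F p) : D = F := by
  refine H85.fusionSystem_le_antisymm hD.2.2.1
    (H87.subsystem_of_autGroup_top hD.2.2 fun a ha => ?_)
  obtain ⟨hF, -, hsimple⟩ := hq
  have hZ := H87.stronglyClosed_center F
  have hZ₀ : D.StronglyClosed F.center :=
    ⟨hZ.1, fun P hP φ hφ x => hZ.2 P hP φ (hD.2.2.1 P hφ) x⟩
  obtain ⟨E, hE⟩ := Cfsg.Agent.S5132.result p hS F F.center hZ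
  obtain ⟨E₀, hE₀⟩ := Cfsg.Agent.S5132.result p hS D F.center hZ₀
  obtain ⟨-, hne, hnorm⟩ := hsimple E hE
  have hW := factor_weaklyNormal_top hS hD hZ hE hE₀
  haveI : Finite (⊤ : Subgroup (S ⧸ F.center.subgroupOf S)) := Subtype.finite
  have hS' : IsPGroup p (⊤ : Subgroup (S ⧸ F.center.subgroupOf S)) :=
    (hS.to_quotient _).of_equiv Subgroup.topEquiv.symm
  have hall : ∀ P, E.Hom P ⊆ E₀.Hom P := by
    rcases hnorm _ _ (H86.residual_normal hS' hW) with h | ⟨-, h⟩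
    · exact absurd h hne
    · exact fun P φ hφ => H86.primeData_minSysCl.sub P (by rw [h]; exact hφ)
  set θ := QuotientGroup.mk' (F.center.subgroupOf S) with hθ
  have hsm := Cfsg.Agent.S5134.result p hS F hF F.center hZ θ E hE
  obtain ⟨γ', hγ', hA, hB, hC, he⟩ := hsm.1.2 _ _ ((H85.mem_autGroup le_rfl).1 ha)
  obtain ⟨-, φ, hφ, hA', hB', hC', he'⟩ := (hE₀.2.2.2 _ _).1 (hall _ hγ')
  have hle : S ≤ preimageAlong θ (imageAlong θ S) := fun s hs =>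
    ⟨⟨s, hs⟩, H86.mem_imageAlong.2 ⟨⟨s, hs⟩, hs, rfl⟩, rfl⟩
  have hφS := H85.restrict hφ hle
  have hr : (φ.comp (Subgroup.inclusion hle)).range = S :=
    H86.range_eq_self_of_le D hφS (by rintro _ ⟨x, rfl⟩; exact H85.map_mem hφ _)
  set b := H86.autOfHom _ (D.injective_of_mem hφS) hr with hb
  have hbD : b ∈ D.autGroup S := H86.autOfHom_mem D hφS hr
  have hbF : b ∈ F.autGroup S :=
    (H85.mem_autGroup le_rfl).2 (hD.2.2.1 _ ((H85.mem_autGroup le_rfl).1 hbD))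
  have hab : ∀ s : S, θ (b s) = θ (a s) := fun s =>
    ((he' (Subgroup.inclusion hle s)).symm.trans (he s)).trans (congrArg θ (Subtype.ext rfl))
  set c := b⁻¹ * a with hc
  have hcF : c ∈ F.autGroup S := mul_mem (inv_mem hbF) ha
  have hfix : ∀ s : S, (s : Ω) ∈ F.center → c s = s := fun s hs =>
    Subtype.ext (center_fix ((H85.mem_autGroup le_rfl).1 hcF) s.2 hs)
  have htriv : c ∈ H86.trivMod F.center S := fun s => by
    show (s : Ω)⁻¹ * (c s : Ω) ∈ F.center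
    have h := hab (c s)
    rw [show b (c s) = a s from MulAut.apply_inv_self _ b (a s)] at h
    have h3 : θ (s⁻¹ * c s) = 1 := by
      rw [map_mul, map_inv, inv_mul_eq_one]
      have h4 := hab s
      have h5 : ∀ x y : S, θ (b x) = θ (b y) → θ x = θ y := by
        intro x y hxy
        have hz : ((b x)⁻¹ * b y : S) = b (x⁻¹ * y) := by simp
        have hm : ((b (x⁻¹ * y) : S) : Ω) ∈ F.center := by
          rw [← hz]
          refine (hE.2.1 _).1 ?_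
          rw [map_mul, map_inv, hxy, inv_mul_cancel]
        have hb' : ((b⁻¹ (b (x⁻¹ * y)) : S) : Ω) = (b (x⁻¹ * y) : Ω) :=
          center_fix ((H85.mem_autGroup le_rfl).1 (inv_mem hbF)) (b (x⁻¹ * y)).2 hm
        rw [MulAut.inv_apply_self] at hb'
        have := (hE.2.1 (x⁻¹ * y)).2 (hb' ▸ hm)
        rwa [map_mul, map_inv, inv_mul_eq_one] at this
      refine (h5 _ _ ?_).symm
      rw [show b (c s) = a s from MulAut.apply_inv_self _ b (a s)]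
      exact h4.symm
    exact (hE.2.1 _).1 h3
  obtain ⟨j, hj⟩ := H86.pow_eq_one_trivMod hS htriv hfix
  have hcD : c ∈ D.autGroup S :=
    H87.pElement_mem_of_weaklyNormal hS hF hD.2.2 (H85.fullyNormalized_top F) hcF hj
  have : b * c = a := by rw [hc, mul_inv_cancel_left]
  exact this ▸ mul_mem hbD hcD

end H89
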