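import Cfsg.Agent.H89.CoprimeSmall
import Cfsg.Agent.H89.Generation
import Cfsg.Agent.H86.Hyperfocal
import Cfsg.Agent.H88.Normal

/-! Subgroups of small elements detecting automorphisms of order prime to `p` in a fusion system
(helper89). -/

set_option autoImplicit false

open Cfsg Cfsg.FusionSystem

namespace H89

open scoped commutatorElement

variable {Ω : Type*} [Group Ω] {S : Subgroup Ω} {p : ℕ}

theorem zpowers_card_small [hp : Fact p.Prime] {x : Ω} (hx : x ≠ 1) (hs : IsSmall p x) :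
    Nat.card (Subgroup.zpowers x) = p ∨ Nat.card (Subgroup.zpowers x) = 4 := by
  rw [Nat.card_zpowers]
  rcases hs with h | ⟨h2, h⟩
  · exact Or.inl (orderOf_eq_prime h hx)
  · subst h2
    obtain ⟨k, hk, hk'⟩ := (Nat.dvd_prime_pow Nat.prime_two).1
      ((orderOf_dvd_of_pow_eq_one h).trans (dvd_of_eq (show 4 = 2 ^ 2 from rfl)))
    interval_cases k
    · exact absurd (orderOf_eq_one_iff.1 hk') hx
    · exact Or.inl hk'
    · exact Or.inr hk'

/-- The restriction of an automorphism to an invariant finite subgroup. -/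
noncomputable def restrictAut {G : Type*} [Group G] (a : MulAut G) (W : Subgroup G) [Finite W]
    (h : ∀ x ∈ W, a x ∈ W) : MulAut W :=
  MulEquiv.ofBijective ((a.toMonoidHom.comp W.subtype).codRestrict W fun x => h x x.2)
    (Finite.injective_iff_bijective.1 fun _ _ hxy =>
      Subtype.ext (a.injective (congrArg Subtype.val hxy)))

theorem restrictAut_apply {G : Type*} [Group G] (a : MulAut G) (W : Subgroup G) [Finite W]
    (h : ∀ x ∈ W, a x ∈ W) (x : W) : (restrictAut a W h x : G) = a x := rfl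

theorem orderOf_restrictAut_dvd {G : Type*} [Group G] (a : MulAut G) (W : Subgroup G) [Finite W]
    (h : ∀ x ∈ W, a x ∈ W) : orderOf (restrictAut a W h) ∣ orderOf a := by
  have hpow : ∀ (n : ℕ) (x : W), (((restrictAut a W h ^ n) x : W) : G) = (a ^ n) x := by
    intro n
    induction n with
    | zero => intro x; rfl
    | succ n ih =>
      intro x
      rw [pow_succ', pow_succ', MulAut.mul_apply, MulAut.mul_apply, ← ih, restrictAut_apply]
  exact orderOf_dvd_of_pow_eq_one
    (MulEquiv.ext fun x => Subtype.ext (by rw [hpow, pow_orderOf_eq_one]; rfl))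

/-- If the automorphisms of order prime to `p` move elements only inside `D`, there is an invariant
subgroup of small elements of `P ∩ D` detecting them. -/
theorem exists_detecting [Finite S] [hp : Fact p.Prime] (hS : IsPGroup p S) {P : Subgroup Ω}
    (hP : P ≤ S) (D : Subgroup Ω) (A : Subgroup (MulAut P))
    (hinv : ∀ α ∈ A, ∀ x : P, (x : Ω) ∈ D → ((α x : P) : Ω) ∈ D)
    (hres : ∀ a ∈ A, (orderOf a).Coprime p → ∀ x : P, (x : Ω)⁻¹ * (a x : P) ∈ D) :
    ∃ C : Subgroup P, (∀ x ∈ C, (x : Ω) ∈ D ∧ IsSmall p (x : Ω)) ∧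
      (∀ α ∈ A, ∀ x ∈ C, α x ∈ C) ∧
      ∀ a ∈ A, (orderOf a).Coprime p → (∀ x ∈ C, a x = x) → a = 1 := by
  haveI := H85.finite_of_le hP
  set V := D.subgroupOf P with hV
  have hmem : ∀ α ∈ A, ∀ x ∈ V, α x ∈ V := fun α hα x hx => hinv α hα x hx
  obtain ⟨C, hC, hsmall, hdet⟩ := exists_small_detecting ((hS.to_le hP).to_subgroup V)
  refine ⟨C.map V.subtype, ?_, ?_, ?_⟩
  · rintro _ ⟨x, hx, rfl⟩
    exact ⟨x.2, ((hsmall x hx).map V.subtype).map P.subtype⟩
  · rintro α hα _ ⟨x, hx, rfl⟩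
    exact ⟨restrictAut α V (hmem α hα) x, H6.apply_mem_of_characteristic hC _ hx, rfl⟩
  · intro a ha hcop hfix
    have h1 : restrictAut a V (hmem a ha) = 1 :=
      hdet _ (hcop.coprime_dvd_left (orderOf_restrictAut_dvd _ _ _))
        fun x hx => Subtype.ext (hfix x ⟨x, hx, rfl⟩)
    ext x
    have h2 := DFunLike.congr_fun h1 (⟨x⁻¹ * a x, hres a ha hcop x⟩ : V)
    exact congrArg Subtype.val
      (H6.apply_eq_self_of_displacement_fixed (hS.to_le hP) a hcop (congrArg Subtype.val h2))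

/-- An automorphism of order prime to `p` stabilizing a series which reaches the trivial subgroup
fixes the invariant subgroup. -/
theorem fixes_of_series [Finite S] [hp : Fact p.Prime] (hS : IsPGroup p S) {P : Subgroup Ω}
    (hP : P ≤ S) (C : Subgroup P) (L : ℕ → Subgroup Ω) {n : ℕ} (hn : L n = ⊥)
    (h0 : ∀ x ∈ C, (x : Ω) ∈ L 0) (a : MulAut P) (ha : (orderOf a).Coprime p)
    (hinv : ∀ x ∈ C, a x ∈ C)
    (hstep : ∀ i, ∀ x ∈ C, (x : Ω) ∈ L i → (x : Ω)⁻¹ * (a x : P) ∈ L (i + 1)) :
    ∀ x ∈ C, a x = x := by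
  haveI := H85.finite_of_le hP
  have key : ∀ j i, i + j = n → ∀ x ∈ C, (x : Ω) ∈ L i → a x = x := by
    intro j
    induction j with
    | zero =>
      intro i hi x _ hx
      rw [show i = n by omega, hn, Subgroup.mem_bot, OneMemClass.coe_eq_one] at hx
      rw [hx, map_one]
    | succ j ih =>
      intro i hi x hxC hx
      exact H6.apply_eq_self_of_displacement_fixed (hS.to_le hP) a ha
        (ih (i + 1) (by omega) (x⁻¹ * a x) (C.mul_mem (C.inv_mem hxC) (hinv x hxC))
          (hstep i x hxC hx))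
  exact fun x hx => key n 0 (by omega) x hx (h0 x hx)

theorem exists_lcs_eq_bot [Finite S] [Fact p.Prime] (hS : IsPGroup p S) :
    ∃ n, S.lowerCentralSeries n = ⊥ :=
  (Subgroup.isNilpotent_iff_lowerCentralSeries S).1 hS.isNilpotent

theorem inv_mul_conj_mem_lcs {i : ℕ} {x g : Ω} (hx : x ∈ S.lowerCentralSeries i) (hg : g ∈ S) :
    x⁻¹ * (g * x * g⁻¹) ∈ S.lowerCentralSeries (i + 1) := by
  have := Subgroup.commutator_mem_commutator (inv_mem hx) hg
  rw [Subgroup.lowerCentralSeries_succ]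
  convert this using 1
  rw [commutatorElement_def]
  group

theorem hom_top_lcs [Finite S] {F : FusionSystem S} {φ : S →* Ω} (hφ : φ ∈ F.Hom S) (i : ℕ)
    (x : S) (hx : (x : Ω) ∈ S.lowerCentralSeries i) : φ x ∈ S.lowerCentralSeries i := by
  rw [← Subgroup.top_subtype_lowerCentralSeries] at hx
  obtain ⟨y, hy, hyx⟩ := hx
  have hy' : y = x := Subtype.ext hyx
  subst hy'
  have hr : φ.range = S := H85.conj_top ⟨φ, hφ, rfl⟩
  have := Subgroup.mem_map_of_mem φ hy
  rwa [Subgroup.map_lowerCentralSeries, ← MonoidHom.range_eq_map, hr] at this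

end H89

namespace H89

open Cfsg Cfsg.FusionSystem

variable {Ω : Type*} [Group Ω] {S : Subgroup Ω} {p : ℕ}

/-- The map induced by an automorphism on the cyclic subgroup generated by a small element. -/
theorem exists_cyclic_map [Fact p.Prime] {F : FusionSystem S} {P : Subgroup Ω} (hP : P ≤ S)
    {α : MulAut P} (hα : α ∈ F.autGroup P) {x : P} (hx : x ≠ 1) (hs : IsSmall p (x : Ω)) :
    ∃ (h : Subgroup.zpowers (x : Ω) ≤ P),
      (P.subtype.comp α.toMonoidHom).comp (Subgroup.inclusion h) ∈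
        F.homSet (Subgroup.zpowers (x : Ω)) (Subgroup.zpowers ((α x : P) : Ω)) ∧
      (Nat.card (Subgroup.zpowers (x : Ω)) = p ∨ Nat.card (Subgroup.zpowers (x : Ω)) = 4) ∧
      (Nat.card (Subgroup.zpowers ((α x : P) : Ω)) = p ∨
        Nat.card (Subgroup.zpowers ((α x : P) : Ω)) = 4) := by
  have h := Subgroup.zpowers_le.2 x.2
  have hs' : IsSmall p ((α x : P) : Ω) :=
    ((hs.of_injective (f := P.subtype) Subtype.coe_injective).map α.toMonoidHom).map P.subtype
  refine ⟨h, ⟨H85.restrict ((H85.mem_autGroup hP).1 hα) h, ?_⟩,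
    zpowers_card_small (fun h1 => hx (Subtype.ext h1)) hs,
    zpowers_card_small (fun h1 => hx (α.injective ((Subtype.ext h1 : α x = 1).trans (map_one α).symm)))
      hs'⟩
  rintro ⟨y, hy⟩
  obtain ⟨k, rfl⟩ := Subgroup.mem_zpowers_iff.1 hy
  refine Subgroup.mem_zpowers_iff.2 ⟨k, ?_⟩
  show ((α x : P) : Ω) ^ k = ((α (x ^ k) : P) : Ω)
  rw [map_zpow]
  rfl

/-- Elements of order prime to `p` generate inside the hyperfocal subgroup. -/
theorem inv_mul_mem_hyperfocal {F : FusionSystem S} {P : Subgroup Ω} (hP : P ≤ S)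
    {a : MulAut P} (ha : a ∈ F.autGroup P) (hcop : (orderOf a).Coprime p) (x : P) :
    (x : Ω)⁻¹ * (a x : P) ∈ F.hyperfocalSubgroup p :=
  Subgroup.subset_closure ⟨P, ⟨a, ha⟩, x, hP,
    Subgroup.subset_closure (by
      show Nat.Coprime (orderOf (⟨a, ha⟩ : F.autGroup P)) p
      rw [Subgroup.orderOf_mk]
      exact hcop), rfl⟩

/-- A subgroup of automorphisms without nontrivial elements of order prime to `p` is a `p`-group. -/
theorem isPGroup_of_no_coprime [hp : Fact p.Prime] {G : Type*} [Group G] (K : Subgroup G)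
    [Finite K] (h : ∀ a ∈ K, (orderOf a).Coprime p → a = 1) : IsPGroup p K :=
  H88.isPGroup_of_coprime_trivial fun a ha =>
    Subtype.ext (h a a.2 (by rwa [Subgroup.orderOf_coe]))

end H89
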