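import Cfsg.Agent.H86.Image
import Cfsg.Prelude.Def_FusionComponents

/-!
Transport of fusion systems, and of their properties, along an isomorphism of the underlying
groups.
-/

set_option autoImplicit false
set_option linter.style.haveILetI false

open Cfsg Cfsg.FusionSystem

namespace H89.Tp

variable {Ω : Type*} [Group Ω] {S : Subgroup Ω} {Ω' : Type*} [Group Ω'] {S' : Subgroup Ω'}

/-- The homomorphism into the ambient group attached to an isomorphism. -/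
def hom (f : S ≃* S') : S →* Ω' := S'.subtype.comp f.toMonoidHom

@[simp] theorem hom_apply (f : S ≃* S') (x : S) : hom f x = (f x : Ω') := rfl

theorem hom_injective (f : S ≃* S') : Function.Injective (hom f) :=
  fun _ _ h => f.injective (Subtype.ext h)

theorem range_hom (f : S ≃* S') : (hom f).range = S' := by
  refine le_antisymm ?_ fun y hy => ?_
  · rintro _ ⟨x, rfl⟩
    exact (f x).2
  · exact ⟨f.symm ⟨y, hy⟩, by simp⟩

/-- Image of a subgroup. -/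
abbrev im (f : S ≃* S') (P : Subgroup Ω) : Subgroup Ω' := imageAlong (hom f) P

theorem mem_im {f : S ≃* S'} {P : Subgroup Ω} {y : Ω'} :
    y ∈ im f P ↔ ∃ x : S, (x : Ω) ∈ P ∧ (f x : Ω') = y := Iff.rfl

theorem coe_mem_im {f : S ≃* S'} {P : Subgroup Ω} {x : S} : (f x : Ω') ∈ im f P ↔ (x : Ω) ∈ P :=
  ⟨fun ⟨z, hz, he⟩ => by rwa [f.injective (Subtype.ext he : f z = f x)] at hz,
    fun h => ⟨x, h, rfl⟩⟩

theorem im_le (f : S ≃* S') (P : Subgroup Ω) : im f P ≤ S' := by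
  rintro _ ⟨x, -, rfl⟩
  exact (f x).2

theorem im_mono (f : S ≃* S') {P Q : Subgroup Ω} (h : P ≤ Q) : im f P ≤ im f Q := by
  rintro _ ⟨x, hx, rfl⟩
  exact ⟨x, h hx, rfl⟩

theorem mem_pre {f : S ≃* S'} {P' : Subgroup Ω'} {x : Ω} :
    x ∈ preimageAlong (hom f) P' ↔ ∃ hx : x ∈ S, (f ⟨x, hx⟩ : Ω') ∈ P' := by
  constructor
  · rintro ⟨z, hz, rfl⟩
    exact ⟨z.2, hz⟩
  · rintro ⟨hx, h⟩
    exact ⟨⟨x, hx⟩, h, rfl⟩

theorem coe_mem_pre {f : S ≃* S'} {P' : Subgroup Ω'} {x : S} :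
    (x : Ω) ∈ preimageAlong (hom f) P' ↔ (f x : Ω') ∈ P' :=
  ⟨fun h => (mem_pre.1 h).2, fun h => mem_pre.2 ⟨x.2, h⟩⟩

theorem im_symm (f : S ≃* S') (P' : Subgroup Ω') : im f.symm P' = preimageAlong (hom f) P' := by
  ext x
  constructor
  · rintro ⟨y, hy, rfl⟩
    refine coe_mem_pre.2 ?_
    show (f (f.symm y) : Ω') ∈ P'
    rw [f.apply_symm_apply]
    exact hy
  · intro h
    obtain ⟨hx, h⟩ := mem_pre.1 h
    exact ⟨f ⟨x, hx⟩, h, by simp⟩

theorem pre_symm (f : S ≃* S') (P : Subgroup Ω) : preimageAlong (hom f.symm) P = im f P := by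
  rw [← im_symm, MulEquiv.symm_symm]

theorem im_pre (f : S ≃* S') {P' : Subgroup Ω'} (h : P' ≤ S') :
    im f (preimageAlong (hom f) P') = P' := H86.imageAlong_preimageAlong (range_hom f) h

theorem pre_im (f : S ≃* S') {P : Subgroup Ω} (h : P ≤ S) :
    preimageAlong (hom f) (im f P) = P := by
  ext x
  constructor
  · intro hx
    obtain ⟨hxS, hx⟩ := mem_pre.1 hx
    exact coe_mem_im.1 hx
  · exact fun hx => mem_pre.2 ⟨h hx, coe_mem_im.2 hx⟩

theorem im_sup (f : S ≃* S') {P Q : Subgroup Ω} (hP : P ≤ S) (hQ : Q ≤ S) :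
    im f (P ⊔ Q) = im f P ⊔ im f Q := by
  refine le_antisymm ?_ (sup_le (im_mono f le_sup_left) (im_mono f le_sup_right))
  have h : P ⊔ Q ≤ preimageAlong (hom f) (im f P ⊔ im f Q) := sup_le
    (fun x hx => mem_pre.2 ⟨hP hx, Subgroup.mem_sup_left (coe_mem_im.2 hx)⟩)
    (fun x hx => mem_pre.2 ⟨hQ hx, Subgroup.mem_sup_right (coe_mem_im.2 hx)⟩)
  exact (im_mono f h).trans (im_pre f (sup_le (im_le f P) (im_le f Q))).le

theorem im_top (f : S ≃* S') : im f S = S' :=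
  le_antisymm (im_le f S) fun y hy => ⟨f.symm ⟨y, hy⟩, (f.symm ⟨y, hy⟩).2, by simp⟩

theorem im_centralizerIn (f : S ≃* S') {T : Subgroup Ω} (hT : T ≤ S) :
    im f (centralizerIn S T) = centralizerIn S' (im f T) := by
  ext y
  constructor
  · rintro ⟨x, hx, rfl⟩
    refine ⟨(f x).2, ?_⟩
    rintro _ ⟨z, hz, rfl⟩
    exact congrArg Subtype.val (show f z * f x = f x * f z by
      rw [← map_mul, ← map_mul]; exact congrArg f (Subtype.ext (hx.2 _ hz)))
  · rintro ⟨hy, hyc⟩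
    obtain ⟨x, hx⟩ := f.surjective ⟨y, hy⟩
    obtain rfl : (f x : Ω') = y := congrArg Subtype.val hx
    refine ⟨x, ⟨x.2, fun z hz => ?_⟩, rfl⟩
    have h1 : f ⟨z, hT hz⟩ * f x = f x * f ⟨z, hT hz⟩ :=
      Subtype.ext (hyc _ ((coe_mem_im (x := ⟨z, hT hz⟩)).2 hz))
    rw [← map_mul, ← map_mul] at h1
    exact congrArg Subtype.val (f.injective h1)

theorem induced_symm {f : S ≃* S'} {P : Subgroup Ω} {φ : P →* Ω} {P' : Subgroup Ω'}
    {φ' : P' →* Ω'} (h : InducedAlong (hom f) φ φ') (hP' : P' ≤ im f P) :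
    InducedAlong (hom f.symm) φ' φ := by
  obtain ⟨hP, hφ, hP'', he⟩ := h
  have key : ∀ y : P', ∃ x : P, (f ⟨x, hP x.2⟩ : Ω') = y := fun y => by
    obtain ⟨x, hx, hxy⟩ := mem_im.1 (hP' y.2)
    exact ⟨⟨x, hx⟩, hxy⟩
  have heq : ∀ (y : P') (x : P), (f ⟨x, hP x.2⟩ : Ω') = y → φ' y = (f ⟨φ x, hφ x⟩ : Ω') := by
    intro y x hxy
    rw [show y = ⟨hom f ⟨x, hP x.2⟩, hP'' x⟩ from Subtype.ext hxy.symm, he x]
    rfl
  have hP'S : P' ≤ S' := hP'.trans (im_le f P)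
  have hval : ∀ y : P', φ' y ∈ S' := fun y => by
    obtain ⟨x, hx⟩ := key y
    rw [heq y x hx]
    exact (f _).2
  have hback : ∀ (y : P') (x : P), (f ⟨x, hP x.2⟩ : Ω') = y →
      f.symm ⟨y, hP'S y.2⟩ = ⟨x, hP x.2⟩ := fun y x hxy =>
    f.symm_apply_eq.2 (Subtype.ext hxy.symm)
  have hmem : ∀ y : P', hom f.symm ⟨y, hP'S y.2⟩ ∈ P := fun y => by
    obtain ⟨x, hx⟩ := key y
    rw [hom_apply, hback y x hx]
    exact x.2
  refine ⟨hP'S, hval, hmem, fun y => ?_⟩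
  obtain ⟨x, hx⟩ := key y
  rw [show (⟨hom f.symm ⟨y, hP'S y.2⟩, hmem y⟩ : P) = x from
      Subtype.ext ((congrArg (fun z : S => (z : Ω)) (hback y x hx)).trans rfl), hom_apply,
    show f.symm ⟨φ' y, hval y⟩ = ⟨φ x, hφ x⟩ from f.symm_apply_eq.2 (Subtype.ext (heq y x hx))]

/-- `E'` is the transport of `E` along `f`. -/
structure Tr (f : S ≃* S') {T : Subgroup Ω} {T' : Subgroup Ω'} (E : FusionSystem T)
    (E' : FusionSystem T') : Prop where
  le : T ≤ S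
  im_eq : im f T = T'
  push : ∀ (P : Subgroup Ω) (φ : P →* Ω), φ ∈ E.Hom P →
    ∃ φ' ∈ E'.Hom (im f P), InducedAlong (hom f) φ φ'
  pull : ∀ (P' : Subgroup Ω') (φ' : P' →* Ω'), φ' ∈ E'.Hom P' →
    ∃ φ ∈ E.Hom (preimageAlong (hom f) P'), InducedAlong (hom f) φ φ'

variable {f : S ≃* S'} {T : Subgroup Ω} {T' : Subgroup Ω'} {E : FusionSystem T}
  {E' : FusionSystem T'}

theorem Tr.le' (h : Tr f E E') : T' ≤ S' := h.im_eq ▸ im_le f T

theorem Tr.symm (h : Tr f E E') : Tr f.symm E' E := by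
  refine ⟨h.le', ?_, fun P' φ' hφ' => ?_, fun P φ hφ => ?_⟩
  · rw [im_symm, ← h.im_eq, pre_im f h.le]
  · obtain ⟨φ, hφ, hi⟩ := h.pull P' φ' hφ'
    rw [im_symm]
    exact ⟨φ, hφ, induced_symm hi (im_pre f ((E'.le_of_mem hφ').1.trans h.le')).ge⟩
  · obtain ⟨φ', hφ', hi⟩ := h.push P φ hφ
    rw [pre_symm]
    exact ⟨φ', hφ', induced_symm hi le_rfl⟩

/-- The transported system exists. -/
theorem exists_tr (f : S ≃* S') {T : Subgroup Ω} (E : FusionSystem T) (hT : T ≤ S) :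
    ∃ E' : FusionSystem (im f T), Tr f E E' := by
  have hval : ∀ {P' : Subgroup Ω'} {φ' : P' →* Ω'} {φ : preimageAlong (hom f) P' →* Ω},
      P' ≤ im f T → φ ∈ E.Hom _ → InducedAlong (hom f) φ φ' → ∀ y, φ' y ∈ im f T := by
    rintro P' φ' φ hP' hφ ⟨hP, hφS, hP'', he⟩ y
    obtain ⟨x, hx⟩ := f.surjective ⟨(y : Ω'), im_le f T (hP' y.2)⟩
    have hxP : (x : Ω) ∈ preimageAlong (hom f) P' := coe_mem_pre.2 (by rw [hx]; exact y.2)
    rw [show y = ⟨hom f ⟨x, hP hxP⟩, hP'' ⟨x, hxP⟩⟩ from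
      Subtype.ext (congrArg Subtype.val hx).symm, he ⟨x, hxP⟩]
    exact coe_mem_im.2 ((E.le_of_mem hφ).2 _)
  have hpre : ∀ {P' : Subgroup Ω'}, P' ≤ im f T → preimageAlong (hom f) P' ≤ T := fun h x hx => by
    obtain ⟨hxS, hx⟩ := mem_pre.1 hx
    exact coe_mem_im.1 (h hx)
  have hlift : ∀ {P' : Subgroup Ω'}, P' ≤ im f T → ∀ y : P',
      ∃ x : preimageAlong (hom f) P', ∃ hx : (x : Ω) ∈ S, (f ⟨x, hx⟩ : Ω') = y := by
    intro P' hP' y
    obtain ⟨x, hx⟩ := f.surjective ⟨(y : Ω'), im_le f T (hP' y.2)⟩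
    exact ⟨⟨x, coe_mem_pre.2 (by rw [hx]; exact y.2)⟩, x.2, congrArg Subtype.val hx⟩
  refine ⟨
    { Hom := fun P' => {φ' | P' ≤ im f T ∧
        ∃ φ ∈ E.Hom (preimageAlong (hom f) P'), InducedAlong (hom f) φ φ'}
      le_of_mem := fun ⟨h1, φ, hφ, hi⟩ => ⟨h1, hval h1 hφ hi⟩
      injective_of_mem := ?_
      conj_mem := ?_
      comp_mem := ?_
      inv_mem := ?_ }, hT, rfl, ?_, fun P' φ' h => h.2⟩
  · rintro P' φ' ⟨h1, φ, hφ, hP, hφS, hP'', he⟩ a b hab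
    obtain ⟨x, hxS, hxa⟩ := hlift h1 a
    obtain ⟨z, hzS, hzb⟩ := hlift h1 b
    rw [show a = ⟨hom f ⟨x, hP x.2⟩, hP'' x⟩ from Subtype.ext hxa.symm,
      show b = ⟨hom f ⟨z, hP z.2⟩, hP'' z⟩ from Subtype.ext hzb.symm] at hab ⊢
    rw [he, he] at hab
    have h2 := E.injective_of_mem hφ (Subtype.ext_iff.1 (hom_injective f hab) |> id)
    subst h2
    rfl
  · intro P' g hP' hg
    obtain ⟨s, hs⟩ := f.surjective ⟨g, im_le f T hg⟩
    have hsT : (s : Ω) ∈ T := coe_mem_im.1 (by rw [hs]; exact hg)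
    refine ⟨hP', _, E.conj_mem (hpre hP') hsT, (hpre hP').trans hT,
      fun x => hT ((E.le_of_mem (E.conj_mem (hpre hP') hsT)).2 x),
      fun x => (mem_pre.1 x.2).2, fun x => ?_⟩
    show g * (f ⟨x, _⟩ : Ω') * g⁻¹ = (f _ : Ω')
    have hg' : g = (f s : Ω') := (congrArg Subtype.val hs).symm
    rw [hg', ← Subgroup.coe_inv, ← Subgroup.coe_mul, ← Subgroup.coe_mul, ← map_inv, ← map_mul,
      ← map_mul]
    rfl
  · rintro P' Q' φ' ψ' ⟨hP', φ, hφ, hφi⟩ ⟨hQ', ψ, hψ, hψi⟩ hm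
    obtain ⟨hP, hφS, hP'', he⟩ := hφi
    obtain ⟨hQ, hψS, hQ'', he'⟩ := hψi
    have hm' : ∀ x, φ x ∈ preimageAlong (hom f) Q' := fun x =>
      mem_pre.2 ⟨hφS x, by
        have h1 := hm ⟨_, hP'' x⟩
        rwa [he x] at h1⟩
    refine ⟨hP', _, E.comp_mem hφ hψ hm', hP, fun x => hψS _, hP'', fun x => ?_⟩
    show ψ' ⟨φ' _, hm _⟩ = _
    rw [show (⟨φ' ⟨_, hP'' x⟩, hm _⟩ : Q') = ⟨hom f ⟨φ x, hQ (hm' x)⟩, hQ'' ⟨φ x, hm' x⟩⟩ from
      Subtype.ext ((he x).trans rfl), he' ⟨φ x, hm' x⟩]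
    rfl
  · rintro P' φ' ⟨hP', φ, hφ, hi⟩
    have hvals := hval hP' hφ hi
    obtain ⟨hP, hφS, hP'', he⟩ := hi
    have hR : φ'.range ≤ im f T := by rintro _ ⟨y, rfl⟩; exact hvals y
    have hrange : preimageAlong (hom f) φ'.range = φ.range := by
      ext z
      constructor
      · intro hz
        obtain ⟨hzS, hz⟩ := mem_pre.1 hz
        obtain ⟨y, hy⟩ := hz
        obtain ⟨x, hxS, hxy⟩ := hlift hP' y
        refine ⟨x, ?_⟩
        rw [show y = ⟨hom f ⟨x, hP x.2⟩, hP'' x⟩ from Subtype.ext hxy.symm, he x] at hy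
        exact congrArg Subtype.val (hom_injective f hy)
      · rintro ⟨x, rfl⟩
        exact mem_pre.2 ⟨hφS x, ⟨_, (he x)⟩⟩
    obtain ⟨ψ, hψ, hψe⟩ := E.inv_mem hφ
    have hψ' : ψ.comp (Subgroup.inclusion hrange.le) ∈ E.Hom (preimageAlong (hom f) φ'.range) := by
      have h1 := E.comp_mem (E.conj_mem (g := 1) (hpre hR) (one_mem T)) hψ (fun x => by
        show 1 * (x : Ω) * 1⁻¹ ∈ φ.range
        rw [one_mul, inv_one, mul_one]
        exact hrange.le x.2)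
      convert h1 using 1
      exact MonoidHom.ext fun x => congrArg ψ (Subtype.ext (show (x : Ω) = 1 * (x : Ω) * 1⁻¹ by simp))
    let e : P' ≃* φ'.range := MonoidHom.ofInjective (f := φ') (by
      intro a b hab
      obtain ⟨x, hxS, hxa⟩ := hlift hP' a
      obtain ⟨z, hzS, hzb⟩ := hlift hP' b
      rw [show a = ⟨hom f ⟨x, hP x.2⟩, hP'' x⟩ from Subtype.ext hxa.symm,
        show b = ⟨hom f ⟨z, hP z.2⟩, hP'' z⟩ from Subtype.ext hzb.symm] at hab ⊢
      rw [he, he] at hab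
      have h2 := E.injective_of_mem hφ (congrArg Subtype.val (hom_injective f hab))
      subst h2
      rfl)
    refine ⟨P'.subtype.comp e.symm.toMonoidHom, ⟨hR, _, hψ', fun z hz => (mem_pre.1 hz).1,
      fun z => hT ((E.le_of_mem hψ').2 z), fun z => (mem_pre.1 z.2).2,
      fun z => ?_⟩, fun y => congrArg Subtype.val (e.symm_apply_apply y)⟩
    obtain ⟨x, hx⟩ := hrange.le z.2
    have h1 : ψ (Subgroup.inclusion hrange.le z) = (x : Ω) := by
      rw [show Subgroup.inclusion hrange.le z = ⟨φ x, x, rfl⟩ from Subtype.ext hx.symm, hψe]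
    have h2 : ∀ h, e.symm ⟨hom f ⟨z, (mem_pre.1 z.2).1⟩, h⟩ = ⟨_, hP'' x⟩ := fun h => by
      rw [MulEquiv.symm_apply_eq]
      refine Subtype.ext ?_
      show _ = φ' _
      rw [he x]
      exact congrArg (hom f) (Subtype.ext hx.symm)
    refine (congrArg Subtype.val (h2 _)).trans ?_
    exact congrArg (hom f) (Subtype.ext h1.symm)
  · intro P φ hφ
    have hPT : P ≤ T := (E.le_of_mem hφ).1
    have heq := pre_im f (hPT.trans hT)
    let φ' : im f P →* Ω' :=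
      (hom f).comp ((φ.comp ((Subgroup.inclusion heq.le).comp
        ((MonoidHom.codRestrict ((S.subtype.comp f.symm.toMonoidHom).comp
            (Subgroup.inclusion (im_le f P))) _ fun y => coe_mem_pre.2 (by
              show (f (f.symm _) : Ω') ∈ im f P
              rw [f.apply_symm_apply]
              exact y.2))))).codRestrict S fun y => hT ((E.le_of_mem hφ).2 _))
    refine ⟨φ', ⟨im_mono f hPT, φ.comp (Subgroup.inclusion heq.le), ?_, heq.le.trans (hPT.trans hT),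
      fun x => hT ((E.le_of_mem hφ).2 _), fun x => (mem_pre.1 x.2).2, fun x => ?_⟩,
      hPT.trans hT, fun x => hT ((E.le_of_mem hφ).2 x), fun x => coe_mem_im.2 x.2, fun x => ?_⟩
    · have h1 := E.comp_mem (E.conj_mem (g := 1) (heq.le.trans hPT) (one_mem T)) hφ (fun x => by
        show 1 * (x : Ω) * 1⁻¹ ∈ P
        rw [one_mul, inv_one, mul_one]
        exact heq.le x.2)
      convert h1 using 1
      exact MonoidHom.ext fun x => congrArg φ (Subtype.ext (show (x : Ω) = 1 * (x : Ω) * 1⁻¹ by simp))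
    · refine congrArg (hom f) (Subtype.ext (congrArg φ (Subtype.ext ?_)))
      show ((f.symm _ : S) : Ω) = (x : Ω)
      exact congrArg Subtype.val ((congrArg f.symm (Subtype.ext rfl)).trans (f.symm_apply_apply ⟨(x : Ω), _⟩))
    · refine congrArg (hom f) (Subtype.ext (congrArg φ (Subtype.ext ?_)))
      show ((f.symm _ : S) : Ω) = (x : Ω)
      exact congrArg Subtype.val ((congrArg f.symm (Subtype.ext rfl)).trans (f.symm_apply_apply ⟨(x : Ω), _⟩))

end H89.Tp
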