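import Cfsg.Agent.H89.TransportProps
import Cfsg.Agent.H89.CentralEltApps
import Cfsg.Agent.H86.Hyperfocal

/-!
Normality, simplicity and quasisimplicity are invariant under transport.
-/

set_option autoImplicit false
set_option linter.style.haveILetI false
set_option linter.unusedSectionVars false

open Cfsg Cfsg.FusionSystem

namespace H89.Tp

variable {Ω : Type*} [Group Ω] {S : Subgroup Ω} {Ω' : Type*} [Group Ω'] {S' : Subgroup Ω'}
  {f : S ≃* S'} {T U : Subgroup Ω} {T' U' : Subgroup Ω'} {E : FusionSystem T}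
  {E' : FusionSystem T'} {F : FusionSystem U} {F' : FusionSystem U'}

theorem im_centralizerIn' (f : S ≃* S') {T U : Subgroup Ω} (hT : T ≤ S) (hU : U ≤ S) :
    im f (centralizerIn U T) = centralizerIn (im f U) (im f T) := by
  ext y
  constructor
  · rintro ⟨x, hx, rfl⟩
    have h1 : (f x : Ω') ∈ im f (centralizerIn S T) := coe_mem_im.2 ⟨x.2, hx.2⟩
    rw [im_centralizerIn f hT] at h1
    exact ⟨coe_mem_im.2 hx.1, h1.2⟩
  · rintro ⟨hy, hyc⟩
    obtain ⟨x, hx, rfl⟩ := mem_im.1 hy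
    have h1 : (f x : Ω') ∈ centralizerIn S' (im f T) := ⟨(f x).2, hyc⟩
    rw [← im_centralizerIn f hT] at h1
    exact coe_mem_im.2 ⟨hx, (coe_mem_im.1 h1).2⟩

theorem Tr.normal [Finite S] {p : ℕ} [Fact p.Prime] (hS : IsPGroup p S) (hE : Tr f E E')
    (hF : Tr f F F') (h : E.IsNormalIn F p) : E'.IsNormalIn F' p := by
  haveI := finite_target f
  refine ⟨hE.weaklyNormal hS hF h.1, fun α' hα' => ?_⟩
  have hT'eq := hE.im_eq
  subst hT'eq
  have hU'eq := hF.im_eq
  subst hU'eq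
  have hTU : T ≤ U := h.1.2.2.2.1.1
  have hX : T ⊔ centralizerIn U T ≤ U := sup_le hTU inf_le_left
  have himX : im f (T ⊔ centralizerIn U T) = im f T ⊔ centralizerIn (im f U) (im f T) := by
    rw [im_sup f hE.le ((H85.centralizerIn_le (S := U) T).trans hF.le),
      im_centralizerIn' f hE.le hF.le]
  obtain ⟨α, hα, hαe⟩ := hE.aut_inv le_rfl hα'
  obtain ⟨β, hβ, hβT, hβC⟩ := h.2 α hα
  obtain ⟨β', hβ', hβe⟩ := hF.aut hX hβ
  haveI := H85.finite_of_le (hX.trans hF.le)
  let c : im f (T ⊔ centralizerIn U T) ≃* ↥(im f T ⊔ centralizerIn (im f U) (im f T)) :=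
    MulEquiv.subgroupCongr himX
  refine ⟨MulAut.congr c β', (H85.mem_autGroup (himX ▸ im_mono f hX)).2 ?_, fun y => ?_,
    fun z hz => ?_⟩
  · refine H86.mem_of_eq_on F' himX.ge ((H85.mem_autGroup (im_mono f hX)).1 hβ') fun z => ?_
    rfl
  · obtain ⟨x, hx, rfl⟩ := exists_of_mem_im y
    show ((β' (c.symm _) : im f (T ⊔ centralizerIn U T)) : Ω') = _
    rw [show c.symm (Subgroup.inclusion le_sup_left ⟨(f ⟨x, hx⟩ : Ω'), mem_im_of x.2 hx⟩) =
      res f (T ⊔ centralizerIn U T) (hX.trans hF.le) (Subgroup.inclusion le_sup_left x) from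
      Subtype.ext rfl, hβe,
      show (⟨(f ⟨x, hx⟩ : Ω'), mem_im_of x.2 hx⟩ : im f T) = res f T hE.le x from rfl, hαe]
    exact congrArg (fun w : S => (f w : Ω')) (Subtype.ext (hβT x))
  · have hz' : (z : Ω') ∈ im f (centralizerIn U T) := (im_centralizerIn' f hE.le hF.le).ge hz
    obtain ⟨x, hx, hxz⟩ := mem_im.1 hz'
    let x' : ↥(T ⊔ centralizerIn U T) := ⟨x, Subgroup.mem_sup_right hx⟩
    show (z : Ω')⁻¹ * ((β' (c.symm z) : im f (T ⊔ centralizerIn U T)) : Ω') ∈ _
    rw [show c.symm z = res f (T ⊔ centralizerIn U T) (hX.trans hF.le) x' from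
      Subtype.ext hxz.symm, hβe, res_apply, ← hxz, ← Subgroup.coe_inv, ← Subgroup.coe_mul,
      ← map_inv, ← map_mul]
    have h1 := hβC x' hx
    refine ⟨coe_mem_im.2 h1.1, ?_⟩
    have h2 : (f ((x : S)⁻¹ * ⟨(β x' : Ω), hF.le (hX (β x').2)⟩) : Ω') ∈
        im f (centralizerIn S T) := coe_mem_im.2 ⟨SetLike.coe_mem _, h1.2⟩
    rw [im_centralizerIn f hE.le] at h2
    exact h2.2

theorem Tr.ne_bot (h : Tr f E E') (hT : T ≠ ⊥) : T' ≠ ⊥ := by
  intro h0
  refine hT (eq_bot_iff.2 fun x hx => ?_)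
  have h1 : (f ⟨x, h.le hx⟩ : Ω') ∈ (⊥ : Subgroup Ω') := (h.im_eq.trans h0).le (mem_im_of hx _)
  rw [Subgroup.mem_bot] at h1
  have h2 : f ⟨x, h.le hx⟩ = f 1 := by rw [map_one]; exact Subtype.ext h1
  exact congrArg Subtype.val (f.injective h2)

theorem Tr.simple [Finite S] {p : ℕ} [Fact p.Prime] (hS : IsPGroup p S) (h : Tr f E E')
    (hs : E.IsSimple p) : E'.IsSimple p := by
  haveI := finite_target f
  refine ⟨h.saturated hS hs.1, h.ne_bot hs.2.1, fun V' D' hD' => ?_⟩
  have hV'T : V' ≤ T' := hD'.1.2.2.2.1.1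
  obtain ⟨D, hD⟩ := exists_tr f.symm D' (hV'T.trans h.le')
  have hDn : D.IsNormalIn E p := hD.normal (pGroup_target f hS) h.symm hD'
  have hback := hD.symm
  rw [show f.symm.symm = f from MulEquiv.symm_symm f] at hback
  rcases hs.2.2 _ D hDn with h0 | ⟨h0, h1⟩
  · left
    refine eq_bot_iff.2 fun y hy => ?_
    rw [← hback.im_eq, h0] at hy
    obtain ⟨x, hx, rfl⟩ := mem_im.1 hy
    rw [show x = 1 from Subtype.ext (Subgroup.mem_bot.1 hx), map_one]
    exact one_mem _
  · refine Or.inr ⟨?_, fun P' => Set.Subset.antisymm ?_ ?_⟩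
    · rw [← hback.im_eq, h0, h.im_eq]
    · exact hback.subsystem h (fun P φ hφ => (h1 P).le hφ) P'
    · exact h.subsystem hback (fun P φ hφ => (h1 P).ge hφ) P'

theorem Tr.central_le (h : Tr f F F') {Q : Subgroup Ω} (hQ : F.IsCentral Q) :
    F'.IsCentral (im f Q) := by
  refine ⟨h.im_eq ▸ im_mono f hQ.1, fun P' φ' hφ' => ?_⟩
  obtain ⟨φ, hφ, hA, hB, hC, he⟩ := h.pull P' φ' hφ'
  obtain ⟨ψ, hψ, hψP, hψQ⟩ := hQ.2 _ φ hφ
  obtain ⟨ψ', hψ', hψe⟩ := h.push' hψ
  have hP' : P' ≤ S' := (F'.le_of_mem hφ').1.trans h.le'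
  have hle : P' ⊔ im f Q ≤ im f (preimageAlong (hom f) P' ⊔ Q) :=
    sup_le ((im_pre f hP').ge.trans (im_mono f le_sup_left)) (im_mono f le_sup_right)
  refine ⟨_, H86.restrict_mem F' hle hψ', fun y => ?_, fun y => ?_⟩
  · obtain ⟨x, hx, hxy⟩ := mem_im.1 ((im_pre f hP').ge y.2)
    obtain rfl : y = ⟨hom f ⟨(x : Ω), hA hx⟩, hC ⟨x, hx⟩⟩ := Subtype.ext hxy.symm
    rw [he ⟨x, hx⟩]
    refine (hψe (Subgroup.inclusion le_sup_left ⟨x, hx⟩) x.2
      (h.le ((F.le_of_mem hψ).2 _))).trans ?_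
    exact congrArg (fun w : S => (f w : Ω')) (Subtype.ext (hψP ⟨x, hx⟩))
  · obtain ⟨x, hx, rfl⟩ := exists_of_mem_im y
    refine (hψe (Subgroup.inclusion le_sup_right x) hx
      (h.le ((F.le_of_mem hψ).2 _))).trans ?_
    exact congrArg (fun w : S => (f w : Ω')) (Subtype.ext (hψQ x))

theorem Tr.center [Finite S] (h : Tr f F F') : im f F.center = F'.center := by
  haveI := finite_target f
  haveI : Finite U := H85.finite_of_le h.le
  haveI : Finite U' := H85.finite_of_le h.le'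
  refine le_antisymm (le_sSup (h.central_le (H89.center_isCentral F))) ?_
  have h1 : im f.symm F'.center ≤ F.center :=
    le_sSup (h.symm.central_le (H89.center_isCentral F'))
  rw [im_symm] at h1
  exact (im_pre f ((H89.center_le F').trans h.le')).ge.trans (im_mono f h1)

theorem Tr.hyp_le [Finite S] {p : ℕ} (h : Tr f F F') :
    im f (F.hyperfocalSubgroup p) ≤ F'.hyperfocalSubgroup p := by
  have hle : F.hyperfocalSubgroup p ≤ preimageAlong (hom f) (F'.hyperfocalSubgroup p) := by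
    refine (Subgroup.closure_le _).2 ?_
    rintro _ ⟨P, α, x, hP, hα, rfl⟩
    obtain ⟨α', hα', he⟩ := h.aut hP α.2
    have hPS : P ≤ S := hP.trans h.le
    let r := res f P hPS
    haveI := finite_target f
    haveI := H85.finite_of_le hPS
    -- `O^p` is carried over
    have hmem : ∀ a : F.autGroup P, MulAut.congr r (a : MulAut P) ∈ F'.autGroup (im f P) := fun a => by
      obtain ⟨b, hb, hbe⟩ := h.aut hP a.2
      convert hb using 1
      refine MulEquiv.ext fun y => ?_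
      obtain ⟨z, rfl⟩ := r.surjective y
      show r ((a : MulAut P) (r.symm (r z))) = _
      rw [MulEquiv.symm_apply_apply]
      exact (hbe z).symm
    let Φ : F.autGroup P →* F'.autGroup (im f P) :=
      ((MulAut.congr r).toMonoidHom.comp (F.autGroup P).subtype).codRestrict _ hmem
    refine mem_pre.2 ⟨S.mul_mem (S.inv_mem (hPS x.2)) (hPS (SetLike.coe_mem _)), ?_⟩
    refine Subgroup.subset_closure ⟨im f P, Φ α, r x, h.im_eq ▸ im_mono f hP,
      H86.pResidual_map_le p Φ ⟨α, hα, rfl⟩, ?_⟩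
    show _ = (r x : Ω')⁻¹ * ((r ((α : MulAut P) (r.symm (r x))) : im f P) : Ω')
    rw [MulEquiv.symm_apply_apply, res_apply, res_apply]
    show (f ((⟨(x : Ω), hPS x.2⟩ : S)⁻¹ * ⟨((α : MulAut P) x : Ω), hPS (SetLike.coe_mem _)⟩) : Ω') = _
    rw [map_mul, map_inv, Subgroup.coe_mul, Subgroup.coe_inv]
  exact (im_mono f hle).trans (im_pre f ((H86.hyperfocal_le F' p).trans h.le')).le

theorem Tr.hyp_eq [Finite S] {p : ℕ} (h : Tr f F F') (hh : F.hyperfocalSubgroup p = U) :
    F'.hyperfocalSubgroup p = U' := by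
  refine le_antisymm (H86.hyperfocal_le F' p) ?_
  have := h.hyp_le (p := p)
  rwa [hh, h.im_eq] at this

theorem Tr.factor (h : Tr f E E') (e : T ≃* T') (he : ∀ x : T, (e x : Ω') = (f ⟨x, h.le x.2⟩ : Ω'))
    {Z : Subgroup Ω} (hZ : Z ≤ T) {Ω'' : Type*} [Group Ω''] {V : Subgroup Ω''} {θ' : T' →* Ω''}
    {K : FusionSystem V} (hK : E'.IsFactorSystem (im f Z) θ' K) :
    E.IsFactorSystem Z (θ'.comp e.toMonoidHom) K := by
  obtain ⟨hZ', hker, hrange, hmaps⟩ := hK
  refine ⟨hZ, fun s => ?_, ?_, fun P'' φ'' => ?_⟩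
  · rw [MonoidHom.comp_apply, hker]
    show (e s : Ω') ∈ im f Z ↔ _
    rw [he]
    exact coe_mem_im
  · refine le_antisymm ?_ fun y hy => ?_
    · rintro _ ⟨x, rfl⟩
      exact hrange ▸ ⟨_, rfl⟩
    · obtain ⟨x, rfl⟩ := hrange.ge hy
      exact ⟨e.symm x, congrArg θ' (e.apply_symm_apply x)⟩
  have hpre : im f (preimageAlong (θ'.comp e.toMonoidHom) P'') = preimageAlong θ' P'' := by
    ext y
    constructor
    · intro hy
      obtain ⟨x, ⟨z, hz, hzx⟩, rfl⟩ := mem_im.1 hy
      refine ⟨e z, hz, ?_⟩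
      show (e z : Ω') = (f x : Ω')
      rw [he]
      exact congrArg (fun w : S => (f w : Ω')) (Subtype.ext hzx)
    · rintro ⟨z, hz, rfl⟩
      obtain ⟨x, rfl⟩ := e.surjective z
      refine mem_im.2 ⟨⟨x, h.le x.2⟩, ⟨x, hz, rfl⟩, (he x).symm⟩
  have hPT : preimageAlong (θ'.comp e.toMonoidHom) P'' ≤ T := Subgroup.map_subtype_le _
  rw [hmaps]
  constructor
  · rintro ⟨hP'', φ', hφ', hA, hB, hC, hcomp⟩
    obtain ⟨φ, hφ, hφe⟩ := h.pull' (hPT.trans h.le)
      (H86.restrict_mem E' hpre.le hφ')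
    refine ⟨hP'', φ, hφ, hPT, fun x => (E.le_of_mem hφ).2 x, fun x => ?_, fun x => ?_⟩
    · obtain ⟨z, hz, hzx⟩ := x.2
      rw [show (⟨(x : Ω), hPT x.2⟩ : T) = z from Subtype.ext hzx.symm]
      exact hz
    · have hm : (f ⟨x, h.le (hPT x.2)⟩ : Ω') ∈ preimageAlong θ' P'' :=
        hpre.le (mem_im_of x.2 _)
      have h1 := hcomp ⟨_, hm⟩
      have h2 := hφe x (h.le (hPT x.2)) (h.le ((E.le_of_mem hφ).2 x))
      refine (congrArg φ'' (Subtype.ext (congrArg θ' (Subtype.ext (he _))))).trans (h1.trans ?_)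
      refine congrArg θ' (Subtype.ext ?_)
      exact h2.trans (he ⟨φ x, _⟩).symm
  · rintro ⟨hP'', φ, hφ, hA, hB, hC, hcomp⟩
    obtain ⟨φ', hφ', hφe⟩ := h.push' hφ
    refine ⟨hP'', _, H86.restrict_mem E' hpre.ge hφ', Subgroup.map_subtype_le _,
      fun y => (E'.le_of_mem hφ').2 _, fun y => ?_, fun y => ?_⟩
    · obtain ⟨z, hz, hzy⟩ := y.2
      rw [show (⟨(y : Ω'), Subgroup.map_subtype_le _ y.2⟩ : T') = z from Subtype.ext hzy.symm]
      exact hz
    · obtain ⟨x, hx, hxy⟩ := exists_of_mem_im (⟨(y : Ω'), hpre.ge y.2⟩ : im f _)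
      have h1 := hcomp x
      have h2 := hφe x hx (h.le (hB x))
      refine (congrArg φ'' (Subtype.ext (congrArg θ' (Subtype.ext ?_)))).trans (h1.trans ?_)
      · exact (congrArg Subtype.val hxy).trans (he ⟨x, hA x.2⟩).symm
      · refine congrArg θ' (Subtype.ext ((he _).trans ?_))
        refine h2.symm.trans (congrArg φ' ?_)
        exact hxy.symm

/-- Quasisimplicity is invariant under transport. -/
theorem Tr.quasisimple [Finite S] {p : ℕ} [Fact p.Prime] (hS : IsPGroup p S) (h : Tr f E E')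
    (hq : E.Quasisimple p) : E'.Quasisimple p := by
  haveI := finite_target f
  haveI : Finite T := H85.finite_of_le h.le
  refine ⟨h.saturated hS hq.1, h.hyp_eq hq.2.1, fun K' hK' => ?_⟩
  obtain ⟨e, he, -⟩ := h.exists_res
  have hZ : E.center ≤ T := H89.center_le E
  have hK'' : E'.IsFactorSystem (im f E.center)
      (QuotientGroup.mk' (E'.center.subgroupOf T')) K' := by rw [h.center]; exact hK'
  have hfac := h.factor e he hZ hK''
  have hmap : (E.center.subgroupOf T).map e.toMonoidHom = E'.center.subgroupOf T' := by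
    rw [← h.center]
    ext y
    constructor
    · rintro ⟨x, hx, rfl⟩
      show (e x : Ω') ∈ im f E.center
      rw [he]
      exact coe_mem_im.2 hx
    · intro hy
      obtain ⟨x, rfl⟩ := e.surjective y
      refine ⟨x, ?_, rfl⟩
      have : (e x : Ω') ∈ im f E.center := hy
      rw [he] at this
      exact coe_mem_im.1 this
  let q : T ⧸ E.center.subgroupOf T ≃* T' ⧸ E'.center.subgroupOf T' :=
    QuotientGroup.congr _ _ e hmap
  let g : (⊤ : Subgroup (T' ⧸ E'.center.subgroupOf T')) ≃*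
      (⊤ : Subgroup (T ⧸ E.center.subgroupOf T)) :=
    (Subgroup.topEquiv.trans q.symm).trans Subgroup.topEquiv.symm
  obtain ⟨K₀, hK₀⟩ := exists_tr g K' le_rfl
  have himtop : im g (⊤ : Subgroup (T' ⧸ E'.center.subgroupOf T')) = ⊤ := im_top g
  let K : FusionSystem (⊤ : Subgroup (T ⧸ E.center.subgroupOf T)) := himtop ▸ K₀
  have hK : Tr g K' K := by
    have : ∀ (V : Subgroup (T ⧸ E.center.subgroupOf T)) (hV : im g ⊤ = V),
        Tr g K' (hV ▸ K₀) := by
      rintro V rfl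
      exact hK₀
    exact this _ himtop
  have hKfac : E.IsFactorSystem E.center (QuotientGroup.mk' (E.center.subgroupOf T)) K := by
    have hcomp : ∀ x : T, hom g ⟨QuotientGroup.mk' (E'.center.subgroupOf T') (e x), trivial⟩ =
        QuotientGroup.mk' (E.center.subgroupOf T) x := fun x => by
      show q.symm (QuotientGroup.mk' _ (e x)) = _
      rw [MulEquiv.symm_apply_eq]
      rfl
    refine ⟨hZ, fun s => ?_, MonoidHom.range_eq_top.2 (QuotientGroup.mk'_surjective _), ?_⟩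
    · rw [QuotientGroup.mk'_apply, QuotientGroup.eq_one_iff]
      rfl
    intro P φ'
    have hpre : preimageAlong ((QuotientGroup.mk' (E'.center.subgroupOf T')).comp e.toMonoidHom)
        (preimageAlong (hom g) P) = preimageAlong (QuotientGroup.mk' (E.center.subgroupOf T)) P := by
      ext x
      constructor
      · rintro ⟨z, hz, rfl⟩
        refine ⟨z, ?_, rfl⟩
        obtain ⟨w, hw⟩ := mem_pre.1 hz
        show QuotientGroup.mk' _ z ∈ P
        rw [← hcomp]
        exact hw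
      · rintro ⟨z, hz, rfl⟩
        refine ⟨z, mem_pre.2 ⟨trivial, ?_⟩, rfl⟩
        show hom g ⟨QuotientGroup.mk' _ (e z), trivial⟩ ∈ P
        rw [hcomp]
        exact hz
    constructor
    · intro hφ'
      obtain ⟨ψ, hψ, hA, hB, hC, hψe⟩ := hK.pull P φ' hφ'
      obtain ⟨-, φ, hφ, hA', hB', hC', hφe⟩ := (hfac.2.2.2 _ ψ).1 hψ
      refine ⟨le_top, _, H86.restrict_mem E hpre.ge hφ, (Subgroup.map_subtype_le _),
        fun x => (E.le_of_mem hφ).2 _, fun x => ?_, fun x => ?_⟩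
      · obtain ⟨z, hz, hzx⟩ := x.2
        rw [show (⟨(x : Ω), Subgroup.map_subtype_le _ x.2⟩ : T) = z from Subtype.ext hzx.symm]
        exact hz
      · have h1 := hψe ⟨_, hC' (Subgroup.inclusion hpre.ge x)⟩
        rw [show (⟨_, hB ⟨_, hC' (Subgroup.inclusion hpre.ge x)⟩⟩ : (⊤ : Subgroup _)) =
          ⟨QuotientGroup.mk' _ (e ⟨φ (Subgroup.inclusion hpre.ge x), hB' _⟩), trivial⟩ from
          Subtype.ext (hφe (Subgroup.inclusion hpre.ge x)), hcomp] at h1
        refine Eq.trans (congrArg φ' (Subtype.ext ?_)) h1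
        exact (hcomp _).symm
    · rintro ⟨-, φ, hφ, hA', hB', hC', hφe⟩
      have hle := hpre.le
      -- the induced map in `K'`
      have hr : ∀ y : preimageAlong (hom g) P,
          φ' ⟨hom g ⟨y, trivial⟩, (mem_pre.1 y.2).2⟩ ∈ (⊤ : Subgroup (T ⧸ E.center.subgroupOf T)) :=
        fun _ => trivial
      let ψ : preimageAlong (hom g) P →* T' ⧸ E'.center.subgroupOf T' :=
        { toFun := fun y => q (φ' ⟨hom g ⟨y, trivial⟩, (mem_pre.1 y.2).2⟩)
          map_one' := by
            rw [show (⟨hom g ⟨((1 : preimageAlong (hom g) P) : T' ⧸ E'.center.subgroupOf T'), trivial⟩,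
              (mem_pre.1 (1 : preimageAlong (hom g) P).2).2⟩ : P) = 1 from
              Subtype.ext (map_one (hom g)), map_one, map_one]
          map_mul' := fun a b => by
            rw [← map_mul, ← map_mul]
            refine congrArg q (congrArg φ' (Subtype.ext ?_))
            exact map_mul (hom g) ⟨a, trivial⟩ ⟨b, trivial⟩ }
      have hψK : ψ ∈ K'.Hom (preimageAlong (hom g) P) := by
        refine (hfac.2.2.2 _ ψ).2 ⟨le_top, _, H86.restrict_mem E hle hφ, Subgroup.map_subtype_le _,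
          fun x => (E.le_of_mem hφ).2 _, fun x => ?_, fun x => ?_⟩
        · obtain ⟨z, hz, hzx⟩ := x.2
          rw [show (⟨(x : Ω), Subgroup.map_subtype_le _ x.2⟩ : T) = z from Subtype.ext hzx.symm]
          exact hz
        · show q (φ' _) = QuotientGroup.mk' _ (e _)
          refine Eq.trans ?_ (show q (QuotientGroup.mk' (E.center.subgroupOf T)
              ⟨φ (Subgroup.inclusion hle x), hB' _⟩) = _ from rfl)
          rw [← hφe]
          exact congrArg q (congrArg φ' (Subtype.ext (hcomp _)))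
      obtain ⟨φ'', hφ'', hA₂, hB₂, hC₂, hψe⟩ := hK.push _ ψ hψK
      refine H86.mem_of_eq_on K (im_pre g le_top).ge hφ'' fun y => ?_
      obtain ⟨w, hw, hwy⟩ := mem_im.1 ((im_pre g (le_top : P ≤ ⊤)).ge y.2)
      have hmem : hom g w ∈ P := by
        rw [show hom g w = (y : T ⧸ E.center.subgroupOf T) from hwy]
        exact y.2
      obtain rfl : y = ⟨hom g w, hmem⟩ := Subtype.ext hwy.symm
      refine Eq.trans ?_ (hψe ⟨w, hw⟩).symm
      show φ' _ = q.symm (q _)
      rw [MulEquiv.symm_apply_apply]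
  have hKs := hq.2.2 K hKfac
  have hfin : Finite (⊤ : Subgroup (T' ⧸ E'.center.subgroupOf T')) := by
    haveI : Finite T' := H85.finite_of_le h.le'
    exact Subtype.finite
  haveI : Finite (⊤ : Subgroup (T ⧸ E.center.subgroupOf T)) := Subtype.finite
  exact hK.symm.simple ((hS.to_le h.le).to_quotient _ |>.of_equiv Subgroup.topEquiv.symm) hKs

end H89.Tp
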