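import Cfsg.Agent.H89.Transport
import Cfsg.Agent.H86.Basic
import Cfsg.Agent.H85.Basic
import Cfsg.Agent.H85.GroupSystem

/-!
Properties of fusion systems are invariant under transport.
-/

set_option autoImplicit false
set_option linter.style.haveILetI false
set_option linter.unusedSectionVars false

open Cfsg Cfsg.FusionSystem

namespace H89.Tp

variable {Ω : Type*} [Group Ω] {S : Subgroup Ω} {Ω' : Type*} [Group Ω'] {S' : Subgroup Ω'}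
  {f : S ≃* S'} {T U : Subgroup Ω} {T' U' : Subgroup Ω'} {E : FusionSystem T}
  {E' : FusionSystem T'} {F : FusionSystem U} {F' : FusionSystem U'}

theorem mem_im_of {P : Subgroup Ω} {x : Ω} (hx : x ∈ P) (hxS : x ∈ S) :
    (f ⟨x, hxS⟩ : Ω') ∈ im f P := ⟨⟨x, hxS⟩, hx, rfl⟩

/-- Pointwise form of the pushed map. -/
theorem Tr.push' (h : Tr f E E') {P : Subgroup Ω} {φ : P →* Ω} (hφ : φ ∈ E.Hom P) :
    ∃ φ' ∈ E'.Hom (im f P), ∀ (x : P) (hx : (x : Ω) ∈ S) (hy : φ x ∈ S),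
      φ' ⟨(f ⟨x, hx⟩ : Ω'), mem_im_of x.2 hx⟩ = (f ⟨φ x, hy⟩ : Ω') := by
  obtain ⟨φ', hφ', hP, hφS, hP', he⟩ := h.push P φ hφ
  exact ⟨φ', hφ', fun x hx hy => he x⟩

theorem exists_of_mem_im {P : Subgroup Ω} (y : im f P) :
    ∃ (x : P) (hx : (x : Ω) ∈ S), y = ⟨(f ⟨x, hx⟩ : Ω'), mem_im_of x.2 hx⟩ := by
  obtain ⟨z, hz, hzy⟩ := mem_im.1 y.2
  exact ⟨⟨z, hz⟩, z.2, Subtype.ext hzy.symm⟩

theorem hom_ext_im {P : Subgroup Ω} {φ ψ : im f P →* Ω'}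
    (h : ∀ (x : P) (hx : (x : Ω) ∈ S), φ ⟨_, mem_im_of x.2 hx⟩ = ψ ⟨_, mem_im_of x.2 hx⟩) :
    φ = ψ := by
  refine MonoidHom.ext fun y => ?_
  obtain ⟨x, hx, rfl⟩ := exists_of_mem_im y
  exact h x hx

/-- A map on an image that is induced by a map of `E` belongs to `E'`. -/
theorem Tr.mem_of_induced (h : Tr f E E') {P : Subgroup Ω} {φ : P →* Ω} (hφ : φ ∈ E.Hom P)
    {φ' : im f P →* Ω'} (he : ∀ (x : P) (hx : (x : Ω) ∈ S) (hy : φ x ∈ S),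
      φ' ⟨(f ⟨x, hx⟩ : Ω'), mem_im_of x.2 hx⟩ = (f ⟨φ x, hy⟩ : Ω')) :
    φ' ∈ E'.Hom (im f P) := by
  obtain ⟨ψ, hψ, hψe⟩ := h.push' hφ
  have : φ' = ψ := hom_ext_im fun x hx => by
    rw [he x hx (h.le ((E.le_of_mem hφ).2 x)), hψe]
  exact this ▸ hψ

/-- A map of `E'` comes from a map of `E`. -/
theorem Tr.pull' (h : Tr f E E') {P : Subgroup Ω} (hP : P ≤ S) {φ' : im f P →* Ω'}
    (hφ' : φ' ∈ E'.Hom (im f P)) :
    ∃ φ ∈ E.Hom P, ∀ (x : P) (hx : (x : Ω) ∈ S) (hy : φ x ∈ S),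
      φ' ⟨(f ⟨x, hx⟩ : Ω'), mem_im_of x.2 hx⟩ = (f ⟨φ x, hy⟩ : Ω') := by
  obtain ⟨φ, hφ, hA, hB, hC, he⟩ := h.pull _ _ hφ'
  have heq := pre_im f hP
  exact ⟨_, H86.restrict_mem E heq.ge hφ, fun x hx hy => he (Subgroup.inclusion heq.ge x)⟩

theorem Tr.subsystem (hE : Tr f E E') (hF : Tr f F F') (h : E.IsSubsystemOf F) :
    E'.IsSubsystemOf F' := by
  intro P' φ' hφ'
  obtain ⟨φ, hφ, hA, hB, hC, he⟩ := hE.pull P' φ' hφ'
  have hP'S : P' ≤ S' := (E'.le_of_mem hφ').1.trans hE.le'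
  obtain ⟨ψ, hψ, hψe⟩ := hF.push' (h _ hφ)
  refine H86.mem_of_eq_on F' (im_pre f hP'S).ge hψ fun y => ?_
  obtain ⟨x, hxP, hxy⟩ := mem_im.1 ((im_pre f hP'S).ge y.2)
  rw [show y = ⟨hom f ⟨(x : Ω), hA hxP⟩, hC ⟨x, hxP⟩⟩ from Subtype.ext hxy.symm, he ⟨x, hxP⟩]
  exact (hψe ⟨x, hxP⟩ _ _).symm

theorem Tr.unique {E'' : FusionSystem T'} (h : Tr f E E') (h' : Tr f E E'') :
    ∀ P', E'.Hom P' = E''.Hom P' := fun P' =>
  Set.Subset.antisymm (Tr.subsystem h h' (fun _ _ h => h) P')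
    (Tr.subsystem h' h (fun _ _ h => h) P')

/-- The restriction of `f` to a subgroup. -/
noncomputable def res (f : S ≃* S') (T : Subgroup Ω) (hT : T ≤ S) : T ≃* im f T :=
  (MulEquiv.ofBijective
    (((hom f).comp (Subgroup.inclusion hT)).codRestrict (im f T) fun x => mem_im_of x.2 _)
    ⟨fun _ _ h => Subgroup.inclusion_injective hT (hom_injective f (congrArg (fun z : im f T => (z : Ω')) h)),
      fun y => by
        obtain ⟨x, hx, rfl⟩ := exists_of_mem_im y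
        exact ⟨x, rfl⟩⟩)

theorem res_apply (hT : T ≤ S) (x : T) : (res f T hT x : Ω') = (f ⟨x, hT x.2⟩ : Ω') := rfl

theorem im_res {hT : T ≤ S} {e : T ≃* T'} (he : ∀ x : T, (e x : Ω') = (f ⟨x, hT x.2⟩ : Ω'))
    {P : Subgroup Ω} (hP : P ≤ T) : im e P = im f P := by
  ext y
  constructor
  · rintro ⟨x, hx, rfl⟩
    exact ⟨⟨x, hT x.2⟩, hx, (he x).symm⟩
  · rintro ⟨x, hx, rfl⟩
    exact ⟨⟨x, hP hx⟩, hx, he _⟩

theorem Tr.exists_res (h : Tr f E E') :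
    ∃ e : T ≃* T', (∀ x : T, (e x : Ω') = (f ⟨x, h.le x.2⟩ : Ω')) ∧ Tr e E E' := by
  refine ⟨(res f T h.le).trans (MulEquiv.subgroupCongr h.im_eq), fun x => rfl, ?_⟩
  set e : T ≃* T' := (res f T h.le).trans (MulEquiv.subgroupCongr h.im_eq)
  have he : ∀ x : T, (e x : Ω') = (f ⟨x, h.le x.2⟩ : Ω') := fun x => rfl
  refine ⟨le_rfl, im_top e, fun P φ hφ => ?_, fun P' φ' hφ' => ?_⟩
  · have hPT : P ≤ T := (E.le_of_mem hφ).1
    obtain ⟨φ', hφ', hφe⟩ := h.push' hφ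
    refine ⟨_, H86.restrict_mem E' (im_res he hPT).le hφ', hPT, fun x => (E.le_of_mem hφ).2 x,
      fun x => mem_im_of x.2 _, fun x => ?_⟩
    exact hφe x (h.le (hPT x.2)) (h.le ((E.le_of_mem hφ).2 x))
  · obtain ⟨φ, hφ, hA, hB, hC, hφe⟩ := h.pull P' φ' hφ'
    have hP' : P' ≤ T' := (E'.le_of_mem hφ').1
    have hle : preimageAlong (hom e) P' ≤ preimageAlong (hom f) P' := fun x hx => by
      obtain ⟨hxT, hx⟩ := mem_pre.1 hx
      exact mem_pre.2 ⟨h.le hxT, (he ⟨x, hxT⟩) ▸ hx⟩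
    refine ⟨_, H86.restrict_mem E hle hφ, fun x hx => (mem_pre.1 hx).1,
      fun x => (E.le_of_mem hφ).2 _, fun x => (mem_pre.1 x.2).2, fun x => ?_⟩
    exact hφe (Subgroup.inclusion hle x)

theorem Tr.surjectiveMorphism {f : T ≃* T'} (h : Tr f E E') :
    E.IsSurjectiveMorphism E' (hom f) :=
  ⟨⟨fun x => (f x).2, fun P φ hφ => h.push P φ hφ⟩, range_hom f,
    fun P' _ φ' hφ' => h.pull P' φ' hφ'⟩

theorem Tr.saturated [Finite S] {p : ℕ} [Fact p.Prime] (hS : IsPGroup p S) (h : Tr f E E')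
    (hE : E.IsSaturated p) : E'.IsSaturated p := by
  obtain ⟨e, -, he⟩ := h.exists_res
  haveI := H85.finite_of_le h.le
  exact H86.isSaturated_image (hS.to_le h.le) hE he.surjectiveMorphism

theorem finite_target [Finite S] (f : S ≃* S') : Finite S' := Finite.of_equiv _ f.toEquiv

theorem pGroup_target {p : ℕ} (f : S ≃* S') (hS : IsPGroup p S) : IsPGroup p S' := hS.of_equiv f

theorem Tr.stronglyClosed (h : Tr f F F') {X : Subgroup Ω} (hX : F.StronglyClosed X) :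
    F'.StronglyClosed (im f X) := by
  refine ⟨h.im_eq ▸ im_mono f hX.1, fun R hR φ' hφ' y => ?_⟩
  obtain ⟨φ, hφ, hA, hB, hC, he⟩ := h.pull R φ' hφ'
  obtain ⟨x, hxX, hxy⟩ := mem_im.1 (hR y.2)
  have hxP : (x : Ω) ∈ preimageAlong (hom f) R := coe_mem_pre.2 (by rw [hxy]; exact y.2)
  have hle : preimageAlong (hom f) R ≤ X := fun z hz => by
    obtain ⟨hzS, hz⟩ := mem_pre.1 hz
    exact coe_mem_im.1 (hR hz)
  rw [show y = ⟨hom f ⟨(x : Ω), hA hxP⟩, hC ⟨x, hxP⟩⟩ from Subtype.ext hxy.symm, he ⟨x, hxP⟩]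
  exact mem_im_of (hX.2 _ hle φ hφ _) _

/-- Automorphism groups correspond. -/
theorem Tr.aut [Finite S] (h : Tr f F F') {P : Subgroup Ω} (hP : P ≤ U) {α : MulAut P}
    (hα : α ∈ F.autGroup P) :
    ∃ α' ∈ F'.autGroup (im f P), ∀ x : P, α' (res f P (hP.trans h.le) x) =
      res f P (hP.trans h.le) (α x) := by
  haveI := finite_target f
  haveI := H85.finite_of_le (hP.trans h.le)
  refine ⟨MulAut.congr (res f P (hP.trans h.le)) α, ?_, fun x => ?_⟩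
  swap
  · show res f P _ (α ((res f P _).symm (res f P _ x))) = _
    rw [MulEquiv.symm_apply_apply]
  refine (H85.mem_autGroup (h.im_eq ▸ im_mono f hP)).2 ?_
  refine h.mem_of_induced ((H85.mem_autGroup hP).1 hα) fun x hx hy => ?_
  show ((res f P (hP.trans h.le) (α ((res f P (hP.trans h.le)).symm
    ⟨(f ⟨x, hx⟩ : Ω'), _⟩))) : Ω') = _
  rw [show (⟨(f ⟨x, hx⟩ : Ω'), mem_im_of x.2 hx⟩ : im f P) = res f P (hP.trans h.le) x from rfl,
    MulEquiv.symm_apply_apply]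
  rfl

theorem Tr.aut_inv [Finite S] (h : Tr f F F') {P : Subgroup Ω} (hP : P ≤ U)
    {α' : MulAut (im f P)} (hα' : α' ∈ F'.autGroup (im f P)) :
    ∃ α ∈ F.autGroup P, ∀ x : P, α' (res f P (hP.trans h.le) x) =
      res f P (hP.trans h.le) (α x) := by
  haveI := H85.finite_of_le (hP.trans h.le)
  haveI := finite_target f
  let e := res f P (hP.trans h.le)
  refine ⟨MulAut.congr e.symm α', (H85.mem_autGroup hP).2 ?_, fun x => ?_⟩
  swap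
  · show _ = e (e.symm (α' (e.symm.symm x)))
    rw [MulEquiv.apply_symm_apply]
    rfl
  obtain ⟨φ, hφ, he⟩ := h.pull' (hP.trans h.le)
    ((H85.mem_autGroup (h.im_eq ▸ im_mono f hP)).1 hα')
  refine H85.hom_congr hφ fun x => ?_
  show φ x = ((e.symm (α' (e x)) : P) : Ω)
  have h1 := he x (hP.trans h.le x.2) (h.le ((F.le_of_mem hφ).2 x))
  have h2 : ((α' (e x) : im f P) : Ω') = (f ⟨φ x, h.le ((F.le_of_mem hφ).2 x)⟩ : Ω') := h1
  obtain ⟨z, hz⟩ := e.surjective (α' (e x))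
  rw [← hz, MulEquiv.symm_apply_apply]
  rw [← hz] at h2
  exact (congrArg Subtype.val (f.injective (Subtype.ext h2) :
    (⟨(z : Ω), hP.trans h.le z.2⟩ : S) = _)).symm

theorem Tr.invariant [Finite S] (hE : Tr f E E') (hF : Tr f F F') (h : E.IsInvariantIn F) :
    E'.IsInvariantIn F' := by
  haveI := finite_target f
  obtain ⟨hsub, hsc, hinv, hfr⟩ := h
  have hT'eq := hE.im_eq
  subst hT'eq
  have hTU := hsc.1
  refine ⟨hE.subsystem hF hsub, hF.stronglyClosed hsc, ?_, ?_⟩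
  · intro P' hP' φ' hφ' α' hα'
    obtain ⟨α, hα, hαe⟩ := hF.aut_inv hTU hα'
    obtain ⟨φ, hφ, hA, hB, hC, he⟩ := hE.pull P' φ' hφ'
    have hPT : preimageAlong (hom f) P' ≤ T := (E.le_of_mem hφ).1
    obtain ⟨χ, hχ, hχe⟩ := hinv _ hPT φ hφ α hα
    obtain ⟨χ', hχ', hχ'e⟩ := hE.push' hχ
    have key : ∀ (x : preimageAlong (hom f) P') (hy : hom f ⟨(x : Ω), hA x.2⟩ ∈ im f T),
        ((α' ⟨hom f ⟨(x : Ω), hA x.2⟩, hy⟩ : im f T) : Ω') =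
          (f ⟨(α ⟨x, hPT x.2⟩ : Ω), hE.le (SetLike.coe_mem _)⟩ : Ω') := fun x hy =>
      congrArg Subtype.val (hαe ⟨x, hPT x.2⟩)
    have hle : (P'.subgroupOf (im f T)).map ((im f T).subtype.comp α'.toMonoidHom) ≤
        im f (((preimageAlong (hom f) P').subgroupOf T).map (T.subtype.comp α.toMonoidHom)) := by
      rintro _ ⟨y, hy, rfl⟩
      obtain ⟨x, hx, hxy⟩ := mem_im.1 ((im_pre f (hP'.trans (im_le f T))).ge hy)
      show (α' y : Ω') ∈ _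
      rw [show y = ⟨hom f ⟨(x : Ω), hA hx⟩, mem_im_of (hPT hx) _⟩ from Subtype.ext hxy.symm]
      have h5 : ((α ⟨(x : Ω), hPT hx⟩ : T) : Ω) ∈
          ((preimageAlong (hom f) P').subgroupOf T).map (T.subtype.comp α.toMonoidHom) :=
        ⟨⟨(x : Ω), hPT hx⟩, hx, rfl⟩
      convert mem_im_of (f := f) h5 (hE.le (SetLike.coe_mem _)) using 1
      exact key ⟨x, hx⟩ _
    refine ⟨_, H86.restrict_mem E' hle hχ', fun y hy hαy => ?_⟩
    obtain ⟨x, hx, hxy⟩ := mem_im.1 ((im_pre f (hP'.trans (im_le f T))).ge y.2)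
    obtain rfl : y = ⟨hom f ⟨(x : Ω), hA hx⟩, hC ⟨x, hx⟩⟩ := Subtype.ext hxy.symm
    have hφx : φ ⟨x, hx⟩ ∈ T := (E.le_of_mem hφ).2 _
    have hαx : ((α ⟨x, hPT hx⟩ : T) : Ω) ∈
        ((preimageAlong (hom f) P').subgroupOf T).map (T.subtype.comp α.toMonoidHom) :=
      ⟨⟨(x : Ω), hPT hx⟩, hx, rfl⟩
    have h1 := hχe ⟨x, hx⟩ hφx hαx
    have h2 := hχ'e ⟨_, hαx⟩ (hE.le (SetLike.coe_mem _))
      (hE.le ((E.le_of_mem hχ).2 _))
    have h3 : (⟨φ' ⟨hom f ⟨(x : Ω), hA hx⟩, hC ⟨x, hx⟩⟩, hy⟩ : im f T) =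
        res f T hE.le ⟨φ ⟨x, hx⟩, hφx⟩ := Subtype.ext (he ⟨x, hx⟩)
    rw [h3, hαe ⟨φ ⟨x, hx⟩, hφx⟩, res_apply]
    refine Eq.trans ?_ (h2.trans (congrArg (fun z : S => (f z : Ω')) (Subtype.ext h1)))
    exact congrArg χ' (Subtype.ext (key ⟨x, hx⟩ _))
  · intro P' hP' φ' hφ'
    obtain ⟨φ, hφ, hA, hB, hC, he⟩ := hF.pull P' φ' hφ'
    have hPT : preimageAlong (hom f) P' ≤ T := fun x hx => by
      obtain ⟨hxS, hx⟩ := mem_pre.1 hx
      exact coe_mem_im.1 (hP' hx)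
    obtain ⟨α, hα, φ₀, hφ₀, hfac⟩ := hfr _ hPT φ hφ
    obtain ⟨α', hα', hαe⟩ := hF.aut hTU hα
    obtain ⟨φ₀', hφ₀', hφ₀e⟩ := hE.push' hφ₀
    refine ⟨α', hα', _, H86.restrict_mem E' (im_pre f (hP'.trans (im_le f T))).ge hφ₀',
      fun y hy => ?_⟩
    obtain ⟨x, hx, hxy⟩ := mem_im.1 ((im_pre f (hP'.trans (im_le f T))).ge y.2)
    obtain rfl : y = ⟨hom f ⟨(x : Ω), hA hx⟩, hC ⟨x, hx⟩⟩ := Subtype.ext hxy.symm
    have hx0 : φ₀ ⟨x, hx⟩ ∈ T := (E.le_of_mem hφ₀).2 _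
    refine (he ⟨x, hx⟩).trans ?_
    refine Eq.trans ?_ (congrArg Subtype.val ((hαe ⟨_, hx0⟩).symm.trans
      (congrArg α' (Subtype.ext (hφ₀e ⟨x, hx⟩ _ (hE.le hx0)).symm))))
    exact congrArg (fun z : S => (f z : Ω')) (Subtype.ext (hfac ⟨x, hx⟩ hx0))

theorem Tr.weaklyNormal [Finite S] {p : ℕ} [Fact p.Prime] (hS : IsPGroup p S) (hE : Tr f E E')
    (hF : Tr f F F') (h : E.IsWeaklyNormalIn F p) : E'.IsWeaklyNormalIn F' p :=
  ⟨hE.saturated hS h.1, hF.saturated hS h.2.1, hE.invariant hF h.2.2⟩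

end H89.Tp
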